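import Groth.Agent.Grpd80.Basic
import Mathlib.AlgebraicGeometry.Morphisms.UniversallyOpen
import Mathlib.AlgebraicGeometry.Morphisms.ClosedImmersion
import Mathlib.AlgebraicGeometry.ResidueField

set_option autoImplicit false
universe u
open CategoryTheory CategoryTheory.Limits AlgebraicGeometry

namespace Groth.Agent.Grpd80

variable {S : Scheme.{u}} {G : Grpd.GroupoidScheme S} {T : Scheme.{u}}

lemma mul_inv_cancel (α γ : T ⟶ G.R) (h : α ≫ G.s = γ ≫ G.t) :
    mul G (mul G α γ h) (γ ≫ G.i) (by simp) = α := by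
  rw [mul_assoc' _ _ _ h (by simp)]
  exact mul_unit_right _ (by rw [mul_inv_right _ rfl, reassoc_of% h])

lemma inv_mul_cancel_right (α γ : T ⟶ G.R) (h : α ≫ G.s = (γ ≫ G.i) ≫ G.t) :
    mul G (mul G α (γ ≫ G.i) h) γ (by simp) = α := by
  rw [mul_assoc' _ _ _ h (by simp)]
  exact mul_unit_right _ (by rw [mul_inv_left _ rfl, reassoc_of% h]; simp)

lemma inv_mul_cancel (γ β : T ⟶ G.R) (h : γ ≫ G.s = β ≫ G.t) :
    mul G (γ ≫ G.i) (mul G γ β h) (by simp) = β := by
  rw [← mul_assoc' _ _ _ (by simp) h]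
  exact mul_unit_left _ (by rw [mul_inv_left _ rfl, reassoc_of% h])

lemma mul_inv_cancel_left (γ β : T ⟶ G.R) (h : (γ ≫ G.i) ≫ G.s = β ≫ G.t) :
    mul G γ (mul G (γ ≫ G.i) β h) (by simp) = β := by
  rw [← mul_assoc' _ _ _ (by simp) h]
  refine mul_unit_left _ ?_
  rw [mul_inv_right _ rfl, ← reassoc_of% h]
  simp

/-- An idempotent arrow is an identity. -/
lemma eq_unit_of_mul_self {α : T ⟶ G.R} (h : α ≫ G.s = α ≫ G.t) (e : mul G α α h = α) :
    α = α ≫ G.t ≫ G.e := by
  conv_lhs => rw [← mul_inv_cancel α α h]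
  rw [mul_congr _ (by simp) e rfl, mul_inv_right _ rfl]

lemma comp_mul_eq {T' : Scheme.{u}} (γ : T' ⟶ T) (α β : T ⟶ G.R) (h : α ≫ G.s = β ≫ G.t)
    (α' β' : T' ⟶ G.R) (h' : α' ≫ G.s = β' ≫ G.t) (hα : γ ≫ α = α') (hβ : γ ≫ β = β') :
    γ ≫ mul G α β h = mul G α' β' h' := by
  rw [comp_mul]; exact mul_congr _ _ hα hβ

variable (G)

/-- Left translation by the arrows `a`: pairs `(z, x)` with `s (a z) = t x` go to `(z, a z · x)`. -/
noncomputable def shearL (a : T ⟶ G.R) : pullback (a ≫ G.s) G.t ≅ pullback (a ≫ G.t) G.t where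
  hom := pullback.lift (pullback.fst _ _)
    (mul G (pullback.fst _ _ ≫ a) (pullback.snd _ _) (by rw [Category.assoc, pullback.condition]))
    (by simp)
  inv := pullback.lift (pullback.fst _ _)
    (mul G ((pullback.fst _ _ ≫ a) ≫ G.i) (pullback.snd _ _) (by simp [pullback.condition]))
    (by simp)
  hom_inv_id := by
    apply pullback.hom_ext
    · simp [pullback.lift_fst]
    · have h : (pullback.fst (a ≫ G.s) G.t ≫ a) ≫ G.s = pullback.snd (a ≫ G.s) G.t ≫ G.t := by
        rw [Category.assoc, pullback.condition]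
      rw [Category.assoc, pullback.lift_snd, Category.id_comp,
        comp_mul_eq _ _ _ _ ((pullback.fst (a ≫ G.s) G.t ≫ a) ≫ G.i)
          (mul G (pullback.fst (a ≫ G.s) G.t ≫ a) (pullback.snd (a ≫ G.s) G.t) h) (by simp)
          (by simp only [Category.assoc, pullback.lift_fst_assoc]) (pullback.lift_snd _ _ _)]
      exact inv_mul_cancel _ _ _
  inv_hom_id := by
    apply pullback.hom_ext
    · simp [pullback.lift_fst]
    · have h : ((pullback.fst (a ≫ G.t) G.t ≫ a) ≫ G.i) ≫ G.s = pullback.snd (a ≫ G.t) G.t ≫ G.t := by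
        simp [pullback.condition]
      rw [Category.assoc, pullback.lift_snd, Category.id_comp,
        comp_mul_eq _ _ _ _ (pullback.fst (a ≫ G.t) G.t ≫ a)
          (mul G ((pullback.fst (a ≫ G.t) G.t ≫ a) ≫ G.i) (pullback.snd (a ≫ G.t) G.t) h) (by simp)
          (pullback.lift_fst_assoc _ _ _ _) (pullback.lift_snd _ _ _)]
      exact mul_inv_cancel_left _ _ _

/-- Right translation by the arrows `γ`: pairs `(x, p)` with `s x = t (γ p)` go to `(x · γ p, p)`. -/
noncomputable def shearR (γ : T ⟶ G.R) : pullback G.s (γ ≫ G.t) ≅ pullback G.s (γ ≫ G.s) where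
  hom := pullback.lift
    (mul G (pullback.fst _ _) (pullback.snd _ _ ≫ γ) (by rw [Category.assoc, pullback.condition]))
    (pullback.snd _ _) (by simp)
  inv := pullback.lift
    (mul G (pullback.fst _ _) ((pullback.snd _ _ ≫ γ) ≫ G.i) (by simp [pullback.condition]))
    (pullback.snd _ _) (by simp)
  hom_inv_id := by
    apply pullback.hom_ext
    · have h : pullback.fst G.s (γ ≫ G.t) ≫ G.s = (pullback.snd G.s (γ ≫ G.t) ≫ γ) ≫ G.t := by
        rw [Category.assoc, pullback.condition]
      rw [Category.assoc, pullback.lift_fst, Category.id_comp,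
        comp_mul_eq _ _ _ _ (mul G (pullback.fst G.s (γ ≫ G.t)) (pullback.snd G.s (γ ≫ G.t) ≫ γ) h)
          ((pullback.snd G.s (γ ≫ G.t) ≫ γ) ≫ G.i) (by simp)
          (pullback.lift_fst _ _ _) (by simp only [Category.assoc, pullback.lift_snd_assoc])]
      exact mul_inv_cancel _ _ _
    · simp [pullback.lift_snd]
  inv_hom_id := by
    apply pullback.hom_ext
    · have h : pullback.fst G.s (γ ≫ G.s) ≫ G.s = ((pullback.snd G.s (γ ≫ G.s) ≫ γ) ≫ G.i) ≫ G.t := by
        simp [pullback.condition]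
      rw [Category.assoc, pullback.lift_fst, Category.id_comp,
        comp_mul_eq _ _ _ _ (mul G (pullback.fst G.s (γ ≫ G.s)) ((pullback.snd G.s (γ ≫ G.s) ≫ γ) ≫ G.i) h)
          (pullback.snd G.s (γ ≫ G.s) ≫ γ) (by simp)
          (pullback.lift_fst _ _ _) (by simp only [pullback.lift_snd_assoc])]
      exact inv_mul_cancel_right _ _ _
    · simp [pullback.lift_snd]

variable {G}

lemma isIso_fromSpecResidueField_of_field {X : Scheme.{u}} {k : Type u} [Field k]
    (eX : X ≅ Spec (CommRingCat.of k)) (x : X) : IsIso (X.fromSpecResidueField x) := by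
  have : Subsingleton X := eX.hom.homeomorph.subsingleton
  have : IsReduced X := isReduced_of_isOpenImmersion eX.hom
  have : IsClosedImmersion (X.fromSpecResidueField x) := by
    refine IsClosedImmersion.of_isPreimmersion _ ?_
    exact (Set.range (X.fromSpecResidueField x)).toFinite.isClosed
  have : Surjective (X.fromSpecResidueField x) :=
    ⟨fun y => ⟨Classical.arbitrary _, Subsingleton.elim _ _⟩⟩
  exact isIso_of_isClosedImmersion_of_surjective _

lemma universallyOpen_of_field {X U : Scheme.{u}} {k : Type u} [Field k]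
    (eU : U ≅ Spec (CommRingCat.of k)) (f : X ⟶ U) : UniversallyOpen f := by
  have : Nonempty U := ⟨eU.inv (IsLocalRing.closedPoint k)⟩
  have : IsIntegral U := isIntegral_of_isOpenImmersion eU.hom
  have : Subsingleton U := eU.hom.homeomorph.subsingleton
  infer_instance

end Groth.Agent.Grpd80
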