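import Groth.Agent.Grpd80.Stabilizer
import Groth.Agent.Grpd80.Shear
import Mathlib.AlgebraicGeometry.Morphisms.Etale
import Mathlib.AlgebraicGeometry.Morphisms.Smooth
import Mathlib.AlgebraicGeometry.Sites.Etale
import Mathlib.AlgebraicGeometry.Sites.Fpqc

set_option autoImplicit false
universe u
open CategoryTheory CategoryTheory.Limits AlgebraicGeometry MorphismProperty

namespace Groth.Agent.Grpd80

variable {S : Scheme.{u}} (G : Grpd.GroupoidScheme S)

/-- The largest open over which `p` has a property local for `M`-covers is invariant, when the two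
pullbacks of `p` to the arrows agree. -/
lemma largest_open_invariant (M : MorphismProperty Scheme.{u}) [M.IsStableUnderBaseChange]
    [M.IsStableUnderComposition] (hMo : ∀ {X Y : Scheme.{u}} (f : X ⟶ Y), IsOpenImmersion f → M f)
    (P : MorphismProperty Scheme.{u}) [P.IsLocalAtTarget (Scheme.precoverage M)]
    (hs : M G.s) (ht : M G.t) (hopen : IsOpenMap ⇑G.t) {X Q : Scheme.{u}} (p : X ⟶ G.U) (q : Q ⟶ G.R)
    (a b : Q ⟶ X) (ha : IsPullback a q p G.s) (hb : IsPullback b q p G.t)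
    (W : G.U.Opens) (hW : P (p ∣_ W)) (hmax : ∀ W' : G.U.Opens, P (p ∣_ W') → W' ≤ W) :
    G.s ⁻¹ᵁ W = G.t ⁻¹ᵁ W := by
  let W' : G.U.Opens := ⟨⇑G.t '' (⇑G.s ⁻¹' (W : Set G.U)), hopen _ (W.2.preimage G.s.continuous)⟩
  have hle : G.s ⁻¹ᵁ W ≤ G.t ⁻¹ᵁ W' := fun x hx => ⟨x, hx, rfl⟩
  let V : Scheme.{u} := G.s ⁻¹ᵁ W
  let g : V ⟶ W' := G.R.homOfLE hle ≫ (G.t ∣_ W')
  have hg : g ≫ W'.ι = (G.s ⁻¹ᵁ W).ι ≫ G.t := by simp [g, morphismRestrict_ι]
  have hgM : M g := M.comp_mem _ _ (hMo _ inferInstance)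
    (M.of_isPullback (isPullback_morphismRestrict G.t W').flip ht)
  have hgs : Function.Surjective g := by
    rintro ⟨_, x, hx, rfl⟩
    refine ⟨⟨x, hx⟩, W'.ι.isOpenEmbedding.injective ?_⟩
    rw [← Scheme.Hom.comp_apply, hg]; rfl
  -- the cover of `W` by `s`
  have hsM : M (G.s ∣_ W) := M.of_isPullback (isPullback_morphismRestrict G.s W).flip hs
  have hss : Function.Surjective (G.s ∣_ W) := by
    intro w
    obtain ⟨x, hx, -⟩ := exists_unit G w.1
    refine ⟨⟨x, show G.s x ∈ W by rw [hx]; exact w.2⟩, W.ι.isOpenEmbedding.injective ?_⟩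
    rw [← Scheme.Hom.comp_apply, morphismRestrict_ι]; exact hx
  have hR : Presieve.singleton (G.s ∣_ W) ∈ Scheme.precoverage M W :=
    (Scheme.singleton_mem_precoverage_iff _ _).mpr ⟨hss, hsM⟩
  have h1 : P (pullback.snd (p ∣_ W) (G.s ∣_ W)) := IsLocalAtTarget.pullbackSnd hR ⟨⟩ hW
  -- both are the pullback of `q`
  have k1 : IsPullback (pullback.fst (p ∣_ W) (G.s ∣_ W) ≫ (p ⁻¹ᵁ W).ι)
      (pullback.snd (p ∣_ W) (G.s ∣_ W)) p ((G.s ∣_ W) ≫ W.ι) :=
    (IsPullback.of_hasPullback _ _).paste_horiz (isPullback_morphismRestrict p W).flip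
  have k2 : IsPullback (pullback.fst (p ∣_ W') g ≫ (p ⁻¹ᵁ W').ι)
      (pullback.snd (p ∣_ W') g) p (g ≫ W'.ι) :=
    (IsPullback.of_hasPullback _ _).paste_horiz (isPullback_morphismRestrict p W').flip
  have l0 := IsPullback.of_hasPullback q (G.s ⁻¹ᵁ W).ι
  have l1 := l0.paste_horiz ha
  have l2 := l0.paste_horiz hb
  rw [← morphismRestrict_ι] at l1
  rw [← hg] at l2
  have h2 : P (pullback.snd q (G.s ⁻¹ᵁ W).ι) := by
    have e := l1.isoIsPullback_hom_snd _ _ k1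
    rw [← e, P.cancel_left_of_respectsIso]
    exact h1
  have h3 : P (pullback.snd (p ∣_ W') g) := by
    have e := k2.isoIsPullback_hom_snd _ _ l2
    rw [← e, P.cancel_left_of_respectsIso]
    exact h2
  have hWW : W' ≤ W := hmax W' (IsLocalAtTarget.of_forall_pullbackSnd
    ((Scheme.singleton_mem_precoverage_iff _ _).mpr ⟨hgs, hgM⟩) (fun {_ _} _ h => by cases h; exact h3))
  ext x
  refine ⟨fun hx => hWW ⟨x, hx, rfl⟩, fun hx => ?_⟩
  obtain ⟨c, hc1, hc2⟩ := exists_inv G x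
  have : G.t c ∈ W := hWW ⟨c, show G.s c ∈ W from hc1 ▸ hx, rfl⟩
  show G.s x ∈ W
  rw [← hc2]; exact this


lemma i_i' : G.i ≫ G.i = 𝟙 G.R := by
  have h1 : (G.i ≫ G.i) ≫ G.s = G.i ≫ G.t := by simp
  have h2 : G.i ≫ G.s = (𝟙 G.R) ≫ G.t := by simp
  have h3 : mul G (G.i ≫ G.i) G.i h1 ≫ G.s = (𝟙 G.R) ≫ G.t := by simp
  calc G.i ≫ G.i = mul G (G.i ≫ G.i) (mul G G.i (𝟙 _) h2) (by simp) :=
        (mul_unit_right _ (by rw [mul_inv_left _ (Category.id_comp _).symm]; simp)).symm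
    _ = mul G (mul G (G.i ≫ G.i) G.i h1) (𝟙 _) h3 := (mul_assoc' _ _ _ h1 h2).symm
    _ = 𝟙 _ := mul_unit_left _ (by rw [mul_inv_left _ rfl]; simp)

lemma isIso_inv_hom : IsIso G.i := ⟨G.i, i_i' G, i_i' G⟩

/-- The stabilizer has isomorphic pullbacks by source and target. -/
lemma exists_stab_pullback : ∃ b : pullback G.stabilizerToU G.s ⟶ G.stabilizer,
    IsPullback b (pullback.snd G.stabilizerToU G.s) G.stabilizerToU G.t := by
  have := isIso_inv_hom G
  let f : pullback G.stabilizerToU G.s ⟶ pullback G.stabilizerToU G.t :=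
    pullback.map _ _ _ _ (𝟙 _) G.i (𝟙 _) (by simp) (by simp)
  have hj : G.j ≫ (pullbackSymmetry G.pU G.pU).hom = G.i ≫ G.j := by
    apply pullback.hom_ext <;> simp
  let m : pullback G.j G.j ⟶ pullback G.j G.j :=
    pullback.map _ _ _ _ G.i G.i (pullbackSymmetry G.pU G.pU).hom hj hj
  let I : pullback G.stabilizerToU G.s ≅ pullback G.stabilizerToU G.t :=
    asIso f ≪≫ torsor G ≪≫ asIso m ≪≫ (torsor G).symm
  have hinv : (torsor G).inv ≫ pullback.snd _ _ = pullback.snd _ _ := by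
    rw [Iso.inv_comp_eq, torsor_hom_snd]
  have hI : I.hom ≫ pullback.snd _ _ = pullback.snd _ _ := by
    simp [I, f, m, hinv, pullback.map, pullback.lift_snd, pullback.lift_snd_assoc, i_i']
  refine ⟨I.hom ≫ pullback.fst _ _, IsPullback.of_iso_pullback ⟨?_⟩ I rfl hI⟩
  rw [Category.assoc, pullback.condition, reassoc_of% hI]

end Groth.Agent.Grpd80
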