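import Groth.Agent.Grpd80.Stabilizer
import Mathlib.AlgebraicGeometry.Morphisms.UniversallyOpen
import Mathlib.AlgebraicGeometry.Morphisms.Immersion

set_option autoImplicit false
universe u
open CategoryTheory CategoryTheory.Limits AlgebraicGeometry

namespace Groth.Agent.Grpd80

lemma isIntegral_subsingleton_of_iso {U : Scheme.{u}} {k : Type u} [Field k]
    (eU : U ≅ Spec (CommRingCat.of k)) : IsIntegral U ∧ Subsingleton U := by
  have : Subsingleton (Spec (CommRingCat.of k)) := inferInstanceAs (Subsingleton (PrimeSpectrum k))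
  have hne : Nonempty U := ⟨eU.inv (IsLocalRing.closedPoint k)⟩
  exact ⟨isIntegral_of_isOpenImmersion eU.hom, eU.hom.homeomorph.subsingleton⟩

lemma universallyOpen_to_point {U X : Scheme.{u}} {k : Type u} [Field k]
    (eU : U ≅ Spec (CommRingCat.of k)) (f : X ⟶ U) : UniversallyOpen f := by
  obtain ⟨h1, h2⟩ := isIntegral_subsingleton_of_iso eU
  infer_instance

/-- One-sided density in a product over a point. -/
lemma closure_fst_step {U X Y : Scheme.{u}} {k : Type u} [Field k]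
    (eU : U ≅ Spec (CommRingCat.of k)) (f : X ⟶ U) (g : Y ⟶ U) (A : Set X)
    (N : Set ↥(pullback f g)) (hN : IsOpen N) (p : ↑(pullback f g)) (hpN : p ∈ N)
    (hA : pullback.fst f g p ∈ closure A) :
    ∃ q ∈ N, pullback.fst f g q ∈ A ∧ pullback.snd f g q = pullback.snd f g p := by
  set y := pullback.snd f g p with hy
  let ι := Y.fromSpecResidueField y
  have := universallyOpen_to_point eU (ι ≫ g)
  let m : pullback f (ι ≫ g) ⟶ pullback f g :=
    pullback.map _ _ _ _ (𝟙 X) ι (𝟙 U) (by simp) (by simp)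
  have hm : Set.range m = ⇑(pullback.snd f g) ⁻¹' {y} := by
    rw [Scheme.Pullback.range_map]
    ext z
    simp [ι, Scheme.range_fromSpecResidueField]
  obtain ⟨w, hw⟩ : p ∈ Set.range m := hm.ge hy.symm
  have hop : IsOpen (⇑(pullback.fst f (ι ≫ g)) '' (⇑m ⁻¹' N)) :=
    (pullback.fst f (ι ≫ g)).isOpenMap _ (hN.preimage m.continuous)
  have hfst : ∀ z, pullback.fst f g (m z) = pullback.fst f (ι ≫ g) z := fun z => by
    rw [← Scheme.Hom.comp_apply]
    simp [m, pullback.lift_fst]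
  obtain ⟨x, ⟨z, hz, rfl⟩, hzA⟩ := mem_closure_iff.mp hA _ hop
    ⟨w, by rwa [Set.mem_preimage, hw], by rw [← hfst, hw]⟩
  exact ⟨m z, hz, by rw [hfst]; exact hzA, (hm.le ⟨z, rfl⟩ : _)⟩

lemma closure_snd_step {U X Y : Scheme.{u}} {k : Type u} [Field k]
    (eU : U ≅ Spec (CommRingCat.of k)) (f : X ⟶ U) (g : Y ⟶ U) (B : Set Y)
    (N : Set ↥(pullback f g)) (hN : IsOpen N) (p : ↑(pullback f g)) (hpN : p ∈ N)
    (hB : pullback.snd f g p ∈ closure B) :
    ∃ q ∈ N, pullback.snd f g q ∈ B ∧ pullback.fst f g q = pullback.fst f g p := by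
  let e := pullbackSymmetry g f
  have h1 : ∀ z, pullback.fst g f z = pullback.snd f g (e.hom z) := fun z => by
    rw [← Scheme.Hom.comp_apply]; simp [e]
  have h2 : ∀ z, pullback.snd g f z = pullback.fst f g (e.hom z) := fun z => by
    rw [← Scheme.Hom.comp_apply]; simp [e]
  obtain ⟨z, rfl⟩ := e.hom.surjective p
  obtain ⟨q, hq, hq1, hq2⟩ := closure_fst_step eU g f B (⇑e.hom ⁻¹' N)
    (hN.preimage e.hom.continuous) z hpN (by rw [h1]; exact hB)
  exact ⟨e.hom q, hq, by rw [← h1]; exact hq1, by rw [← h2, ← h2]; exact hq2⟩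

lemma mem_closure_preimages {U X Y : Scheme.{u}} {k : Type u} [Field k]
    (eU : U ≅ Spec (CommRingCat.of k)) (f : X ⟶ U) (g : Y ⟶ U) (A : Set X) (B : Set Y)
    (p : ↑(pullback f g)) (hA : pullback.fst f g p ∈ closure A)
    (hB : pullback.snd f g p ∈ closure B) :
    p ∈ closure (⇑(pullback.fst f g) ⁻¹' A ∩ ⇑(pullback.snd f g) ⁻¹' B) := by
  rw [mem_closure_iff]
  intro N hN hpN
  obtain ⟨q, hq, hqA, hqy⟩ := closure_fst_step eU f g A N hN p hpN hA
  obtain ⟨q', hq', hqB, hqx⟩ := closure_snd_step eU f g B N hN q hq (hqy ▸ hB)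
  exact ⟨q', hq', by simpa [hqx] using hqA, hqB⟩

/-- A section of a morphism to a point is a closed immersion. -/
lemma isClosedImmersion_section_point {U X : Scheme.{u}} {k : Type u} [Field k]
    (eU : U ≅ Spec (CommRingCat.of k)) (f : X ⟶ U) (σ : U ⟶ X) (h : σ ≫ f = 𝟙 U) :
    IsClosedImmersion σ := by
  obtain ⟨h1, h2⟩ := isIntegral_subsingleton_of_iso eU
  have : IsImmersion (σ ≫ f) := by rw [h]; infer_instance
  have := IsImmersion.of_comp σ f
  refine IsClosedImmersion.of_isPreimmersion σ ?_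
  refine closure_subset_iff_isClosed.mp fun y hy => ?_
  obtain ⟨V, hV, hyV, -⟩ :=
    exists_isAffineOpen_mem_and_subset (X := X) (x := y) (U := ⊤) (by trivial)
  obtain ⟨_, hxV, u₀, rfl⟩ := mem_closure_iff.mp hy V V.isOpen hyV
  have hr : Set.range σ ⊆ V := by rintro _ ⟨v, rfl⟩; rwa [Subsingleton.elim v u₀]
  let σ' : U ⟶ V := IsOpenImmersion.lift V.ι σ (by simpa using hr)
  have hσ' : σ' ≫ V.ι = σ := IsOpenImmersion.lift_fac _ _ _
  have : IsAffine (V : Scheme.{u}) := hV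
  have : IsAffine U := IsAffine.of_isIso eU.hom
  have hc : IsClosedImmersion (σ' ≫ V.ι ≫ f) := by rw [reassoc_of% hσ', h]; infer_instance
  have : IsClosedImmersion σ' := IsClosedImmersion.of_comp σ' (V.ι ≫ f)
  by_contra hyr
  obtain ⟨z, hz1, v, rfl⟩ := mem_closure_iff.mp hy _
    (V.isOpen.isOpenMap_subtype_val _ σ'.isClosedEmbedding.isClosed_range.isOpen_compl)
    ⟨⟨y, hyV⟩, fun ⟨v, hv⟩ => hyr ⟨v, by rw [← hσ', Scheme.Hom.comp_apply, hv]; rfl⟩, rfl⟩
  obtain ⟨z', hz', e⟩ := hz1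
  exact hz' ⟨v, Subtype.ext (by rw [e, ← hσ', Scheme.Hom.comp_apply]; rfl)⟩

end Groth.Agent.Grpd80
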