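import Groth.Agent.Grpd80.SmoothBC
import Groth.Agent.Grpd80.Shear
import Groth.Agent.Grpd80.OverField
import Groth.Agent.Grpd80.InvOpen

/-!
Groupoid schemes over a field: all points look alike for smoothness and local dimension.
-/

set_option autoImplicit false
universe u
open CategoryTheory CategoryTheory.Limits AlgebraicGeometry IsLocalRing

namespace Groth.Agent.Grpd80

/-- An irreducible component of a locally Noetherian scheme contains a nonempty open subset. -/
theorem exists_open_subset_component {X : Scheme.{u}} [IsLocallyNoetherian X] {Z : Set X}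
    (hZ : Z ∈ irreducibleComponents (X : Type u)) :
    ∃ W : Set X, IsOpen W ∧ W.Nonempty ∧ W ⊆ Z := by
  obtain ⟨η, hη⟩ : ∃ η, IsGenericPoint η Z :=
    QuasiSober.sober hZ.1 (isClosed_of_mem_irreducibleComponents Z hZ)
  obtain ⟨_, ⟨V, hV, rfl⟩, hηV, -⟩ :=
    X.isBasis_affineOpens.exists_subset_of_mem_open (Set.mem_univ η) isOpen_univ
  have : IsAffine (V : Scheme.{u}) := hV
  have : IsNoetherian (V : Scheme.{u}) := { }
  have hfin : (irreducibleComponents ↥(V : Scheme.{u})).Finite :=
    TopologicalSpace.NoetherianSpace.finite_irreducibleComponents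
  let O : Set ↥(V : Scheme.{u}) :=
    (⋃ C ∈ {C ∈ irreducibleComponents ↥(V : Scheme.{u}) | (⟨η, hηV⟩ : V) ∉ C}, C)ᶜ
  have hO : IsOpen O :=
    ((hfin.subset (Set.sep_subset _ _)).isClosed_biUnion
      fun C hC => isClosed_of_mem_irreducibleComponents C hC.1).isOpen_compl
  refine ⟨(Scheme.Opens.ι V) '' O, (Scheme.Opens.ι V).isOpenEmbedding.isOpenMap _ hO,
    ⟨η, ⟨⟨η, hηV⟩, ?_, rfl⟩⟩, ?_⟩
  · simp only [O, Set.mem_compl_iff, Set.mem_iUnion, not_exists]
    exact fun C hC => hC.2
  · rintro _ ⟨y, hy, rfl⟩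
    obtain ⟨C, hC, hyC⟩ : ∃ C ∈ irreducibleComponents ↥(V : Scheme.{u}), y ∈ C :=
      ⟨_, irreducibleComponent_mem_irreducibleComponents y, mem_irreducibleComponent⟩
    have hηC : (⟨η, hηV⟩ : V) ∈ C := by
      by_contra h
      exact hy (Set.mem_biUnion ⟨hC, h⟩ hyC)
    have hC' : IsIrreducible ((Scheme.Opens.ι V) '' C) := hC.1.image _ (Scheme.Opens.ι V).continuous.continuousOn
    have hcl := hC'.closure
    have hsub : Z ⊆ closure ((Scheme.Opens.ι V) '' C) := by
      rw [← hη.def]
      exact closure_mono (Set.singleton_subset_iff.mpr ⟨_, hηC, rfl⟩)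
    have := hZ.2 hcl hsub
    exact this (subset_closure ⟨y, hyC, rfl⟩)

variable {S : Scheme.{u}} (G : Grpd.GroupoidScheme S) {k : Type u} [Field k]
  (eU : G.U ≅ Spec (CommRingCat.of k))

/-- The structure map of `R` over the field through `s`. -/
noncomputable abbrev strF : G.R ⟶ Spec (CommRingCat.of k) := G.s ≫ eU.hom

lemma lft_strF [LocallyOfFiniteType G.s] : LocallyOfFiniteType (strF G eU) := inferInstance

lemma lfp_strF [LocallyOfFiniteType G.s] : LocallyOfFinitePresentation (strF G eU) :=
  inferInstance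

/-- The identity point. -/
noncomputable abbrev e₀ : G.R := G.e (eU.inv (closedPoint k))

section

variable [LocallyOfFiniteType G.s]

/-- Invariance at a point of the base change along a point of `U`. -/
theorem fibre_spec {Ω : Type u} [Field Ω] (g : Spec (CommRingCat.of Ω) ⟶ G.U)
    (z : ↥(pullback G.s g)) :
    (z ∈ (pullback.snd G.s g).smoothLocus ↔ pullback.fst G.s g z ∈ (strF G eU).smoothLocus) ∧
      FlatMor.localDim ↥(pullback G.s g) z = FlatMor.localDim G.R (pullback.fst G.s g z) := by
  let φ := Spec.preimage (g ≫ eU.hom)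
  let : Algebra k Ω := φ.hom.toAlgebra
  have hφ : Spec.map (CommRingCat.ofHom (algebraMap k Ω)) = g ≫ eU.hom := Spec.map_preimage _
  let E : pullback G.s g ⟶ pullback (strF G eU) (Spec.map (CommRingCat.ofHom (algebraMap k Ω))) :=
    pullback.map _ _ _ _ (𝟙 _) (𝟙 _) eU.hom (by simp) (by simp [hφ])
  have : IsIso E := pullback.map_isIso ..
  have h := smoothLocus_localDim_bc (strF G eU) (K := Ω) (E z)
  have hfst : pullback.fst (strF G eU) (Spec.map (CommRingCat.ofHom (algebraMap k Ω))) (E z) =
      pullback.fst G.s g z := by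
    rw [← Scheme.Hom.comp_apply]; simp [E, pullback.lift_fst]
  have hsnd : E ≫ pullback.snd _ _ = pullback.snd G.s g := by simp [E, pullback.lift_snd]
  rw [hfst] at h
  refine ⟨?_, ?_⟩
  · rw [← h.1, ← Scheme.Hom.mem_preimage E, Scheme.Hom.preimage_smoothLocus_eq]
    simp only [hsnd]
  · rw [← h.2]
    exact LocDim.localDim_isOpenEmbedding E.isOpenEmbedding z

/-- All points look like the identity point. -/
theorem point_like_unit (x : G.R) :
    (x ∈ (strF G eU).smoothLocus ↔ e₀ G eU ∈ (strF G eU).smoothLocus) ∧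
      FlatMor.localDim G.R x = FlatMor.localDim G.R (e₀ G eU) := by
  let Ω := G.R.residueField x
  let α : Spec (CommRingCat.of Ω) ⟶ G.R := G.R.fromSpecResidueField x
  have hα : ∀ w, α w = x := fun w => Scheme.fromSpecResidueField_apply x w
  let E := shearR G α
  let a : Spec (CommRingCat.of Ω) ⟶ pullback G.s (α ≫ G.t) :=
    pullback.lift (α ≫ G.t ≫ G.e) (𝟙 _) (by simp)
  let z := a (closedPoint Ω)
  have hz : pullback.fst G.s (α ≫ G.t) z = e₀ G eU := by
    rw [← Scheme.Hom.comp_apply, pullback.lift_fst, Scheme.Hom.comp_apply, Scheme.Hom.comp_apply]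
    have := (isIntegral_subsingleton_of_iso eU).2
    exact congrArg G.e (Subsingleton.elim _ _)
  have hEz : pullback.fst G.s (α ≫ G.s) (E.hom z) = x := by
    rw [← Scheme.Hom.comp_apply, ← Scheme.Hom.comp_apply]
    have : a ≫ E.hom ≫ pullback.fst G.s (α ≫ G.s) = α := by
      simp only [E, shearR, pullback.lift_fst]
      rw [comp_mul_eq a _ _ _ (α ≫ G.t ≫ G.e) α (by simp) (pullback.lift_fst _ _ _)
        (by simp [a, pullback.lift_snd_assoc])]
      exact mul_unit_left _ rfl
    rw [this]; exact hα _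
  have hsnd : E.hom ≫ pullback.snd G.s (α ≫ G.s) = pullback.snd G.s (α ≫ G.t) := by
    simp [E, shearR, pullback.lift_snd]
  have h₁ := fibre_spec G eU (α ≫ G.t) z
  have h₂ := fibre_spec G eU (α ≫ G.s) (E.hom z)
  rw [hz] at h₁
  rw [hEz] at h₂
  refine ⟨?_, ?_⟩
  · rw [← h₁.1, ← h₂.1, ← Scheme.Hom.mem_preimage E.hom, Scheme.Hom.preimage_smoothLocus_eq]
    simp only [hsnd]
  · rw [← h₁.2, ← h₂.2]
    exact (LocDim.localDim_isOpenEmbedding E.hom.isOpenEmbedding z).symm

/-- One smooth point suffices. -/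
theorem smooth_of_mem (x : G.R) (hx : x ∈ (strF G eU).smoothLocus) : Smooth G.s := by
  have : Smooth (strF G eU) := by
    rw [← Scheme.Hom.smoothLocus_eq_top_iff, ← top_le_iff]
    exact fun y _ => (point_like_unit G eU y).1.mpr ((point_like_unit G eU x).1.mp hx)
  exact (MorphismProperty.cancel_right_of_respectsIso @Smooth G.s eU.hom).mp this

omit [LocallyOfFiniteType G.s] in
theorem smooth_t_of_s [Smooth G.s] : Smooth G.t := by
  have : IsIso G.i := ⟨G.i, i_i' G, i_i' G⟩
  rw [← i_s' G]
  infer_instance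

include eU in
theorem smooth_of_isReduced [PerfectField k] [IsReduced G.R] : Smooth G.s ∧ Smooth G.t := by
  have : Nonempty G.R := ⟨e₀ G eU⟩
  obtain ⟨x, hx⟩ := (strF G eU).dense_smoothLocus_of_perfectField.nonempty
  have := smooth_of_mem G eU x hx
  exact ⟨this, smooth_t_of_s G⟩

include eU in
theorem localDim_eq_dim (x : G.R) : FlatMor.localDim G.R x = topologicalKrullDim G.R := by
  rw [TopDim50.dim_eq_iSup_localDim, (point_like_unit G eU x).2]
  exact le_antisymm (le_iSup (fun y : G.R => FlatMor.localDim G.R y) _)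
    (iSup_le fun y => (point_like_unit G eU y).2.le)

include eU in
theorem dim_component {Z : Set G.R} (hZ : Z ∈ irreducibleComponents (G.R : Type u)) :
    topologicalKrullDim Z = topologicalKrullDim G.R := by
  refine le_antisymm (topologicalKrullDim_subspace_le G.R Z) ?_
  have := LocallyOfFiniteType.isLocallyNoetherian (strF G eU)
  obtain ⟨W, hW, hne, hWZ⟩ := exists_open_subset_component hZ
  obtain ⟨y, hy⟩ := hne
  rw [← localDim_eq_dim G eU y]
  exact (TopDim50.localDim_le ⟨W, hW⟩ hy).trans (TopDim50.dim_mono hWZ)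

include eU in
theorem dim_stalk_closed {r : G.R} (hr : IsClosed ({r} : Set G.R)) :
    ringKrullDim (G.R.presheaf.stalk r) = topologicalKrullDim G.R := by
  rw [← localDim_eq_dim G eU r, LocDim.localDim_eq_tdegN_add (strF G eU) r,
    LocDim.tdegN_eq_zero_of_isClosed (strF G eU) hr]
  simp

end

end Groth.Agent.Grpd80
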