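import Groth.Agent.Grpd80.Basic

set_option autoImplicit false
universe u
open CategoryTheory CategoryTheory.Limits AlgebraicGeometry

namespace Groth.Agent.Grpd80

variable {S : Scheme.{u}} (G : Grpd.GroupoidScheme S)

/-- the inclusion of the stabilizer into the arrows -/
noncomputable def stIncl : G.stabilizer ⟶ G.R := pullback.fst G.j G.diag

lemma stIncl_isPullback : IsPullback (stIncl G) G.stabilizerToU G.j G.diag :=
  IsPullback.of_hasPullback G.j G.diag

@[reassoc (attr := simp)]
lemma stIncl_t : stIncl G ≫ G.t = G.stabilizerToU := by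
  have h := congr($((stIncl_isPullback G).w) ≫ pullback.fst G.pU G.pU)
  simpa using h

@[reassoc (attr := simp)]
lemma stIncl_s : stIncl G ≫ G.s = G.stabilizerToU := by
  have h := congr($((stIncl_isPullback G).w) ≫ pullback.snd G.pU G.pU)
  simpa using h

lemma stab_hom_ext {T : Scheme.{u}} {a b : T ⟶ G.stabilizer}
    (h₁ : a ≫ stIncl G = b ≫ stIncl G) : a = b := by
  refine (stIncl_isPullback G).hom_ext h₁ ?_
  simp only [← stIncl_t, reassoc_of% h₁]

noncomputable def stabLift {T : Scheme.{u}} (a : T ⟶ G.R) (h : a ≫ G.s = a ≫ G.t) :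
    T ⟶ G.stabilizer :=
  (stIncl_isPullback G).lift a (a ≫ G.t) (by ext <;> simp [h])

@[reassoc (attr := simp)]
lemma stabLift_incl {T : Scheme.{u}} (a : T ⟶ G.R) (h : a ≫ G.s = a ≫ G.t) :
    stabLift G a h ≫ stIncl G = a :=
  (stIncl_isPullback G).lift_fst _ _ _

@[reassoc (attr := simp)]
lemma stabLift_toU {T : Scheme.{u}} (a : T ⟶ G.R) (h : a ≫ G.s = a ≫ G.t) :
    stabLift G a h ≫ G.stabilizerToU = a ≫ G.t :=
  (stIncl_isPullback G).lift_snd _ _ _

@[reassoc (attr := simp)]
lemma eStab_incl : G.eStab ≫ stIncl G = G.e := by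
  unfold Grpd.GroupoidScheme.eStab stIncl
  exact pullback.lift_fst _ _ _

@[reassoc (attr := simp)]
lemma eStab_toU : G.eStab ≫ G.stabilizerToU = 𝟙 G.U := by
  unfold Grpd.GroupoidScheme.eStab Grpd.GroupoidScheme.stabilizerToU
  exact pullback.lift_snd _ _ _

lemma j_condition {T : Scheme.{u}} {a b : T ⟶ G.R} (h : a ≫ G.j = b ≫ G.j) :
    a ≫ G.s = b ≫ G.s ∧ a ≫ G.t = b ≫ G.t :=
  ⟨by simpa using congr($h ≫ pullback.snd G.pU G.pU),
    by simpa using congr($h ≫ pullback.fst G.pU G.pU)⟩

/-- The action of the stabilizer gives a torsor. -/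
noncomputable def torsor : pullback G.stabilizerToU G.t ≅ pullback G.j G.j where
  hom := pullback.lift
    (mul G (pullback.fst G.stabilizerToU G.t ≫ stIncl G) (pullback.snd G.stabilizerToU G.t)
      (by simp [pullback.condition]))
    (pullback.snd G.stabilizerToU G.t) (by ext <;> simp [pullback.condition])
  inv := pullback.lift
    (stabLift G (mul G (pullback.fst G.j G.j) (pullback.snd G.j G.j ≫ G.i)
      (by simp [(j_condition G pullback.condition).1]))
      (by simp [(j_condition G pullback.condition).2]))
    (pullback.snd G.j G.j) (by simp [(j_condition G pullback.condition).2])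
  hom_inv_id := by
    apply pullback.hom_ext
    · apply stab_hom_ext
      rw [Category.id_comp, Category.assoc, Category.assoc, pullback.lift_fst_assoc, stabLift_incl,
        comp_mul]
      rw [mul_congr _ (by simp [pullback.condition])
        (α' := mul G (pullback.fst G.stabilizerToU G.t ≫ stIncl G) (pullback.snd _ _)
          (by simp [pullback.condition]))
        (β' := pullback.snd G.stabilizerToU G.t ≫ G.i)
        (pullback.lift_fst _ _ _) (by rw [pullback.lift_snd_assoc]),
        mul_assoc' _ _ _ _ (by simp)]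
      apply mul_unit_right
      rw [mul_inv_right _ rfl, Category.assoc, stIncl_s_assoc, reassoc_of% pullback.condition]
    · simp [pullback.lift_snd]
  inv_hom_id := by
    apply pullback.hom_ext
    · rw [Category.assoc, pullback.lift_fst, Category.id_comp, comp_mul]
      rw [mul_congr _ (by simp)
        (α' := mul G (pullback.fst G.j G.j) (pullback.snd G.j G.j ≫ G.i)
          (by simp [(j_condition G pullback.condition).1]))
        (β' := pullback.snd G.j G.j)
        (by rw [pullback.lift_fst_assoc, stabLift_incl]) (pullback.lift_snd _ _ _),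
        mul_assoc' _ _ _ _ (by simp)]
      apply mul_unit_right
      rw [mul_inv_left _ rfl, ← reassoc_of% (j_condition G pullback.condition).1]
    · simp [pullback.lift_snd]

@[reassoc (attr := simp)]
lemma torsor_hom_fst : (torsor G).hom ≫ pullback.fst G.j G.j =
    mul G (pullback.fst G.stabilizerToU G.t ≫ stIncl G) (pullback.snd G.stabilizerToU G.t)
      (by simp [pullback.condition]) := pullback.lift_fst _ _ _

@[reassoc (attr := simp)]
lemma torsor_hom_snd : (torsor G).hom ≫ pullback.snd G.j G.j = pullback.snd _ _ :=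
  pullback.lift_snd _ _ _

/-- Properties of the identity section of the stabilizer pass to the diagonal of `j`. -/
lemma diagonal_j_of_eStab {P : MorphismProperty Scheme.{u}} [P.IsStableUnderBaseChange]
    [P.RespectsIso] (h : P G.eStab) : P (pullback.diagonal G.j) := by
  let l : G.R ⟶ pullback G.stabilizerToU G.t := pullback.lift (G.t ≫ G.eStab) (𝟙 G.R) (by simp)
  have hl₁ : l ≫ pullback.fst G.stabilizerToU G.t = G.t ≫ G.eStab := pullback.lift_fst _ _ _
  have hl₂ : l ≫ pullback.snd G.stabilizerToU G.t = 𝟙 G.R := pullback.lift_snd _ _ _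
  have sq : IsPullback l G.t (pullback.fst G.stabilizerToU G.t) G.eStab := by
    refine IsPullback.of_right (h₁₂ := pullback.snd G.stabilizerToU G.t) (h₂₂ := G.stabilizerToU)
      (v₁₃ := G.t) ?_ hl₁ (IsPullback.of_hasPullback G.stabilizerToU G.t).flip
    rw [hl₂, eStab_toU]
    exact IsPullback.of_horiz_isIso ⟨by simp⟩
  have he : pullback.diagonal G.j = l ≫ (torsor G).hom := by
    apply pullback.hom_ext
    · rw [pullback.diagonal_fst, Category.assoc, torsor_hom_fst, comp_mul,
        mul_congr _ (by simp) (α' := G.t ≫ G.e) (β' := 𝟙 G.R)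
          (by rw [reassoc_of% hl₁, eStab_incl]) hl₂]
      exact (mul_unit_left _ (by simp)).symm
    · rw [pullback.diagonal_snd, Category.assoc, torsor_hom_snd, hl₂]
  rw [he]
  exact (P.cancel_right_of_respectsIso l (torsor G).hom).mpr (MorphismProperty.of_isPullback sq.flip h)

end Groth.Agent.Grpd80
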