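import Groth.Agent.Grpd80.OverFieldPoints
import Groth.Agent.Grpd80.Stabilizer
import Groth.Agent.Alg80.UnitsAlgebraic
import Groth.Agent.PtTop50.Maps
import Mathlib.FieldTheory.IntermediateField.Algebraic
import Mathlib.AlgebraicGeometry.Morphisms.Integral
import Mathlib.AlgebraicGeometry.Morphisms.Immersion

/-!
Groupoid schemes over a field: the dimension of `R` is the dimension of the stabilizer.
-/

set_option autoImplicit false
universe u
open CategoryTheory CategoryTheory.Limits AlgebraicGeometry IsLocalRing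

namespace Groth.Agent.Grpd80

/-- Extension of the base field does not change the dimension. -/
theorem dim_bc_eq {k L : Type u} [Field k] [Field L] [Algebra k L] {X : Scheme.{u}}
    (f : X ⟶ Spec (CommRingCat.of k)) [LocallyOfFiniteType f] :
    topologicalKrullDim ↥(pullback f (Spec.map (CommRingCat.ofHom (algebraMap k L)))) =
      topologicalKrullDim X := by
  rw [TopDim50.dim_eq_iSup_localDim, TopDim50.dim_eq_iSup_localDim]
  refine le_antisymm (iSup_le fun z => ?_) (iSup_le fun x => ?_)
  · rw [(smoothLocus_localDim_bc f z).2]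
    exact le_iSup (fun y : X => FlatMor.localDim X y) _
  · obtain ⟨z, rfl⟩ := (pullback.fst f (Spec.map (CommRingCat.ofHom (algebraMap k L)))).surjective x
    rw [← (smoothLocus_localDim_bc f z).2]
    exact le_iSup (fun w : ↥(pullback f (Spec.map (CommRingCat.ofHom (algebraMap k L)))) =>
      FlatMor.localDim _ w) z

/-- Pullback to a point of a one point scheme does not change the dimension. -/
theorem dim_pullback_point {k L : Type u} [Field k] [Field L] {U X : Scheme.{u}}
    (eU : U ≅ Spec (CommRingCat.of k)) (f : X ⟶ U) [LocallyOfFiniteType f]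
    (g : Spec (CommRingCat.of L) ⟶ U) :
    topologicalKrullDim ↥(pullback f g) = topologicalKrullDim X := by
  let φ := Spec.preimage (g ≫ eU.hom)
  let : Algebra k L := φ.hom.toAlgebra
  have hφ : Spec.map (CommRingCat.ofHom (algebraMap k L)) = g ≫ eU.hom := Spec.map_preimage _
  let E : pullback f g ⟶ pullback (f ≫ eU.hom) (Spec.map (CommRingCat.ofHom (algebraMap k L))) :=
    pullback.map _ _ _ _ (𝟙 _) (𝟙 _) eU.hom (by simp) (by simp [hφ])
  have : IsIso E := pullback.map_isIso ..
  rw [← dim_bc_eq (L := L) (f ≫ eU.hom)]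
  exact IsHomeomorph.topologicalKrullDim_eq _ E.homeomorph.isHomeomorph

variable {S : Scheme.{u}} (G : Grpd.GroupoidScheme S) {k : Type u} [Field k]
  (eU : G.U ≅ Spec (CommRingCat.of k)) [LocallyOfFiniteType G.s]

lemma lft_j : LocallyOfFiniteType G.j := by
  have : LocallyOfFiniteType (G.j ≫ pullback.snd G.pU G.pU) := by rw [j_snd]; infer_instance
  exact locallyOfFiniteType_of_comp G.j (pullback.snd G.pU G.pU)

/-- The `t`-structure of a field valued point is algebraic over its `s`-structure. -/
theorem algebraic_point {L : Type u} [Field L] (α : Spec (CommRingCat.of L) ⟶ G.R) (c : k) :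
    letI := (Spec.preimage (α ≫ G.s ≫ eU.hom)).hom.toAlgebra
    IsAlgebraic k ((Spec.preimage (α ≫ G.t ≫ eU.hom)).hom c : L) := by
  let := (Spec.preimage (α ≫ G.s ≫ eU.hom)).hom.toAlgebra
  obtain ⟨_, ⟨V, hV, rfl⟩, hxV, -⟩ := G.R.isBasis_affineOpens.exists_subset_of_mem_open
    (Set.mem_univ (α (closedPoint L))) isOpen_univ
  have hsub : Set.range α ⊆ Set.range hV.fromSpec := by
    rw [hV.range_fromSpec]
    rintro _ ⟨w, rfl⟩
    rwa [show w = closedPoint L from Subsingleton.elim (α := PrimeSpectrum L) _ _]
  let αV : Spec (CommRingCat.of L) ⟶ Spec Γ(G.R, V) := IsOpenImmersion.lift hV.fromSpec α hsub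
  have hαV : αV ≫ hV.fromSpec = α := IsOpenImmersion.lift_fac _ _ hsub
  obtain ⟨r, hr⟩ := Spec.map_surjective αV
  let σ : CommRingCat.of k ⟶ Γ(G.R, V) := Spec.preimage (hV.fromSpec ≫ G.s ≫ eU.hom)
  let τ : CommRingCat.of k ⟶ Γ(G.R, V) := Spec.preimage (hV.fromSpec ≫ G.t ≫ eU.hom)
  let : Algebra k Γ(G.R, V) := σ.hom.toAlgebra
  have : Algebra.FiniteType k Γ(G.R, V) := by
    rw [← RingHom.finiteType_algebraMap]
    have h : LocallyOfFiniteType (Spec.map σ) := by rw [Spec.map_preimage]; infer_instance
    exact (HasRingHomProperty.Spec_iff (P := @LocallyOfFiniteType)).mp h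
  have hσ : σ ≫ r = Spec.preimage (α ≫ G.s ≫ eU.hom) := by
    apply Spec.map_injective
    rw [Spec.map_comp, Spec.map_preimage, Spec.map_preimage, hr, reassoc_of% hαV]
  have hτ : τ ≫ r = Spec.preimage (α ≫ G.t ≫ eU.hom) := by
    apply Spec.map_injective
    rw [Spec.map_comp, Spec.map_preimage, Spec.map_preimage, hr, reassoc_of% hαV]
  let rA : Γ(G.R, V) →ₐ[k] L :=
    { r.hom with commutes' := fun d => congr($hσ d) }
  have : Algebra.FiniteType k rA.range :=
    ‹Algebra.FiniteType k Γ(G.R, V)›.of_surjective rA.rangeRestrict rA.rangeRestrict_surjective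
  have h := Alg80.isAlgebraic_of_field_map (k := k) (A := rA.range)
    (rA.rangeRestrict.toRingHom.comp τ.hom) c
  have h' := h.algebraMap (A := L)
  rw [← hτ]
  exact h'

omit [LocallyOfFiniteType G.s] in
/-- The fibre of `j` through a point is the stabilizer over it. -/
theorem exists_fibre_iso {T : Scheme.{u}} (α : T ⟶ G.R) :
    Nonempty (pullback G.j (α ≫ G.j) ≅ pullback G.stabilizerToU (α ≫ G.t)) :=
  ⟨(pullbackLeftPullbackSndIso G.j G.j α).symm ≪≫
    asIso (pullback.map (pullback.snd G.j G.j) α (pullback.snd G.stabilizerToU G.t) α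
      (torsor G).inv (𝟙 _) (𝟙 _) (by simp [torsor, pullback.lift_snd]) (by simp)) ≪≫
    pullbackLeftPullbackSndIso G.stabilizerToU G.t α⟩

include eU in
theorem dim_eq_stabilizer : topologicalKrullDim G.R = topologicalKrullDim G.stabilizer := by
  have : LocallyOfFiniteType G.j := lft_j G
  have : LocallyOfFiniteType G.stabilizerToU :=
    MorphismProperty.pullback_snd (P := @LocallyOfFiniteType) _ _ inferInstance
  have : IsAffine G.U := IsAffine.of_isIso eU.hom
  refine le_antisymm ?_ ?_
  swap
  · have : IsImmersion G.diag := by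
      have : G.diag = pullback.diagonal G.pU := rfl
      rw [this]; infer_instance
    have : IsImmersion (pullback.fst G.j G.diag) := inferInstance
    exact (pullback.fst G.j G.diag).isEmbedding.isInducing.topologicalKrullDim_le
  obtain ⟨Z, hZ, hx₀⟩ : ∃ Z ∈ irreducibleComponents (G.R : Type u), e₀ G eU ∈ Z :=
    ⟨_, irreducibleComponent_mem_irreducibleComponents _, mem_irreducibleComponent⟩
  have hZc := isClosed_of_mem_irreducibleComponents Z hZ
  obtain ⟨η, hη⟩ : ∃ η, IsGenericPoint η Z := QuasiSober.sober hZ.1 hZc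
  let L := G.R.residueField η
  let α : Spec (CommRingCat.of L) ⟶ G.R := G.R.fromSpecResidueField η
  let as := Spec.preimage (α ≫ G.s ≫ eU.hom)
  let at' := Spec.preimage (α ≫ G.t ≫ eU.hom)
  let : Algebra k L := as.hom.toAlgebra
  let L0 := algebraicClosure k L
  let incl : CommRingCat.of L0 ⟶ CommRingCat.of L := CommRingCat.ofHom (algebraMap L0 L)
  let i₀ : CommRingCat.of k ⟶ CommRingCat.of L0 := CommRingCat.ofHom (algebraMap k L0)
  let b₀ : CommRingCat.of k ⟶ CommRingCat.of L0 := CommRingCat.ofHom
    (at'.hom.codRestrict L0 fun c => mem_algebraicClosure_iff.mpr (algebraic_point G eU α c))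
  have hi₀ : i₀ ≫ incl = as := rfl
  have hb₀ : b₀ ≫ incl = at' := rfl
  have hepi : Epi (Spec.map incl) := by
    have : Flat (Spec.map incl) := (HasRingHomProperty.Spec_iff (P := @Flat)).mpr
      (RingHom.flat_algebraMap_iff.mpr (Module.Flat.of_free (R := L0) (M := L)))
    have : Surjective (Spec.map incl) :=
      ⟨Function.surjective_to_subsingleton (α := Spec (CommRingCat.of L)) (β := Spec _) _⟩
    exact Flat.epi_of_flat_of_surjective _
  let β : Spec (CommRingCat.of L0) ⟶ pullback G.pU G.pU :=
    pullback.lift (Spec.map b₀ ≫ eU.inv) (Spec.map i₀ ≫ eU.inv) (by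
      rw [← cancel_epi (Spec.map incl)]
      simp only [← Category.assoc, ← Spec.map_comp, hi₀, hb₀]
      simp only [as, at', Spec.map_preimage, Category.assoc, Iso.hom_inv_id_assoc, G.s_over, G.t_over])
  have hαβ : Spec.map incl ≫ β = α ≫ G.j := by
    apply pullback.hom_ext
    · rw [Category.assoc, pullback.lift_fst, ← Category.assoc, ← Spec.map_comp, hb₀,
        Category.assoc, j_fst, Spec.map_preimage]
      simp
    · rw [Category.assoc, pullback.lift_snd, ← Category.assoc, ← Spec.map_comp, hi₀,
        Category.assoc, j_snd, Spec.map_preimage]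
      simp
  have : IsSeparated G.pU := inferInstance
  have hβ : IsIntegralHom β := by
    have : IsIntegralHom (Spec.map i₀ ≫ eU.inv) := by
      have : IsIntegralHom (Spec.map i₀) := by
        rw [IsIntegralHom.SpecMap_iff]
        exact (algebraMap_isIntegral_iff).mpr (algebraicClosure.isAlgebraic k L).isIntegral
      infer_instance
    have : IsIntegralHom (β ≫ pullback.snd G.pU G.pU) := by rw [pullback.lift_snd]; infer_instance
    exact IsIntegralHom.of_comp β (pullback.snd G.pU G.pU)
  let g := pullback.fst G.j β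
  have : IsIntegralHom g := MorphismProperty.pullback_fst (P := @IsIntegralHom) _ _ hβ
  have hηg : η ∈ Set.range g := by
    obtain ⟨w, hw, -⟩ := Scheme.Pullback.exists_preimage_pullback (f := G.j) (g := β) η
      (closedPoint L0) (by
        have := congr($hαβ (closedPoint L))
        rw [Scheme.Hom.comp_apply, Scheme.Hom.comp_apply, Scheme.fromSpecResidueField_apply] at this
        rw [← this]
        exact congrArg β (Subsingleton.elim (α := PrimeSpectrum L0) _ _))
    exact ⟨w, hw⟩
  have hZg : Z ⊆ Set.range g := by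
    rw [← hη.def]
    exact g.isClosedMap.isClosed_range.closure_subset_iff.mpr (Set.singleton_subset_iff.mpr hηg)
  have h1 : topologicalKrullDim Z ≤ topologicalKrullDim ↥(pullback G.j β) := by
    have : QuasiSober Z := hZc.isClosedEmbedding_subtypeVal.quasiSober
    refine le_trans (PtTop50.dim_le_of_surjective (f := Z.restrictPreimage g)
      g.continuous.restrictPreimage ?_ (Or.inl ?_)) (topologicalKrullDim_subspace_le _ _)
    · rintro ⟨z, hz⟩
      obtain ⟨w, hw⟩ := hZg hz
      exact ⟨⟨w, by rw [Set.mem_preimage, hw]; exact hz⟩, Subtype.ext hw⟩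
    · exact (g.isClosedMap.restrictPreimage Z).specializingMap
  let eL0 : Spec (CommRingCat.of L0) ≅ Spec (CommRingCat.of L0) := Iso.refl _
  obtain ⟨e⟩ := exists_fibre_iso G α
  have h2 : topologicalKrullDim ↥(pullback G.j β) = topologicalKrullDim G.stabilizer := by
    rw [← dim_pullback_point eL0 (pullback.snd G.j β) (Spec.map incl),
      ← dim_pullback_point eU G.stabilizerToU (α ≫ G.t)]
    refine IsHomeomorph.topologicalKrullDim_eq _
      ((pullbackLeftPullbackSndIso G.j β (Spec.map incl) ≪≫
        pullback.congrHom rfl hαβ ≪≫ e).hom.homeomorph.isHomeomorph)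
  rw [← dim_component G eU hZ]
  exact h1.trans h2.le

end Groth.Agent.Grpd80
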