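import Groth.Prelude.Def_Grpd

set_option autoImplicit false
universe u
open CategoryTheory CategoryTheory.Limits AlgebraicGeometry

namespace Groth.Agent.Grpd80

variable {S : Scheme.{u}} (G : Grpd.GroupoidScheme S)

noncomputable def mul {T : Scheme.{u}} (α β : T ⟶ G.R) (h : α ≫ G.s = β ≫ G.t) : T ⟶ G.R :=
  pullback.lift α β h ≫ G.c

variable {G} {T : Scheme.{u}}

lemma mul_congr {α α' β β' : T ⟶ G.R} (h : α ≫ G.s = β ≫ G.t) (h' : α' ≫ G.s = β' ≫ G.t)
    (hα : α = α') (hβ : β = β') : mul G α β h = mul G α' β' h' := by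
  subst hα hβ; rfl

@[reassoc (attr := simp)]
lemma mul_s (α β : T ⟶ G.R) (h : α ≫ G.s = β ≫ G.t) : mul G α β h ≫ G.s = β ≫ G.s :=
  G.comp_s α β h

@[reassoc (attr := simp)]
lemma mul_t (α β : T ⟶ G.R) (h : α ≫ G.s = β ≫ G.t) : mul G α β h ≫ G.t = α ≫ G.t :=
  G.comp_t α β h

lemma comp_mul {T' : Scheme.{u}} (γ : T' ⟶ T) (α β : T ⟶ G.R) (h : α ≫ G.s = β ≫ G.t) :
    γ ≫ mul G α β h = mul G (γ ≫ α) (γ ≫ β) (by rw [Category.assoc, Category.assoc, h]) := by
  unfold mul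
  rw [← Category.assoc]
  congr 1
  ext <;> simp [pullback.lift_fst, pullback.lift_snd]

lemma c_eq_mul (G : Grpd.GroupoidScheme S) :
    G.c = mul G (pullback.fst G.s G.t) (pullback.snd G.s G.t) pullback.condition := by
  unfold mul
  rw [show pullback.lift (pullback.fst G.s G.t) (pullback.snd G.s G.t) pullback.condition = 𝟙 _ by
    ext <;> simp, Category.id_comp]

lemma mul_assoc' (α β γ : T ⟶ G.R) (h₁ : α ≫ G.s = β ≫ G.t) (h₂ : β ≫ G.s = γ ≫ G.t) :
    mul G (mul G α β h₁) γ (by rw [mul_s, h₂]) =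
      mul G α (mul G β γ h₂) (by rw [mul_t, h₁]) :=
  G.assoc α β γ h₁ h₂

lemma mul_unit_right {α β : T ⟶ G.R} (h : α ≫ G.s = β ≫ G.t) (hβ : β = α ≫ G.s ≫ G.e) :
    mul G α β h = α := by
  subst hβ; exact G.comp_e α

lemma mul_unit_left {α β : T ⟶ G.R} (h : α ≫ G.s = β ≫ G.t) (hα : α = β ≫ G.t ≫ G.e) :
    mul G α β h = β := by
  subst hα; exact G.e_comp β

lemma mul_inv_right {α β : T ⟶ G.R} (h : α ≫ G.s = β ≫ G.t) (hβ : β = α ≫ G.i) :
    mul G α β h = α ≫ G.t ≫ G.e := by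
  subst hβ; exact G.comp_i α

lemma mul_inv_left {α β : T ⟶ G.R} (h : α ≫ G.s = β ≫ G.t) (hα : α = β ≫ G.i) :
    mul G α β h = β ≫ G.s ≫ G.e := by
  subst hα; exact G.i_comp β

@[reassoc (attr := simp)]
lemma i_s' (G : Grpd.GroupoidScheme S) : G.i ≫ G.s = G.t := G.i_s
@[reassoc (attr := simp)]
lemma i_t' (G : Grpd.GroupoidScheme S) : G.i ≫ G.t = G.s := G.i_t
@[reassoc (attr := simp)]
lemma e_s' (G : Grpd.GroupoidScheme S) : G.e ≫ G.s = 𝟙 G.U := G.e_s
@[reassoc (attr := simp)]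
lemma e_t' (G : Grpd.GroupoidScheme S) : G.e ≫ G.t = 𝟙 G.U := G.e_t

@[reassoc (attr := simp)]
lemma j_fst (G : Grpd.GroupoidScheme S) : G.j ≫ pullback.fst G.pU G.pU = G.t :=
  pullback.lift_fst _ _ _
@[reassoc (attr := simp)]
lemma j_snd (G : Grpd.GroupoidScheme S) : G.j ≫ pullback.snd G.pU G.pU = G.s :=
  pullback.lift_snd _ _ _
@[reassoc (attr := simp)]
lemma diag_fst (G : Grpd.GroupoidScheme S) : G.diag ≫ pullback.fst G.pU G.pU = 𝟙 _ :=
  pullback.lift_fst _ _ _
@[reassoc (attr := simp)]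
lemma diag_snd (G : Grpd.GroupoidScheme S) : G.diag ≫ pullback.snd G.pU G.pU = 𝟙 _ :=
  pullback.lift_snd _ _ _

/-- The square with `c`, the second projection, and `s`, `s` is cartesian. -/
lemma isPullback_c_snd (G : Grpd.GroupoidScheme S) :
    IsPullback G.c (pullback.snd G.s G.t) G.s G.s := by
  have w : G.c ≫ G.s = pullback.snd G.s G.t ≫ G.s := by rw [c_eq_mul G, mul_s]
  refine IsPullback.of_iso (IsPullback.of_hasPullback G.s G.s)
    (e₁ := ?_) (e₂ := Iso.refl _) (e₃ := Iso.refl _) (e₄ := Iso.refl _) ?_ ?_ ?_ ?_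
  · refine ⟨pullback.lift (mul G (pullback.fst G.s G.s) (pullback.snd G.s G.s ≫ G.i)
      (by rw [Category.assoc, i_t', pullback.condition])) (pullback.snd _ _) (by simp),
      pullback.lift G.c (pullback.snd G.s G.t) w, ?_, ?_⟩
    · ext
      · rw [Category.assoc, pullback.lift_fst, Category.id_comp, c_eq_mul G, comp_mul]
        rw [mul_congr (α' := mul G (pullback.fst G.s G.s) (pullback.snd G.s G.s ≫ G.i)
          (by rw [Category.assoc, i_t', pullback.condition])) (β' := pullback.snd G.s G.s)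
          _ (by simp) (pullback.lift_fst _ _ _) (pullback.lift_snd _ _ _),
          mul_assoc' _ _ _ _ (by simp)]
        apply mul_unit_right
        rw [mul_inv_left _ rfl, ← reassoc_of% pullback.condition]
      · simp [pullback.lift_fst, pullback.lift_snd]
    · ext
      · rw [Category.assoc, pullback.lift_fst, Category.id_comp, comp_mul]
        rw [mul_congr (α' := mul G (pullback.fst G.s G.t) (pullback.snd G.s G.t) pullback.condition)
          (β' := pullback.snd G.s G.t ≫ G.i)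
          _ (by simp) (by rw [pullback.lift_fst, c_eq_mul G]) (by rw [pullback.lift_snd_assoc]),
          mul_assoc' _ _ _ _ (by simp)]
        apply mul_unit_right
        rw [mul_inv_right _ rfl, reassoc_of% pullback.condition]
      · simp [pullback.lift_fst, pullback.lift_snd]
  · dsimp only [Iso.refl_hom]
    rw [Category.comp_id, c_eq_mul G, comp_mul]
    rw [mul_congr (α' := mul G (pullback.fst G.s G.s) (pullback.snd G.s G.s ≫ G.i)
      (by rw [Category.assoc, i_t', pullback.condition])) (β' := pullback.snd G.s G.s)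
      _ (by simp) (pullback.lift_fst _ _ _) (pullback.lift_snd _ _ _),
      mul_assoc' _ _ _ _ (by simp)]
    symm
    apply mul_unit_right
    rw [mul_inv_left _ rfl, ← reassoc_of% pullback.condition]
  · simp [pullback.lift_snd]
  · simp
  · simp

lemma exists_comp (G : Grpd.GroupoidScheme S) {a b : G.R} (h : G.s a = G.t b) :
    ∃ c : G.R, G.s c = G.s b ∧ G.t c = G.t a := by
  obtain ⟨z, hz1, hz2⟩ := Scheme.Pullback.exists_preimage_pullback a b h
  refine ⟨G.c z, ?_, ?_⟩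
  · rw [← Scheme.Hom.comp_apply, c_eq_mul G, mul_s, Scheme.Hom.comp_apply, hz2]
  · rw [← Scheme.Hom.comp_apply, c_eq_mul G, mul_t, Scheme.Hom.comp_apply, hz1]

lemma exists_inv (G : Grpd.GroupoidScheme S) (a : G.R) :
    ∃ c : G.R, G.s c = G.t a ∧ G.t c = G.s a :=
  ⟨G.i a, by rw [← Scheme.Hom.comp_apply, i_s'], by rw [← Scheme.Hom.comp_apply, i_t']⟩

lemma exists_unit (G : Grpd.GroupoidScheme S) (x : G.U) :
    ∃ c : G.R, G.s c = x ∧ G.t c = x :=
  ⟨G.e x, by rw [← Scheme.Hom.comp_apply, e_s']; rfl, by rw [← Scheme.Hom.comp_apply, e_t']; rfl⟩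

lemma saturation_invariant (G : Grpd.GroupoidScheme S) (W : Set G.U) :
    ⇑G.s ⁻¹' (⇑G.t '' (⇑G.s ⁻¹' W)) = ⇑G.t ⁻¹' (⇑G.t '' (⇑G.s ⁻¹' W)) := by
  ext r
  constructor
  · rintro ⟨a, ha, e⟩
    obtain ⟨b, hb1, hb2⟩ := exists_inv G r
    obtain ⟨c, hc1, hc2⟩ := exists_comp G (a := r) (b := a) e.symm
    exact ⟨c, by simp only [Set.mem_preimage, hc1]; exact ha, hc2⟩
  · rintro ⟨a, ha, e⟩
    obtain ⟨b, hb1, hb2⟩ := exists_inv G r
    obtain ⟨c, hc1, hc2⟩ := exists_comp G (a := b) (b := a) (hb1.trans e.symm)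
    exact ⟨c, by simp only [Set.mem_preimage, hc1]; exact ha, hc2.trans hb2⟩

lemma subset_saturation (G : Grpd.GroupoidScheme S) (W : Set G.U) :
    W ⊆ ⇑G.t '' (⇑G.s ⁻¹' W) := by
  intro x hx
  obtain ⟨c, hc1, hc2⟩ := exists_unit G x
  exact ⟨c, by simp only [Set.mem_preimage, hc1]; exact hx, hc2⟩

end Groth.Agent.Grpd80
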