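import Groth.Agent.Grpd80.GrpdPoints
import Mathlib.RingTheory.Finiteness.Projective
import Mathlib.LinearAlgebra.Basis.VectorSpace
import Mathlib.RingTheory.Localization.Integer
import Mathlib.RingTheory.LocalRing.ResidueField.Ideal

set_option autoImplicit false
universe u
open Matrix
open scoped TensorProduct

namespace Groth.Agent.Grpd80.GrpdRing

variable {C A B P : Type u} [CommRing C] [CommRing A] [Algebra C A] [CommRing B] [Algebra C B]
  [CommRing P] [Algebra C P] (G : GrpdRing C A B P)

/-- The coordinates of the elements `t (a i)`. -/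
def colMat {r : ℕ} (a : Fin r → A) : Matrix (Fin G.n) (Fin r) A :=
  Matrix.of fun k i => G.l k (G.t (a i))

lemma N_one_mulVec_coord (b : B) : G.N 1 *ᵥ G.coord b = G.coord b := by
  rw [← G.coord_mul, one_mul]

lemma N_one_colMat {r : ℕ} (a : Fin r → A) : G.N 1 * G.colMat a = G.colMat a := by
  ext k i
  exact congrFun (G.N_one_mulVec_coord (G.t (a i))) k

lemma map_s_colMat {r : ℕ} (a : Fin r → A) :
    (G.colMat a).map G.s = G.compU 1 * (G.colMat a).map G.t := by
  ext k i
  simp only [Matrix.mul_apply, Matrix.map_apply, colMat, Matrix.of_apply, ← G.lμ_apply, ← G.lp_apply,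
    compU, LinearMap.coe_mk, AddHom.coe_mk, map_one, one_mul]
  conv_lhs => rw [G.μ_t, ← G.frame_p (G.p₁ (G.t (a i))), map_sum]
  refine Finset.sum_congr rfl fun j _ => ?_
  rw [G.lμ_smul, mul_comm]

lemma map_t_colMat {r : ℕ} (a : Fin r → A) :
    (G.colMat a).map G.t = G.compV * (G.colMat a).map G.s := by
  ext k i
  simp only [Matrix.mul_apply, Matrix.map_apply, colMat, Matrix.of_apply, ← G.lμ_apply, ← G.lp_apply,
    compV]
  conv_lhs => rw [← G.μ_t, ← G.frame_μ (G.μ (G.t (a i))), map_sum]
  refine Finset.sum_congr rfl fun j _ => ?_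
  rw [G.lp_smul, mul_comm]

/-- The elements `t (a i)` form a basis after base change along `χ`. -/
def IsBasisOver {K : Type*} [CommRing K] (χ : A →+* K) {r : ℕ} (a : Fin r → A) : Prop :=
  ∃ W : Matrix (Fin r) (Fin G.n) K,
    (G.colMat a).map χ * W = (G.N 1).map χ ∧ W * (G.colMat a).map χ = 1

lemma IsBasisOver.comp {K L : Type*} [CommRing K] [CommRing L] {χ : A →+* K} {r : ℕ} {a : Fin r → A}
    (h : G.IsBasisOver χ a) (j : K →+* L) : G.IsBasisOver (j.comp χ) a := by
  obtain ⟨W, h1, h2⟩ := h
  refine ⟨W.map j, ?_, ?_⟩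
  · rw [show (G.colMat a).map (j.comp χ) = ((G.colMat a).map χ).map j from (Matrix.map_map ..).symm,
      show (G.N 1).map (j.comp χ) = ((G.N 1).map χ).map j from (Matrix.map_map ..).symm,
      ← Matrix.map_mul, h1]
  · rw [show (G.colMat a).map (j.comp χ) = ((G.colMat a).map χ).map j from (Matrix.map_map ..).symm,
      ← Matrix.map_mul, h2, Matrix.map_one _ (map_zero j) (map_one j)]

lemma IsBasisOver.of_comp {K L : Type*} [Field K] [CommRing L] [Nontrivial L] {χ : A →+* K} {r : ℕ}
    {a : Fin r → A} (j : K →+* L) (h : G.IsBasisOver (j.comp χ) a) : G.IsBasisOver χ a := by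
  obtain ⟨W, h1, h2⟩ := h
  letI := j.toAlgebra
  obtain ⟨π, hπ⟩ := LinearMap.exists_leftInverse_of_injective (Algebra.linearMap K L)
    (LinearMap.ker_eq_bot.mpr j.injective)
  have hπj : ∀ x, π (j x) = x := fun x => LinearMap.congr_fun hπ x
  have hmul : ∀ x y, π (j x * y) = x * π y := fun x y => by
    rw [show j x * y = x • y from (Algebra.smul_def x y).symm, map_smul, smul_eq_mul]
  refine ⟨W.map π, ?_, ?_⟩
  · ext k i
    have h := congr(π ($h1 k i))
    simpa [Matrix.mul_apply, Matrix.map_apply, hmul, hπj, map_sum] using h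
  · ext k i
    have h := congr(π ($h2 k i))
    simp only [Matrix.mul_apply, Matrix.map_apply, map_sum, RingHom.comp_apply] at h ⊢
    refine (Finset.sum_congr rfl fun l _ => ?_).trans (h.trans ?_)
    · rw [mul_comm (W k l), hmul, mul_comm]
    · rcases eq_or_ne k i with rfl | hki
      · simpa using hπj 1
      · simp [hki]

/-- Being a basis is invariant along arrows. -/
lemma IsBasisOver.arrow {K : Type*} [CommRing K] (ρ : B →+* K) {r : ℕ} {a : Fin r → A}
    (h : G.IsBasisOver (ρ.comp (G.s : A →+* B)) a) : G.IsBasisOver (ρ.comp (G.t : A →+* B)) a := by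
  obtain ⟨W, h1, h2⟩ := h
  have cmp : ∀ (φ : A →ₐ[C] B) {m l : ℕ} (X : Matrix (Fin m) (Fin l) A),
      X.map (ρ.comp (φ : A →+* B)) = (X.map φ).map ρ := fun φ _ _ X => (Matrix.map_map ..).symm
  rw [cmp] at h1 h2
  rw [cmp G.s (G.N 1), G.map_s_N, Matrix.map_mul] at h1
  have hts := congr(($(G.map_t_colMat a)).map ρ)
  have hst := congr(($(G.map_s_colMat a)).map ρ)
  rw [Matrix.map_mul] at hts hst
  refine ⟨W * (G.compU 1).map ρ, ?_, ?_⟩
  · rw [cmp, cmp, G.map_t_N (by simp), Matrix.map_mul, hts]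
    set V := G.compV.map ρ
    set U := (G.compU 1).map ρ
    have hidem : V * U * (V * U) = V * U := by
      rw [← Matrix.map_mul (f := ρ), ← G.map_t_N (by simp), ← Matrix.map_mul, ← Matrix.map_mul,
        G.N_mul, one_mul]
    rw [Matrix.mul_assoc, ← Matrix.mul_assoc _ W U, h1]
    simpa [Matrix.mul_assoc] using hidem
  · rw [cmp, Matrix.mul_assoc, ← hst, h2]

/-- The functions away from whose zeros the `t (a i)` form a basis. -/
def basisIdeal {r : ℕ} (a : Fin r → A) : Ideal A where
  carrier := {f | ∃ X : Matrix (Fin r) (Fin G.n) A,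
    G.colMat a * X = f • G.N 1 ∧ X * G.colMat a = f • 1}
  add_mem' := by
    rintro f f' ⟨X, h1, h2⟩ ⟨X', h1', h2'⟩
    exact ⟨X + X', by rw [Matrix.mul_add, h1, h1', add_smul],
      by rw [Matrix.add_mul, h2, h2', add_smul]⟩
  zero_mem' := ⟨0, by simp, by simp⟩
  smul_mem' := by
    rintro g f ⟨X, h1, h2⟩
    exact ⟨g • X, by rw [Matrix.mul_smul, h1, smul_smul, smul_eq_mul],
      by rw [Matrix.smul_mul, h2, smul_smul, smul_eq_mul]⟩

lemma not_basisIdeal_le (p : Ideal A) [p.IsPrime] {r : ℕ} (a : Fin r → A)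
    (h : G.IsBasisOver (algebraMap A p.ResidueField) a) : ¬ G.basisIdeal a ≤ p := by
  classical
  obtain ⟨W, h1, h2⟩ := h
  set χ := algebraMap A p.ResidueField
  obtain ⟨d, hd⟩ := IsLocalization.exist_integer_multiples_of_finite (nonZeroDivisors (A ⧸ p))
    (fun x : Fin r × Fin G.n => W x.1 x.2)
  choose y hy using fun x => RingHom.mem_rangeS.mp (hd x)
  choose w hw using fun x => Ideal.Quotient.mk_surjective (y x)
  obtain ⟨d₀, hd₀⟩ := Ideal.Quotient.mk_surjective (d : A ⧸ p)
  let W₁ : Matrix (Fin r) (Fin G.n) A := Matrix.of fun i k => w (i, k)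
  have hd0 : χ d₀ ≠ 0 := by
    rw [Ne, Ideal.algebraMap_residueField_eq_zero, ← Ideal.Quotient.eq_zero_iff_mem, hd₀]
    exact nonZeroDivisors.coe_ne_zero d
  have hW₁ : W₁.map χ = χ d₀ • W := by
    ext i k
    have := hy (i, k)
    rw [Algebra.smul_def, ← hw, ← hd₀] at this
    simpa [W₁, χ, ← IsScalarTower.algebraMap_apply, ← Ideal.Quotient.algebraMap_eq] using this
  set e := G.N 1
  set M := G.colMat a
  have hee : e * e = e := by rw [G.N_mul, one_mul]
  have heM : e * M = M := G.N_one_colMat a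
  have heχ : e.map χ * M.map χ = M.map χ := by rw [← Matrix.map_mul, heM]
  set K := W₁ * e * M
  set X := adjugate K * W₁ * e
  set δ := det K
  set F := δ • e - M * X
  have hXM : X * M = δ • 1 := by
    rw [show X * M = adjugate K * K by simp only [X, K, Matrix.mul_assoc], adjugate_mul]
  have hXe : X * e = X := by simp only [X, Matrix.mul_assoc, hee]
  have hFF : F * F = δ • F := by
    simp only [F, Matrix.sub_mul, Matrix.mul_sub, Matrix.smul_mul, Matrix.mul_smul, hee,
      Matrix.mul_assoc, hXe, ← Matrix.mul_assoc e M X, heM]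
    rw [← Matrix.mul_assoc X M X, hXM, Matrix.smul_mul, Matrix.one_mul, Matrix.mul_smul]
    simp only [smul_sub]
    abel
  have hFd : det (δ • 1 - F) • F = 0 := by
    have h0 : (δ • (1 : Matrix (Fin G.n) (Fin G.n) A) - F) * F = 0 := by
      rw [Matrix.sub_mul, hFF, Matrix.smul_mul, Matrix.one_mul, sub_self]
    rw [show det (δ • 1 - F) • F =
      (det (δ • 1 - F) • (1 : Matrix (Fin G.n) (Fin G.n) A)) * F by rw [Matrix.smul_mul, Matrix.one_mul],
      ← adjugate_mul, Matrix.mul_assoc, h0, Matrix.mul_zero]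
  intro hle
  have hmem : det (δ • 1 - F) * δ ∈ G.basisIdeal a := by
    refine ⟨det (δ • 1 - F) • X, ?_, ?_⟩
    · rw [Matrix.mul_smul, mul_smul, ← sub_eq_zero, ← smul_sub, ← neg_sub (δ • e), smul_neg]
      exact neg_eq_zero.mpr hFd
    · rw [Matrix.smul_mul, hXM, smul_smul]
  have hKχ : K.map χ = χ d₀ • (1 : Matrix (Fin r) (Fin r) p.ResidueField) := by
    simp only [K, Matrix.map_mul, hW₁, Matrix.smul_mul, Matrix.mul_assoc, heχ, h2]
  have hδ : χ δ = χ d₀ ^ r := by
    rw [show χ δ = det (K.map χ) from RingHom.map_det χ K, hKχ, det_smul, det_one, mul_one,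
      Fintype.card_fin]
  have hX : M.map χ * X.map χ = χ δ • e.map χ := by
    have hadj : (adjugate K).map χ * (χ d₀ • (1 : Matrix (Fin r) (Fin r) p.ResidueField)) =
        χ δ • 1 := by
      rw [← hKχ, ← Matrix.map_mul, adjugate_mul]
      ext i k
      simp [Matrix.one_apply, apply_ite χ, δ]
    simp only [X, Matrix.map_mul, hW₁, Matrix.mul_smul, Matrix.smul_mul, Matrix.mul_one] at hadj ⊢
    rw [← Matrix.mul_smul, ← Matrix.smul_mul, ← Matrix.smul_mul, hadj]
    simp only [Matrix.smul_mul, Matrix.one_mul, Matrix.mul_smul, ← Matrix.mul_assoc, h1,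
      ← Matrix.map_mul, hee]
  have hFχ : F.map χ = 0 := by
    rw [show F.map χ = χ δ • e.map χ - M.map χ * X.map χ by
      ext i k; simp [F, Matrix.mul_apply, map_sum], hX, sub_self]
  have h0 := Ideal.algebraMap_residueField_eq_zero.mpr (hle hmem)
  have hmap : (δ • (1 : Matrix (Fin G.n) (Fin G.n) A) - F).map χ = χ δ • 1 := by
    rw [show (δ • (1 : Matrix (Fin G.n) (Fin G.n) A) - F).map χ = χ δ • 1 - F.map χ by
      ext i k; simp [Matrix.one_apply, apply_ite χ], hFχ, sub_zero]
  change χ _ = 0 at h0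
  rw [map_mul, RingHom.map_det, RingHom.mapMatrix_apply, hmap, det_smul, det_one, mul_one, hδ] at h0
  simp [hd0] at h0

/-- At a point, some `t (a i)` form a basis of the fibre. -/
lemma exists_isBasisOver (hgen : ∀ b, b ∈ AddSubgroup.closure {y | ∃ a a', y = G.s a * G.t a'})
    {K : Type*} [Field K] (χ : A →+* K) : ∃ (r : ℕ) (a : Fin r → A), G.IsBasisOver χ a := by
  classical
  let v : A → Fin G.n → K := fun a k => χ (G.l k (G.t a))
  obtain ⟨T, hTsub, hTspan, hTli⟩ := exists_linearIndependent K (Set.range v)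
  have : Finite T := hTli.finite
  obtain ⟨r, ⟨σ⟩⟩ := Finite.exists_equiv_fin T
  choose a ha using fun i : Fin r => hTsub (σ.symm i).2
  refine ⟨r, a, ?_⟩
  set M := (G.colMat a).map χ
  set e := (G.N 1).map χ
  have hcol : M.col = fun i => ((σ.symm i : T) : Fin G.n → K) := by
    funext i k; rw [← ha i]; rfl
  have hli : LinearIndependent K M.col := by
    rw [hcol]; exact hTli.comp _ σ.symm.injective
  have hinj : LinearMap.ker (Matrix.toLin' M) = ⊥ :=
    LinearMap.ker_eq_bot.mpr (Matrix.mulVec_injective_iff.mpr hli)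
  have hrange : ∀ b, (fun k => χ (G.l k b)) ∈ LinearMap.range (Matrix.toLin' M) := by
    intro b
    have hb : (fun k => χ (G.l k b)) ∈ Submodule.span K (Set.range v) := by
      refine AddSubgroup.closure_induction (p := fun b _ => (fun k => χ (G.l k b)) ∈ Submodule.span K (Set.range v))
        ?_ ?_ ?_ ?_ (hgen b)
      · rintro _ ⟨a', a'', rfl⟩
        have : (fun k => χ (G.l k (G.s a' * G.t a''))) = χ a' • v a'' := by
          funext k; simp [v, G.l_smul]
        rw [this]
        exact Submodule.smul_mem _ _ (Submodule.subset_span ⟨a'', rfl⟩)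
      · convert Submodule.zero_mem _ using 1
        funext k; simp
      · intro x y _ _ hx hy
        convert Submodule.add_mem _ hx hy using 1
        funext k; simp
      · intro x _ hx
        convert Submodule.neg_mem _ hx using 1
        funext k; simp
    rw [← hTspan] at hb
    rw [Matrix.range_toLin']
    refine Submodule.span_mono ?_ hb
    intro y hy
    exact ⟨σ ⟨y, hy⟩, by simp [hcol]⟩
  obtain ⟨L, hL⟩ := LinearMap.exists_leftInverse_of_injective _ hinj
  have heM : e * M = M := by
    rw [← Matrix.map_mul, G.N_one_colMat]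
  have hLM : LinearMap.toMatrix' L * M = 1 := by
    apply Matrix.toLin'.injective
    rw [Matrix.toLin'_mul, Matrix.toLin'_toMatrix', hL, Matrix.toLin'_one]
  refine ⟨LinearMap.toMatrix' L * e, ?_, by rw [Matrix.mul_assoc, heM, hLM]⟩
  refine Matrix.ext_of_mulVec_single fun j => ?_
  obtain ⟨z, hz⟩ := hrange (G.x j)
  have hej : e *ᵥ Pi.single j 1 = M *ᵥ z := by
    rw [← Matrix.toLin'_apply M z, hz]
    funext k
    simp [e, N_apply]
  change (M * (LinearMap.toMatrix' L * e)) *ᵥ Pi.single j 1 = e *ᵥ Pi.single j 1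
  rw [← Matrix.mulVec_mulVec, ← Matrix.mulVec_mulVec, hej, Matrix.mulVec_mulVec z _ M, hLM,
    Matrix.one_mulVec]

variable (hC : G.IsInvariants) (hinj : Function.Injective (algebraMap C A))
  (hgen : ∀ b, b ∈ AddSubgroup.closure {y | ∃ a a', y = G.s a * G.t a'})

include hC hinj hgen

/-- Around each prime of `C`, the `t (a i)` form a basis. -/
lemma exists_local_basis (q : Ideal C) [q.IsPrime] :
    ∃ (c : C) (r : ℕ) (a : Fin r → A), c ∉ q ∧ algebraMap C A c ∈ G.basisIdeal a := by
  have := G.isIntegral hC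
  obtain ⟨p₀, -, hp₀, hp₀q⟩ := Ideal.exists_ideal_over_prime_of_isIntegral q (⊥ : Ideal A)
    (by rw [Ideal.comap_bot_of_injective _ hinj]; exact bot_le)
  obtain ⟨r, a, ha⟩ := G.exists_isBasisOver hgen (algebraMap A p₀.ResidueField)
  suffices h : ¬ (G.basisIdeal a).comap (algebraMap C A) ≤ q by
    obtain ⟨c, hc, hcq⟩ := SetLike.not_le_iff_exists.mp h
    exact ⟨c, r, a, hcq, hc⟩
  intro hle
  obtain ⟨p, hJp, hp, hpq⟩ := Ideal.exists_ideal_over_prime_of_isIntegral q _ hle
  refine G.not_basisIdeal_le p a ?_ hJp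
  obtain ⟨Q, hQ, hQs, hQt⟩ := G.exists_arrow hC p p₀ (hpq.trans hp₀q.symm)
  let ρ : B →+* Q.ResidueField := algebraMap B Q.ResidueField
  let j₀ := Ideal.ResidueField.map p₀ Q (G.s : A →+* B) hQs.symm
  let j := Ideal.ResidueField.map p Q (G.t : A →+* B) hQt.symm
  have e₀ : j₀.comp (algebraMap A p₀.ResidueField) = ρ.comp (G.s : A →+* B) := by
    ext x; exact Ideal.ResidueField.map_algebraMap ..
  have e₁ : j.comp (algebraMap A p.ResidueField) = ρ.comp (G.t : A →+* B) := by
    ext x; exact Ideal.ResidueField.map_algebraMap ..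
  refine IsBasisOver.of_comp G j ?_
  rw [e₁]
  refine IsBasisOver.arrow G ρ ?_
  rw [← e₀]
  exact IsBasisOver.comp G ha j₀

omit hgen in
/-- Consequences of a basis away from the zeros of `c`. -/
lemma local_decomposition {c : C} {r : ℕ} {a : Fin r → A} (hc : algebraMap C A c ∈ G.basisIdeal a) :
    ∃ (φ : Fin r → B →ₗ[C] A) (γ : Fin r → A →ₗ[C] C),
      (∀ i a' b, φ i (G.s a' * b) = a' * φ i b) ∧
      (∀ b, ∑ i, G.s (φ i b) * G.t (a i) = c • b) ∧
      (∀ z, ∑ i, γ i z • a i = (c * c) • z) ∧
      ∀ i z, algebraMap C A (γ i z) = c • φ i (G.t z) := by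
  classical
  obtain ⟨X, h1, h2⟩ := hc
  let φ : Fin r → B →ₗ[C] A := fun i =>
    ∑ k, (LinearMap.mulLeft C (X i k)).comp (G.l k)
  have hφ : ∀ i b, φ i b = (X *ᵥ G.coord b) i := fun i b => by
    simp [φ, Matrix.mulVec, dotProduct, coord]
  have hlin : ∀ i a' b, φ i (G.s a' * b) = a' * φ i b := fun i a' b => by
    simp [φ, G.l_smul, Finset.mul_sum, mul_left_comm]
  have hsum : ∀ b, ∑ i, G.s (φ i b) * G.t (a i) = c • b := by
    intro b
    have hco : G.colMat a *ᵥ (X *ᵥ G.coord b) = algebraMap C A c • G.coord b := by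
      rw [Matrix.mulVec_mulVec, h1, Matrix.smul_mulVec, G.N_one_mulVec_coord]
    rw [← G.frame (∑ i, G.s (φ i b) * G.t (a i)), ← G.frame (c • b)]
    refine Finset.sum_congr rfl fun k _ => ?_
    congr 2
    rw [map_sum, map_smul, Algebra.smul_def]
    refine Eq.trans ?_ (congrFun hco k)
    simp only [G.l_smul, hφ, Matrix.mulVec, dotProduct, colMat, Matrix.of_apply]
    exact Finset.sum_congr rfl fun i _ => mul_comm _ _
  have hdual : ∀ i j, φ i (G.t (a j)) = if i = j then algebraMap C A c else 0 := by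
    intro i j
    have h := congrFun (congrFun h2 i) j
    rw [Matrix.mul_apply] at h
    rw [hφ]
    simpa [Matrix.mulVec, dotProduct, colMat, coord, Matrix.one_apply] using h
  have hinv : ∀ i z, c • φ i (G.t z) ∈ (algebraMap C A).range := by
    intro i z
    set al : Fin r → A := fun i => φ i (G.t z)
    have h0 : ∑ i, G.p₂ (G.s (al i)) * G.p₁ (G.t (a i)) =
        ∑ i, G.p₂ (G.t (al i)) * G.p₁ (G.t (a i)) := by
      have h1 := congrArg (c • ·) (G.μ_t z)
      simp only [← map_smul] at h1
      rw [map_smul G.t, ← hsum (G.t z), map_sum, map_sum] at h1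
      simpa only [map_mul, G.μ_s, G.μ_t, G.p₁_s, al] using h1
    have hlin' : ∀ y : Fin r → P, G.coordExt (φ i) (∑ j, y j) = ∑ j, G.coordExt (φ i) (y j) := by
      intro y
      simp only [coordExt, map_sum, Finset.mul_sum]
      exact Finset.sum_comm
    have key : ∀ β : Fin r → B,
        G.coordExt (φ i) (∑ j, G.p₂ (β j) * G.p₁ (G.t (a j))) = c • β i := by
      intro β
      rw [hlin', Finset.sum_eq_single i]
      · rw [G.coordExt_mul, G.coordExt_p₁ (φ i) (hlin i), hdual, if_pos rfl, G.t.commutes,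
          Algebra.smul_def, mul_comm]
      · intro j _ hj
        rw [G.coordExt_mul, G.coordExt_p₁ (φ i) (hlin i), hdual, if_neg (Ne.symm hj), map_zero,
          mul_zero]
      · simp
    have h3 := congr(G.coordExt (φ i) $h0)
    rw [key, key] at h3
    exact hC _ (by rw [map_smul, map_smul]; exact h3)
  choose g hg using hinv
  have hmul : ∀ i (x : C) z, algebraMap C A x * φ i (G.t z) = φ i (G.t (x • z)) := fun i x z => by
    rw [map_smul, map_smul, Algebra.smul_def]
  let γ : Fin r → A →ₗ[C] C := fun i =>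
    { toFun := g i
      map_add' := fun z z' => hinj (by rw [map_add, hg, hg, hg, map_add, map_add, smul_add])
      map_smul' := fun x z => hinj (by
        rw [smul_eq_mul, RingHom.id_apply, map_mul, hg, hg, map_smul, map_smul, smul_comm,
          Algebra.smul_def x]) }
  refine ⟨φ, γ, hlin, hsum, fun z => ?_, hg⟩
  have h2 := congr(G.ε $(hsum (G.t z)))
  rw [map_sum, map_smul, G.ε_t] at h2
  simp only [map_mul, G.ε_s, G.ε_t] at h2
  rw [← smul_smul, ← h2, Finset.smul_sum]
  refine Finset.sum_congr rfl fun i _ => ?_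
  change g i z • a i = _
  rw [Algebra.smul_def, hg, smul_mul_assoc]

/-- An affine groupoid that is an equivalence relation is the kernel pair of a finite projective
map to its invariants. -/
theorem finite_projective_bijective :
    Module.Finite C A ∧ Module.Projective C A ∧
      ∀ Φ : A ⊗[C] A →ₗ[C] B, (∀ a a', Φ (a ⊗ₜ a') = G.t a * G.s a') → Function.Bijective Φ := by
  classical
  let good : Set C := {d | ∃ (c : C) (r : ℕ) (a : Fin r → A),
    algebraMap C A c ∈ G.basisIdeal a ∧ d = c * c}
  have htop : Ideal.span good = ⊤ := by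
    by_contra hne
    obtain ⟨m, hm, hle⟩ := Ideal.exists_le_maximal _ hne
    obtain ⟨c, r, a, hcm, hc⟩ := G.exists_local_basis hC hinj hgen m
    exact hcm ((hm.isPrime.mem_or_mem (hle (Ideal.subset_span ⟨c, r, a, hc, rfl⟩))).elim id id)
  obtain ⟨n, w, d, hd⟩ := Submodule.mem_span_set'.mp
    ((Ideal.eq_top_iff_one _).mp htop : (1 : C) ∈ Submodule.span C good)
  choose c r a hc hdc using fun k => (d k).2
  choose φ γ hlin hsum hγ hγφ using fun k => G.local_decomposition hC hinj (hc k)
  have hone : ∑ k, w k * (c k * c k) = 1 := by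
    simpa [← hdc] using hd
  let inc : A →ₗ[C] ((Σ k, Fin (r k)) → C) := LinearMap.pi fun x => γ x.1 x.2
  let proj : ((Σ k, Fin (r k)) → C) →ₗ[C] A :=
    Fintype.linearCombination C fun x => w x.1 • a x.1 x.2
  have hret : proj.comp inc = LinearMap.id := by
    refine LinearMap.ext fun z => ?_
    simp only [proj, inc, LinearMap.comp_apply, Fintype.linearCombination_apply, LinearMap.pi_apply,
      LinearMap.id_coe, id_eq, Fintype.sum_sigma]
    calc ∑ k, ∑ i, γ k i z • w k • a k i
        = ∑ k, (w k * (c k * c k)) • z := Finset.sum_congr rfl fun k _ => by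
          rw [mul_smul, ← hγ k z, Finset.smul_sum]
          exact Finset.sum_congr rfl fun i _ => smul_comm _ _ _
      _ = z := by rw [← Finset.sum_smul, hone, one_smul]
  refine ⟨Module.Finite.of_surjective proj fun z => ⟨inc z, LinearMap.congr_fun hret z⟩,
    Module.Projective.of_split inc proj hret, fun Φ hΦ => ⟨?_, ?_⟩⟩
  · rw [injective_iff_map_eq_zero]
    intro y hy
    have key : ∀ k, (c k * c k) • y = 0 := by
      intro k
      let ψ : B →ₗ[C] A ⊗[C] A := ∑ i, (TensorProduct.mk C A A (a k i)).comp (φ k i)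
      have hψ : ∀ y : A ⊗[C] A, c k • ψ (Φ y) = (c k * c k) • y := by
        intro y
        induction y with
        | zero => simp
        | add y y' h h' => rw [map_add, map_add, smul_add, smul_add, h, h']
        | tmul z z' =>
          rw [hΦ, mul_comm (G.t z)]
          simp only [ψ, LinearMap.sum_apply, LinearMap.comp_apply, TensorProduct.mk_apply, hlin,
            Finset.smul_sum, ← TensorProduct.tmul_smul, ← mul_smul_comm, ← hγφ]
          rw [← TensorProduct.smul_tmul, ← hγ, TensorProduct.sum_tmul]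
          refine Finset.sum_congr rfl fun i _ => ?_
          rw [TensorProduct.smul_tmul, Algebra.smul_def, mul_comm]
      rw [← hψ y, hy, map_zero, smul_zero]
    rw [← one_smul C y, ← hone, Finset.sum_smul]
    exact Finset.sum_eq_zero fun k _ => by rw [← smul_smul, key, smul_zero]
  · intro b
    refine ⟨∑ k, (w k * c k) • ∑ i, a k i ⊗ₜ[C] φ k i b, ?_⟩
    simp only [map_sum, map_smul, hΦ]
    have hk : ∀ k, ∑ i, G.t (a k i) * G.s (φ k i b) = c k • b := fun k => by
      rw [← hsum k b]
      exact Finset.sum_congr rfl fun i _ => mul_comm _ _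
    simp only [hk, smul_smul, mul_assoc, ← Finset.sum_smul, hone, one_smul]

end Groth.Agent.Grpd80.GrpdRing
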