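import Groth.Agent.Grpd80.Bridge
import Groth.Agent.Grpd80.EquivRel
import Mathlib.Algebra.Category.Ring.Epi
import Mathlib.AlgebraicGeometry.Pullbacks
import Mathlib.AlgebraicGeometry.Morphisms.Finite
import Mathlib.AlgebraicGeometry.Morphisms.Flat
import Mathlib.AlgebraicGeometry.Morphisms.FinitePresentation
import Mathlib.RingTheory.Finiteness.ModuleFinitePresentation

set_option autoImplicit false
universe u
open CategoryTheory CategoryTheory.Limits AlgebraicGeometry
open scoped TensorProduct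

namespace Groth.Agent.Grpd80

variable {S : Scheme.{u}} (G : Grpd.GroupoidScheme S) [IsAffine G.U] [IsAffine G.R]

/-- With `j` a monomorphism, functions on arrows are spanned by products of pullbacks along `s`, `t`. -/
lemma closure_eq_top_of_mono [IsFinite G.s] [Mono G.j] (b : Γ(G.R, ⊤)) :
    b ∈ AddSubgroup.closure {y | ∃ a a', y = G.s.appTop.hom a * G.t.appTop.hom a'} := by
  let σ : Γ(G.U, ⊤) →ₐ[ℤ] Γ(G.R, ⊤) := G.s.appTop.hom.toIntAlgHom
  let τ : Γ(G.U, ⊤) →ₐ[ℤ] Γ(G.R, ⊤) := G.t.appTop.hom.toIntAlgHom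
  let φ : Γ(G.U, ⊤) ⊗[ℤ] Γ(G.U, ⊤) →ₐ[ℤ] Γ(G.R, ⊤) :=
    Algebra.TensorProduct.lift σ τ (fun _ _ => Commute.all _ _)
  let f : CommRingCat.of (Γ(G.U, ⊤) ⊗[ℤ] Γ(G.U, ⊤)) ⟶ Γ(G.R, ⊤) := CommRingCat.ofHom φ.toRingHom
  have hfin : RingHom.Finite f.hom := by
    refine RingHom.Finite.of_comp_finite (f := (Algebra.TensorProduct.includeLeftRingHom :
      Γ(G.U, ⊤) →+* Γ(G.U, ⊤) ⊗[ℤ] Γ(G.U, ⊤))) ?_
    convert G.s.finite_appTop using 1
    ext a
    simp [f, φ, σ]
  have : Epi f := by
    refine ⟨fun {K} g h hgh => ?_⟩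
    have hs : G.s.appTop ≫ g = G.s.appTop ≫ h := by
      ext a
      simpa [f, φ, σ] using congr(($hgh).hom (a ⊗ₜ 1))
    have ht : G.t.appTop ≫ g = G.t.appTop ≫ h := by
      ext a
      simpa [f, φ, τ] using congr(($hgh).hom (1 ⊗ₜ a))
    have hpt : ∀ (g : Γ(G.R, ⊤) ⟶ K) (π : G.R ⟶ G.U), (Spec.map g ≫ G.R.isoSpec.inv) ≫ π =
        Spec.map (π.appTop ≫ g) ≫ G.U.isoSpec.inv := fun g π => by
      rw [Category.assoc, ← Scheme.isoSpec_inv_naturality, ← Category.assoc, ← Spec.map_comp]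
    refine Spec.map_injective ((cancel_mono G.R.isoSpec.inv).mp ((cancel_mono G.j).mp ?_))
    apply pullback.hom_ext
    · simp only [Category.assoc, Grpd.GroupoidScheme.j, pullback.lift_fst]
      rw [← Category.assoc, ← Category.assoc, hpt, hpt, ht]
    · simp only [Category.assoc, Grpd.GroupoidScheme.j, pullback.lift_snd]
      rw [← Category.assoc, ← Category.assoc, hpt, hpt, hs]
  obtain ⟨y, rfl⟩ := RingHom.surjective_of_epi_of_finite f hfin b
  refine TensorProduct.induction_on y ?_ ?_ ?_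
  · change φ 0 ∈ _
    rw [map_zero]; exact zero_mem _
  · intro a a'; exact AddSubgroup.subset_closure ⟨a, a', rfl⟩
  · intro y y' h h'
    change φ (y + y') ∈ _
    rw [map_add]; exact add_mem h h'

variable [IsFinite G.s] [Flat G.s] [LocallyOfFinitePresentation G.s] [Mono G.j]

omit [IsAffine G.R] [IsFinite G.s] [Flat G.s] [LocallyOfFinitePresentation G.s] [Mono G.j] in
lemma toQuot_eq : G.toQuot = G.U.isoSpec.hom ≫ Spec.map (CommRingCat.ofHom G.invariants.subtype) :=
  rfl

/-- An affine finite locally free equivalence relation has a finite locally free quotient. -/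
theorem affine_equivRel :
    (IsFinite G.toQuot ∧ Flat G.toQuot ∧ LocallyOfFinitePresentation G.toQuot ∧
      Surjective G.toQuot) ∧ IsPullback G.t G.s G.toQuot G.toQuot := by
  letI := algR G
  letI := algP G
  obtain ⟨D, hs, ht, -⟩ := exists_grpdRing G
  have hC : D.IsInvariants := fun a ha => by
    rw [hs, ht] at ha
    exact ⟨⟨a, ha⟩, rfl⟩
  have hinj : Function.Injective (algebraMap G.invariants Γ(G.U, ⊤)) := Subtype.val_injective
  have hgen : ∀ b, b ∈ AddSubgroup.closure {y | ∃ a a', y = D.s a * D.t a'} := by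
    simp only [hs, ht]
    exact closure_eq_top_of_mono G
  obtain ⟨hfin, hproj, hbij⟩ := D.finite_projective_bijective hC hinj hgen
  have hfp : Algebra.FinitePresentation G.invariants Γ(G.U, ⊤) := by
    have : Module.FinitePresentation G.invariants Γ(G.U, ⊤) :=
      Module.finitePresentation_of_projective _ _
    exact Algebra.FinitePresentation.of_finitePresentation _ _
  let ι := CommRingCat.ofHom G.invariants.subtype
  have hι1 : IsFinite (Spec.map ι) := (IsFinite.SpecMap_iff _).mpr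
    (RingHom.finite_algebraMap.mpr hfin)
  have hι2 : Flat (Spec.map ι) := by
    rw [HasRingHomProperty.Spec_iff (P := @Flat)]
    exact RingHom.flat_algebraMap_iff.mpr inferInstance
  have hι3 : LocallyOfFinitePresentation (Spec.map ι) := by
    rw [HasRingHomProperty.Spec_iff (P := @LocallyOfFinitePresentation)]
    exact RingHom.finitePresentation_algebraMap.mpr hfp
  have hsurj : Surjective (Spec.map ι) := by
    constructor
    intro (q : PrimeSpectrum G.invariants)
    have := D.isIntegral hC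
    obtain ⟨p, -, hp, hpq⟩ := Ideal.exists_ideal_over_prime_of_isIntegral q.asIdeal
      (⊥ : Ideal Γ(G.U, ⊤)) (by rw [Ideal.comap_bot_of_injective _ hinj]; exact bot_le)
    exact ⟨⟨p, hp⟩, PrimeSpectrum.ext hpq⟩
  rw [toQuot_eq]
  refine ⟨⟨inferInstance, inferInstance, inferInstance, inferInstance⟩, ?_⟩
  -- the ring square
  let T : CommRingCat := CommRingCat.of (Γ(G.U, ⊤) ⊗[G.invariants] Γ(G.U, ⊤))
  let e : Γ(G.U, ⊤) ⊗[G.invariants] Γ(G.U, ⊤) →ₐ[G.invariants] Γ(G.R, ⊤) :=
    Algebra.TensorProduct.lift D.t D.s (fun _ _ => Commute.all _ _)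
  let E : T ≅ Γ(G.R, ⊤) := (AlgEquiv.ofBijective e
    (hbij e.toLinearMap fun a a' => by simp [e])).toRingEquiv.toCommRingCatIso
  have hpo : IsPushout ι ι G.t.appTop G.s.appTop := by
    refine (CommRingCat.isPushout_tensorProduct G.invariants Γ(G.U, ⊤) Γ(G.U, ⊤)).of_iso
      (Iso.refl _) (Iso.refl _) (Iso.refl _) E ?_ ?_ ?_ ?_
    · rfl
    · rfl
    · ext a
      change e (a ⊗ₜ 1) = _
      simp [e, ht]
    · ext a
      change e (1 ⊗ₜ a) = _
      simp [e, hs]
  refine (isPullback_SpecMap_of_isPushout _ _ _ _ hpo).of_iso G.R.isoSpec.symm G.U.isoSpec.symm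
    G.U.isoSpec.symm (Iso.refl _) ?_ ?_ ?_ ?_
  · exact Scheme.isoSpec_inv_naturality G.t
  · exact Scheme.isoSpec_inv_naturality G.s
  · rw [Iso.refl_hom, Category.comp_id, Iso.symm_hom, Iso.inv_hom_id_assoc]
  · rw [Iso.refl_hom, Category.comp_id, Iso.symm_hom, Iso.inv_hom_id_assoc]

end Groth.Agent.Grpd80
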