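import Groth.Agent.Grpd80.GlueQuot
import Groth.Agent.Grpd80.AffineEqRel
import Mathlib.AlgebraicGeometry.Morphisms.UniversallyOpen
import Mathlib.AlgebraicGeometry.Morphisms.IsIso

set_option autoImplicit false
universe u
open CategoryTheory CategoryTheory.Limits AlgebraicGeometry TopologicalSpace

namespace Groth.Agent.Grpd80

variable {S : Scheme.{u}} (G : Grpd.GroupoidScheme S) [IsFinite G.s] [Flat G.s]
  [LocallyOfFinitePresentation G.s]

/-- The transition map between charts. -/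
noncomputable def chartMap {W' W : InvAff G} (h : W'.1 ≤ W.1) : chartObj W' ⟶ chartObj W :=
  (exists_transition h).choose

variable {G}

lemma chartQ_chartMap {W' W : InvAff G} (h : W'.1 ≤ W.1) :
    chartQ W' ≫ chartMap G h = G.U.homOfLE h ≫ chartQ W :=
  (exists_transition h).choose_spec.1

lemma range_chartMap {W' W : InvAff G} (h : W'.1 ≤ W.1) :
    Set.range (chartMap G h) = chartQ W '' (W.1.ι ⁻¹ᵁ W'.1 : Set W.1.toScheme) :=
  (exists_transition h).choose_spec.2.2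

instance {W' W : InvAff G} (h : W'.1 ≤ W.1) : IsOpenImmersion (chartMap G h) :=
  (exists_transition h).choose_spec.2.1

variable (G)

/-- The diagram of charts. -/
@[implicit_reducible] noncomputable def chartFunctor : InvAff G ⥤ Scheme.{u} where
  obj W := chartObj W
  map {W' W} h := chartMap G (leOfHom h)
  map_id W := (chartQ_geom W).hom_ext' (by
    rw [chartQ_chartMap, Scheme.homOfLE_rfl, Category.id_comp, Category.comp_id])
  map_comp {W₁ W₂ W₃} f g := (chartQ_geom W₁).hom_ext' (by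
    rw [reassoc_of% chartQ_chartMap (leOfHom f), chartQ_chartMap, chartQ_chartMap,
      ← Category.assoc, Scheme.homOfLE_homOfLE])

instance {W' W : InvAff G} (h : W' ⟶ W) : IsOpenImmersion ((chartFunctor G).map h) :=
  inferInstanceAs (IsOpenImmersion (chartMap G (leOfHom h)))

variable (hb : ∀ x : G.U, ∃ V : G.U.Opens, IsAffineOpen V ∧ ∀ r : G.R, G.s r = x → G.t r ∈ V)

include hb in
lemma exists_chart (x : G.U) {O : G.U.Opens} (hO : IsInv G O) (hx : x ∈ O) :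
    ∃ W : InvAff G, x ∈ W.1 ∧ W.1 ≤ O := by
  obtain ⟨V, hV, hxV⟩ := hb x
  obtain ⟨W, h1, h2, h3, h4⟩ := exists_inv_affine hV hxV hO hx
  exact ⟨⟨W, h1, h4⟩, h2, h3⟩

include hb in
lemma isLocallyDirected : (chartFunctor G ⋙ Scheme.forget).IsLocallyDirected := by
  constructor
  intro i j k fi fj xi xj (h : chartMap G (leOfHom fi) xi = chartMap G (leOfHom fj) xj)
  obtain ⟨x, rfl⟩ := (chartQ_geom i).surj xi
  obtain ⟨y, rfl⟩ := (chartQ_geom j).surj xj
  rw [← Scheme.Hom.comp_apply, ← Scheme.Hom.comp_apply, chartQ_chartMap, chartQ_chartMap,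
    Scheme.Hom.comp_apply, Scheme.Hom.comp_apply, chartQ_eq_iff] at h
  obtain ⟨r, h1, h2⟩ := h
  have hx1 : G.t r = x.1 := h1.trans (homOfLE_pt (leOfHom fi) x)
  have hy1 : G.s r = y.1 := h2.trans (homOfLE_pt (leOfHom fj) y)
  have hxj : x.1 ∈ j.1 := hx1 ▸ (j.2.2.mem_iff r).mp (hy1 ▸ y.2)
  obtain ⟨l, hxl, hle⟩ := exists_chart G hb x.1 (i.2.2.inf j.2.2) ⟨x.2, hxj⟩
  let z : l.1.toScheme := ⟨x.1, hxl⟩
  refine ⟨l, homOfLE (hle.trans inf_le_left), homOfLE (hle.trans inf_le_right), chartQ l z, ?_, ?_⟩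
  · change chartMap G _ (chartQ l z) = chartQ i x
    rw [← Scheme.Hom.comp_apply, chartQ_chartMap, Scheme.Hom.comp_apply]
    congr 1
    exact i.1.ι.isOpenEmbedding.injective (homOfLE_pt _ z)
  · change chartMap G _ (chartQ l z) = chartQ j y
    rw [← Scheme.Hom.comp_apply, chartQ_chartMap, Scheme.Hom.comp_apply, chartQ_eq_iff]
    exact ⟨r, hx1.trans (homOfLE_pt _ z).symm, hy1⟩

/-- Everything we prove about the quotient. -/
structure IsNiceQuot {Y : Scheme.{u}} (p : G.U ⟶ Y) : Prop where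
  w : G.t ≫ p = G.s ≫ p
  desc : ∀ {T : Scheme.{u}} (f : G.U ⟶ T), G.t ≫ f = G.s ≫ f → ∃! g : Y ⟶ T, p ≫ g = f
  integral : IsIntegralHom p
  surj : Surjective p
  isOpenMap : IsOpenMap p
  fibres : ∀ x y : G.U, p x = p y ↔ ∃ r : G.R, G.t r = x ∧ G.s r = y
  lift_surj : Function.Surjective (pullback.lift G.t G.s w)
  affine : IsAffine G.U → IsAffine Y
  mono : Mono G.j → IsPullback G.t G.s p p ∧ IsFinite p ∧ Flat p ∧ LocallyOfFinitePresentation p
  geom : IsGeomQuot G.s G.t p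

omit [IsFinite G.s] [Flat G.s] [LocallyOfFinitePresentation G.s] in
lemma appLE_congr_hom {X Y : Scheme.{u}} {f g : X ⟶ Y} (e : f = g) (V : Y.Opens) (A : X.Opens)
    (h : A ≤ f ⁻¹ᵁ V) (h' : A ≤ g ⁻¹ᵁ V) (a : Γ(Y, V)) : (f.appLE V A h).hom a = (g.appLE V A h').hom a := by
  subst e; rfl

set_option backward.isDefEq.respectTransparency.types false in
include hb in
/-- The quotient of a finite locally free groupoid with classes in affine opens. -/
theorem exists_niceQuot : ∃ (Y : Scheme.{u}) (p : G.U ⟶ Y), IsNiceQuot G p := by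
  have := isLocallyDirected G hb
  let Y := colimit (chartFunctor G)
  have hcov : TopologicalSpace.IsOpenCover (fun W : InvAff G => W.1) :=
    TopologicalSpace.IsOpenCover.mk (top_le_iff.mp fun x _ => by
      obtain ⟨W, hW, -⟩ := exists_chart G hb x (O := ⊤) rfl trivial
      exact Opens.mem_iSup.mpr ⟨W, hW⟩)
  let 𝒰 := G.U.openCoverOfIsOpenCover (fun W : InvAff G => W.1) hcov
  let pW : ∀ W : InvAff G, W.1.toScheme ⟶ Y := fun W => chartQ W ≫ colimit.ι (chartFunctor G) W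
  have hcompat : ∀ (W₁ W₂ : InvAff G) {Z : Scheme.{u}} (a : Z ⟶ W₁.1.toScheme)
      (b : Z ⟶ W₂.1.toScheme), a ≫ W₁.1.ι = b ≫ W₂.1.ι → a ≫ pW W₁ = b ≫ pW W₂ := by
    intro W₁ W₂ Z a b hab
    let O : G.U.Opens := W₁.1 ⊓ W₂.1
    have hmem : ∀ z, W₁.1.ι (a z) ∈ O := fun z => ⟨(a z).2, by
      rw [← Scheme.Hom.comp_apply, hab]; exact (b z).2⟩
    have hcovZ : TopologicalSpace.IsOpenCover
        (fun W : {W : InvAff G // W.1 ≤ O} => (a ≫ W₁.1.ι) ⁻¹ᵁ W.1.1) :=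
      TopologicalSpace.IsOpenCover.mk (top_le_iff.mp fun z _ => by
        obtain ⟨W, hW, hle⟩ := exists_chart G hb _ (W₁.2.2.inf W₂.2.2) (hmem z)
        exact Opens.mem_iSup.mpr ⟨⟨W, hle⟩, hW⟩)
    refine Scheme.Cover.hom_ext (Z.openCoverOfIsOpenCover _ hcovZ) _ _
      fun (W : {W : InvAff G // W.1 ≤ O}) => ?_
    change ((a ≫ W₁.1.ι) ⁻¹ᵁ W.1.1).ι ≫ a ≫ pW W₁ = ((a ≫ W₁.1.ι) ⁻¹ᵁ W.1.1).ι ≫ b ≫ pW W₂
    set O' := (a ≫ W₁.1.ι) ⁻¹ᵁ W.1.1
    let m : O'.toScheme ⟶ W.1.1.toScheme :=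
      IsOpenImmersion.lift W.1.1.ι (O'.ι ≫ a ≫ W₁.1.ι) (by
        rintro _ ⟨z, rfl⟩
        rw [Scheme.Opens.range_ι]
        exact z.2)
    have hm : m ≫ W.1.1.ι = O'.ι ≫ a ≫ W₁.1.ι := IsOpenImmersion.lift_fac _ _ _
    have h1 : O'.ι ≫ a = m ≫ G.U.homOfLE (W.2.trans inf_le_left) := by
      rw [← cancel_mono W₁.1.ι, Category.assoc, Category.assoc, Scheme.homOfLE_ι, hm]
    have h2 : O'.ι ≫ b = m ≫ G.U.homOfLE (W.2.trans inf_le_right) := by
      rw [← cancel_mono W₂.1.ι, Category.assoc, Category.assoc, Scheme.homOfLE_ι, hm, hab]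
    simp only [pW, reassoc_of% h1, reassoc_of% h2]
    rw [← reassoc_of% chartQ_chartMap, ← reassoc_of% chartQ_chartMap]
    have hw : ∀ {A B : InvAff G} (h : A.1 ≤ B.1), chartMap G h ≫ colimit.ι (chartFunctor G) B = colimit.ι (chartFunctor G) A :=
      fun h => colimit.w (chartFunctor G) (homOfLE h)
    rw [hw, hw]
  let p : G.U ⟶ Y := 𝒰.glueMorphisms pW fun W₁ W₂ => hcompat _ _ _ _ pullback.condition
  have hpW : ∀ W : InvAff G, W.1.ι ≫ p = pW W := fun W => 𝒰.ι_glueMorphisms _ _ W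
  have hw : G.t ≫ p = G.s ≫ p := by
    refine Scheme.Cover.hom_ext (G.R.openCoverOfIsOpenCover (fun W : InvAff G => G.s ⁻¹ᵁ W.1)
      (hcov.comap ⟨G.s, G.s.continuous⟩)) _ _ fun (W : InvAff G) => ?_
    change (G.s ⁻¹ᵁ W.1).ι ≫ G.t ≫ p = (G.s ⁻¹ᵁ W.1).ι ≫ G.s ≫ p
    rw [← restrT_ι_assoc W.2.2, ← reassoc_of% morphismRestrict_ι, hpW]
    exact ((Category.assoc _ _ _).symm.trans (congrArg (· ≫ _) (chartQ_geom W).w)).trans (Category.assoc _ _ _)
  have hpt : ∀ (W : InvAff G) (x : W.1.toScheme), p x.1 = colimit.ι (chartFunctor G) W (chartQ W x) := fun W x =>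
    (Scheme.Hom.comp_apply W.1.ι p x).symm.trans
      ((congrArg (fun g : W.1.toScheme ⟶ Y => g x) (hpW W)).trans (Scheme.Hom.comp_apply _ _ _))
  have hsurj : Surjective p := ⟨fun y => by
    obtain ⟨W, m, rfl⟩ := Scheme.IsLocallyDirected.ι_jointly_surjective (chartFunctor G) y
    obtain ⟨x, rfl⟩ := (chartQ_geom W).surj m
    exact ⟨x.1, hpt W x⟩⟩
  have hwpt : ∀ r : G.R, p (G.t r) = p (G.s r) := fun r =>
    (Scheme.Hom.comp_apply _ _ _).symm.trans
      ((congrArg (fun g : G.R ⟶ Y => g r) hw).trans (Scheme.Hom.comp_apply _ _ _))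
  have hfib : ∀ x y : G.U, p x = p y ↔ ∃ r : G.R, G.t r = x ∧ G.s r = y := by
    refine fun x y => ⟨fun h => ?_, fun ⟨r, h1, h2⟩ => h1 ▸ h2 ▸ hwpt r⟩
    obtain ⟨W, hx, -⟩ := exists_chart G hb x (O := ⊤) rfl trivial
    obtain ⟨W', hy, -⟩ := exists_chart G hb y (O := ⊤) rfl trivial
    rw [hpt W ⟨x, hx⟩, hpt W' ⟨y, hy⟩] at h
    obtain ⟨k, fi, fj, z, hz1, hz2⟩ := (Scheme.IsLocallyDirected.ι_eq_ι_iff (chartFunctor G)).mp h
    obtain ⟨z, rfl⟩ := (chartQ_geom k).surj z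
    change chartMap G (leOfHom fi) _ = _ at hz1
    change chartMap G (leOfHom fj) _ = _ at hz2
    rw [← Scheme.Hom.comp_apply, chartQ_chartMap, Scheme.Hom.comp_apply] at hz1 hz2
    obtain ⟨r₁, ha, hb'⟩ := (chartQ_eq_iff _ _).mp hz1.symm
    obtain ⟨r₂, hc, hd⟩ := (chartQ_eq_iff _ _).mp hz2
    obtain ⟨r, h1, h2⟩ := exists_comp G (a := r₁) (b := r₂)
      ((hb'.trans (homOfLE_pt (leOfHom fi) z)).trans ((homOfLE_pt (leOfHom fj) z).symm.trans hc.symm))
    exact ⟨r, h2.trans ha, h1.trans hd⟩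
  have hpre : ∀ W : InvAff G, p ⁻¹ᵁ (colimit.ι (chartFunctor G) W).opensRange = W.1 := by
    intro W
    refine Opens.ext (Set.ext fun x => ⟨?_, fun hx => ⟨chartQ W ⟨x, hx⟩, (hpt W ⟨x, hx⟩).symm⟩⟩)
    rintro ⟨m, hm⟩
    obtain ⟨x', rfl⟩ := (chartQ_geom W).surj m
    obtain ⟨r, h1, h2⟩ := (hfib x'.1 x).mp ((hpt W x').trans hm)
    exact h2 ▸ (W.2.2.mem_iff r).mpr (h1.symm ▸ x'.2)
  have hsq : ∀ W : InvAff G, IsPullback (chartQ W) W.1.ι (colimit.ι (chartFunctor G) W) p := fun W =>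
    IsOpenImmersion.isPullback (chartQ W) W.1.ι (colimit.ι (chartFunctor G) W) p (hpW W)
      ((hpre W).trans (Scheme.Opens.opensRange_ι W.1).symm)
  have hlocal : ∀ (P : MorphismProperty Scheme.{u}) [IsZariskiLocalAtTarget P],
      (∀ W : InvAff G, P (chartQ W)) → P p := fun P _ h =>
    IsZariskiLocalAtTarget.of_openCover (Scheme.IsLocallyDirected.openCover (chartFunctor G)) fun W =>
      (P.cancel_left_of_respectsIso (hsq W).flip.isoPullback.hom _).mp
        (((hsq W).flip.isoPullback_hom_snd).symm ▸ h W :)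
  refine ⟨Y, p, hw, fun {T} f hf => ?_, ?_, hsurj, ?_, hfib, ?_, ?_, ?_, ?_⟩
  · have hd : ∀ W : InvAff G, ∃! g, chartQ W ≫ g = W.1.ι ≫ f := fun W =>
      (chartQ_geom W).existsUnique_desc _ (by
        rw [reassoc_of% morphismRestrict_ι, restrT_ι_assoc, hf])
    choose g hg hguniq using hd
    let c : Cocone (chartFunctor G) := Cocone.mk T
      { app := g
        naturality := fun A B h => by
          dsimp
          rw [Category.comp_id]
          refine hguniq A _ ?_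
          change chartQ A ≫ chartMap G _ ≫ g B = _
          rw [reassoc_of% chartQ_chartMap, hg, Scheme.homOfLE_ι_assoc] }
    refine ⟨colimit.desc (chartFunctor G) c, Scheme.Cover.hom_ext 𝒰 _ _ fun (W : InvAff G) => ?_, fun g' hg' => ?_⟩
    · change W.1.ι ≫ p ≫ colimit.desc (chartFunctor G) c = W.1.ι ≫ f
      rw [reassoc_of% hpW]
      simp only [pW, Category.assoc, colimit.ι_desc]
      exact hg W
    · refine colimit.hom_ext fun W => ?_
      rw [colimit.ι_desc]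
      refine hguniq W _ ?_
      change chartQ W ≫ colimit.ι (chartFunctor G) W ≫ g' = _
      rw [← Category.assoc, show chartQ W ≫ colimit.ι (chartFunctor G) W = W.1.ι ≫ p from (hpW W).symm,
        Category.assoc, hg']
  · exact hlocal (@IsIntegralHom : MorphismProperty Scheme.{u}) fun W => isIntegral_toQuot (chartGrpd W)
  rotate_right
  · -- geometric
    have himg : ∀ O : G.U.Opens, G.s ⁻¹ᵁ O = G.t ⁻¹ᵁ O → IsOpen (p '' (O : Set G.U)) := by
      intro O hO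
      rw [show p '' (O : Set G.U) = ⋃ W : InvAff G,
          colimit.ι (chartFunctor G) W '' (chartQ W '' (W.1.ι ⁻¹ᵁ O : Set W.1.toScheme)) from ?_]
      · refine isOpen_iUnion fun W => (colimit.ι (chartFunctor G) W).isOpenEmbedding.isOpenMap _ ?_
        refine (chartQ_geom W).image_open _ ?_
        rw [← Scheme.Hom.comp_preimage, ← Scheme.Hom.comp_preimage, morphismRestrict_ι, restrT_ι,
          Scheme.Hom.comp_preimage, Scheme.Hom.comp_preimage, hO]
      · ext y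
        simp only [Set.mem_iUnion]
        constructor
        · rintro ⟨x, hx, rfl⟩
          obtain ⟨W, hxW, -⟩ := exists_chart G hb x (O := ⊤) rfl trivial
          exact ⟨W, _, ⟨⟨x, hxW⟩, hx, rfl⟩, (hpt W ⟨x, hxW⟩).symm⟩
        · rintro ⟨W, _, ⟨x, hx, rfl⟩, rfl⟩
          exact ⟨x.1, hx, hpt W x⟩
    refine ⟨hw, hsurj.surj, fun x y h => (hfib x y).1 h, himg, fun O y hy => ?_⟩
    obtain ⟨W, m, rfl⟩ := Scheme.IsLocallyDirected.ι_jointly_surjective (chartFunctor G) y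
    let l : chartObj W ⟶ Y := colimit.ι (chartFunctor G) W
    have hl : IsOpenImmersion l := inferInstanceAs (IsOpenImmersion (colimit.ι (chartFunctor G) W))
    obtain ⟨P₀, hmP₀, hP₀O, hgood₀⟩ := (chartQ_geom W).basis (l ⁻¹ᵁ O) m hy
    let P : Y.Opens := l ''ᵁ P₀
    refine ⟨P, ⟨m, hmP₀, rfl⟩, by rintro _ ⟨z, hz, rfl⟩; exact hP₀O hz, ?_⟩
    have hgood : IsGood (G.s ∣_ W.1) (restrT W.2.2) (chartQ W) (chartQ_geom W).w (l ⁻¹ᵁ P) := by
      rw [l.preimage_image_eq]; exact hgood₀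
    have hPl : P ≤ l.opensRange := l.image_le_opensRange _
    have hPW : p ⁻¹ᵁ P ≤ W.1 := (p.preimage_mono hPl).trans (hpre W).le
    have : IsIso (l.app P) := l.isIso_app P hPl
    let O' := chartQ W ⁻¹ᵁ l ⁻¹ᵁ P
    have hO' : O' = W.1.ι ⁻¹ᵁ p ⁻¹ᵁ P := by
      simp only [O', ← Scheme.Hom.comp_preimage]
      rw [show chartQ W ≫ l = W.1.ι ≫ p from (hpW W).symm]
    have hinjι : ∀ (A : W.1.toScheme.Opens) (h : A ≤ W.1.ι ⁻¹ᵁ p ⁻¹ᵁ P), A = W.1.ι ⁻¹ᵁ p ⁻¹ᵁ P →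
        Function.Injective (W.1.ι.appLE (p ⁻¹ᵁ P) A h).hom := by
      rintro A h rfl
      rw [← Scheme.Hom.app_eq_appLE]
      have : IsIso (W.1.ι.app (p ⁻¹ᵁ P)) :=
        W.1.ι.isIso_app _ (by rw [Scheme.Opens.opensRange_ι]; exact hPW)
      exact (ConcreteCategory.bijective_of_isIso (W.1.ι.app (p ⁻¹ᵁ P))).1
    have hcomm : ∀ c : Γ(Y, P), ((chartQ W).app (l ⁻¹ᵁ P)).hom ((l.app P).hom c) =
        (W.1.ι.appLE (p ⁻¹ᵁ P) O' hO'.le).hom ((p.app P).hom c) := by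
      intro c
      simp only [Scheme.Hom.app_eq_appLE]
      rw [← CommRingCat.comp_apply, ← CommRingCat.comp_apply, Scheme.Hom.appLE_comp_appLE,
        Scheme.Hom.appLE_comp_appLE]
      exact appLE_congr_hom (hpW W).symm _ _ _ _ c
    refine ⟨fun a b hab => ?_, fun a ha => ?_⟩
    · refine (ConcreteCategory.bijective_of_isIso (l.app P)).1 (hgood.1 ?_)
      rw [hcomm, hcomm, hab]
    · let a₀ := (W.1.ι.appLE (p ⁻¹ᵁ P) O' hO'.le).hom a
      obtain ⟨c₀, hc₀⟩ := hgood.2 a₀ (by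
        let A := (G.s ∣_ W.1) ⁻¹ᵁ O'
        have hA : A ≤ (G.s ⁻¹ᵁ W.1).ι ⁻¹ᵁ G.s ⁻¹ᵁ p ⁻¹ᵁ P := fun x hx => by
          have := hO'.le hx
          show (((G.s ⁻¹ᵁ W.1).ι ≫ G.s) x) ∈ p ⁻¹ᵁ P
          rw [← morphismRestrict_ι]; exact this
        have h0 := congrArg ((G.s ⁻¹ᵁ W.1).ι.appLE (G.s ⁻¹ᵁ p ⁻¹ᵁ P) A hA).hom ha
        simp only [a₀, Scheme.Hom.app_eq_appLE] at h0 ⊢
        rw [← CommRingCat.comp_apply, ← CommRingCat.comp_apply, Scheme.Hom.appLE_comp_appLE,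
          Scheme.Hom.appLE_comp_appLE] at h0 ⊢
        refine Eq.trans (appLE_congr_hom (morphismRestrict_ι _ _) _ _ _ _ a) (h0.trans ?_)
        exact appLE_congr_hom (restrT_ι W.2.2).symm _ _ _ _ a)
      obtain ⟨c, rfl⟩ := (ConcreteCategory.bijective_of_isIso (l.app P)).2 c₀
      exact ⟨c, hinjι O' hO'.le hO' ((hcomm c).symm.trans hc₀)⟩
  · intro O hO
    let O' : G.U.Opens := ⟨O, hO⟩
    let sat : G.U.Opens :=
      ⟨G.t '' (G.s ⁻¹' O), G.t.isOpenMap _ (hO.preimage G.s.continuous)⟩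
    have hsat : G.s ⁻¹ᵁ sat = G.t ⁻¹ᵁ sat := Opens.ext (saturation_invariant G O)
    rw [show p '' O = ⋃ W : InvAff G, colimit.ι (chartFunctor G) W '' (chartQ W '' (W.1.ι ⁻¹ᵁ sat : Set W.1.toScheme)) from ?_]
    · refine isOpen_iUnion fun W => (colimit.ι (chartFunctor G) W).isOpenEmbedding.isOpenMap _ ?_
      refine (chartQ_geom W).image_open _ ?_
      rw [← Scheme.Hom.comp_preimage, ← Scheme.Hom.comp_preimage, morphismRestrict_ι, restrT_ι,
        Scheme.Hom.comp_preimage, Scheme.Hom.comp_preimage, hsat]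
    · ext y
      simp only [Set.mem_iUnion]
      constructor
      · rintro ⟨x, hx, rfl⟩
        obtain ⟨W, hxW, -⟩ := exists_chart G hb x (O := ⊤) rfl trivial
        exact ⟨W, _, ⟨⟨x, hxW⟩, subset_saturation G O hx, rfl⟩, (hpt W ⟨x, hxW⟩).symm⟩
      · rintro ⟨W, _, ⟨x, ⟨r, hr, hrx⟩, rfl⟩, rfl⟩
        exact ⟨G.s r, hr, (hwpt r).symm.trans ((congrArg (fun u => p u) hrx).trans (hpt W x))⟩
  · intro z
    let K := AlgebraicClosure ((pullback p p).residueField z)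
    let ζ : Spec (CommRingCat.of K) ⟶ pullback p p :=
      Spec.map (CommRingCat.ofHom (algebraMap ((pullback p p).residueField z) K)) ≫
        (pullback p p).fromSpecResidueField z
    obtain ⟨W, hW, -⟩ := exists_chart G hb ((pullback.fst p p) z) (O := ⊤) rfl trivial
    have hWb : (pullback.snd p p) z ∈ W.1 := by
      obtain ⟨r, h1, h2⟩ := (hfib _ _).mp
        (show p ((pullback.fst p p) z) = p ((pullback.snd p p) z) by
          rw [← Scheme.Hom.comp_apply, pullback.condition, Scheme.Hom.comp_apply])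
      exact h2 ▸ (W.2.2.mem_iff r).mpr (h1.symm ▸ hW)
    have hζ : ∀ x, ζ x = z := fun x => Scheme.fromSpecResidueField_apply z _
    have hra : Set.range (ζ ≫ pullback.fst p p) ⊆ Set.range W.1.ι := by
      rintro _ ⟨x, rfl⟩
      rw [Scheme.Opens.range_ι, Scheme.Hom.comp_apply, hζ]; exact hW
    have hrb : Set.range (ζ ≫ pullback.snd p p) ⊆ Set.range W.1.ι := by
      rintro _ ⟨x, rfl⟩
      rw [Scheme.Opens.range_ι, Scheme.Hom.comp_apply, hζ]; exact hWb
    let a := IsOpenImmersion.lift W.1.ι _ hra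
    let b := IsOpenImmersion.lift W.1.ι _ hrb
    have ha : a ≫ W.1.ι = ζ ≫ pullback.fst p p := IsOpenImmersion.lift_fac _ _ _
    have hb' : b ≫ W.1.ι = ζ ≫ pullback.snd p p := IsOpenImmersion.lift_fac _ _ _
    have hq : a ≫ chartQ W = b ≫ chartQ W := by
      rw [← cancel_mono (colimit.ι (chartFunctor G) W), Category.assoc, Category.assoc,
        ← show W.1.ι ≫ p = chartQ W ≫ colimit.ι (chartFunctor G) W from hpW W, reassoc_of% ha, reassoc_of% hb',
        pullback.condition]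
    have := isAffine_R (chartGrpd W)
    obtain ⟨r, hr1, hr2⟩ : ∃ r : Spec (CommRingCat.of K) ⟶ (G.s ⁻¹ᵁ W.1).toScheme,
        r ≫ restrT W.2.2 = a ∧ r ≫ (G.s ∣_ W.1) = b :=
      (((S1878.result S (chartGrpd W)).2 K).2 a b).mp hq
    let x₀ : Spec (CommRingCat.of K) := ⟨⊥, Ideal.isPrime_bot⟩
    refine ⟨(G.s ⁻¹ᵁ W.1).ι (r x₀), ?_⟩
    have e : r ≫ (G.s ⁻¹ᵁ W.1).ι ≫ pullback.lift G.t G.s hw = ζ := by
      apply pullback.hom_ext
      · rw [Category.assoc, Category.assoc, pullback.lift_fst, ← ha, ← hr1, Category.assoc]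
        exact congrArg (r ≫ ·) (restrT_ι W.2.2).symm
      · rw [Category.assoc, Category.assoc, pullback.lift_snd, ← hb', ← hr2, Category.assoc]
        exact congrArg (r ≫ ·) (morphismRestrict_ι _ _).symm
    have := congrArg (fun g : Spec (CommRingCat.of K) ⟶ pullback p p => g x₀) e
    exact this.trans (hζ x₀)
  · intro hU
    let T₀ : InvAff G := ⟨⊤, isAffineOpen_top G.U, rfl⟩
    have : Surjective (colimit.ι (chartFunctor G) T₀) := ⟨fun y => by
      obtain ⟨x, rfl⟩ := hsurj.surj y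
      exact ⟨chartQ T₀ ⟨x, trivial⟩, (hpt T₀ ⟨x, trivial⟩).symm⟩⟩
    have : IsIso (colimit.ι (chartFunctor G) T₀) :=
      (isIso_iff_isOpenImmersion_and_surjective _).mpr ⟨inferInstance, inferInstance⟩
    have : IsAffine ((chartFunctor G).obj T₀) := inferInstanceAs (IsAffine (chartObj T₀))
    exact IsAffine.of_isIso (inv (colimit.ι (chartFunctor G) T₀))
  · intro hj
    have hq : ∀ W : InvAff G, (IsFinite (chartQ W) ∧ Flat (chartQ W) ∧
        LocallyOfFinitePresentation (chartQ W) ∧ Surjective (chartQ W)) ∧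
        IsPullback (restrT W.2.2) (G.s ∣_ W.1) (chartQ W) (chartQ W) := fun W => by
      have := restr_mono_j (G := G) W.2.2
      have := isAffine_R (chartGrpd W)
      exact affine_equivRel (chartGrpd W)
    refine ⟨?_, hlocal (@IsFinite : MorphismProperty Scheme.{u}) fun W => (hq W).1.1,
      hlocal (@Flat : MorphismProperty Scheme.{u}) fun W => (hq W).1.2.1,
      hlocal (@LocallyOfFinitePresentation : MorphismProperty Scheme.{u}) fun W => (hq W).1.2.2.1⟩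
    have huniq : ∀ {Z : Scheme.{u}} (r r' : Z ⟶ G.R), r ≫ G.t = r' ≫ G.t → r ≫ G.s = r' ≫ G.s → r = r' :=
      fun r r' h h' => (cancel_mono G.j).mp (pullback.hom_ext (by simpa using h) (by simpa using h'))
    have hex : ∀ {Z : Scheme.{u}} (a b : Z ⟶ G.U), a ≫ p = b ≫ p →
        ∃ r : Z ⟶ G.R, r ≫ G.t = a ∧ r ≫ G.s = b := by
      intro Z a b hab
      let 𝒵 := Z.openCoverOfIsOpenCover (fun W : InvAff G => a ⁻¹ᵁ W.1)
        (hcov.comap ⟨a, a.continuous⟩)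
      have hpiece : ∀ W : InvAff G, ∃ r : (a ⁻¹ᵁ W.1).toScheme ⟶ G.R,
          r ≫ G.t = (a ⁻¹ᵁ W.1).ι ≫ a ∧ r ≫ G.s = (a ⁻¹ᵁ W.1).ι ≫ b := by
        intro W
        have hb2 : a ⁻¹ᵁ W.1 ≤ b ⁻¹ᵁ W.1 := by
          rw [← hpre W, ← Scheme.Hom.comp_preimage, ← Scheme.Hom.comp_preimage, hab]
        obtain ⟨l, h1, h2⟩ : ∃ l : (a ⁻¹ᵁ W.1).toScheme ⟶ (G.s ⁻¹ᵁ W.1).toScheme,
            l ≫ restrT W.2.2 = a.resLE W.1 _ le_rfl ∧ l ≫ (G.s ∣_ W.1) = b.resLE W.1 _ hb2 := by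
          have e : a.resLE W.1 (a ⁻¹ᵁ W.1) le_rfl ≫ chartQ W = b.resLE W.1 (a ⁻¹ᵁ W.1) hb2 ≫ chartQ W := by
            rw [← cancel_mono (colimit.ι (chartFunctor G) W), Category.assoc, Category.assoc,
              ← show W.1.ι ≫ p = chartQ W ≫ colimit.ι (chartFunctor G) W from hpW W,
              Scheme.Hom.resLE_comp_ι_assoc, Scheme.Hom.resLE_comp_ι_assoc, hab]
          exact ⟨(hq W).2.lift _ _ e, (hq W).2.lift_fst _ _ e, (hq W).2.lift_snd _ _ e⟩
        refine ⟨l ≫ (G.s ⁻¹ᵁ W.1).ι, ?_, ?_⟩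
        · rw [Category.assoc, ← restrT_ι W.2.2, reassoc_of% h1, Scheme.Hom.resLE_comp_ι]
        · rw [Category.assoc, ← morphismRestrict_ι, reassoc_of% h2, Scheme.Hom.resLE_comp_ι]
      choose r hr1 hr2 using hpiece
      have hglue : ∀ (W W' : InvAff G) {Z' : Scheme.{u}} (u : Z' ⟶ (a ⁻¹ᵁ W.1).toScheme)
          (v : Z' ⟶ (a ⁻¹ᵁ W'.1).toScheme), u ≫ (a ⁻¹ᵁ W.1).ι = v ≫ (a ⁻¹ᵁ W'.1).ι →
          u ≫ r W = v ≫ r W' := fun W W' _ u v huv => huniq _ _
        (by rw [Category.assoc, Category.assoc, hr1, hr1, reassoc_of% huv])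
        (by rw [Category.assoc, Category.assoc, hr2, hr2, reassoc_of% huv])
      refine ⟨𝒵.glueMorphisms r fun W W' => hglue _ _ _ _ pullback.condition, ?_, ?_⟩
      · refine Scheme.Cover.hom_ext 𝒵 _ _ fun W => ?_
        exact (𝒵.ι_glueMorphisms_assoc _ _ W _).trans (hr1 W)
      · refine Scheme.Cover.hom_ext 𝒵 _ _ fun W => ?_
        exact (𝒵.ι_glueMorphisms_assoc _ _ W _).trans (hr2 W)
    choose lf hlf1 hlf2 using @hex
    exact IsPullback.of_isLimit' ⟨hw⟩ (PullbackCone.IsLimit.mk _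
      (fun c => lf c.fst c.snd c.condition) (fun c => hlf1 _ _ _) (fun c => hlf2 _ _ _)
      fun c m h1 h2 => huniq _ _ (h1.trans (hlf1 _ _ _).symm) (h2.trans (hlf2 _ _ _).symm))

end Groth.Agent.Grpd80
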