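import Groth.Agent.Grpd80.GlueQuot2

set_option autoImplicit false
universe u
open CategoryTheory CategoryTheory.Limits AlgebraicGeometry TopologicalSpace

namespace Groth.Agent.Grpd80

variable {S : Scheme.{u}} {G : Grpd.GroupoidScheme S} {Y : Scheme.{u}} {p : G.U ⟶ Y}

lemma IsNiceQuot.isColimit (h : IsNiceQuot G p) : Nonempty (IsColimit (Cofork.ofπ p h.w)) := by
  choose g hg hu using fun c : Cofork G.t G.s => h.desc c.π c.condition
  exact ⟨Cofork.IsColimit.mk _ g hg fun c m hm => hu c m hm⟩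

/-- A classical hypothesis in the other notation. -/
lemma classes_of_image {S : Scheme.{u}} {G : Grpd.GroupoidScheme S}
    (hb : ∀ x : G.U, ∃ V : G.U.Opens, IsAffineOpen V ∧ G.t.base '' (G.s.base ⁻¹' {x}) ⊆ (V : Set G.U)) :
    ∀ x : G.U, ∃ V : G.U.Opens, IsAffineOpen V ∧ ∀ r : G.R, G.s r = x → G.t r ∈ V := fun x => by
  obtain ⟨V, h1, h2⟩ := hb x
  exact ⟨V, h1, fun r hr => h2 ⟨r, hr, rfl⟩⟩

end Groth.Agent.Grpd80
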