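import Groth.Agent.SpPts86.Quot

set_option autoImplicit false
universe u
open CategoryTheory CategoryTheory.Limits AlgebraicGeometry
open Groth.Agent.SpFP87

namespace Groth.Agent.Grpd80

variable {S : Scheme.{u}}

/-- Naturality of the comparison of `QuotSh.rep` with the Yoneda sheaf. -/
lemma repMap_comp_iso {V W : Over S} (g : V ⟶ W) :
    QuotSh.repMap Scheme.fppfPrecoverage g ≫ (QuotSh.repIsoUliftYoneda Scheme.fppfPrecoverage W).hom =
      (QuotSh.repIsoUliftYoneda Scheme.fppfPrecoverage V).hom ≫ (AlgSp.yon S).map g := by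
  refine CategoryTheory.Sheaf.hom_ext (sheafify_hom_ext (J := AlgSp.J S) _ _
    ((AlgSp.yon S).obj W).property ?_)
  change toSheafify _ _ ≫ sheafifyMap _ (Functor.whiskerRight (yoneda.map g) uliftFunctor.{u + 1, u}) ≫
      (isoSheafify (AlgSp.J S) ((AlgSp.yon S).obj W).property).inv =
    toSheafify _ _ ≫ (isoSheafify (AlgSp.J S) ((AlgSp.yon S).obj V).property).inv ≫
      ((AlgSp.yon S).map g).hom
  simp only [isoSheafify_inv, toSheafify_sheafifyLift_assoc, Category.id_comp]
  have h2 := congrArg (Functor.whiskerRight (yoneda.map g) uliftFunctor.{u + 1, u} ≫ ·)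
    (toSheafify_sheafifyLift (AlgSp.J S) (𝟙 ((AlgSp.yon S).obj W).obj) ((AlgSp.yon S).obj W).property)
  have h3 := congrArg (· ≫ sheafifyLift (AlgSp.J S) (𝟙 ((AlgSp.yon S).obj W).obj) ((AlgSp.yon S).obj W).property)
    (toSheafify_naturality (AlgSp.J S) (Functor.whiskerRight (yoneda.map g) uliftFunctor.{u + 1, u}))
  exact ((Category.assoc _ _ _).symm.trans h3.symm).trans
    ((Category.assoc _ _ _).trans (h2.trans (Category.comp_id _)))

/-- An fppf cover is the quotient sheaf of its kernel pair. -/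
theorem isQuotient_fppf {R U M : Over S} (s t : R ⟶ U) (q : U ⟶ M) (sq : IsPullback t s q q)
    (hq : fppfSurj q.left) :
    QuotSh.IsQuotient Scheme.fppfPrecoverage s t q := by
  refine ⟨sq.w.symm, ?_⟩
  have hlift : LocLift ((AlgSp.yon S).map q) := by
    intro T g
    obtain ⟨g, rfl⟩ := (AlgSp.yon S).map_surjective g
    refine ⟨_, pullback.fst g q, (AlgSp.yon S).map (pullback.snd g q),
      MorphismProperty.of_isPullback (P := fppfSurj)
        ((IsPullback.of_hasPullback g q).map (Over.forget S)).flip hq, ?_⟩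
    rw [← Functor.map_comp, ← Functor.map_comp, pullback.condition]
  obtain ⟨hc⟩ := SpPts86.isColimit_cofork hlift (sq.map (AlgSp.yon S))
  let iU := QuotSh.repIsoUliftYoneda Scheme.fppfPrecoverage U
  let iM := QuotSh.repIsoUliftYoneda Scheme.fppfPrecoverage M
  let iR := QuotSh.repIsoUliftYoneda Scheme.fppfPrecoverage R
  let d := QuotSh.quotπ Scheme.fppfPrecoverage s t
  have hd : (AlgSp.yon S).map t ≫ iU.inv ≫ d = (AlgSp.yon S).map s ≫ iU.inv ≫ d := by
    have e : ∀ g : R ⟶ U, (AlgSp.yon S).map g ≫ iU.inv =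
        iR.inv ≫ QuotSh.repMap Scheme.fppfPrecoverage g := fun g => by
      rw [Iso.eq_inv_comp, ← Category.assoc, Iso.comp_inv_eq]
      exact (repMap_comp_iso g).symm
    rw [← Category.assoc, e, ← Category.assoc, e, Category.assoc, Category.assoc,
      QuotSh.quot_condition]
  obtain ⟨b, hb⟩ := Cofork.IsColimit.desc' hc (iU.inv ≫ d) hd
  change (AlgSp.yon S).map q ≫ b = iU.inv ≫ d at hb
  have hπ : d ≫ QuotSh.quotDesc Scheme.fppfPrecoverage q sq.w.symm =
      QuotSh.repMap Scheme.fppfPrecoverage q := coequalizer.π_desc _ _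
  refine ⟨iM.hom ≫ b, ?_, ?_⟩
  · refine coequalizer.hom_ext ?_
    change d ≫ QuotSh.quotDesc Scheme.fppfPrecoverage q sq.w.symm ≫ iM.hom ≫ b = d ≫ 𝟙 _
    rw [← Category.assoc, hπ, ← Category.assoc, repMap_comp_iso, Category.assoc, hb,
      Iso.hom_inv_id_assoc, Category.comp_id]
  · have h : iM.inv ≫ (iM.hom ≫ b) ≫ QuotSh.quotDesc Scheme.fppfPrecoverage q sq.w.symm ≫ iM.hom =
        𝟙 _ := by
      refine Cofork.IsColimit.hom_ext hc ?_
      change (AlgSp.yon S).map q ≫ _ = (AlgSp.yon S).map q ≫ 𝟙 _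
      rw [Category.assoc, Iso.inv_hom_id_assoc, ← Category.assoc, hb, Category.assoc,
        ← Category.assoc d, hπ, repMap_comp_iso, Iso.inv_hom_id_assoc, Category.comp_id]
    rw [← Category.assoc (iM.hom ≫ b), ← Category.assoc, Iso.comp_hom_eq_id] at h
    exact (cancel_epi iM.inv).mp (h.trans (Category.comp_id _).symm)

end Groth.Agent.Grpd80
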