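import Groth.Agent.FlatMor66.IndQA
import Mathlib.AlgebraicGeometry.Morphisms.ClosedImmersion
import Mathlib.AlgebraicGeometry.Morphisms.QuasiFinite

set_option autoImplicit false
universe u
open CategoryTheory CategoryTheory.Limits AlgebraicGeometry

namespace Groth.Agent.Grpd80

/-- Separated locally quasi-finite morphisms of finite type are ind-quasi-affine. -/
lemma isIndQuasiAffineHom_of_lqf {X Y : Scheme.{u}} (f : X ⟶ Y) [IsSeparated f]
    [LocallyQuasiFinite f] [LocallyOfFiniteType f] : MoreMor.IsIndQuasiAffineHom f := by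
  intro V hV W hW
  have : IsAffine (V : Scheme.{u}) := hV
  have : CompactSpace (W : Scheme.{u}) := FlatMor66.compactSpace_toScheme hW
  exact FlatMor66.qa_of_separated_lqf (W.ι ≫ (f ∣_ V))

end Groth.Agent.Grpd80
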