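import Groth.Agent.Desc59.DDFppf
import Groth.Agent.Grpd80.IndQALqf
import Groth.Agent.Unr55.DescProps
import Mathlib.CategoryTheory.Subobject.Basic

set_option autoImplicit false
universe u
open CategoryTheory CategoryTheory.Limits AlgebraicGeometry MorphismProperty

namespace Groth.Agent.Grpd80

open Desc

variable {X S : Scheme.{u}} (p : X ⟶ S)

/-- A stable monomorphism, as a descent datum. -/
noncomputable def monoDD {Y : Scheme.{u}} (i : Y ⟶ X) [Mono i]
    (hst : ∀ {T : Scheme.{u}} (x₀ x₁ : T ⟶ X), x₀ ≫ p = x₁ ≫ p →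
      (∃ v, v ≫ i = x₀) → ∃ v, v ≫ i = x₁) : SchDD p where
  obj := Over.mk i
  φ := fun T x₀ x₁ h =>
    { toFun := fun v => ⟨(hst x₀ x₁ h ⟨v.1, v.2⟩).choose, (hst x₀ x₁ h ⟨v.1, v.2⟩).choose_spec⟩
      invFun := fun v => ⟨(hst x₁ x₀ h.symm ⟨v.1, v.2⟩).choose,
        (hst x₁ x₀ h.symm ⟨v.1, v.2⟩).choose_spec⟩
      left_inv := fun v => Subtype.ext ((cancel_mono i).mp
        ((hst x₁ x₀ h.symm ⟨_, (hst x₀ x₁ h ⟨v.1, v.2⟩).choose_spec⟩).choose_spec.trans v.2.symm))
      right_inv := fun v => Subtype.ext ((cancel_mono i).mp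
        ((hst x₀ x₁ h ⟨_, (hst x₁ x₀ h.symm ⟨v.1, v.2⟩).choose_spec⟩).choose_spec.trans v.2.symm)) }
  φ_natural := fun T T' g x₀ x₁ h h' v v' _ => (cancel_mono i).mp
    ((hst (g ≫ x₀) (g ≫ x₁) h' ⟨v'.1, v'.2⟩).choose_spec.trans
      (show g ≫ x₁ = (g ≫ (hst x₀ x₁ h ⟨v.1, v.2⟩).choose) ≫ i by
        rw [Category.assoc, (hst x₀ x₁ h ⟨v.1, v.2⟩).choose_spec]))
  φ_self := fun T x v => Subtype.ext ((cancel_mono i).mp
    ((hst x x rfl ⟨v.1, v.2⟩).choose_spec.trans v.2.symm))
  φ_comp := fun T x₀ x₁ x₂ h₀₁ h₁₂ v => Subtype.ext ((cancel_mono i).mp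
    ((hst x₁ x₂ h₁₂ ⟨_, (hst x₀ x₁ h₀₁ ⟨v.1, v.2⟩).choose_spec⟩).choose_spec.trans
      (hst x₀ x₂ (h₀₁.trans h₁₂) ⟨v.1, v.2⟩).choose_spec.symm))

lemma pullback_obj_eq (f : X ⟶ S) {Z : Scheme.{u}} (y : Subobject S) {φ : Z ⟶ (y : Scheme.{u})}
    {i : Z ⟶ X} [Mono i] (h : IsPullback φ i y.arrow f) :
    (Subobject.pullback f).obj y = Subobject.mk i := by
  conv_lhs => rw [← Subobject.mk_arrow y]
  exact Subobject.pullback_obj_mk h

/-- A point factors through the pullback of a subobject exactly when its image factors through it. -/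
lemma factors_pullback_iff (f : X ⟶ S) (y : Subobject S) {T : Scheme.{u}} (x : T ⟶ X) :
    (∃ v, v ≫ ((Subobject.pullback f).obj y).arrow = x) ↔ ∃ v, v ≫ y.arrow = x ≫ f := by
  constructor
  · rintro ⟨v, rfl⟩
    exact ⟨v ≫ Subobject.pullbackπ f y, by
      rw [Category.assoc, (Subobject.isPullback f y).w, Category.assoc]⟩
  · rintro ⟨v, hv⟩
    exact ⟨(Subobject.isPullback f y).lift v x hv, (Subobject.isPullback f y).lift_snd _ _ _⟩

variable [Flat p] [Surjective p] [QuasiCompact p]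

/-- Descent of stable monomorphisms of a descending class. -/
lemma bijOn_pullback (P : MorphismProperty Scheme.{u}) [P.IsStableUnderBaseChange]
    [P.DescendsAlong (@Surjective ⊓ @Flat ⊓ @QuasiCompact)]
    (hmono : ∀ {A B : Scheme.{u}} (f : A ⟶ B), P f → Mono f)
    (hqa : ∀ {A B : Scheme.{u}} (f : A ⟶ B), P f → MoreMor.IsIndQuasiAffineHom f) :
    Set.BijOn (Subobject.pullback p).obj {Y' : Subobject S | P Y'.arrow}
      {Y : Subobject X | P Y.arrow ∧
        (Subobject.pullback (pullback.fst p p)).obj Y = (Subobject.pullback (pullback.snd p p)).obj Y} := by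
  refine ⟨fun y hy => ⟨P.of_isPullback (Subobject.isPullback p y) hy, ?_⟩, ?_, ?_⟩
  · rw [← Subobject.pullback_comp, ← Subobject.pullback_comp, pullback.condition]
  · intro y₁ _ y₂ _ e
    have key : ∀ (y₁ y₂ : Subobject S), (Subobject.pullback p).obj y₁ = (Subobject.pullback p).obj y₂ →
        y₁ ≤ y₂ := by
      intro y₁ y₂ e
      have sq := Subobject.isPullback p y₁
      let π := Subobject.pullbackπ p y₁
      have : Flat π := MorphismProperty.of_isPullback sq.flip inferInstance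
      have : Surjective π := MorphismProperty.of_isPullback sq.flip inferInstance
      have : QuasiCompact π := MorphismProperty.of_isPullback sq.flip inferInstance
      obtain ⟨v, hv⟩ : ∃ v, v ≫ y₂.arrow = π ≫ y₁.arrow := by
        rw [sq.w, ← factors_pullback_iff p y₂, ← e]
        exact ⟨𝟙 _, Category.id_comp _⟩
      let w := EffectiveEpi.desc π v fun g₁ g₂ h => (cancel_mono y₂.arrow).mp (by
        rw [Category.assoc, hv, reassoc_of% h, Category.assoc, hv])
      refine Subobject.le_of_comm w ?_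
      rw [← cancel_epi π, EffectiveEpi.fac_assoc, hv]
    exact le_antisymm (key _ _ e) (key _ _ e.symm)
  · rintro Y ⟨hY, hst⟩
    have hst' : ∀ {T : Scheme.{u}} (x₀ x₁ : T ⟶ X), x₀ ≫ p = x₁ ≫ p →
        (∃ v, v ≫ Y.arrow = x₀) → ∃ v, v ≫ Y.arrow = x₁ := by
      intro T x₀ x₁ h hv
      have h1 := (factors_pullback_iff (pullback.fst p p) Y (pullback.lift x₀ x₁ h)).mpr
        (by simpa [pullback.lift_fst] using hv)
      rw [hst] at h1
      simpa [pullback.lift_snd] using (factors_pullback_iff (pullback.snd p p) Y _).mp h1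
    obtain ⟨U, ⟨e⟩⟩ := Desc59.effective_of_isIndQuasiAffineHom' p (monoDD p Y.arrow hst')
      (hqa _ hY)
    let E : pullback p U.hom ≅ (Y : Scheme.{u}) :=
      { hom := e.hom.hom.left
        inv := e.inv.hom.left
        hom_inv_id := congr(Over.Hom.left (Desc.SchDD.Hom.hom $e.hom_inv_id))
        inv_hom_id := congr(Over.Hom.left (Desc.SchDD.Hom.hom $e.inv_hom_id)) }
    have hE : E.hom ≫ Y.arrow = pullback.fst p U.hom := Over.w e.hom.hom
    have hP : P U.hom := by
      refine MorphismProperty.of_pullback_fst_of_descendsAlong (Q := @Surjective ⊓ @Flat ⊓ @QuasiCompact)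
        (f := p) ⟨⟨‹Surjective p›, ‹Flat p›⟩, ‹QuasiCompact p›⟩ ?_
      rw [← hE]
      exact @MorphismProperty.RespectsIso.precomp _ _ P _ _ _ _ E.hom (Iso.isIso_hom E) _ hY
    have := hmono _ hP
    refine ⟨Subobject.mk U.hom, ?_, ?_⟩
    · show P (Subobject.mk U.hom).arrow
      rw [← Subobject.underlyingIso_hom_comp_eq_mk, P.cancel_left_of_respectsIso]
      exact hP
    · rw [Subobject.pullback_obj_mk (IsPullback.of_hasPullback p U.hom).flip,
        ← Subobject.mk_arrow Y]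
      exact Subobject.mk_eq_mk_of_comm _ _ E hE

end Groth.Agent.Grpd80
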