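import Groth.Agent.Grpd80.InvAffine
import Groth.Agent.FlatMor66.IndQA
import Mathlib.AlgebraicGeometry.Morphisms.Separated
import Mathlib.AlgebraicGeometry.Morphisms.QuasiFinite
import Mathlib.AlgebraicGeometry.Morphisms.Immersion

set_option autoImplicit false
universe u
open CategoryTheory CategoryTheory.Limits AlgebraicGeometry TopologicalSpace

namespace Groth.Agent.Grpd80

/-- A finite set of points of a quasi-affine scheme lies in an affine open. -/
lemma exists_affine_of_qa {X : Scheme.{u}} [X.IsQuasiAffine] {T : Set X} (hT : T.Finite) :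
    ∃ V : X.Opens, IsAffineOpen V ∧ T ⊆ (V : Set X) := by
  set ι := X.toSpecΓ
  obtain ⟨f, hf, hTf⟩ := exists_basicOpen_of_finite (isAffineOpen_top (Spec Γ(X, ⊤)))
    (O := ι.opensRange) (hT.image ι) (fun _ _ => trivial) (by rintro _ ⟨x, -, rfl⟩; exact ⟨x, rfl⟩)
  refine ⟨ι ⁻¹ᵁ (Spec Γ(X, ⊤)).basicOpen f, ?_, fun x hx => hTf ⟨x, hx, rfl⟩⟩
  rw [← Scheme.Hom.isAffineOpen_iff_of_isOpenImmersion ι]
  have : ι ''ᵁ (ι ⁻¹ᵁ (Spec Γ(X, ⊤)).basicOpen f) = (Spec Γ(X, ⊤)).basicOpen f :=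
    Opens.ext (Set.image_preimage_eq_of_subset hf)
  rw [this]
  exact (isAffineOpen_top _).basicOpen f

/-- A finite set of points of a separated locally quasi-finite scheme over an affine one lies in an
affine open. -/
lemma exists_affine_of_lqf {X Y : Scheme.{u}} [IsAffine Y] (g : X ⟶ Y) [IsSeparated g]
    [LocallyQuasiFinite g] [LocallyOfFiniteType g] {T : Set X} (hT : T.Finite) :
    ∃ V : X.Opens, IsAffineOpen V ∧ T ⊆ (V : Set X) := by
  classical
  choose W hW hxW _ using fun x : X => exists_isAffineOpen_mem_and_subset (U := ⊤) (x := x) trivial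
  let O : X.Opens := ⨆ x : hT.toFinset, W x.1
  have : CompactSpace O.toScheme := by
    refine isCompact_iff_compactSpace.mp ?_
    simp only [O, Opens.coe_iSup]
    exact isCompact_iUnion fun x => (hW x.1).isCompact
  have : Scheme.IsQuasiAffine O.toScheme := FlatMor66.qa_of_separated_lqf (O.ι ≫ g)
  have hTO : T ⊆ (O : Set X) := fun x hx =>
    Opens.mem_iSup.mpr ⟨⟨x, hT.mem_toFinset.mpr hx⟩, hxW x⟩
  obtain ⟨V, hV, hTV⟩ := exists_affine_of_qa (X := O.toScheme)
    (hT.preimage (f := O.ι) O.ι.isOpenEmbedding.injective.injOn)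
  exact ⟨O.ι ''ᵁ V, hV.image_of_isOpenImmersion O.ι,
    fun x hx => ⟨⟨x, hTO hx⟩, hTV (show O.ι ⟨x, hTO hx⟩ ∈ T from hx), rfl⟩⟩

end Groth.Agent.Grpd80
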