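import Groth.Agent.Grpd80.GrpdRing
import Mathlib.RingTheory.QuasiFinite.Basic
import Mathlib.RingTheory.Ideal.GoingUp
import Mathlib.FieldTheory.IsAlgClosed.Basic
import Mathlib.RingTheory.LocalRing.ResidueField.Ideal

set_option autoImplicit false
universe u
open Matrix
open scoped TensorProduct

namespace Groth.Agent.Grpd80.GrpdRing

variable {C A B P : Type u} [CommRing C] [CommRing A] [Algebra C A] [CommRing B] [Algebra C B]
  [CommRing P] [Algebra C P] (G : GrpdRing C A B P)

section Frame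

/-- `B` is a finite module over `A` along `s`. -/
lemma moduleFinite : @Module.Finite A B _ _ ((G.s : A →+* B).toAlgebra.toModule) := by
  letI := (G.s : A →+* B).toAlgebra
  refine ⟨Submodule.fg_def.mpr ⟨Set.range G.x, Set.finite_range _,
    Submodule.eq_top_iff'.mpr fun b => ?_⟩⟩
  rw [← G.frame b]
  exact Submodule.sum_mem _ fun k _ => Submodule.smul_mem _ _ (Submodule.subset_span ⟨k, rfl⟩)

lemma finite_primes_over (p : Ideal A) :
    {Q : Ideal B | Q.IsPrime ∧ Q.comap G.s = p}.Finite := by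
  letI := (G.s : A →+* B).toAlgebra
  have := G.moduleFinite
  refine (Algebra.QuasiFinite.finite_primesOver (R := A) (S := B) p).subset fun Q hQ => ?_
  exact ⟨hQ.1, ⟨hQ.2.symm⟩⟩

end Frame

/-- A vanishing determinant produces a point of the fibre. -/
lemma exists_point_of_det_eq_zero {K : Type u} [Field K] (χ : A →+* K) {σ : Type*} [Fintype σ]
    (b : σ → B) (c : σ → K) (h : det (1 + ∑ i, c i • (G.N (b i)).map χ) = 0) :
    ∃ (L : Type u) (_ : Field L) (j : K →+* L) (ρ : B →+* L),
      ρ.comp (G.s : A →+* B) = j.comp χ ∧ 1 + ∑ i, j (c i) * ρ (b i) = 0 ∧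
        (IsAlgClosed K → Function.Bijective j) := by
  classical
  letI algB : Algebra A B := (G.s : A →+* B).toAlgebra
  letI algK : Algebra A K := χ.toAlgebra
  have := G.moduleFinite
  let f : K →ₗ[A] B →ₗ[A] Matrix (Fin G.n) (Fin G.n) K :=
    { toFun := fun c =>
        { toFun := fun b => c • (G.N b).map χ
          map_add' := fun b b' => by
            ext i j; simp [Matrix.map_apply, mul_add]
          map_smul' := fun a b => by
            rw [show a • b = G.s a * b from rfl, G.N_s_mul]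
            ext i j
            simp only [RingHom.id_apply, Matrix.smul_apply, Matrix.map_apply, smul_eq_mul, map_mul]
            rw [Algebra.smul_def, RingHom.algebraMap_toAlgebra]
            ring }
      map_add' := fun c c' => by ext b i j; simp [add_mul]
      map_smul' := fun a c => by
        ext b i j
        simp only [RingHom.id_apply, LinearMap.coe_mk, AddHom.coe_mk, LinearMap.smul_apply,
          Matrix.smul_apply, Matrix.map_apply, smul_eq_mul, smul_mul_assoc] }
  let Φ : K ⊗[A] B →ₗ[A] Matrix (Fin G.n) (Fin G.n) K := TensorProduct.lift f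
  have hΦ : ∀ (c : K) (b : B), Φ (c ⊗ₜ b) = c • (G.N b).map χ := fun c b => rfl
  have hmul : ∀ x y, Φ (x * y) = Φ x * Φ y := by
    intro x y
    induction x with
    | zero => simp
    | add x x' hx hx' => rw [add_mul, map_add, map_add, add_mul, hx, hx']
    | tmul c b =>
      induction y with
      | zero => simp
      | add y y' hy hy' => rw [mul_add, map_add, map_add, mul_add, hy, hy']
      | tmul c' b' =>
        rw [Algebra.TensorProduct.tmul_mul_tmul, hΦ, hΦ, hΦ, ← G.N_mul, Matrix.map_mul,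
          Matrix.smul_mul, Matrix.mul_smul, smul_smul]
  set z : K ⊗[A] B := 1 + ∑ i, c i ⊗ₜ[A] b i
  have hz : det (1 + Φ (z - 1)) = 0 := by
    simpa [z, hΦ] using h
  have hnu : ¬ IsUnit z := by
    intro hu
    obtain ⟨v, hv⟩ := hu.exists_right_inv
    have e : (1 + Φ (z - 1)) * (1 + Φ (v - 1)) = 1 := by
      rw [add_mul, mul_add, mul_add, mul_one, mul_one, one_mul, ← hmul, add_assoc, ← map_add,
        ← map_add, show v - 1 + (z - 1 + (z - 1) * (v - 1)) = z * v - 1 by ring, hv, sub_self,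
        map_zero, add_zero]
    have := congrArg det e
    rw [det_mul, hz, zero_mul, det_one] at this
    exact zero_ne_one this
  obtain ⟨m, hm, hzm⟩ := exists_max_ideal_of_mem_nonunits hnu
  let L := (K ⊗[A] B) ⧸ m
  letI : Field L := Ideal.Quotient.field m
  have hfin : Module.Finite K L :=
    Module.Finite.of_surjective (Ideal.Quotient.mkₐ K m).toLinearMap Ideal.Quotient.mk_surjective
  refine ⟨L, inferInstance, algebraMap K L,
    (Ideal.Quotient.mk m).comp (Algebra.TensorProduct.includeRight : B →ₐ[A] K ⊗[A] B), ?_, ?_, ?_⟩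
  · ext a
    change Ideal.Quotient.mk m ((1 : K) ⊗ₜ[A] G.s a) = Ideal.Quotient.mk m (χ a ⊗ₜ[A] (1 : B))
    congr 1
    rw [show G.s a = a • (1 : B) from (_root_.mul_one (G.s a)).symm, ← TensorProduct.smul_tmul,
      Algebra.smul_def, _root_.mul_one]
    rfl
  · have := Ideal.Quotient.eq_zero_iff_mem.mpr hzm
    rw [map_add, map_one, map_sum] at this
    refine Eq.trans ?_ this
    congr 1
    refine Finset.sum_congr rfl fun i _ => ?_
    change Ideal.Quotient.mk m (c i ⊗ₜ[A] (1 : B)) * Ideal.Quotient.mk m ((1 : K) ⊗ₜ[A] b i) = _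
    rw [← map_mul, Algebra.TensorProduct.tmul_mul_tmul, mul_one, one_mul]
  · intro hK
    exact IsAlgClosed.algebraMap_bijective_of_isIntegral

/-- Prime form of the determinant criterion. -/
lemma exists_prime_of_norm_mem (p : Ideal A) [p.IsPrime] {w : B} (h : G.norm w ∈ p) :
    ∃ Q : Ideal B, Q.IsPrime ∧ Q.comap G.s = p ∧ w ∈ Q := by
  let χ := algebraMap A p.ResidueField
  have h0 : det (1 + ∑ _i : Unit, (1 : p.ResidueField) • (G.N (w - 1)).map χ) = 0 := by
    have := Ideal.algebraMap_residueField_eq_zero.mpr h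
    rw [norm, RingHom.map_det] at this
    simpa [Matrix.map_add, RingHom.mapMatrix_apply] using this
  obtain ⟨L, _, j, ρ, hρ, hsum, -⟩ :=
    G.exists_point_of_det_eq_zero χ (fun _ : Unit => w - 1) (fun _ => 1) h0
  refine ⟨RingHom.ker ρ, RingHom.ker_isPrime ρ, ?_, ?_⟩
  · ext a
    rw [Ideal.mem_comap, RingHom.mem_ker, ← Ideal.algebraMap_residueField_eq_zero (I := p),
      ← map_eq_zero j]
    exact Eq.congr_left (RingHom.congr_fun hρ a)
  · rw [RingHom.mem_ker]
    simpa using hsum

lemma norm_mem_of_prime (Q : Ideal B) [Q.IsPrime] {w : B} (hw : w ∈ Q) :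
    G.norm w ∈ Q.comap G.s :=
  Ideal.mem_comap.mpr (Ideal.Quotient.eq_zero_iff_mem.mp
    (G.point_norm (Ideal.Quotient.mk Q) (Ideal.Quotient.eq_zero_iff_mem.mpr hw)))

/-- `norm (t a)` descends to an invariant. -/
lemma exists_norm (hC : G.IsInvariants) (a : A) :
    ∃ c : C, algebraMap C A c = G.norm (G.t a) :=
  hC _ (G.norm_invariant (G.μ_t a))

lemma comap_comap_eq (Q : Ideal B) :
    (Q.comap G.t).comap (algebraMap C A) = (Q.comap G.s).comap (algebraMap C A) := by
  ext c; simp [Ideal.mem_comap, AlgHom.commutes]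

lemma ε_mem_iff (p : Ideal A) (a : A) :
    (G.s a ∈ p.comap G.ε ↔ a ∈ p) ∧ (G.t a ∈ p.comap G.ε ↔ a ∈ p) := by
  simp [Ideal.mem_comap, G.ε_s, G.ε_t]

/-- Two primes of `A` over the same prime of `C` are joined by an arrow. -/
lemma exists_arrow (hC : G.IsInvariants) (p p' : Ideal A) [hp : p.IsPrime] [hp' : p'.IsPrime]
    (h : p.comap (algebraMap C A) = p'.comap (algebraMap C A)) :
    ∃ Q : Ideal B, Q.IsPrime ∧ Q.comap G.s = p' ∧ Q.comap G.t = p := by
  classical
  set F := (G.finite_primes_over p').toFinset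
  by_contra! hno
  have := G.isIntegral hC
  have hni : ¬ ((p : Set A) ⊆ ⋃ Q ∈ (↑F : Set (Ideal B)), ((Q.comap G.t : Ideal A) : Set A)) := by
    rw [Ideal.subset_union_prime ⊥ ⊥ fun Q hQ _ _ => by
      have := ((G.finite_primes_over p').mem_toFinset.mp hQ).1
      exact Ideal.IsPrime.comap _]
    rintro ⟨Q, hQ, hle⟩
    obtain ⟨hQp, hQs⟩ := (G.finite_primes_over p').mem_toFinset.mp hQ
    refine hno Q hQp hQs (le_antisymm ?_ hle)
    intro x hx
    by_contra hxp
    have := Ideal.comap_lt_comap_of_integral_mem_sdiff (R := C) hle ⟨hx, hxp⟩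
      (Algebra.IsIntegral.isIntegral x)
    rw [G.comap_comap_eq, hQs, h] at this
    exact lt_irrefl _ this
  obtain ⟨f, hfp, hfU⟩ := Set.not_subset.mp hni
  obtain ⟨c, hc⟩ := G.exists_norm hC f
  have h1 : c ∈ p.comap (algebraMap C A) := by
    have h2 := G.norm_mem_of_prime (p.comap G.ε) ((G.ε_mem_iff p f).2.mpr hfp)
    rw [Ideal.mem_comap, hc]
    exact (G.ε_mem_iff p _).1.mp h2
  rw [h, Ideal.mem_comap, hc] at h1
  obtain ⟨Q, hQ, hQs, hQf⟩ := G.exists_prime_of_norm_mem p' h1
  exact hfU (Set.mem_biUnion ((G.finite_primes_over p').mem_toFinset.mpr ⟨hQ, hQs⟩) hQf)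

lemma finite_points {K : Type u} [Field K] (χ : A →+* K) :
    {ρ : B →+* K | ρ.comp (G.s : A →+* B) = χ}.Finite := by
  classical
  refine Set.Finite.of_finite_image
    (f := fun (ρ : B →+* K) (k : Fin G.n) => ρ (G.x k)) ?_ ?_
  · refine (Set.Finite.pi (t := fun k => {y : K | ((G.N (G.x k)).map χ).charpoly.IsRoot y})
      fun k => Polynomial.finite_setOfPred_isRoot (Matrix.charpoly_monic _).ne_zero).subset ?_
    rintro _ ⟨ρ, hρ, rfl⟩ k -
    have h := G.point_vecMul ρ (G.x k)
    rw [show ρ.comp (G.s : A →+* B) = χ from hρ] at h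
    have h2 := aeval_vecMul _ _ _ h ((G.N (G.x k)).map χ).charpoly
    rw [Matrix.aeval_self_charpoly, Matrix.vecMul_zero] at h2
    exact (smul_eq_zero.mp h2.symm).resolve_right (G.point_ne_zero ρ)
  · intro ρ hρ ρ' hρ' e
    ext b
    rw [← G.frame b, map_sum, map_sum]
    refine Finset.sum_congr rfl fun k _ => ?_
    rw [map_mul, map_mul, show ρ (G.x k) = ρ' (G.x k) from congrFun e k]
    congr 1
    exact RingHom.congr_fun (hρ.trans hρ'.symm) _

/-- Two geometric points of `A` with the same image in `C` are joined by a geometric arrow. -/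
lemma exists_point_arrow (hC : G.IsInvariants) {K : Type u} [Field K] [IsAlgClosed K]
    (χ₀ χ₁ : A →+* K) (h : χ₀.comp (algebraMap C A) = χ₁.comp (algebraMap C A)) :
    ∃ ρ : B →+* K, ρ.comp (G.t : A →+* B) = χ₀ ∧ ρ.comp (G.s : A →+* B) = χ₁ := by
  classical
  by_contra! hno
  have hO := G.finite_points χ₁
  set O := hO.toFinset
  have hsep : ∀ ρ : O, ∃ a : A, ρ.1 (G.t a) ≠ χ₀ a := by
    intro ρ
    by_contra! hall
    exact hno ρ.1 (RingHom.ext hall) (hO.mem_toFinset.mp ρ.2)
  choose a ha using hsep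
  obtain ⟨m, ⟨e⟩⟩ := Finite.exists_equiv_fin O
  have : Infinite K := IsAlgClosed.instInfinite
  set R : O → Polynomial K := fun ρ =>
    ∑ i : Fin m, Polynomial.C (ρ.1 (G.t (a (e.symm i))) - χ₀ (a (e.symm i))) * Polynomial.X ^ (i : ℕ)
  have hR : ∀ ρ, R ρ ≠ 0 := by
    intro ρ h0
    have := congr(Polynomial.coeff $h0 (e ρ))
    simp only [R, Polynomial.finsetSum_coeff, Polynomial.coeff_C_mul_X_pow, Fin.val_inj,
      Finset.sum_ite_eq, Finset.mem_univ, if_true, Equiv.symm_apply_apply, Polynomial.coeff_zero,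
      sub_eq_zero] at this
    exact ha ρ this
  obtain ⟨μ, hμ⟩ := Polynomial.exists_eval_ne_zero_of_natDegree_lt_card (∏ ρ, R ρ)
    (Finset.prod_ne_zero_iff.mpr fun ρ _ => hR ρ)
    (lt_of_lt_of_le (Cardinal.natCast_lt_aleph0) (Cardinal.aleph0_le_mk K))
  rw [Polynomial.eval_prod, Finset.prod_ne_zero_iff] at hμ
  set v : K := ∑ i : Fin m, μ ^ (i : ℕ) * χ₀ (a (e.symm i))
  let b : Option (Fin m) → B := fun o => o.elim 1 fun i => G.t (a (e.symm i))
  let c : Option (Fin m) → K := fun o => o.elim (-(v + 1)) fun i => μ ^ (i : ℕ)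
  have hb : ∀ i, G.μ (b i) = G.p₁ (b i) := by
    rintro (_ | i)
    · simp [b]
    · exact G.μ_t _
  have hev : ∀ χ : A →+* K, MvPolynomial.eval₂ χ c (G.gdet b) =
      det (1 + ∑ i, c i • (G.N (b i)).map χ) := by
    intro χ
    change MvPolynomial.eval₂Hom χ c _ = _
    rw [gdet, RingHom.map_det, map_add, map_one, map_sum]
    congr 2
    refine Finset.sum_congr rfl fun i _ => ?_
    ext p q
    simp
  have h0 : det (1 + ∑ i, c i • (G.N (b i)).map χ₀) = 0 := by
    set ρ₀ := χ₀.comp (G.ε : B →+* A)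
    refine Matrix.exists_vecMul_eq_zero_iff.mp ⟨_, G.point_ne_zero ρ₀, ?_⟩
    have hs : ρ₀.comp (G.s : A →+* B) = χ₀ := RingHom.ext fun a => by simp [ρ₀, G.ε_s]
    have hρ := fun y => G.point_vecMul ρ₀ y
    rw [hs] at hρ
    rw [Matrix.vecMul_add, Matrix.vecMul_one, Matrix.vecMul_sum]
    simp only [Matrix.vecMul_smul, hρ, smul_smul, ← Finset.sum_smul]
    rw [show (∑ i, c i * ρ₀ (b i)) = -1 by
      simp [Fintype.sum_option, b, c, ρ₀, G.ε_t, v], neg_one_smul, add_neg_cancel]
  obtain ⟨g, hg⟩ : G.gdet b ∈ (MvPolynomial.map (algebraMap C A)).range := by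
    refine RingHom.mem_range.mpr (Set.mem_range.mp (MvPolynomial.mem_range_map_iff_coeffs_subset.mpr ?_))
    intro z hz
    obtain ⟨d, -, rfl⟩ := MvPolynomial.mem_coeffs_iff.mp hz
    have := congr(MvPolynomial.coeff d $(G.gdet_invariant b hb))
    rw [MvPolynomial.coeff_map, MvPolynomial.coeff_map] at this
    exact hC _ this
  have h1 : det (1 + ∑ i, c i • (G.N (b i)).map χ₁) = 0 := by
    rw [← hev, ← hg, MvPolynomial.eval₂_map, ← h, ← MvPolynomial.eval₂_map, hg, hev, h0]
  obtain ⟨L, _, j, ρ, hρ, hsum, hbij⟩ := G.exists_point_of_det_eq_zero χ₁ b c h1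
  let J := RingEquiv.ofBijective j (hbij inferInstance)
  let ρ' : B →+* K := (J.symm : L →+* K).comp ρ
  have hρ' : ρ'.comp (G.s : A →+* B) = χ₁ := by
    ext x
    simp only [ρ', RingHom.comp_apply, RingHom.coe_coe]
    rw [show ρ (G.s x) = j (χ₁ x) from RingHom.congr_fun hρ x]
    exact J.symm_apply_apply _
  refine hμ ⟨ρ', hO.mem_toFinset.mpr hρ'⟩ (Finset.mem_univ _) ?_
  have hsum' := congr(J.symm $hsum)
  simp only [map_add, map_one, map_sum, map_mul, map_zero] at hsum'
  have hj : ∀ x, J.symm (j x) = x := J.symm_apply_apply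
  simp only [Fintype.sum_option, b, c, Option.elim, map_one, mul_one, hj] at hsum'
  simp only [R, Polynomial.eval_finsetSum, Polynomial.eval_mul, Polynomial.eval_C,
    Polynomial.eval_pow, Polynomial.eval_X, sub_mul, Finset.sum_sub_distrib]
  simp only [v, ρ', RingHom.comp_apply, RingHom.coe_coe, mul_comm] at hsum' ⊢
  linear_combination hsum'

/-- Geometric points of `C` lift to `A`. -/
lemma exists_point_lift (hC : G.IsInvariants) (hinj : Function.Injective (algebraMap C A))
    {K : Type u} [Field K] [IsAlgClosed K] (ξ : C →+* K) :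
    ∃ χ : A →+* K, χ.comp (algebraMap C A) = ξ := by
  have := G.isIntegral hC
  have : (RingHom.ker ξ).IsPrime := RingHom.ker_isPrime ξ
  obtain ⟨p, -, hp, hpq⟩ := Ideal.exists_ideal_over_prime_of_isIntegral (RingHom.ker ξ) (⊥ : Ideal A)
    (by rw [Ideal.comap_bot_of_injective _ hinj]; exact bot_le)
  have : p.IsPrime := hp
  have : (RingHom.ker ξ).IsPrime := RingHom.ker_isPrime ξ
  let R₀ := C ⧸ RingHom.ker ξ
  letI : Algebra R₀ (A ⧸ p) := (Ideal.quotientMap p (algebraMap C A) hpq.ge).toAlgebra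
  letI : Algebra R₀ K := (RingHom.kerLift ξ).toAlgebra
  have : FaithfulSMul R₀ (A ⧸ p) :=
    (faithfulSMul_iff_algebraMap_injective _ _).mpr (Ideal.quotientMap_injective' hpq.le)
  have : FaithfulSMul R₀ K :=
    (faithfulSMul_iff_algebraMap_injective _ _).mpr (RingHom.kerLift_injective ξ)
  have : Algebra.IsIntegral R₀ (A ⧸ p) := by
    refine ⟨fun y => ?_⟩
    obtain ⟨y, rfl⟩ := Ideal.Quotient.mk_surjective y
    obtain ⟨q, hq, hqy⟩ := Algebra.IsIntegral.isIntegral (R := C) y
    refine ⟨q.map (Ideal.Quotient.mk (RingHom.ker ξ)), hq.map _, ?_⟩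
    rw [Polynomial.eval₂_map]
    have := congr(Ideal.Quotient.mk p $hqy)
    rw [map_zero, Polynomial.hom_eval₂] at this
    exact this
  refine ⟨(IsAlgClosed.lift (R := R₀) (S := A ⧸ p) (M := K)).toRingHom.comp (Ideal.Quotient.mk p), ?_⟩
  ext c
  exact ((IsAlgClosed.lift (R := R₀) (S := A ⧸ p) (M := K)).commutes (Ideal.Quotient.mk _ c))

end Groth.Agent.Grpd80.GrpdRing
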