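import Groth.Agent.CAlgH2.LocalDimField
import Groth.Agent.WC97.Dim

/-!
The local dimension at a point of a scheme locally of finite type over a field.
(Adapted from `VarGal.LocalDim`, whose imports clash with `VarGal.LocalImm`.)
-/
universe u
open CategoryTheory AlgebraicGeometry TopologicalSpace
noncomputable section
set_option backward.isDefEq.respectTransparency.types false

namespace Groth.Agent.Grpd80.LocDim

theorem localDim_isOpenEmbedding {A B : Type*} [TopologicalSpace A] [TopologicalSpace B] {j : A → B}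
    (hj : Topology.IsOpenEmbedding j) (a : A) : FlatMor.localDim A a = FlatMor.localDim B (j a) := by
  refine le_antisymm (le_iInf fun U => ?_) (le_iInf fun V => ?_)
  · refine (TopDim50.localDim_le ⟨j ⁻¹' U.1, U.1.isOpen.preimage hj.continuous⟩ U.2).trans ?_
    exact (Topology.IsEmbedding.isInducing ((hj.isEmbedding.comp Topology.IsEmbedding.subtypeVal).codRestrict U.1 fun z => z.2)).topologicalKrullDim_le
  · refine (TopDim50.localDim_le ⟨j '' V.1, hj.isOpenMap _ V.1.isOpen⟩ ⟨a, V.2, rfl⟩).trans ?_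
    exact (hj.isEmbedding.homeomorphImage _).symm.isInducing.topologicalKrullDim_le

variable {k : Type u} [Field k] {X : Scheme.{u}} (f : X ⟶ Spec (.of k)) [LocallyOfFiniteType f]

include f in
theorem exists_chart_localDim (x : X) :
    ∃ (S : Type u) (_ : CommRing S) (_ : Algebra k S) (_ : Algebra.FiniteType k S) (p : PrimeSpectrum S),
      FlatMor.localDim X x = ((CAlgH2.dimAt k p.asIdeal : ℕ∞) : WithBot ℕ∞) ∧
      ringKrullDim (X.presheaf.stalk x) = p.asIdeal.height ∧
      WC97.tdegN f x = CAlgH2.trdegQuot k p.asIdeal ∧ (IsClosed ({x} : Set X) → p.asIdeal.IsMaximal) := by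
  obtain ⟨_, ⟨U, hU, rfl⟩, hx, -⟩ := X.isBasis_affineOpens.exists_subset_of_mem_open (Set.mem_univ x) isOpen_univ
  let : Algebra k Γ(X, U) := (WC97.kSec f hU).toAlgebra
  have : Algebra.FiniteType k Γ(X, U) := WC97.kSec_finiteType f hU
  let p : PrimeSpectrum Γ(X, U) := hU.primeIdealOf ⟨x, hx⟩
  have hp : hU.fromSpec p = x := hU.fromSpec_primeIdealOf ⟨x, hx⟩
  refine ⟨Γ(X, U), inferInstance, inferInstance, inferInstance, p, ?_, ?_, ?_, fun h => ?_⟩
  · rw [← CAlgH2.localDim_eq_dimAt k p.asIdeal]
    conv_lhs => rw [← hp]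
    exact (localDim_isOpenEmbedding hU.fromSpec.isOpenEmbedding p).symm
  · let := TopCat.Presheaf.algebra_section_stalk X.presheaf (⟨x, hx⟩ : U)
    have := hU.isLocalization_stalk ⟨x, hx⟩
    exact IsLocalization.AtPrime.ringKrullDim_eq_height p.asIdeal (X.presheaf.stalk x)
  · unfold WC97.tdegN CAlgH2.trdegQuot
    rw [WC97.tdeg_eq_trdeg_quotient f hU hx]
  · rw [← PrimeSpectrum.isClosed_singleton_iff_isMaximal]
    have : ({p} : Set (PrimeSpectrum Γ(X, U))) = hU.fromSpec ⁻¹' {x} := by
      ext q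
      refine ⟨fun hq => by rw [Set.mem_singleton_iff.1 hq]; exact hp, fun hq => ?_⟩
      exact hU.fromSpec.isOpenEmbedding.injective ((Set.mem_singleton_iff.1 hq).trans hp.symm)
    rw [this]
    exact h.preimage hU.fromSpec.continuous

include f in
/-- The dimension formula at a point. -/
theorem localDim_eq_tdegN_add (x : X) :
    FlatMor.localDim X x = (WC97.tdegN f x : WithBot ℕ∞) + ringKrullDim (X.presheaf.stalk x) := by
  obtain ⟨S, _, _, _, p, h1, h2, h3, -⟩ := exists_chart_localDim f x
  rw [h1, h2, h3, ← CAlgH2.height_add_trdegQuot_eq_dimAt k p.asIdeal, add_comm p.asIdeal.height]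
  rfl

include f in
theorem tdegN_eq_zero_of_isClosed {x : X} (hx : IsClosed ({x} : Set X)) : WC97.tdegN f x = 0 := by
  obtain ⟨S, _, _, _, p, -, -, h3, h4⟩ := exists_chart_localDim f x
  have := h4 hx
  rw [h3, CAlgH2.trdegQuot_maximal]

end Groth.Agent.Grpd80.LocDim
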