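import Groth.Agent.S2142
import Groth.Agent.S2063
import Groth.Agent.FBase64.Chart
import Groth.Agent.Grpd80.LocDim
import Mathlib.AlgebraicGeometry.Morphisms.Smooth
import Mathlib.RingTheory.Kaehler.TensorProduct

/-!
Smoothness at a point and local dimension are invariant under extension of the base field.
-/

set_option autoImplicit false
universe u
open CategoryTheory CategoryTheory.Limits AlgebraicGeometry
open scoped TensorProduct

namespace Groth.Agent.Grpd80

section Alg

variable {k S K : Type u} [Field k] [CommRing S] [Algebra k S] [Algebra.FiniteType k S] [Field K]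
  [Algebra k K]

theorem isSmoothAt_baseChange_iff (q : Ideal S) [q.IsPrime] (qK : Ideal (K ⊗[k] S)) [qK.IsPrime]
    (hq : qK.comap (Algebra.TensorProduct.includeRight.toRingHom : S →+* K ⊗[k] S) = q) :
    Algebra.IsSmoothAt K qK ↔ Algebra.IsSmoothAt k q := by
  rw [S2063.result qK, S2063.result q, S2142.result q qK hq]
  let B := K ⊗[k] S
  let : Algebra S B := Algebra.TensorProduct.rightAlgebra
  have : IsScalarTower k S B :=
    IsScalarTower.of_algebraMap_eq fun c => (Algebra.TensorProduct.includeRight.commutes c).symm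
  have : Algebra.IsPushout k K S B := inferInstance
  let φ : q.ResidueField →+* qK.ResidueField := Ideal.ResidueField.map q qK (algebraMap S B) hq.symm
  let : Algebra q.ResidueField qK.ResidueField := φ.toAlgebra
  have : IsScalarTower S q.ResidueField qK.ResidueField :=
    IsScalarTower.of_algebraMap_eq fun x => by
      rw [RingHom.algebraMap_toAlgebra φ, IsScalarTower.algebraMap_apply S B qK.ResidueField]
      simp [φ]
      rfl
  let e₁ : qK.ResidueField ⊗[S] Ω[S⁄k] ≃ₗ[qK.ResidueField] qK.ResidueField ⊗[B] Ω[B⁄K] :=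
    (TensorProduct.AlgebraTensorModule.cancelBaseChange S B qK.ResidueField qK.ResidueField
      Ω[S⁄k]).symm.trans
      (TensorProduct.AlgebraTensorModule.congr (LinearEquiv.refl _ _)
        (KaehlerDifferential.tensorKaehlerEquiv k K S B))
  let e₂ : qK.ResidueField ⊗[q.ResidueField] (q.ResidueField ⊗[S] Ω[S⁄k]) ≃ₗ[qK.ResidueField]
      qK.ResidueField ⊗[S] Ω[S⁄k] :=
    TensorProduct.AlgebraTensorModule.cancelBaseChange S q.ResidueField qK.ResidueField
      qK.ResidueField Ω[S⁄k]
  rw [← (e₂.trans e₁).finrank_eq, Module.finrank_baseChange]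

end Alg

section Scheme

variable {k : Type u} [Field k] {X : Scheme.{u}} (f : X ⟶ Spec (CommRingCat.of k))

theorem mem_smoothLocus_spec {A : Type u} [CommRing A] [Algebra k A]
    [LocallyOfFinitePresentation (Spec.map (CommRingCat.ofHom (algebraMap k A)))]
    (P : Spec (CommRingCat.of A)) :
    P ∈ (Spec.map (CommRingCat.ofHom (algebraMap k A))).smoothLocus ↔
      Algebra.IsSmoothAt k P.asIdeal := by
  let p := P.asIdeal.comap (algebraMap k A)
  have : P.asIdeal.LiesOver p := ⟨rfl⟩
  let := Localization.AtPrime.algebraOfLiesOver p P.asIdeal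
  rw [Scheme.Hom.mem_smoothLocus]
  refine Iff.trans ?_ (Algebra.FormallySmooth.iff_restrictScalars (R := k)
    (A := Localization.AtPrime p) (B := Localization.AtPrime P.asIdeal)).symm
  rw [← RingHom.formallySmooth_algebraMap]
  exact RingHom.FormallySmooth.respectsIso.arrow_mk_iso_iff
    (Scheme.arrowStalkMapSpecIso (CommRingCat.ofHom (algebraMap k A)) P)

/-- Smoothness and local dimension at a point of a base change to a bigger field. -/
theorem smoothLocus_localDim_bc [LocallyOfFinitePresentation f] {K : Type u} [Field K] [Algebra k K]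
    (z : ↥(pullback f (Spec.map (CommRingCat.ofHom (algebraMap k K))))) :
    (z ∈ (pullback.snd f (Spec.map (CommRingCat.ofHom (algebraMap k K)))).smoothLocus ↔
      pullback.fst f (Spec.map (CommRingCat.ofHom (algebraMap k K))) z ∈ f.smoothLocus) ∧
    FlatMor.localDim ↥(pullback f (Spec.map (CommRingCat.ofHom (algebraMap k K)))) z =
      FlatMor.localDim X (pullback.fst f (Spec.map (CommRingCat.ofHom (algebraMap k K))) z) := by
  let tK := Spec.map (CommRingCat.ofHom (algebraMap k K))
  obtain ⟨A, _, _, j, _, ⟨p, hp⟩, hj⟩ := FBase64.exists_chart f (pullback.fst f tK z)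
  let c := FBase64.prodChart f tK j (𝟙 _) hj (Category.id_comp tK)
  obtain ⟨R, hR⟩ : z ∈ Set.range c := by
    rw [FBase64.range_prodChart]
    exact ⟨⟨p, hp⟩, ⟨_, rfl⟩⟩
  subst hR
  have : LocallyOfFinitePresentation (Spec.map (CommRingCat.ofHom (algebraMap k A))) := by
    rw [← hj]; infer_instance
  have : Algebra.FinitePresentation k A := by
    rw [← RingHom.finitePresentation_algebraMap]
    exact (HasRingHomProperty.Spec_iff (P := @LocallyOfFinitePresentation)).mp ‹_›
  have : Algebra.FiniteType k A := inferInstance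
  let ι := (Algebra.TensorProduct.comm k K A).toRingEquiv
  let e : Spec (CommRingCat.of (A ⊗[k] K)) ≅ Spec (CommRingCat.of (K ⊗[k] A)) :=
    Scheme.Spec.mapIso ι.toCommRingCatIso.op
  let c' : Spec (CommRingCat.of (K ⊗[k] A)) ⟶ pullback f tK := e.inv ≫ c
  let R' : Spec (CommRingCat.of (K ⊗[k] A)) := e.hom R
  have hR' : c' R' = c R := by
    show (e.inv ≫ c) (e.hom R) = _
    rw [← Scheme.Hom.comp_apply, e.hom_inv_id_assoc]
  have hsnd : c' ≫ pullback.snd f tK = Spec.map (CommRingCat.ofHom (algebraMap K (K ⊗[k] A))) := by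
    simp only [c', c, FBase64.prodChart, Category.assoc, pullback.lift_snd, Category.comp_id]
    rw [pullbackSpecIso_inv_snd]
    show Spec.map _ ≫ Spec.map _ = _
    rw [← Spec.map_comp]
    congr 1
  have hfst : c' ≫ pullback.fst f tK =
      Spec.map (CommRingCat.ofHom
        (Algebra.TensorProduct.includeRight (R := k) (A := K) (B := A)).toRingHom) ≫ j := by
    simp only [c', c, Category.assoc, FBase64.prodChart_fst]
    rw [← Category.assoc]
    congr 1
    show Spec.map _ ≫ Spec.map _ = _
    rw [← Spec.map_comp]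
    congr 1
  have hP : pullback.fst f tK (c R) =
      j (R'.comap (Algebra.TensorProduct.includeRight (R := k) (A := K) (B := A)).toRingHom) := by
    rw [← hR', ← Scheme.Hom.comp_apply, hfst]
    rfl
  let q := R'.comap (Algebra.TensorProduct.includeRight (R := k) (A := K) (B := A)).toRingHom
  constructor
  · show c R ∈ (pullback.snd f tK).smoothLocus ↔ pullback.fst f tK (c R) ∈ f.smoothLocus
    rw [hP, ← hR', ← Scheme.Hom.mem_preimage c', Scheme.Hom.preimage_smoothLocus_eq,
      ← Scheme.Hom.mem_preimage j, Scheme.Hom.preimage_smoothLocus_eq]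
    simp only [hsnd, hj]
    have : LocallyOfFinitePresentation (Spec.map (CommRingCat.ofHom (algebraMap K (K ⊗[k] A)))) := by
      rw [← hsnd]; infer_instance
    rw [mem_smoothLocus_spec (k := K) R', mem_smoothLocus_spec (k := k) q]
    exact isSmoothAt_baseChange_iff q.asIdeal R'.asIdeal rfl
  · show FlatMor.localDim ↥(pullback f tK) (c R) = FlatMor.localDim X (pullback.fst f tK (c R))
    rw [hP, ← hR', ← LocDim.localDim_isOpenEmbedding c'.isOpenEmbedding R',
      ← LocDim.localDim_isOpenEmbedding j.isOpenEmbedding]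
    exact S2142.result q.asIdeal R'.asIdeal rfl

end Scheme

end Groth.Agent.Grpd80
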