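import Groth.Agent.Grpd80.Components
import Groth.Agent.FBase64.Geometric

/-!
The component through the identity is geometrically irreducible.
-/

set_option autoImplicit false
universe u
open CategoryTheory CategoryTheory.Limits AlgebraicGeometry IsLocalRing

namespace Groth.Agent.Grpd80

variable {S : Scheme.{u}} (G : Grpd.GroupoidScheme S) {k : Type u} [Field k]
  (eU : G.U ≅ Spec (CommRingCat.of k))

theorem geometricallyIrreducible_of_preimage {X Z : Scheme.{u}} (f : X ⟶ Spec (CommRingCat.of k))
    (ι : Z ⟶ X) [IsClosedImmersion ι]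
    (h : IsIrreducible (pullback.fst f
      (Spec.map (CommRingCat.ofHom (algebraMap k (AlgebraicClosure k)))) ⁻¹' Set.range ι)) :
    GeometricallyIrreducible (ι ≫ f) := by
  let tK := Spec.map (CommRingCat.ofHom (algebraMap k (AlgebraicClosure k)))
  let m : pullback (ι ≫ f) tK ⟶ pullback f tK :=
    pullback.map _ _ _ _ ι (𝟙 _) (𝟙 _) (by simp) (by simp)
  have hr : Set.range m = pullback.fst f tK ⁻¹' Set.range ι := by
    rw [Scheme.Pullback.range_map]; simp
  have hm : m = (pullbackRightPullbackFstIso f tK ι).inv ≫ pullback.snd ι (pullback.fst f tK) := by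
    apply pullback.hom_ext
    · simp only [m, pullback.map, pullback.lift_fst, Category.assoc]
      rw [← pullback.condition, pullbackRightPullbackFstIso_inv_fst_assoc]
    · simp only [m, pullback.map, pullback.lift_snd, Category.assoc, Category.comp_id,
        pullbackRightPullbackFstIso_inv_snd_snd]
  have : IsClosedImmersion m := by rw [hm]; infer_instance
  have : IrreducibleSpace ↥(pullback (ι ≫ f) tK) := by
    have h' : IrreducibleSpace (Set.range m) := isIrreducible_iff_irreducibleSpace.mp (hr ▸ h)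
    exact m.isEmbedding.toHomeomorph.irreducibleSpace_iff.mpr h'
  exact FBase64.geometricallyIrreducible_of_sepClosed _ (algebraMap k (AlgebraicClosure k))

include eU in
theorem geometricallyIrreducible_component {Z : Scheme.{u}} (ι : Z ⟶ G.R) [IsClosedImmersion ι]
    (hZ : Set.range ι ∈ irreducibleComponents (G.R : Type u))
    (he : G.e (eU.inv (closedPoint k)) ∈ Set.range ι) :
    GeometricallyIrreducible (ι ≫ G.s ≫ eU.hom) ∧ GeometricallyIrreducible (ι ≫ G.t ≫ eU.hom) := by
  let tK := Spec.map (CommRingCat.ofHom (algebraMap k (AlgebraicClosure k)))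
  have hs := isIrreducible_preimage_component G eU hZ he
  refine ⟨geometricallyIrreducible_of_preimage _ ι hs, geometricallyIrreducible_of_preimage _ ι ?_⟩
  have : IsIso G.i := ⟨G.i, i_i' G, i_i' G⟩
  let m : pullback (G.t ≫ eU.hom) tK ⟶ pullback (G.s ≫ eU.hom) tK :=
    pullback.map _ _ _ _ G.i (𝟙 _) (𝟙 _) (by simp) (by simp)
  have : IsIso m := pullback.map_isIso ..
  have hinv : Set.range ι = G.i ⁻¹' Set.range ι := by
    have hc : G.i ⁻¹' Set.range ι ∈ irreducibleComponents (G.R : Type u) :=
      preimage_mem_irreducibleComponents hZ G.i.isOpenEmbedding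
        (by obtain ⟨z, hz⟩ := he; exact ⟨_, ⟨z, rfl⟩, G.i (ι z), by rw [← Scheme.Hom.comp_apply, i_i']; rfl⟩)
    refine uniqueComp G eU _ _ hZ _ hc he ?_
    show G.i (G.e _) ∈ Set.range ι
    have hei : G.e ≫ G.i = G.e := by
      have h1 : G.e ≫ G.s = (G.e ≫ G.i) ≫ G.t := by simp
      exact (mul_unit_left h1 (by simp)).symm.trans ((mul_inv_right h1 rfl).trans (by simp))
    rw [← Scheme.Hom.comp_apply, hei]; exact he
  have hm : pullback.fst (G.t ≫ eU.hom) tK ⁻¹' Set.range ι =
      m ⁻¹' (pullback.fst (G.s ≫ eU.hom) tK ⁻¹' Set.range ι) := by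
    ext w
    conv_lhs => rw [hinv]
    simp only [Set.mem_preimage, ← Scheme.Hom.comp_apply]
    rw [show m ≫ pullback.fst (G.s ≫ eU.hom) tK = pullback.fst (G.t ≫ eU.hom) tK ≫ G.i from
      pullback.lift_fst _ _ _]
  rw [hm]
  exact hs.preimage m.isOpenEmbedding (by
    obtain ⟨w, hw⟩ := hs.nonempty
    exact ⟨w, hw, m.surjective w⟩)

end Groth.Agent.Grpd80
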