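import Groth.Agent.Grpd80.Shear
import Groth.Agent.Unr55.FinitePart
import Groth.Prelude.Def_Hens2
import Mathlib.AlgebraicGeometry.Morphisms.UniversallyOpen

/-!
Etale localisation of a groupoid around a point with finite orbit isolated in its fibre.
-/

set_option autoImplicit false
universe u
open CategoryTheory CategoryTheory.Limits AlgebraicGeometry

namespace Groth.Agent.Grpd80

/-! ### Finite clopen parts above finitely many isolated points of a fibre -/

/-- `V` is a clopen part of the base change of `f` along `g`, finite over the base, whose fibre over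
`p'` consists of all points above `F`. -/
structure IsFinitePart {X S S' : Scheme.{u}} (f : X ⟶ S) (g : S' ⟶ S) (F : Set X) (p' : S')
    (V : (pullback f g).Opens) : Prop where
  closed : IsClosed (V : Set ↥(pullback f g))
  finite : IsFinite (V.ι ≫ pullback.snd f g)
  fibre : ∀ x : ↥(pullback f g), pullback.snd f g x = p' → (x ∈ V ↔ pullback.fst f g x ∈ F)

theorem finite_isolated {X S : Scheme.{u}} (f : X ⟶ S) [LocallyOfFiniteType f] (y : S)
    (hfin : (f ⁻¹' {y}).Finite) {x : X} (hx : f x = y) :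
    ∃ W : X.Opens, x ∈ W ∧ ∀ z ∈ W, f z = y → z = x := by
  subst hx
  have h := Scheme.Hom.quasiFiniteAt_iff_isOpen_singleton_asFiber.mp
    (Unr55.quasiFiniteAt_of_finite_preimage f x hfin)
  rw [← (f.fiberHomeo (f x)).isOpen_image, Set.image_singleton] at h
  obtain ⟨O, hO, hOeq⟩ := isOpen_induced_iff.mp h
  have hmem : ∀ z : ↥(f ⁻¹' {f x}), z.1 ∈ O ↔ z.1 = x := by
    intro z
    have := Set.ext_iff.mp hOeq z
    rw [Set.mem_preimage, Set.mem_singleton_iff, Scheme.Hom.asFiber, Homeomorph.apply_symm_apply] at this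
    rw [this, Subtype.ext_iff]
  exact ⟨⟨O, hO⟩, (hmem ⟨x, rfl⟩).mpr rfl, fun z hz hzx => (hmem ⟨z, hzx⟩).mp hz⟩

theorem exists_finitePart {X S : Scheme.{u}} (f : X ⟶ S) [LocallyOfFiniteType f] [IsSeparated f]
    (p : S) (F : Set X) (hF : F.Finite) (hFp : ∀ x ∈ F, f x = p)
    (hiso : ∀ x ∈ F, ∃ W : X.Opens, x ∈ W ∧ ∀ z ∈ W, f z = p → z = x) :
    ∃ (S' : Scheme.{u}) (g : S' ⟶ S) (p' : S') (V : (pullback f g).Opens),
      Etale g ∧ g p' = p ∧ IsIso (g.residueFieldMap p') ∧ IsFinitePart f g F p' V := by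
  choose W hxW hW using hiso
  let W₀ : X.Opens := ⨆ (x : X) (hx : x ∈ F), W x hx
  have hW₀ : ∀ z ∈ W₀, f z = p → z ∈ F := by
    intro z hz hzp
    simp only [W₀, TopologicalSpace.Opens.mem_iSup] at hz
    obtain ⟨x, hx, hzx⟩ := hz
    rwa [hW x hx z hzx hzp]
  have hFW₀ : ∀ x ∈ F, x ∈ W₀ := by
    intro x hx
    simp only [W₀, TopologicalSpace.Opens.mem_iSup]
    exact ⟨x, hx, hxW x hx⟩
  have hfin : ((W₀.ι ≫ f) ⁻¹' {p}).Finite := by
    refine Set.Finite.of_finite_image (f := W₀.ι) (hF.subset ?_) W₀.ι.injective.injOn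
    rintro _ ⟨z, hz, rfl⟩
    exact hW₀ _ z.2 hz
  obtain ⟨S', g, p', hg, hgp, hgi, V, V', hVV', hVfin, hV⟩ :=
    Unr55.exists_etale_clopen_finite_part (W₀.ι ≫ f) p hfin
  let j : pullback (W₀.ι ≫ f) g ⟶ pullback f g :=
    pullback.map (W₀.ι ≫ f) g f g W₀.ι (𝟙 S') (𝟙 S) (Category.comp_id _)
      ((Category.comp_id _).trans (Category.id_comp _).symm)
  have hj : j ≫ pullback.snd f g = pullback.snd _ _ := by
    simp [j, pullback.lift_snd]
  have hsq : IsPullback j (pullback.fst (W₀.ι ≫ f) g) (pullback.fst f g) W₀.ι := by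
    refine IsPullback.of_right ?_ (by simp [j, pullback.lift_fst]) (IsPullback.of_hasPullback f g).flip
    rw [hj]
    exact (IsPullback.of_hasPullback (W₀.ι ≫ f) g).flip
  have hoj : IsOpenImmersion j :=
    MorphismProperty.of_isPullback hsq.flip (inferInstance : IsOpenImmersion W₀.ι)
  refine ⟨S', g, p', j ''ᵁ V, hg, hgp, hgi, ?_, ?_, fun x hx => ?_⟩
  · have hVfin' : IsFinite ((V.ι ≫ j) ≫ pullback.snd f g) := by rwa [Category.assoc, hj]
    have : IsFinite (V.ι ≫ j) := IsFinite.of_comp (V.ι ≫ j) (pullback.snd f g)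
    have hcl := (V.ι ≫ j).isClosedMap.isClosed_range
    convert hcl using 1
    ext z
    simp only [Set.mem_range, Scheme.Hom.comp_apply]
    constructor
    · rintro ⟨w, hw, rfl⟩; exact ⟨⟨w, hw⟩, rfl⟩
    · rintro ⟨w, rfl⟩; exact ⟨w.1, w.2, rfl⟩
  · have : (j ''ᵁ V).ι ≫ pullback.snd f g = (j.isoImage V).inv ≫ V.ι ≫ pullback.snd _ g := by
      rw [← hj, Iso.eq_inv_comp, ← Category.assoc, Scheme.Hom.isoImage_hom_ι, Category.assoc]
    rw [this]
    exact (MorphismProperty.cancel_left_of_respectsIso @IsFinite _ _).mpr hVfin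
  · have hxp : f (pullback.fst f g x) = p := by
      rw [← Scheme.Hom.comp_apply, pullback.condition, Scheme.Hom.comp_apply, hx, hgp]
    constructor
    · rintro ⟨w, -, rfl⟩
      refine hW₀ _ ?_ hxp
      show pullback.fst f g (j w) ∈ W₀
      rw [← Scheme.Hom.comp_apply, hsq.w, Scheme.Hom.comp_apply]
      exact (pullback.fst (W₀.ι ≫ f) g w).2
    · intro hxF
      obtain ⟨w, hw1, hw2⟩ := Scheme.Pullback.exists_preimage_pullback (f := W₀.ι ≫ f) (g := g)
        ⟨_, hFW₀ _ hxF⟩ p' (by rw [hgp]; exact hxp)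
      refine ⟨w, hV w hw2, ?_⟩
      have e : pullback.snd f g (j w) = p' := by rw [← Scheme.Hom.comp_apply, hj, hw2]
      have : IsIso (g.residueFieldMap (pullback.snd f g (j w))) := by rw [e]; exact hgi
      refine Unr55.pullback_eq_of_fst_eq_of_snd_eq (IsPullback.of_hasPullback f g) (j w) x ?_ ?_
      · rw [← Scheme.Hom.comp_apply, hsq.w, Scheme.Hom.comp_apply, hw1]; rfl
      · rw [← Scheme.Hom.comp_apply, hj, hw2, hx]

/-- Finite parts pull back along a further localisation. -/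
theorem IsFinitePart.transfer {X S S' S'' : Scheme.{u}} {f : X ⟶ S} {g : S' ⟶ S} {g' : S'' ⟶ S}
    {F : Set X} {p' : S'} {V : (pullback f g).Opens} (hV : IsFinitePart f g F p' V) (h : S'' ⟶ S')
    (hg : h ≫ g = g') (p'' : S'') (hp : h p'' = p') :
    IsFinitePart f g' F p'' (pullback.map f g' f g (𝟙 X) h (𝟙 S) (by simp)
      (by rw [Category.comp_id, hg]) ⁻¹ᵁ V) := by
  let m := pullback.map f g' f g (𝟙 X) h (𝟙 S) (by simp) (by rw [Category.comp_id, hg])
  have hm : m ≫ pullback.snd f g = pullback.snd f g' ≫ h := pullback.lift_snd _ _ _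
  have hm1 : m ≫ pullback.fst f g = pullback.fst f g' := by
    simp [m, pullback.lift_fst]
  have sq : IsPullback m (pullback.snd f g') (pullback.snd f g) h := by
    refine IsPullback.of_right ?_ hm (IsPullback.of_hasPullback f g)
    rw [hm1, hg]
    exact IsPullback.of_hasPullback f g'
  have sqV := (isPullback_morphismRestrict m V).paste_vert sq
  refine ⟨hV.closed.preimage m.continuous, ?_, fun x hx => ?_⟩
  · exact MorphismProperty.of_isPullback sqV hV.finite
  · show m x ∈ V ↔ _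
    rw [hV.fibre (m x) (by rw [← Scheme.Hom.comp_apply, hm, Scheme.Hom.comp_apply, hx, hp]),
      ← Scheme.Hom.comp_apply, hm1]

/-! ### Orbits -/

variable {S : Scheme.{u}} (G : Grpd.GroupoidScheme S)

/-- Finiteness of a fibre of `s` moves along the orbit. -/
theorem finite_fibre_s_orbit [LocallyOfFiniteType G.s] (r : G.R)
    (hfin : (⇑G.s ⁻¹' {G.s r}).Finite) : (⇑G.s ⁻¹' {G.t r}).Finite := by
  let γ : Spec (G.R.residueField r) ⟶ G.R := G.R.fromSpecResidueField r
  have hγ : ∀ z, γ z = r := fun z => Scheme.fromSpecResidueField_apply _ z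
  have hfinP : Finite ↥(pullback G.s (γ ≫ G.s)) := by
    let κu := G.U.fromSpecResidueField (G.s r)
    let ι : Spec (G.R.residueField r) ⟶ Spec (G.U.residueField (G.s r)) :=
      Spec.map (G.s.residueFieldMap r)
    have hι : ι ≫ κu = γ ≫ G.s := Scheme.Hom.SpecMap_residueFieldMap_fromSpecResidueField _ _
    let m : pullback G.s (γ ≫ G.s) ⟶ pullback G.s κu :=
      pullback.map _ _ _ _ (𝟙 _) ι (𝟙 _) (by simp) (by rw [Category.comp_id, hι])
    have sq : IsPullback m (pullback.snd G.s (γ ≫ G.s)) (pullback.snd G.s κu) ι := by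
      refine IsPullback.of_right ?_ (pullback.lift_snd _ _ _) (IsPullback.of_hasPullback G.s κu)
      rw [pullback.lift_fst, Category.comp_id, hι]
      exact IsPullback.of_hasPullback _ _
    have hfib : Finite ↥(pullback G.s κu) := by
      have : Finite ↑(⇑G.s ⁻¹' {G.s r}) := hfin.to_subtype
      exact .of_equiv _ (G.s.fiberHomeo (G.s r)).toEquiv.symm
    have : LocallyQuasiFinite (pullback.snd G.s κu) :=
      LocallyQuasiFinite.of_finite_preimage_singleton _ fun _ => Set.toFinite _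
    have : QuasiCompact (pullback.snd G.s κu) :=
      ⟨fun _ _ _ => (Set.toFinite _).isCompact⟩
    have : LocallyQuasiFinite (pullback.snd G.s (γ ≫ G.s)) :=
      MorphismProperty.of_isPullback sq ‹_›
    have : QuasiCompact (pullback.snd G.s (γ ≫ G.s)) := MorphismProperty.of_isPullback sq ‹_›
    refine Set.finite_univ_iff.mp (((pullback.snd G.s (γ ≫ G.s)).finite_preimage
      Set.finite_univ).subset fun z _ => Set.mem_univ _)
  have : Finite ↥(pullback G.s (γ ≫ G.t)) :=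
    .of_equiv _ (shearR G γ).hom.homeomorph.toEquiv.symm
  refine (Set.finite_range ⇑(pullback.fst G.s (γ ≫ G.t))).subset fun z hz => ?_
  obtain ⟨w, hw, -⟩ := Scheme.Pullback.exists_preimage_pullback (f := G.s) (g := γ ≫ G.t) z
    (IsLocalRing.closedPoint _) (by rw [Scheme.Hom.comp_apply, hγ]; exact hz)
  exact ⟨w, hw⟩

/-- Base change of the source map. -/
noncomputable abbrev sBC {S' : Scheme.{u}} (g : S' ⟶ S) : pullback G.pR g ⟶ pullback G.pU g :=
  pullback.map G.pR g G.pU g G.s (𝟙 S') (𝟙 S) ((Category.comp_id _).trans G.s_over.symm)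
    ((Category.comp_id _).trans (Category.id_comp _).symm)

/-- Base change of the target map. -/
noncomputable abbrev tBC {S' : Scheme.{u}} (g : S' ⟶ S) : pullback G.pR g ⟶ pullback G.pU g :=
  pullback.map G.pR g G.pU g G.t (𝟙 S') (𝟙 S) ((Category.comp_id _).trans G.t_over.symm)
    ((Category.comp_id _).trans (Category.id_comp _).symm)

lemma sBC_fst {S' : Scheme.{u}} (g : S' ⟶ S) (x : ↥(pullback G.pR g)) :
    pullback.fst G.pU g (sBC G g x) = G.s (pullback.fst G.pR g x) := by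
  rw [← Scheme.Hom.comp_apply, ← Scheme.Hom.comp_apply, pullback.lift_fst]
lemma sBC_snd {S' : Scheme.{u}} (g : S' ⟶ S) (x : ↥(pullback G.pR g)) :
    pullback.snd G.pU g (sBC G g x) = pullback.snd G.pR g x := by
  rw [← Scheme.Hom.comp_apply, pullback.lift_snd, Category.comp_id]
lemma tBC_fst {S' : Scheme.{u}} (g : S' ⟶ S) (x : ↥(pullback G.pR g)) :
    pullback.fst G.pU g (tBC G g x) = G.t (pullback.fst G.pR g x) := by
  rw [← Scheme.Hom.comp_apply, ← Scheme.Hom.comp_apply, pullback.lift_fst]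
lemma tBC_snd {S' : Scheme.{u}} (g : S' ⟶ S) (x : ↥(pullback G.pR g)) :
    pullback.snd G.pU g (tBC G g x) = pullback.snd G.pR g x := by
  rw [← Scheme.Hom.comp_apply, pullback.lift_snd, Category.comp_id]

/-- The orbit of a point. -/
def orbit (u : G.U) : Set G.U := ⇑G.t '' (⇑G.s ⁻¹' {u})

lemma mem_orbit_self (u : G.U) : u ∈ orbit G u :=
  ⟨G.e u, by show G.s (G.e u) = u; rw [← Scheme.Hom.comp_apply, G.e_s]; rfl,
    by rw [← Scheme.Hom.comp_apply, G.e_t]; rfl⟩

lemma orbit_invariant (u : G.U) (r : G.R) : G.s r ∈ orbit G u ↔ G.t r ∈ orbit G u := by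
  constructor
  · rintro ⟨b, hb, hbr⟩
    obtain ⟨c, hc1, hc2⟩ := exists_comp G (a := r) (b := b) hbr.symm
    exact ⟨c, hc1.trans hb, hc2⟩
  · rintro ⟨b, hb, hbr⟩
    obtain ⟨i, hi1, hi2⟩ := exists_inv G r
    obtain ⟨c, hc1, hc2⟩ := exists_comp G (a := i) (b := b) (hi1.trans hbr.symm)
    exact ⟨c, hc1.trans hb, hc2.trans hi2⟩

/-- Two points with trivial residue extensions give such a point of the fibre product. -/
theorem exists_point_residueIso {S S₁ S₂ : Scheme.{u}} (g₁ : S₁ ⟶ S) (g₂ : S₂ ⟶ S) (p₁ : S₁) (p₂ : S₂)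
    (h : g₁ p₁ = g₂ p₂) [IsIso (g₁.residueFieldMap p₁)] [IsIso (g₂.residueFieldMap p₂)] :
    ∃ p' : ↥(pullback g₁ g₂), pullback.fst g₁ g₂ p' = p₁ ∧ pullback.snd g₁ g₂ p' = p₂ ∧
      IsIso ((pullback.snd g₁ g₂ ≫ g₂).residueFieldMap p') := by
  let x₁ : Spec (S.residueField (g₁ p₁)) ⟶ S₁ :=
    Spec.map (inv (g₁.residueFieldMap p₁)) ≫ S₁.fromSpecResidueField p₁
  let x₂ : Spec (S.residueField (g₁ p₁)) ⟶ S₂ :=
    Spec.map (S.residueFieldCongr h).inv ≫ Spec.map (inv (g₂.residueFieldMap p₂)) ≫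
      S₂.fromSpecResidueField p₂
  have hinv : ∀ {Z : Scheme.{u}} (g : Z ⟶ S) (q : Z) [IsIso (g.residueFieldMap q)],
      Spec.map (inv (g.residueFieldMap q)) ≫ Z.fromSpecResidueField q ≫ g =
        S.fromSpecResidueField (g q) := fun g q _ => by
    rw [← Scheme.Hom.SpecMap_residueFieldMap_fromSpecResidueField, ← Category.assoc, ← Spec.map_comp,
      IsIso.hom_inv_id, Spec.map_id, Category.id_comp]
  have h₁ : x₁ ≫ g₁ = S.fromSpecResidueField (g₁ p₁) := by rw [Category.assoc, hinv]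
  have h₂ : x₂ ≫ g₂ = S.fromSpecResidueField (g₁ p₁) := by
    simp only [x₂, Category.assoc]
    rw [hinv]
    exact Scheme.residueFieldCongr_fromSpecResidueField (h).symm
  let σ := pullback.lift x₁ x₂ (h₁.trans h₂.symm)
  let c := IsLocalRing.closedPoint (S.residueField (g₁ p₁))
  refine ⟨σ c, ?_, ?_, ?_⟩
  · rw [← Scheme.Hom.comp_apply, pullback.lift_fst, Scheme.Hom.comp_apply]
    exact Scheme.fromSpecResidueField_apply _ _
  · rw [← Scheme.Hom.comp_apply, pullback.lift_snd, Scheme.Hom.comp_apply, Scheme.Hom.comp_apply]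
    exact Scheme.fromSpecResidueField_apply _ _
  · have hσ : σ ≫ pullback.snd g₁ g₂ ≫ g₂ = S.fromSpecResidueField (g₁ p₁) := by
      rw [pullback.lift_snd_assoc]; exact h₂
    have hi : IsIso ((σ ≫ pullback.snd g₁ g₂ ≫ g₂).residueFieldMap c) := by
      rw [hσ, ConcreteCategory.isIso_iff_bijective]
      exact ⟨RingHom.injective _,
        Ideal.Quotient.lift_surjective_of_surjective _ _ (Ideal.Quotient.mk_surjective.comp
          ((S.fromSpecResidueField (g₁ p₁)).stalkMap_surjective c))⟩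
    rw [Scheme.residueFieldMap_comp] at hi
    have hb := @ConcreteCategory.bijective_of_isIso _ _ _ _ _ _ _ _
      ((pullback.snd g₁ g₂ ≫ g₂).residueFieldMap (σ c) ≫ σ.residueFieldMap c) hi
    rw [ConcreteCategory.isIso_iff_bijective]
    refine ⟨RingHom.injective _, fun y => ?_⟩
    obtain ⟨z, hz⟩ := hb.2 ((σ.residueFieldMap c) y)
    exact ⟨z, (σ.residueFieldMap c).hom.injective hz⟩

/-- The conclusion of the localisation lemma. -/
structure IsGoodPart (p : S) (u : G.U) {S' : Scheme.{u}} (g : S' ⟶ S) (p' : S')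
    (U' : (pullback G.pU g).Opens) (R' : (pullback G.pR g).Opens) : Prop where
  partU : IsFinitePart G.pU g (orbit G u) p' U'
  partR : IsFinitePart G.pR g (⇑G.s ⁻¹' orbit G u) p' R'
  sMaps : ⇑(sBC G g) '' (R' : Set ↥(pullback G.pR g)) ⊆ U'
  tMaps : ⇑(tBC G g) '' (R' : Set ↥(pullback G.pR g)) ⊆ U'

theorem exists_goodPart [LocallyOfFiniteType G.pU] [IsSeparated G.pU] [IsSeparated G.pR]
    [Flat G.s] [LocallyOfFinitePresentation G.s] [Flat G.t] [LocallyOfFinitePresentation G.t]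
    (p : S) (u : G.U) (hu : G.pU u = p)
    (hqf : ∃ V : G.U.Opens, u ∈ V ∧ ∀ x ∈ V, G.pU x = p → x = u)
    (hfin : (⇑G.s ⁻¹' {u}).Finite) :
    ∃ (S' : Scheme.{u}) (g : S' ⟶ S) (p' : S') (_ : Etale g) (_ : g p' = p)
      (_ : IsIso (g.residueFieldMap p')) (U' : (pullback G.pU g).Opens)
      (R' : (pullback G.pR g).Opens), IsGoodPart G p u g p' U' R' := by
  have hlR : LocallyOfFiniteType G.pR := by rw [← G.s_over]; infer_instance
  have hpt : ∀ r, G.pR r = G.pU (G.t r) := fun r => by rw [← Scheme.Hom.comp_apply, G.t_over]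
  have hps : ∀ r, G.pR r = G.pU (G.s r) := fun r => by rw [← Scheme.Hom.comp_apply, G.s_over]
  have hΩp : ∀ x ∈ orbit G u, G.pU x = p := by
    rintro _ ⟨r, hr, rfl⟩
    rw [← hpt, hps, show G.s r = u from hr, hu]
  obtain ⟨V, huV, hV⟩ := hqf
  have hΩiso : ∀ x ∈ orbit G u, ∃ W : G.U.Opens, x ∈ W ∧ ∀ z ∈ W, G.pU z = p → z = x := by
    rintro _ ⟨r, hr, rfl⟩
    obtain ⟨W, hrW, hW⟩ := finite_isolated G.s u hfin (show G.s r = u from hr)
    refine ⟨⟨_, G.t.isOpenMap _ (W ⊓ G.s ⁻¹ᵁ V).isOpen⟩, ⟨r, ⟨hrW, ?_⟩, rfl⟩, ?_⟩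
    · show G.s r ∈ V
      rw [show G.s r = u from hr]; exact huV
    · rintro _ ⟨z, ⟨hzW, hzV⟩, rfl⟩ hz
      rw [hW z hzW (hV _ hzV (by rw [← hps, hpt, hz]))]
  have hΩfin : (orbit G u).Finite := hfin.image _
  have hsfin : ∀ x ∈ orbit G u, (⇑G.s ⁻¹' {x}).Finite := by
    rintro _ ⟨r, hr, rfl⟩
    exact finite_fibre_s_orbit G r (by rw [show G.s r = u from hr]; exact hfin)
  have hRfin : (⇑G.s ⁻¹' orbit G u).Finite := hΩfin.preimage' hsfin
  have hRiso : ∀ r ∈ ⇑G.s ⁻¹' orbit G u,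
      ∃ W : G.R.Opens, r ∈ W ∧ ∀ z ∈ W, G.pR z = p → z = r := by
    intro r hr
    obtain ⟨W, hrW, hW⟩ := finite_isolated G.s (G.s r) (hsfin _ hr) rfl
    obtain ⟨W', hrW', hW'⟩ := hΩiso _ hr
    exact ⟨W ⊓ G.s ⁻¹ᵁ W', ⟨hrW, hrW'⟩, fun z hz hzp => hW z hz.1 (hW' _ hz.2 (by rw [← hps, hzp]))⟩
  obtain ⟨S₁, g₁, p₁, U₁, hg₁, hp₁, hi₁, hU₁⟩ := exists_finitePart G.pU p _ hΩfin hΩp hΩiso
  obtain ⟨S₂, g₂, p₂, R₂, hg₂, hp₂, hi₂, hR₂⟩ := exists_finitePart G.pR p _ hRfin
    (fun r hr => by rw [hps]; exact hΩp _ hr) hRiso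
  obtain ⟨p', hp'1, hp'2, hiso⟩ := exists_point_residueIso g₁ g₂ p₁ p₂ (hp₁.trans hp₂.symm)
  let a := pullback.fst g₁ g₂
  let b := pullback.snd g₁ g₂
  have hbp : b p' = p₂ := hp'2
  let U' := pullback.map G.pU (b ≫ g₂) G.pU g₁ (𝟙 _) a (𝟙 S) (by simp)
    (by rw [Category.comp_id]; exact pullback.condition.symm) ⁻¹ᵁ U₁
  let R₀ := pullback.map G.pR (b ≫ g₂) G.pR g₂ (𝟙 _) b (𝟙 S) (by simp)
    (by rw [Category.comp_id]) ⁻¹ᵁ R₂
  have hU' : IsFinitePart G.pU (b ≫ g₂) (orbit G u) p' U' :=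
    hU₁.transfer a pullback.condition p' hp'1
  have hR₀ : IsFinitePart G.pR (b ≫ g₂) (⇑G.s ⁻¹' orbit G u) p' R₀ := hR₂.transfer b rfl p' hp'2
  let R' := R₀ ⊓ (sBC G (b ≫ g₂) ⁻¹ᵁ U' ⊓ tBC G (b ≫ g₂) ⁻¹ᵁ U')
  have hcl : IsClosed (R' : Set ↥(pullback G.pR (b ≫ g₂))) :=
    hR₀.closed.inter ((hU'.closed.preimage (sBC G _).continuous).inter
      (hU'.closed.preimage (tBC G _).continuous))
  refine ⟨_, b ≫ g₂, p', inferInstance, by rw [Scheme.Hom.comp_apply, hbp, hp₂], hiso, U', R', hU',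
    ⟨hcl, ?_, ?_⟩, ?_, ?_⟩
  · let i := (pullback G.pR (b ≫ g₂)).homOfLE (inf_le_left : R' ≤ R₀)
    have : IsClosedImmersion i := by
      refine IsClosedImmersion.of_isPreimmersion _ ?_
      have hr : Set.range ⇑i = R₀.ι ⁻¹' (R' : Set ↥(pullback G.pR (b ≫ g₂))) :=
        congrArg SetLike.coe (Scheme.opensRange_homOfLE (inf_le_left : R' ≤ R₀))
      rw [hr]
      exact hcl.preimage R₀.ι.continuous
    have := hR₀.finite
    rw [← Scheme.homOfLE_ι _ (inf_le_left : R' ≤ R₀), Category.assoc]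
    infer_instance
  · intro x hx
    constructor
    · exact fun h => (hR₀.fibre x hx).mp h.1
    · intro h
      refine ⟨(hR₀.fibre x hx).mpr h, ?_, ?_⟩
      · refine (hU'.fibre _ (by rw [sBC_snd, hx])).mpr ?_
        rw [sBC_fst]; exact h
      · refine (hU'.fibre _ (by rw [tBC_snd, hx])).mpr ?_
        rw [tBC_fst]; exact (orbit_invariant G u _).mp h
  · rintro _ ⟨x, hx, rfl⟩; exact hx.2.1
  · rintro _ ⟨x, hx, rfl⟩; exact hx.2.2

theorem IsGoodPart.transfer {p : S} {u : G.U} {S' S'' : Scheme.{u}} {g : S' ⟶ S} {p' : S'}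
    {U' : (pullback G.pU g).Opens} {R' : (pullback G.pR g).Opens}
    (h : IsGoodPart G p u g p' U' R') (k : S'' ⟶ S') (p'' : S'') (hp : k p'' = p') :
    IsGoodPart G p u (k ≫ g) p''
      (pullback.map G.pU (k ≫ g) G.pU g (𝟙 _) k (𝟙 S) (by simp) (by simp) ⁻¹ᵁ U')
      (pullback.map G.pR (k ≫ g) G.pR g (𝟙 _) k (𝟙 S) (by simp) (by simp) ⁻¹ᵁ R') := by
  refine ⟨h.partU.transfer k rfl p'' hp, h.partR.transfer k rfl p'' hp, ?_, ?_⟩
  · rintro _ ⟨x, hx, rfl⟩
    refine h.sMaps ⟨_, hx, ?_⟩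
    simp only [← Scheme.Hom.comp_apply]
    refine congrArg (fun f : pullback G.pR (k ≫ g) ⟶ pullback G.pU g => f x) ?_
    apply pullback.hom_ext <;> simp [sBC, pullback.lift_fst, pullback.lift_snd, pullback.lift_fst_assoc, pullback.lift_snd_assoc]
  · rintro _ ⟨x, hx, rfl⟩
    refine h.tMaps ⟨_, hx, ?_⟩
    simp only [← Scheme.Hom.comp_apply]
    refine congrArg (fun f : pullback G.pR (k ≫ g) ⟶ pullback G.pU g => f x) ?_
    apply pullback.hom_ext <;> simp [tBC, pullback.lift_fst, pullback.lift_snd, pullback.lift_fst_assoc, pullback.lift_snd_assoc]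

end Groth.Agent.Grpd80

namespace Groth.Agent.Grpd80

variable {S : Scheme.{u}} {G : Grpd.GroupoidScheme S} {p : S} {u : G.U} {S' : Scheme.{u}}
  {g : S' ⟶ S} {p' : S'} {U' : (pullback G.pU g).Opens} {R' : (pullback G.pR g).Opens}

theorem IsGoodPart.exists_point (h : IsGoodPart G p u g p' U' R') (hu : G.pU u = p) (hp : g p' = p) :
    ∃ u' : ↥(pullback G.pU g), u' ∈ U' ∧ pullback.fst G.pU g u' = u ∧ pullback.snd G.pU g u' = p' := by
  obtain ⟨u', h1, h2⟩ := Scheme.Pullback.exists_preimage_pullback (f := G.pU) (g := g) u p'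
    (hu.trans hp.symm)
  exact ⟨u', (h.partU.fibre u' h2).mpr (h1 ▸ mem_orbit_self G u), h1, h2⟩

theorem IsGoodPart.fibre_eq (h : IsGoodPart G p u g p' U' R') [IsIso (g.residueFieldMap p')]
    (u' : ↥(pullback G.pU g)) (h1 : pullback.fst G.pU g u' = u) (h2 : pullback.snd G.pU g u' = p') :
    {x : ↥(pullback G.pU g) | x ∈ U' ∧ pullback.snd G.pU g x = p'} =
      ⇑(tBC G g) '' (⇑(sBC G g) ⁻¹' {u'}) := by
  have key : ∀ a b : ↥(pullback G.pU g), pullback.fst G.pU g a = pullback.fst G.pU g b →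
      pullback.snd G.pU g a = p' → pullback.snd G.pU g b = p' → a = b := fun a b hf ha hb => by
    have : IsIso (g.residueFieldMap (pullback.snd G.pU g a)) := by rw [ha]; assumption
    exact Unr55.pullback_eq_of_fst_eq_of_snd_eq (IsPullback.of_hasPullback G.pU g) a b hf
      (ha.trans hb.symm)
  apply Set.ext
  intro x
  constructor
  · rintro ⟨hx, hxp⟩
    obtain ⟨r, hr, hrx⟩ := (h.partU.fibre x hxp).mp hx
    obtain ⟨z, hz1, hz2⟩ := Scheme.Pullback.exists_preimage_pullback (f := G.pR) (g := g) r p' (by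
      rw [← G.t_over, Scheme.Hom.comp_apply, hrx, ← Scheme.Hom.comp_apply, pullback.condition,
        Scheme.Hom.comp_apply, hxp])
    refine ⟨z, key _ _ ?_ (by rw [sBC_snd, hz2]) h2, key _ _ ?_ (by rw [tBC_snd, hz2]) hxp⟩
    · rw [sBC_fst, hz1, h1]; exact hr
    · rw [tBC_fst, hz1, hrx]
  · rintro ⟨z, hz, rfl⟩
    have hz' : sBC G g z = u' := hz
    have hzp : pullback.snd G.pR g z = p' := by rw [← sBC_snd, hz', h2]
    refine ⟨(h.partU.fibre _ (by rw [tBC_snd, hzp])).mpr ?_, by rw [tBC_snd, hzp]⟩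
    rw [tBC_fst]
    exact ⟨_, show G.s (pullback.fst G.pR g z) = u by rw [← sBC_fst, hz', h1], rfl⟩

theorem IsGoodPart.fibreR_eq (h : IsGoodPart G p u g p' U' R') :
    {r : ↥(pullback G.pR g) | r ∈ R' ∧ pullback.snd G.pR g r = p'} =
      ⇑(sBC G g) ⁻¹' {x | x ∈ U' ∧ pullback.snd G.pU g x = p'} := by
  apply Set.ext
  intro x
  simp only [Set.mem_setOf_eq, Set.mem_preimage, sBC_snd]
  refine and_congr_left fun hx => ?_
  rw [h.partR.fibre x hx, h.partU.fibre _ (by rw [sBC_snd, hx]), sBC_fst]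
  exact Iff.rfl

/-- When `j` is universally closed the arrows between points of the finite part outside `R'` avoid a
neighbourhood of `p'`. -/
theorem IsGoodPart.exists_full [UniversallyClosed G.j] [IsSeparated G.pU]
    (h : IsGoodPart G p u g p' U' R') :
    ∃ O : S'.Opens, p' ∈ O ∧ ∀ x : ↥(pullback G.pR g), sBC G g x ∈ U' → tBC G g x ∈ U' →
      pullback.snd G.pR g x ∈ O → x ∈ R' := by
  let q : U'.toScheme ⟶ S' := U'.ι ≫ pullback.snd G.pU g
  have := h.partU.finite
  let v := U'.ι ≫ pullback.fst G.pU g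
  let μ : pullback q q ⟶ pullback G.pU G.pU :=
    pullback.map q q G.pU G.pU v v g (by simp only [v, q, Category.assoc, pullback.condition])
      (by simp only [v, q, Category.assoc, pullback.condition])
  let P := pullback μ G.j
  let a : P ⟶ U'.toScheme := pullback.fst μ G.j ≫ pullback.fst q q
  let l : P ⟶ pullback G.pR g := pullback.lift (pullback.snd μ G.j) (a ≫ q) (by
    have h1 : pullback.snd μ G.j ≫ G.t = a ≫ v := by
      rw [← j_fst, ← Category.assoc, ← pullback.condition, Category.assoc, pullback.lift_fst]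
      simp only [a, Category.assoc]
    rw [← G.t_over, reassoc_of% h1]
    simp only [v, q, Category.assoc, pullback.condition])
  let π : P ⟶ S' := pullback.fst μ G.j ≫ pullback.fst q q ≫ q
  have hq : IsFinite q := h.partU.finite
  have hπ : UniversallyClosed π := inferInstance
  let E : Set ↥(pullback G.pR g) :=
    (⇑(sBC G g) ⁻¹' U' ∩ ⇑(tBC G g) ⁻¹' U') \ R'
  have hE : IsClosed E :=
    ((h.partU.closed.preimage (sBC G g).continuous).inter
      (h.partU.closed.preimage (tBC G g).continuous)).inter R'.isOpen.isClosed_compl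
  have hcl : IsClosed (⇑π '' (⇑l ⁻¹' E)) := π.isClosedMap _ (hE.preimage l.continuous)
  refine ⟨⟨_, hcl.isOpen_compl⟩, ?_, fun x hsx htx hxO => ?_⟩
  · rintro ⟨w, ⟨⟨hs, -⟩, hR⟩, hw⟩
    have hsnd : pullback.snd G.pR g (l w) = p' := by
      rw [← Scheme.Hom.comp_apply, pullback.lift_snd, Category.assoc]
      exact hw
    refine hR ((h.partR.fibre _ hsnd).mpr ?_)
    show G.s (pullback.fst G.pR g (l w)) ∈ orbit G u
    rw [← sBC_fst]
    exact (h.partU.fibre _ (by rw [sBC_snd, hsnd])).mp hs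
  · by_contra hxR
    let χ : Spec ((pullback G.pR g).residueField x) ⟶ pullback G.pR g :=
      (pullback G.pR g).fromSpecResidueField x
    have hr : ∀ (m : pullback G.pR g ⟶ pullback G.pU g), m x ∈ U' →
        Set.range ⇑(χ ≫ m) ⊆ Set.range ⇑U'.ι := fun m hm => by
      rintro _ ⟨z, rfl⟩
      rw [Scheme.Hom.comp_apply, Scheme.fromSpecResidueField_apply, Scheme.Opens.range_ι]
      exact hm
    let xt := IsOpenImmersion.lift U'.ι (χ ≫ tBC G g) (hr _ htx)
    let xs := IsOpenImmersion.lift U'.ι (χ ≫ sBC G g) (hr _ hsx)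
    have hxtq : xt ≫ q = χ ≫ pullback.snd G.pR g := by
      simp [xt, q, pullback.lift_snd]
    have hxsq : xs ≫ q = χ ≫ pullback.snd G.pR g := by
      simp [xs, q, pullback.lift_snd]
    have hxtv : xt ≫ v = χ ≫ pullback.fst G.pR g ≫ G.t := by
      simp [xt, v, pullback.lift_fst]
    have hxsv : xs ≫ v = χ ≫ pullback.fst G.pR g ≫ G.s := by
      simp [xs, v, pullback.lift_fst]
    let w := pullback.lift (pullback.lift xt xs (hxtq.trans hxsq.symm)) (χ ≫ pullback.fst G.pR g)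
      (show _ ≫ μ = _ ≫ G.j by
        apply pullback.hom_ext
        · rw [Category.assoc, Category.assoc, pullback.lift_fst, pullback.lift_fst_assoc, hxtv,
            j_fst, Category.assoc]
        · rw [Category.assoc, Category.assoc, pullback.lift_snd, pullback.lift_snd_assoc, hxsv,
            j_snd, Category.assoc])
    have hwl : w ≫ l = χ := by
      apply pullback.hom_ext
      · rw [Category.assoc, pullback.lift_fst, pullback.lift_snd]
      · rw [Category.assoc, pullback.lift_snd]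
        simp only [a, Category.assoc]
        rw [pullback.lift_fst_assoc, pullback.lift_fst_assoc, hxtq]
    have hwπ : w ≫ π = χ ≫ pullback.snd G.pR g := by
      simp only [π]
      rw [pullback.lift_fst_assoc, pullback.lift_fst_assoc, hxtq]
    let z := IsLocalRing.closedPoint ((pullback G.pR g).residueField x)
    refine hxO ⟨w z, ?_, ?_⟩
    · show l (w z) ∈ E
      rw [← Scheme.Hom.comp_apply, hwl, Scheme.fromSpecResidueField_apply]
      exact ⟨⟨hsx, htx⟩, hxR⟩
    · rw [← Scheme.Hom.comp_apply, hwπ, Scheme.Hom.comp_apply, Scheme.fromSpecResidueField_apply]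

end Groth.Agent.Grpd80
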