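import Groth.Agent.Grpd80.GlueQuot2
import Mathlib.AlgebraicGeometry.Morphisms.UniversallyOpen

/-!
Geometric quotients restrict to opens and glue from saturated opens.
-/

set_option autoImplicit false
set_option backward.isDefEq.respectTransparency.types false
universe u

open CategoryTheory CategoryTheory.Limits AlgebraicGeometry TopologicalSpace

namespace Groth.Agent.Grpd80.LocGeom

lemma appLE_appLE {X Y Z : Scheme.{u}} (f : X ⟶ Y) (g : Y ⟶ Z) (A : Z.Opens) (B : Y.Opens) (C : X.Opens)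
    (h₁ : B ≤ g ⁻¹ᵁ A) (h₂ : C ≤ f ⁻¹ᵁ B) (x : Γ(Z, A)) :
    (f.appLE B C h₂).hom ((g.appLE A B h₁).hom x) = ((f ≫ g).appLE A C (h₂.trans (f.preimage_mono h₁))).hom x :=
  congr($(Scheme.Hom.appLE_comp_appLE f g A B C h₁ h₂).hom x)

lemma appLE_bijective {X Y : Scheme.{u}} (j : X ⟶ Y) [IsOpenImmersion j] (B : Y.Opens) (hB : B ≤ j.opensRange)
    (A : X.Opens) (e : A = j ⁻¹ᵁ B) : Function.Bijective (j.appLE B A e.le).hom := by
  subst e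
  rw [← Scheme.Hom.app_eq_appLE]
  have : IsIso (j.app B) := j.isIso_app B hB
  exact ConcreteCategory.bijective_of_isIso (j.app B)

/-- A geometric quotient restricts to an open of the target. -/
theorem restrict {R U M R' U' M' : Scheme.{u}} {s t : R ⟶ U} {q : U ⟶ M} (h : IsGeomQuot s t q)
    (s' t' : R' ⟶ U') (q' : U' ⟶ M') (j : U' ⟶ U) (l : M' ⟶ M) (jR : R' ⟶ R)
    [IsOpenImmersion j] [IsOpenImmersion l] [IsOpenImmersion jR]
    (hq : q' ≫ l = j ≫ q) (hs : s' ≫ j = jR ≫ s) (ht : t' ≫ j = jR ≫ t)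
    (hj : q ⁻¹ᵁ l.opensRange = j.opensRange) (hjR : s ⁻¹ᵁ j.opensRange = jR.opensRange) :
    IsGeomQuot s' t' q' := by
  have w' : t' ≫ q' = s' ≫ q' := by
    rw [← cancel_mono l, Category.assoc, Category.assoc, hq, reassoc_of% hs, reassoc_of% ht, h.w]
  have hjt : t ⁻¹ᵁ j.opensRange = jR.opensRange := by
    rw [← hjR, ← hj, ← Scheme.Hom.comp_preimage, ← Scheme.Hom.comp_preimage, h.w]
  have hqpt : ∀ x, q (j x) = l (q' x) := fun x => by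
    rw [← Scheme.Hom.comp_apply, ← hq, Scheme.Hom.comp_apply]
  have hjpre : ∀ x, q x ∈ l.opensRange → ∃ x', j x' = x := fun x hx => (SetLike.ext_iff.1 hj x).1 hx
  have hspt : ∀ r, j (s' r) = s (jR r) := fun r => by
    rw [← Scheme.Hom.comp_apply, hs, Scheme.Hom.comp_apply]
  have htpt : ∀ r, j (t' r) = t (jR r) := fun r => by
    rw [← Scheme.Hom.comp_apply, ht, Scheme.Hom.comp_apply]
  refine ⟨w', fun m => ?_, fun x y e => ?_, fun O hO => ?_, fun O y hy => ?_⟩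
  · obtain ⟨x, hx⟩ := h.surj (l m)
    obtain ⟨x', rfl⟩ := hjpre x (hx ▸ ⟨m, rfl⟩)
    exact ⟨x', l.isOpenEmbedding.injective (by rw [← hqpt]; exact hx)⟩
  · obtain ⟨r, hr₁, hr₂⟩ := h.fibres (j x) (j y) (by rw [hqpt, hqpt, e])
    obtain ⟨r', rfl⟩ : r ∈ jR.opensRange := (SetLike.ext_iff.1 hjR r).1 ⟨y, hr₂.symm⟩
    exact ⟨r', j.isOpenEmbedding.injective ((htpt r').trans hr₁), j.isOpenEmbedding.injective ((hspt r').trans hr₂)⟩
  · have hO₀ : s ⁻¹ᵁ (j ''ᵁ O) = t ⁻¹ᵁ (j ''ᵁ O) := by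
      refine Opens.ext (Set.ext fun r => ?_)
      show s r ∈ j ''ᵁ O ↔ t r ∈ j ''ᵁ O
      by_cases hr : r ∈ jR.opensRange
      · obtain ⟨r', rfl⟩ := hr
        rw [← hspt, ← htpt, j.apply_mem_image_iff, j.apply_mem_image_iff]
        exact SetLike.ext_iff.1 hO r'
      · exact iff_of_false (fun hh => hr ((SetLike.ext_iff.1 hjR r).1 (j.image_le_opensRange O hh)))
          (fun hh => hr ((SetLike.ext_iff.1 hjt r).1 (j.image_le_opensRange O hh)))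
    have e : q' '' (O : Set U') = l ⁻¹' (q '' (j ''ᵁ O : Set U)) := by
      ext m
      constructor
      · rintro ⟨x, hx, rfl⟩; exact ⟨j x, ⟨x, hx, rfl⟩, hqpt x⟩
      · rintro ⟨_, ⟨x, hx, rfl⟩, e⟩
        exact ⟨x, hx, l.isOpenEmbedding.injective ((hqpt x).symm.trans e)⟩
    rw [e]
    exact (h.image_open _ hO₀).preimage l.continuous
  · obtain ⟨P₀, hyP, hPO, hinj, hinv⟩ := h.basis (l ''ᵁ O) (l y) ⟨y, hy, rfl⟩
    have hPl : P₀ ≤ l.opensRange := hPO.trans (l.image_le_opensRange O)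
    have hQj : q ⁻¹ᵁ P₀ ≤ j.opensRange := (q.preimage_mono hPl).trans hj.le
    have hQ : q' ⁻¹ᵁ l ⁻¹ᵁ P₀ = j ⁻¹ᵁ q ⁻¹ᵁ P₀ := by
      simp only [← Scheme.Hom.comp_preimage]; rw [hq]
    refine ⟨l ⁻¹ᵁ P₀, hyP, fun m hm => ?_, ?_, fun b₀ hb₀ => ?_⟩
    · exact (l.apply_mem_image_iff).1 (hPO hm)
    · intro a b hab
      obtain ⟨a, rfl⟩ := (appLE_bijective l P₀ hPl _ rfl).2 a
      obtain ⟨b, rfl⟩ := (appLE_bijective l P₀ hPl _ rfl).2 b
      refine congrArg _ (hinj ((appLE_bijective j _ hQj _ hQ).1 ?_))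
      simp only [Scheme.Hom.app_eq_appLE, appLE_appLE] at hab ⊢
      exact (appLE_congr_hom hq.symm _ _ _ _ a).trans (hab.trans (appLE_congr_hom hq _ _ _ _ b))
    · obtain ⟨b, rfl⟩ := (appLE_bijective j _ hQj _ hQ).2 b₀
      obtain ⟨c, hc⟩ := hinv b (by
        have hA : s ⁻¹ᵁ q ⁻¹ᵁ P₀ ≤ jR.opensRange := (s.preimage_mono hQj).trans hjR.le
        have hB : s' ⁻¹ᵁ q' ⁻¹ᵁ l ⁻¹ᵁ P₀ = jR ⁻¹ᵁ s ⁻¹ᵁ q ⁻¹ᵁ P₀ := by
          rw [hQ]; simp only [← Scheme.Hom.comp_preimage]; rw [reassoc_of% hs]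
        refine (appLE_bijective jR _ hA _ hB).1 ?_
        simp only [Scheme.Hom.app_eq_appLE, appLE_appLE] at hb₀ ⊢
        exact (appLE_congr_hom hs.symm _ _ _ _ b).trans (hb₀.trans (appLE_congr_hom ht _ _ _ _ b)))
      refine ⟨(l.appLE P₀ (l ⁻¹ᵁ P₀) le_rfl).hom c, ?_⟩
      rw [← hc]
      simp only [Scheme.Hom.app_eq_appLE, appLE_appLE]
      exact appLE_congr_hom hq _ _ _ _ c

section Glue

variable {S : Scheme.{u}} (G : Grpd.GroupoidScheme S)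

/-- Saturated opens with a geometric quotient. -/
abbrev QIdx : Type u :=
  {W : G.U.Opens // ∃ (hW : IsInv G W) (Y : Scheme.{u}) (p : W.toScheme ⟶ Y),
    IsGeomQuot (G.s ∣_ W) (restrT hW) p}

variable {G}

lemma invQ (W : QIdx G) : IsInv G W.1 := W.2.1

/-- The quotient of a member. -/
noncomputable def chartObj (W : QIdx G) : Scheme.{u} := W.2.2.choose

/-- The quotient map of a member. -/
noncomputable def chartQ (W : QIdx G) : W.1.toScheme ⟶ chartObj W := W.2.2.choose_spec.choose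

lemma chartQ_geom (W : QIdx G) : IsGeomQuot (G.s ∣_ W.1) (restrT (invQ W)) (chartQ W) :=
  W.2.2.choose_spec.choose_spec

variable {W : QIdx G}

lemma chart_step {W : QIdx G} {r : G.R} (hr : G.s r ∈ W.1) :
    chartQ W ⟨G.t r, ((invQ W).mem_iff r).mp hr⟩ = chartQ W ⟨G.s r, hr⟩ := by
  let r' : (G.s ⁻¹ᵁ W.1).toScheme := ⟨r, hr⟩
  have e1 : restrT (invQ W) r' = ⟨G.t r, ((invQ W).mem_iff r).mp hr⟩ :=
    W.1.ι.isOpenEmbedding.injective ((Scheme.Hom.comp_apply _ _ _).symm.trans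
      ((congrArg (fun g : (G.s ⁻¹ᵁ W.1).toScheme ⟶ G.U => g r') (restrT_ι (invQ W))).trans
        (Scheme.Hom.comp_apply _ _ _)))
  have e2 : (G.s ∣_ W.1) r' = ⟨G.s r, hr⟩ :=
    W.1.ι.isOpenEmbedding.injective (restrict_apply G.s W.1 r')
  rw [← e1, ← e2, ← Scheme.Hom.comp_apply, ← Scheme.Hom.comp_apply, (chartQ_geom W).w]

lemma chartQ_eq_iff {W : QIdx G} (x y : W.1.toScheme) :
    chartQ W x = chartQ W y ↔ ∃ r : G.R, G.t r = x.1 ∧ G.s r = y.1 := by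
  constructor
  · intro h
    obtain ⟨r, h1, h2⟩ := (chartQ_geom W).fibres x y h
    refine ⟨r.1, ?_, ?_⟩
    · rw [← h1]
      exact ((Scheme.Hom.comp_apply _ _ _).symm.trans
        ((congrArg (fun g : (G.s ⁻¹ᵁ W.1).toScheme ⟶ G.U => g r) (restrT_ι (invQ W))).trans
          (Scheme.Hom.comp_apply _ _ _))).symm
    · rw [← h2]
      exact (restrict_apply G.s W.1 r).symm
  · rintro ⟨r, h1, h2⟩
    obtain ⟨x, hx⟩ := x
    obtain ⟨y, hy⟩ := y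
    subst h1
    subst h2
    exact chart_step hy

/-- The image of a smaller invariant open in a chart. -/
noncomputable def chartImage {W' W : QIdx G} (_h : W'.1 ≤ W.1) : (chartObj W).Opens :=
  ⟨chartQ W '' (W.1.ι ⁻¹ᵁ W'.1 : Set W.1.toScheme), (chartQ_geom W).image_open (W.1.ι ⁻¹ᵁ W'.1) (by
    rw [← Scheme.Hom.comp_preimage, ← Scheme.Hom.comp_preimage, morphismRestrict_ι, restrT_ι,
      Scheme.Hom.comp_preimage, Scheme.Hom.comp_preimage]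
    exact congrArg ((G.s ⁻¹ᵁ W.1).ι ⁻¹ᵁ ·) (invQ W'))⟩

lemma chartQ_preimage_image {W' W : QIdx G} (h : W'.1 ≤ W.1) :
    chartQ W ⁻¹ᵁ chartImage h = W.1.ι ⁻¹ᵁ W'.1 := by
  refine Opens.ext (Set.ext fun x => ⟨?_, fun hx => ⟨x, hx, rfl⟩⟩)
  rintro ⟨x', hx', e⟩
  obtain ⟨r, h1, h2⟩ := (chartQ_eq_iff x' x).mp e
  change x.1 ∈ W'.1
  rw [← h2]
  exact ((invQ W').mem_iff r).mpr (h1.symm ▸ hx')

/-- Smaller invariant opens have open quotients in larger ones. -/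
theorem exists_transition {W' W : QIdx G} (h : W'.1 ≤ W.1) :
    ∃ l : chartObj W' ⟶ chartObj W, chartQ W' ≫ l = G.U.homOfLE h ≫ chartQ W ∧
      IsOpenImmersion l ∧ Set.range l = chartQ W '' (W.1.ι ⁻¹ᵁ W'.1 : Set W.1.toScheme) := by
  have hh : G.s ⁻¹ᵁ W'.1 ≤ G.s ⁻¹ᵁ W.1 := G.s.preimage_mono h
  have hs : (G.s ∣_ W'.1) ≫ G.U.homOfLE h = G.R.homOfLE hh ≫ (G.s ∣_ W.1) := by
    simp [← cancel_mono W.1.ι, morphismRestrict_ι]
  have ht : restrT (invQ W') ≫ G.U.homOfLE h = G.R.homOfLE hh ≫ restrT (invQ W) := by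
    simp [← cancel_mono W.1.ι]
  obtain ⟨l, hl, -⟩ := (chartQ_geom W').existsUnique_desc (G.U.homOfLE h ≫ chartQ W) (by
    rw [reassoc_of% hs, reassoc_of% ht, (chartQ_geom W).w])
  refine ⟨l, hl, ?_⟩
  set V := chartImage h
  -- the inverse on the image
  let ι₀ := (chartQ W ⁻¹ᵁ V).ι
  have hr : Set.range (ι₀ ≫ W.1.ι) ⊆ Set.range W'.1.ι := by
    rintro _ ⟨z, rfl⟩
    rw [Scheme.Opens.range_ι]
    exact ((SetLike.ext_iff.mp (chartQ_preimage_image h) z.1).mp z.2 :)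
  let a := IsOpenImmersion.lift W'.1.ι (ι₀ ≫ W.1.ι) hr
  have ha : a ≫ W'.1.ι = ι₀ ≫ W.1.ι := IsOpenImmersion.lift_fac _ _ _
  have hla : a ≫ G.U.homOfLE h = ι₀ := by
    rw [← cancel_mono W.1.ι, Category.assoc, Scheme.homOfLE_ι, ha]
  obtain ⟨k, hk⟩ := (chartQ_geom W).exists_desc V (a ≫ chartQ W') (by
    set Q := (G.s ∣_ W.1) ⁻¹ᵁ chartQ W ⁻¹ᵁ V
    have hQ : Set.range (Q.ι ≫ (G.s ⁻¹ᵁ W.1).ι) ⊆ Set.range (G.s ⁻¹ᵁ W'.1).ι := by
      rintro _ ⟨z, rfl⟩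
      rw [Scheme.Opens.range_ι]
      have hz : (G.s ∣_ W.1) z.1 ∈ W.1.ι ⁻¹ᵁ W'.1 := chartQ_preimage_image h ▸ z.2
      change G.s ((G.s ⁻¹ᵁ W.1).ι (Q.ι z)) ∈ W'.1
      rw [← restrict_apply]
      exact hz
    let b := IsOpenImmersion.lift (G.s ⁻¹ᵁ W'.1).ι (Q.ι ≫ (G.s ⁻¹ᵁ W.1).ι) hQ
    have hb : b ≫ (G.s ⁻¹ᵁ W'.1).ι = Q.ι ≫ (G.s ⁻¹ᵁ W.1).ι := IsOpenImmersion.lift_fac _ _ _
    have e : ∀ (g : (G.s ⁻¹ᵁ W.1).toScheme ⟶ W.1.toScheme)
        (g' : (G.s ⁻¹ᵁ W'.1).toScheme ⟶ W'.1.toScheme) (γ : G.R ⟶ G.U)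
        (hle : Q ≤ g ⁻¹ᵁ chartQ W ⁻¹ᵁ V), g ≫ W.1.ι = (G.s ⁻¹ᵁ W.1).ι ≫ γ →
        g' ≫ W'.1.ι = (G.s ⁻¹ᵁ W'.1).ι ≫ γ →
        g.resLE _ Q hle ≫ a = b ≫ g' := by
      intro g g' γ hle hg hg'
      rw [← cancel_mono W'.1.ι, Category.assoc, Category.assoc, ha, hg', reassoc_of% hb,
        Scheme.Hom.resLE_comp_ι_assoc, hg]
    rw [← Category.assoc, ← Category.assoc,
      e (G.s ∣_ W.1) (G.s ∣_ W'.1) G.s le_rfl (morphismRestrict_ι _ _) (morphismRestrict_ι _ _),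
      e (restrT (invQ W)) (restrT (invQ W')) G.t _ (restrT_ι _) (restrT_ι _),
      Category.assoc, Category.assoc, (chartQ_geom W').w])
  have hlV : Set.range l ⊆ Set.range V.ι := by
    rintro _ ⟨m, rfl⟩
    obtain ⟨x, rfl⟩ := (chartQ_geom W').surj m
    rw [Scheme.Opens.range_ι]
    refine ⟨G.U.homOfLE h x, ?_, ?_⟩
    · change W.1.ι (G.U.homOfLE h x) ∈ W'.1
      rw [homOfLE_pt]
      exact x.2
    · rw [← Scheme.Hom.comp_apply, ← hl, Scheme.Hom.comp_apply]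
  let l' := IsOpenImmersion.lift V.ι l hlV
  have hl' : l' ≫ V.ι = l := IsOpenImmersion.lift_fac _ _ _
  have h1 : k ≫ l = V.ι := by
    refine (chartQ_geom W).hom_ext ?_
    rw [← Category.assoc, hk, Category.assoc, hl, reassoc_of% hla, morphismRestrict_ι]
  have h2 : l' ≫ k = 𝟙 _ := by
    refine (chartQ_geom W').hom_ext' ?_
    have hr' : Set.range (G.U.homOfLE h) ⊆ Set.range ι₀ := by
      rintro _ ⟨x, rfl⟩
      rw [Scheme.Opens.range_ι, chartQ_preimage_image]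
      change W.1.ι (G.U.homOfLE h x) ∈ W'.1
      rw [homOfLE_pt]
      exact x.2
    let c := IsOpenImmersion.lift ι₀ (G.U.homOfLE h) hr'
    have hc : c ≫ ι₀ = G.U.homOfLE h := IsOpenImmersion.lift_fac _ _ _
    have hca : c ≫ a = 𝟙 _ := by
      rw [← cancel_mono W'.1.ι, Category.assoc, ha, reassoc_of% hc, Scheme.homOfLE_ι, Category.id_comp]
    have hcq : c ≫ (chartQ W ∣_ V) = chartQ W' ≫ l' := by
      rw [← cancel_mono V.ι, Category.assoc, Category.assoc, morphismRestrict_ι, reassoc_of% hc, hl', hl]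
    rw [← Category.assoc, ← hcq, Category.assoc, hk, reassoc_of% hca, Category.comp_id]
  have h3 : k ≫ l' = 𝟙 _ := by rw [← cancel_mono V.ι, Category.assoc, hl', h1, Category.id_comp]
  have : IsIso l' := ⟨⟨k, h2, h3⟩⟩
  refine ⟨hl' ▸ inferInstance, ?_⟩
  rw [← hl', Scheme.Hom.comp_base, TopCat.coe_comp,
    Function.Surjective.range_comp l'.surjective, Scheme.Opens.range_ι]
  rfl


section Colim

variable (G)

/-- The transition map between charts. -/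
noncomputable def chartMap {W' W : QIdx G} (h : W'.1 ≤ W.1) : chartObj W' ⟶ chartObj W :=
  (exists_transition h).choose

variable {G}

lemma chartQ_chartMap {W' W : QIdx G} (h : W'.1 ≤ W.1) :
    chartQ W' ≫ chartMap G h = G.U.homOfLE h ≫ chartQ W :=
  (exists_transition h).choose_spec.1

lemma range_chartMap {W' W : QIdx G} (h : W'.1 ≤ W.1) :
    Set.range (chartMap G h) = chartQ W '' (W.1.ι ⁻¹ᵁ W'.1 : Set W.1.toScheme) :=
  (exists_transition h).choose_spec.2.2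

instance {W' W : QIdx G} (h : W'.1 ≤ W.1) : IsOpenImmersion (chartMap G h) :=
  (exists_transition h).choose_spec.2.1

variable (G)

/-- The diagram of charts. -/
@[implicit_reducible] noncomputable def chartFunctor : QIdx G ⥤ Scheme.{u} where
  obj W := chartObj W
  map {W' W} h := chartMap G (leOfHom h)
  map_id W := (chartQ_geom W).hom_ext' (by
    rw [chartQ_chartMap, Scheme.homOfLE_rfl, Category.id_comp, Category.comp_id])
  map_comp {W₁ W₂ W₃} f g := (chartQ_geom W₁).hom_ext' (by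
    rw [reassoc_of% chartQ_chartMap (leOfHom f), chartQ_chartMap, chartQ_chartMap,
      ← Category.assoc, Scheme.homOfLE_homOfLE])

instance {W' W : QIdx G} (h : W' ⟶ W) : IsOpenImmersion ((chartFunctor G).map h) :=
  inferInstanceAs (IsOpenImmersion (chartMap G (leOfHom h)))

variable (hcov : ∀ x : G.U, ∃ W : QIdx G, x ∈ W.1)

include hcov in
lemma exists_qidx (x : G.U) {O : G.U.Opens} (hO : IsInv G O) (hx : x ∈ O) :
    ∃ W : QIdx G, x ∈ W.1 ∧ W.1 ≤ O := by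
  obtain ⟨W, hxW⟩ := hcov x
  have hI : IsInv G (W.1 ⊓ O) := (invQ W).inf hO
  let V : (chartObj W).Opens := ⟨chartQ W '' (W.1.ι ⁻¹ᵁ O : Set W.1.toScheme),
    (chartQ_geom W).image_open _ (by
      rw [← Scheme.Hom.comp_preimage, ← Scheme.Hom.comp_preimage, morphismRestrict_ι, restrT_ι,
        Scheme.Hom.comp_preimage, Scheme.Hom.comp_preimage, show G.s ⁻¹ᵁ O = G.t ⁻¹ᵁ O from hO])⟩
  have hpre : chartQ W ⁻¹ᵁ V = W.1.ι ⁻¹ᵁ O := by
    refine Opens.ext (Set.ext fun y => ⟨?_, fun hy => ⟨y, hy, rfl⟩⟩)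
    rintro ⟨y', hy', e⟩
    obtain ⟨r, h1, h2⟩ := (chartQ_eq_iff y' y).mp e
    show y.1 ∈ O
    rw [← h2]
    exact (hO.mem_iff r).mpr (h1.symm ▸ hy')
  let jR : (G.s ⁻¹ᵁ (W.1 ⊓ O)).toScheme ⟶ (G.s ⁻¹ᵁ W.1).toScheme := G.R.homOfLE (G.s.preimage_mono inf_le_left)
  let j : (W.1 ⊓ O).toScheme ⟶ W.1.toScheme := G.U.homOfLE inf_le_left
  have hjr : j.opensRange = W.1.ι ⁻¹ᵁ O := by
    simp only [j, Scheme.opensRange_homOfLE]
    ext y; exact ⟨fun h => h.2, fun h => ⟨y.2, h⟩⟩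
  let p' : (W.1 ⊓ O).toScheme ⟶ V.toScheme := IsOpenImmersion.lift V.ι (j ≫ chartQ W) (by
    rintro _ ⟨y, rfl⟩
    rw [Scheme.Opens.range_ι]
    exact (SetLike.ext_iff.1 hpre (j y)).2 (hjr.le ⟨y, rfl⟩))
  refine ⟨⟨W.1 ⊓ O, hI, V.toScheme, p', restrict (chartQ_geom W) _ _ p' j V.ι jR
    (IsOpenImmersion.lift_fac _ _ _) (by simp [j, jR, ← cancel_mono W.1.ι, morphismRestrict_ι])
    (by simp [j, jR, ← cancel_mono W.1.ι]) ?_ ?_⟩, ⟨hxW, hx⟩, inf_le_right⟩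
  · rw [Scheme.Opens.opensRange_ι, hpre, hjr]
  · rw [hjr]
    simp only [jR, Scheme.opensRange_homOfLE]
    ext r
    show (G.s ∣_ W.1) r ∈ W.1.ι ⁻¹ᵁ O ↔ r.1 ∈ G.s ⁻¹ᵁ (W.1 ⊓ O)
    rw [show ((G.s ∣_ W.1) r ∈ W.1.ι ⁻¹ᵁ O) ↔ G.s r.1 ∈ O by
      show ((G.s ∣_ W.1) r).1 ∈ O ↔ _; rw [morphismRestrict_base_coe]]
    exact ⟨fun h => ⟨r.2, h⟩, fun h => h.2⟩

include hcov in
lemma isLocallyDirected : (chartFunctor G ⋙ Scheme.forget).IsLocallyDirected := by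
  constructor
  intro i j k fi fj xi xj (h : chartMap G (leOfHom fi) xi = chartMap G (leOfHom fj) xj)
  obtain ⟨x, rfl⟩ := (chartQ_geom i).surj xi
  obtain ⟨y, rfl⟩ := (chartQ_geom j).surj xj
  rw [← Scheme.Hom.comp_apply, ← Scheme.Hom.comp_apply, chartQ_chartMap, chartQ_chartMap,
    Scheme.Hom.comp_apply, Scheme.Hom.comp_apply, chartQ_eq_iff] at h
  obtain ⟨r, h1, h2⟩ := h
  have hx1 : G.t r = x.1 := h1.trans (homOfLE_pt (leOfHom fi) x)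
  have hy1 : G.s r = y.1 := h2.trans (homOfLE_pt (leOfHom fj) y)
  have hxj : x.1 ∈ j.1 := hx1 ▸ ((invQ j).mem_iff r).mp (hy1 ▸ y.2)
  obtain ⟨l, hxl, hle⟩ := exists_qidx G hcov x.1 ((invQ i).inf (invQ j)) ⟨x.2, hxj⟩
  let z : l.1.toScheme := ⟨x.1, hxl⟩
  refine ⟨l, homOfLE (hle.trans inf_le_left), homOfLE (hle.trans inf_le_right), chartQ l z, ?_, ?_⟩
  · change chartMap G _ (chartQ l z) = chartQ i x
    rw [← Scheme.Hom.comp_apply, chartQ_chartMap, Scheme.Hom.comp_apply]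
    congr 1
    exact i.1.ι.isOpenEmbedding.injective (homOfLE_pt _ z)
  · change chartMap G _ (chartQ l z) = chartQ j y
    rw [← Scheme.Hom.comp_apply, chartQ_chartMap, Scheme.Hom.comp_apply, chartQ_eq_iff]
    exact ⟨r, hx1.trans (homOfLE_pt _ z).symm, hy1⟩


include hcov in
/-- Geometric quotients of saturated opens glue. -/
theorem exists_isGeomQuot : ∃ (Y : Scheme.{u}) (p : G.U ⟶ Y), IsGeomQuot G.s G.t p := by
  have := isLocallyDirected G hcov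
  let Y := colimit (chartFunctor G)
  have hcover : TopologicalSpace.IsOpenCover (fun W : QIdx G => W.1) :=
    TopologicalSpace.IsOpenCover.mk (top_le_iff.mp fun x _ => by
      obtain ⟨W, hW, -⟩ := exists_qidx G hcov x (O := ⊤) rfl trivial
      exact Opens.mem_iSup.mpr ⟨W, hW⟩)
  let 𝒰 := G.U.openCoverOfIsOpenCover (fun W : QIdx G => W.1) hcover
  let pW : ∀ W : QIdx G, W.1.toScheme ⟶ Y := fun W => chartQ W ≫ colimit.ι (chartFunctor G) W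
  have hcompat : ∀ (W₁ W₂ : QIdx G) {Z : Scheme.{u}} (a : Z ⟶ W₁.1.toScheme)
      (b : Z ⟶ W₂.1.toScheme), a ≫ W₁.1.ι = b ≫ W₂.1.ι → a ≫ pW W₁ = b ≫ pW W₂ := by
    intro W₁ W₂ Z a b hab
    let O : G.U.Opens := W₁.1 ⊓ W₂.1
    have hmem : ∀ z, W₁.1.ι (a z) ∈ O := fun z => ⟨(a z).2, by
      rw [← Scheme.Hom.comp_apply, hab]; exact (b z).2⟩
    have hcovZ : TopologicalSpace.IsOpenCover
        (fun W : {W : QIdx G // W.1 ≤ O} => (a ≫ W₁.1.ι) ⁻¹ᵁ W.1.1) :=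
      TopologicalSpace.IsOpenCover.mk (top_le_iff.mp fun z _ => by
        obtain ⟨W, hW, hle⟩ := exists_qidx G hcov _ ((invQ W₁).inf (invQ W₂)) (hmem z)
        exact Opens.mem_iSup.mpr ⟨⟨W, hle⟩, hW⟩)
    refine Scheme.Cover.hom_ext (Z.openCoverOfIsOpenCover _ hcovZ) _ _
      fun (W : {W : QIdx G // W.1 ≤ O}) => ?_
    change ((a ≫ W₁.1.ι) ⁻¹ᵁ W.1.1).ι ≫ a ≫ pW W₁ = ((a ≫ W₁.1.ι) ⁻¹ᵁ W.1.1).ι ≫ b ≫ pW W₂
    set O' := (a ≫ W₁.1.ι) ⁻¹ᵁ W.1.1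
    let m : O'.toScheme ⟶ W.1.1.toScheme :=
      IsOpenImmersion.lift W.1.1.ι (O'.ι ≫ a ≫ W₁.1.ι) (by
        rintro _ ⟨z, rfl⟩
        rw [Scheme.Opens.range_ι]
        exact z.2)
    have hm : m ≫ W.1.1.ι = O'.ι ≫ a ≫ W₁.1.ι := IsOpenImmersion.lift_fac _ _ _
    have h1 : O'.ι ≫ a = m ≫ G.U.homOfLE (W.2.trans inf_le_left) := by
      rw [← cancel_mono W₁.1.ι, Category.assoc, Category.assoc, Scheme.homOfLE_ι, hm]
    have h2 : O'.ι ≫ b = m ≫ G.U.homOfLE (W.2.trans inf_le_right) := by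
      rw [← cancel_mono W₂.1.ι, Category.assoc, Category.assoc, Scheme.homOfLE_ι, hm, hab]
    simp only [pW, reassoc_of% h1, reassoc_of% h2]
    rw [← reassoc_of% chartQ_chartMap, ← reassoc_of% chartQ_chartMap]
    have hw : ∀ {A B : QIdx G} (h : A.1 ≤ B.1), chartMap G h ≫ colimit.ι (chartFunctor G) B = colimit.ι (chartFunctor G) A :=
      fun h => colimit.w (chartFunctor G) (homOfLE h)
    rw [hw, hw]
  let p : G.U ⟶ Y := 𝒰.glueMorphisms pW fun W₁ W₂ => hcompat _ _ _ _ pullback.condition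
  have hpW : ∀ W : QIdx G, W.1.ι ≫ p = pW W := fun W => 𝒰.ι_glueMorphisms _ _ W
  have hw : G.t ≫ p = G.s ≫ p := by
    refine Scheme.Cover.hom_ext (G.R.openCoverOfIsOpenCover (fun W : QIdx G => G.s ⁻¹ᵁ W.1)
      (hcover.comap ⟨G.s, G.s.continuous⟩)) _ _ fun (W : QIdx G) => ?_
    change (G.s ⁻¹ᵁ W.1).ι ≫ G.t ≫ p = (G.s ⁻¹ᵁ W.1).ι ≫ G.s ≫ p
    rw [← restrT_ι_assoc (invQ W), ← reassoc_of% morphismRestrict_ι, hpW]
    exact ((Category.assoc _ _ _).symm.trans (congrArg (· ≫ _) (chartQ_geom W).w)).trans (Category.assoc _ _ _)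
  have hpt : ∀ (W : QIdx G) (x : W.1.toScheme), p x.1 = colimit.ι (chartFunctor G) W (chartQ W x) := fun W x =>
    (Scheme.Hom.comp_apply W.1.ι p x).symm.trans
      ((congrArg (fun g : W.1.toScheme ⟶ Y => g x) (hpW W)).trans (Scheme.Hom.comp_apply _ _ _))
  have hsurj : Surjective p := ⟨fun y => by
    obtain ⟨W, m, rfl⟩ := Scheme.IsLocallyDirected.ι_jointly_surjective (chartFunctor G) y
    obtain ⟨x, rfl⟩ := (chartQ_geom W).surj m
    exact ⟨x.1, hpt W x⟩⟩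
  have hwpt : ∀ r : G.R, p (G.t r) = p (G.s r) := fun r =>
    (Scheme.Hom.comp_apply _ _ _).symm.trans
      ((congrArg (fun g : G.R ⟶ Y => g r) hw).trans (Scheme.Hom.comp_apply _ _ _))
  have hfib : ∀ x y : G.U, p x = p y ↔ ∃ r : G.R, G.t r = x ∧ G.s r = y := by
    refine fun x y => ⟨fun h => ?_, fun ⟨r, h1, h2⟩ => h1 ▸ h2 ▸ hwpt r⟩
    obtain ⟨W, hx, -⟩ := exists_qidx G hcov x (O := ⊤) rfl trivial
    obtain ⟨W', hy, -⟩ := exists_qidx G hcov y (O := ⊤) rfl trivial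
    rw [hpt W ⟨x, hx⟩, hpt W' ⟨y, hy⟩] at h
    obtain ⟨k, fi, fj, z, hz1, hz2⟩ := (Scheme.IsLocallyDirected.ι_eq_ι_iff (chartFunctor G)).mp h
    obtain ⟨z, rfl⟩ := (chartQ_geom k).surj z
    change chartMap G (leOfHom fi) _ = _ at hz1
    change chartMap G (leOfHom fj) _ = _ at hz2
    rw [← Scheme.Hom.comp_apply, chartQ_chartMap, Scheme.Hom.comp_apply] at hz1 hz2
    obtain ⟨r₁, ha, hb'⟩ := (chartQ_eq_iff _ _).mp hz1.symm
    obtain ⟨r₂, hc, hd⟩ := (chartQ_eq_iff _ _).mp hz2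
    obtain ⟨r, h1, h2⟩ := exists_comp G (a := r₁) (b := r₂)
      ((hb'.trans (homOfLE_pt (leOfHom fi) z)).trans ((homOfLE_pt (leOfHom fj) z).symm.trans hc.symm))
    exact ⟨r, h2.trans ha, h1.trans hd⟩
  have hpre : ∀ W : QIdx G, p ⁻¹ᵁ (colimit.ι (chartFunctor G) W).opensRange = W.1 := by
    intro W
    refine Opens.ext (Set.ext fun x => ⟨?_, fun hx => ⟨chartQ W ⟨x, hx⟩, (hpt W ⟨x, hx⟩).symm⟩⟩)
    rintro ⟨m, hm⟩
    obtain ⟨x', rfl⟩ := (chartQ_geom W).surj m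
    obtain ⟨r, h1, h2⟩ := (hfib x'.1 x).mp ((hpt W x').trans hm)
    exact h2 ▸ ((invQ W).mem_iff r).mpr (h1.symm ▸ x'.2)
  have himg : ∀ O : G.U.Opens, G.s ⁻¹ᵁ O = G.t ⁻¹ᵁ O → IsOpen (p '' (O : Set G.U)) := by
    intro O hO
    rw [show p '' (O : Set G.U) = ⋃ W : QIdx G,
        colimit.ι (chartFunctor G) W '' (chartQ W '' (W.1.ι ⁻¹ᵁ O : Set W.1.toScheme)) from ?_]
    · refine isOpen_iUnion fun W => (colimit.ι (chartFunctor G) W).isOpenEmbedding.isOpenMap _ ?_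
      refine (chartQ_geom W).image_open _ ?_
      rw [← Scheme.Hom.comp_preimage, ← Scheme.Hom.comp_preimage, morphismRestrict_ι, restrT_ι,
        Scheme.Hom.comp_preimage, Scheme.Hom.comp_preimage, hO]
    · ext y
      simp only [Set.mem_iUnion]
      constructor
      · rintro ⟨x, hx, rfl⟩
        obtain ⟨W, hxW, -⟩ := exists_qidx G hcov x (O := ⊤) rfl trivial
        exact ⟨W, _, ⟨⟨x, hxW⟩, hx, rfl⟩, (hpt W ⟨x, hxW⟩).symm⟩
      · rintro ⟨W, _, ⟨x, hx, rfl⟩, rfl⟩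
        exact ⟨x.1, hx, hpt W x⟩
  refine ⟨Y, p, hw, hsurj.surj, fun x y h => (hfib x y).1 h, himg, fun O y hy => ?_⟩
  obtain ⟨W, m, rfl⟩ := Scheme.IsLocallyDirected.ι_jointly_surjective (chartFunctor G) y
  let l : chartObj W ⟶ Y := colimit.ι (chartFunctor G) W
  have hl : IsOpenImmersion l := inferInstanceAs (IsOpenImmersion (colimit.ι (chartFunctor G) W))
  obtain ⟨P₀, hmP₀, hP₀O, hgood₀⟩ := (chartQ_geom W).basis (l ⁻¹ᵁ O) m hy
  let P : Y.Opens := l ''ᵁ P₀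
  refine ⟨P, ⟨m, hmP₀, rfl⟩, by rintro _ ⟨z, hz, rfl⟩; exact hP₀O hz, ?_⟩
  have hgood : IsGood (G.s ∣_ W.1) (restrT (invQ W)) (chartQ W) (chartQ_geom W).w (l ⁻¹ᵁ P) := by
    rw [l.preimage_image_eq]; exact hgood₀
  have hPl : P ≤ l.opensRange := l.image_le_opensRange _
  have hPW : p ⁻¹ᵁ P ≤ W.1 := (p.preimage_mono hPl).trans (hpre W).le
  have : IsIso (l.app P) := l.isIso_app P hPl
  let O' := chartQ W ⁻¹ᵁ l ⁻¹ᵁ P
  have hO' : O' = W.1.ι ⁻¹ᵁ p ⁻¹ᵁ P := by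
    simp only [O', ← Scheme.Hom.comp_preimage]
    rw [show chartQ W ≫ l = W.1.ι ≫ p from (hpW W).symm]
  have hinjι : ∀ (A : W.1.toScheme.Opens) (h : A ≤ W.1.ι ⁻¹ᵁ p ⁻¹ᵁ P), A = W.1.ι ⁻¹ᵁ p ⁻¹ᵁ P →
      Function.Injective (W.1.ι.appLE (p ⁻¹ᵁ P) A h).hom := by
    rintro A h rfl
    rw [← Scheme.Hom.app_eq_appLE]
    have : IsIso (W.1.ι.app (p ⁻¹ᵁ P)) :=
      W.1.ι.isIso_app _ (by rw [Scheme.Opens.opensRange_ι]; exact hPW)
    exact (ConcreteCategory.bijective_of_isIso (W.1.ι.app (p ⁻¹ᵁ P))).1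
  have hcomm : ∀ c : Γ(Y, P), ((chartQ W).app (l ⁻¹ᵁ P)).hom ((l.app P).hom c) =
      (W.1.ι.appLE (p ⁻¹ᵁ P) O' hO'.le).hom ((p.app P).hom c) := by
    intro c
    simp only [Scheme.Hom.app_eq_appLE]
    rw [← CommRingCat.comp_apply, ← CommRingCat.comp_apply, Scheme.Hom.appLE_comp_appLE,
      Scheme.Hom.appLE_comp_appLE]
    exact appLE_congr_hom (hpW W).symm _ _ _ _ c
  refine ⟨fun a b hab => ?_, fun a ha => ?_⟩
  · refine (ConcreteCategory.bijective_of_isIso (l.app P)).1 (hgood.1 ?_)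
    rw [hcomm, hcomm, hab]
  · let a₀ := (W.1.ι.appLE (p ⁻¹ᵁ P) O' hO'.le).hom a
    obtain ⟨c₀, hc₀⟩ := hgood.2 a₀ (by
      let A := (G.s ∣_ W.1) ⁻¹ᵁ O'
      have hA : A ≤ (G.s ⁻¹ᵁ W.1).ι ⁻¹ᵁ G.s ⁻¹ᵁ p ⁻¹ᵁ P := fun x hx => by
        have := hO'.le hx
        show (((G.s ⁻¹ᵁ W.1).ι ≫ G.s) x) ∈ p ⁻¹ᵁ P
        rw [← morphismRestrict_ι]; exact this
      have h0 := congrArg ((G.s ⁻¹ᵁ W.1).ι.appLE (G.s ⁻¹ᵁ p ⁻¹ᵁ P) A hA).hom ha
      simp only [a₀, Scheme.Hom.app_eq_appLE] at h0 ⊢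
      rw [← CommRingCat.comp_apply, ← CommRingCat.comp_apply, Scheme.Hom.appLE_comp_appLE,
        Scheme.Hom.appLE_comp_appLE] at h0 ⊢
      refine Eq.trans (appLE_congr_hom (morphismRestrict_ι _ _) _ _ _ _ a) (h0.trans ?_)
      exact appLE_congr_hom (restrT_ι (invQ W)).symm _ _ _ _ a)
    obtain ⟨c, rfl⟩ := (ConcreteCategory.bijective_of_isIso (l.app P)).2 c₀
    exact ⟨c, hinjι O' hO'.le hO' ((hcomm c).symm.trans hc₀)⟩

end Colim

/-- The quotient of a saturated open sits as an open in the quotient of the whole. -/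
theorem exists_chart_iso {Y Y' : Scheme.{u}} {p : G.U ⟶ Y} (hp : IsGeomQuot G.s G.t p) {W : G.U.Opens}
    (hW : IsInv G W) {p' : W.toScheme ⟶ Y'} (hp' : IsGeomQuot (G.s ∣_ W) (restrT hW) p') :
    ∃ l : Y' ⟶ Y, IsOpenImmersion l ∧ p' ≫ l = W.ι ≫ p ∧ IsPullback p' W.ι l p := by
  let V : Y.Opens := ⟨p '' (W : Set G.U), hp.image_open W hW⟩
  have hpre : p ⁻¹ᵁ V = W := by
    refine Opens.ext (Set.ext fun y => ⟨?_, fun hy => ⟨y, hy, rfl⟩⟩)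
    rintro ⟨y', hy', e⟩
    obtain ⟨r, h1, h2⟩ := hp.fibres y' y e
    show y ∈ W
    rw [← h2]
    exact (hW.mem_iff r).mpr (h1.symm ▸ hy')
  let pV : W.toScheme ⟶ V.toScheme := IsOpenImmersion.lift V.ι (W.ι ≫ p) (by
    rintro _ ⟨y, rfl⟩
    rw [Scheme.Opens.range_ι]
    exact ⟨y.1, y.2, rfl⟩)
  have hpV : pV ≫ V.ι = W.ι ≫ p := IsOpenImmersion.lift_fac _ _ _
  have hg : IsGeomQuot (G.s ∣_ W) (restrT hW) pV :=
    restrict hp _ _ pV W.ι V.ι (G.s ⁻¹ᵁ W).ι hpV (morphismRestrict_ι _ _) (restrT_ι hW)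
      (by rw [Scheme.Opens.opensRange_ι, hpre, Scheme.Opens.opensRange_ι])
      (by rw [Scheme.Opens.opensRange_ι, Scheme.Opens.opensRange_ι])
  obtain ⟨a, ha, -⟩ := hp'.existsUnique_desc pV hg.w.symm
  obtain ⟨b, hb, -⟩ := hg.existsUnique_desc p' hp'.w.symm
  have hab : a ≫ b = 𝟙 Y' := hp'.hom_ext' (by rw [reassoc_of% ha, hb, Category.comp_id])
  have hba : b ≫ a = 𝟙 _ := hg.hom_ext' (by rw [reassoc_of% hb, ha, Category.comp_id])
  have : IsIso a := ⟨⟨b, hab, hba⟩⟩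
  refine ⟨a ≫ V.ι, inferInstance, by rw [reassoc_of% ha, hpV],
    IsOpenImmersion.isPullback p' W.ι (a ≫ V.ι) p (by rw [reassoc_of% ha, hpV]) ?_⟩
  rw [Scheme.Hom.opensRange_comp_of_isIso, Scheme.Opens.opensRange_ι, hpre, Scheme.Opens.opensRange_ι]

end Glue

end Groth.Agent.Grpd80.LocGeom
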