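import Groth.Agent.Grpd80.Basic
import Mathlib.AlgebraicGeometry.Restrict
import Mathlib.AlgebraicGeometry.Morphisms.Finite
import Mathlib.AlgebraicGeometry.Morphisms.Flat
import Mathlib.AlgebraicGeometry.Morphisms.FinitePresentation

set_option autoImplicit false
universe u
open CategoryTheory CategoryTheory.Limits AlgebraicGeometry

namespace Groth.Agent.Grpd80

variable {S : Scheme.{u}} (G : Grpd.GroupoidScheme S)

/-- The inverse is an involution. -/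
lemma i_i : G.i ≫ G.i = 𝟙 G.R := by
  have h1 : (G.i ≫ G.i) ≫ G.s = G.i ≫ G.t := by rw [Category.assoc, i_s']
  have e1 : mul G (G.i ≫ G.i) G.i h1 = G.i ≫ G.s ≫ G.e := mul_inv_left h1 rfl
  have h2 : G.i ≫ G.s = 𝟙 G.R ≫ G.t := by simp
  have e2 : mul G G.i (𝟙 G.R) h2 = 𝟙 G.R ≫ G.s ≫ G.e := mul_inv_left h2 (by simp)
  have h3 : (G.i ≫ G.i) ≫ G.s = (G.s ≫ G.e) ≫ G.t := by simp
  calc G.i ≫ G.i = mul G (G.i ≫ G.i) (G.s ≫ G.e) h3 := (mul_unit_right h3 (by simp)).symm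
    _ = mul G (G.i ≫ G.i) (mul G G.i (𝟙 G.R) h2) (by rw [mul_t]; exact h1) :=
        mul_congr _ _ rfl (by rw [e2]; simp)
    _ = mul G (mul G (G.i ≫ G.i) G.i h1) (𝟙 G.R) (by rw [mul_s]; exact h2) :=
        (mul_assoc' _ _ _ h1 h2).symm
    _ = 𝟙 G.R := mul_unit_left _ (by rw [e1]; simp)

instance isIso_i : IsIso G.i := ⟨⟨G.i, i_i G, i_i G⟩⟩

instance isFinite_t [IsFinite G.s] : IsFinite G.t := by rw [← G.i_s]; infer_instance
instance flat_t [Flat G.s] : Flat G.t := by rw [← G.i_s]; infer_instance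
instance lfp_t [LocallyOfFinitePresentation G.s] : LocallyOfFinitePresentation G.t := by
  rw [← G.i_s]; infer_instance

/-- An invariant open of the objects. -/
def IsInv (W : G.U.Opens) : Prop := G.s ⁻¹ᵁ W = G.t ⁻¹ᵁ W

variable {G} {W : G.U.Opens}

lemma IsInv.mem_iff (hW : IsInv G W) (r : G.R) : G.s r ∈ W ↔ G.t r ∈ W :=
  (SetLike.ext_iff.mp hW r :)

lemma IsInv.inf {W' : G.U.Opens} (hW : IsInv G W) (hW' : IsInv G W') : IsInv G (W ⊓ W') := by
  simp only [IsInv, Scheme.Hom.preimage_inf] at *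
  rw [hW, hW']

lemma range_subset_of_s (hW : IsInv G W) :
    Set.range ((G.s ⁻¹ᵁ W).ι ≫ G.t) ⊆ Set.range W.ι := by
  rintro _ ⟨r, rfl⟩
  rw [Scheme.Opens.range_ι]
  exact (hW.mem_iff r.1).mp r.2

/-- The target map of the restriction. -/
noncomputable def restrT (hW : IsInv G W) : (G.s ⁻¹ᵁ W).toScheme ⟶ W.toScheme :=
  IsOpenImmersion.lift W.ι ((G.s ⁻¹ᵁ W).ι ≫ G.t) (range_subset_of_s hW)

@[reassoc (attr := simp)]
lemma restrT_ι (hW : IsInv G W) : restrT hW ≫ W.ι = (G.s ⁻¹ᵁ W).ι ≫ G.t :=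
  IsOpenImmersion.lift_fac _ _ _

/-- The unit of the restriction. -/
noncomputable def restrE (W : G.U.Opens) : W.toScheme ⟶ (G.s ⁻¹ᵁ W).toScheme :=
  IsOpenImmersion.lift (G.s ⁻¹ᵁ W).ι (W.ι ≫ G.e) (by
    rintro _ ⟨x, rfl⟩
    rw [Scheme.Opens.range_ι]
    change G.s (G.e x.1) ∈ W
    rw [← Scheme.Hom.comp_apply, e_s']
    exact x.2)

@[reassoc (attr := simp)]
lemma restrE_ι : restrE W ≫ (G.s ⁻¹ᵁ W).ι = W.ι ≫ G.e := IsOpenImmersion.lift_fac _ _ _

/-- The inverse of the restriction. -/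
noncomputable def restrI (hW : IsInv G W) : (G.s ⁻¹ᵁ W).toScheme ⟶ (G.s ⁻¹ᵁ W).toScheme :=
  IsOpenImmersion.lift (G.s ⁻¹ᵁ W).ι ((G.s ⁻¹ᵁ W).ι ≫ G.i) (by
    rintro _ ⟨r, rfl⟩
    rw [Scheme.Opens.range_ι]
    change G.s (G.i r.1) ∈ W
    rw [← Scheme.Hom.comp_apply, i_s']
    exact (hW.mem_iff r.1).mp r.2)

@[reassoc (attr := simp)]
lemma restrI_ι (hW : IsInv G W) : restrI hW ≫ (G.s ⁻¹ᵁ W).ι = (G.s ⁻¹ᵁ W).ι ≫ G.i :=
  IsOpenImmersion.lift_fac _ _ _

/-- Composable pairs of the restriction, seen in the groupoid. -/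
noncomputable def restrPair (hW : IsInv G W) :
    pullback (G.s ∣_ W) (restrT hW) ⟶ pullback G.s G.t :=
  pullback.map _ _ _ _ (G.s ⁻¹ᵁ W).ι (G.s ⁻¹ᵁ W).ι W.ι (morphismRestrict_ι G.s W) (restrT_ι hW)

/-- Composition of the restriction. -/
noncomputable def restrC (hW : IsInv G W) :
    pullback (G.s ∣_ W) (restrT hW) ⟶ (G.s ⁻¹ᵁ W).toScheme :=
  IsOpenImmersion.lift (G.s ⁻¹ᵁ W).ι (restrPair hW ≫ G.c) (by
    rintro _ ⟨z, rfl⟩
    rw [Scheme.Opens.range_ι]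
    change G.s ((restrPair hW ≫ G.c) z) ∈ W
    rw [← Scheme.Hom.comp_apply, Category.assoc, c_eq_mul G, mul_s,
      show restrPair hW ≫ pullback.snd G.s G.t ≫ G.s =
        pullback.snd _ _ ≫ (G.s ⁻¹ᵁ W).ι ≫ G.s by simp [restrPair, pullback.map, pullback.lift_fst, pullback.lift_snd, pullback.lift_fst_assoc, pullback.lift_snd_assoc]]
    exact (pullback.snd (G.s ∣_ W) (restrT hW) z).2)

lemma restrC_ι (hW : IsInv G W) : restrC hW ≫ (G.s ⁻¹ᵁ W).ι = restrPair hW ≫ G.c :=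
  IsOpenImmersion.lift_fac _ _ _

lemma restr_w (hW : IsInv G W) {T : Scheme.{u}} {α β : T ⟶ (G.s ⁻¹ᵁ W).toScheme}
    (h : α ≫ (G.s ∣_ W) = β ≫ restrT hW) :
    (α ≫ (G.s ⁻¹ᵁ W).ι) ≫ G.s = (β ≫ (G.s ⁻¹ᵁ W).ι) ≫ G.t := by
  rw [Category.assoc, Category.assoc, ← morphismRestrict_ι, ← restrT_ι hW, reassoc_of% h]

lemma lift_restrC_ι (hW : IsInv G W) {T : Scheme.{u}} (α β : T ⟶ (G.s ⁻¹ᵁ W).toScheme)
    (h : α ≫ (G.s ∣_ W) = β ≫ restrT hW) :
    pullback.lift α β h ≫ restrC hW ≫ (G.s ⁻¹ᵁ W).ι =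
      mul G (α ≫ (G.s ⁻¹ᵁ W).ι) (β ≫ (G.s ⁻¹ᵁ W).ι) (restr_w hW h) := by
  rw [restrC_ι, c_eq_mul G, ← Category.assoc, comp_mul]
  exact mul_congr _ _ (by simp [restrPair, pullback.map, pullback.lift_fst, pullback.lift_snd, pullback.lift_fst_assoc, pullback.lift_snd_assoc]) (by simp [restrPair, pullback.map, pullback.lift_fst, pullback.lift_snd, pullback.lift_fst_assoc, pullback.lift_snd_assoc])

/-- The groupoid induced on an invariant open. -/
noncomputable def restr (hW : IsInv G W) : Grpd.GroupoidScheme S where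
  U := W.toScheme
  R := (G.s ⁻¹ᵁ W).toScheme
  pU := W.ι ≫ G.pU
  pR := (G.s ⁻¹ᵁ W).ι ≫ G.pR
  s := G.s ∣_ W
  t := restrT hW
  e := restrE W
  i := restrI hW
  c := restrC hW
  s_over := by rw [← Category.assoc, morphismRestrict_ι, Category.assoc, G.s_over]
  t_over := by rw [restrT_ι_assoc, G.t_over]
  comp_s α β h := by
    simp only [← cancel_mono W.ι, Category.assoc, morphismRestrict_ι]
    rw [← Category.assoc (restrC hW), ← Category.assoc, lift_restrC_ι, mul_s, Category.assoc]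
  comp_t α β h := by
    simp only [← cancel_mono W.ι, Category.assoc, restrT_ι]
    rw [← Category.assoc (restrC hW), ← Category.assoc, lift_restrC_ι, mul_t, Category.assoc]
  assoc α β γ h₁ h₂ := by
    simp only [← cancel_mono (G.s ⁻¹ᵁ W).ι, Category.assoc, lift_restrC_ι]
    exact mul_assoc' _ _ _ (restr_w hW h₁) (restr_w hW h₂)
  e_s := by simp [← cancel_mono W.ι, morphismRestrict_ι]
  e_t := by simp [← cancel_mono W.ι]
  comp_e α := by
    simp only [← cancel_mono (G.s ⁻¹ᵁ W).ι, Category.assoc, lift_restrC_ι]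
    apply mul_unit_right
    simp
  e_comp α := by
    simp only [← cancel_mono (G.s ⁻¹ᵁ W).ι, Category.assoc, lift_restrC_ι]
    apply mul_unit_left
    simp
  i_s := by simp [← cancel_mono W.ι, morphismRestrict_ι]
  i_t := by simp [← cancel_mono W.ι, morphismRestrict_ι]
  comp_i α := by
    simp only [← cancel_mono (G.s ⁻¹ᵁ W).ι, Category.assoc, lift_restrC_ι]
    rw [mul_inv_right _ (by simp)]
    simp
  i_comp α := by
    simp only [← cancel_mono (G.s ⁻¹ᵁ W).ι, Category.assoc, lift_restrC_ι]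
    rw [mul_inv_left _ (by simp)]
    simp [morphismRestrict_ι_assoc]

instance (hW : IsInv G W) [IsFinite G.s] : IsFinite (restr hW).s :=
  inferInstanceAs (IsFinite (G.s ∣_ W))
instance (hW : IsInv G W) [Flat G.s] : Flat (restr hW).s :=
  inferInstanceAs (Flat (G.s ∣_ W))
instance (hW : IsInv G W) [LocallyOfFinitePresentation G.s] :
    LocallyOfFinitePresentation (restr hW).s :=
  inferInstanceAs (LocallyOfFinitePresentation (G.s ∣_ W))

lemma restr_mono_j (hW : IsInv G W) [hj : Mono G.j] : Mono (restr hW).j := by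
  have e1 : (restr hW).j ≫ pullback.fst _ _ ≫ W.ι = (G.s ⁻¹ᵁ W).ι ≫ G.t :=
    (j_fst_assoc (restr hW) W.ι).trans (restrT_ι hW)
  have e2 : (restr hW).j ≫ pullback.snd _ _ ≫ W.ι = (G.s ⁻¹ᵁ W).ι ≫ G.s :=
    (j_snd_assoc (restr hW) W.ι).trans (morphismRestrict_ι G.s W)
  let ι : (restr hW).R ⟶ G.R := (G.s ⁻¹ᵁ W).ι
  have : Mono ι := inferInstanceAs (Mono (G.s ⁻¹ᵁ W).ι)
  have e1' : ι ≫ G.t = (restr hW).j ≫ pullback.fst _ _ ≫ W.ι := e1.symm
  have e2' : ι ≫ G.s = (restr hW).j ≫ pullback.snd _ _ ≫ W.ι := e2.symm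
  constructor
  intro T a b hab
  refine (cancel_mono ι).mp ((cancel_mono G.j).mp (pullback.hom_ext ?_ ?_))
  · simp only [Category.assoc, j_fst, e1', reassoc_of% hab]
  · simp only [Category.assoc, j_snd, e2', reassoc_of% hab]

end Groth.Agent.Grpd80
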