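import Groth.Agent.Grpd80.GenericThick
import Mathlib.AlgebraicGeometry.Morphisms.Immersion
import Mathlib.AlgebraicGeometry.AffineScheme

/-!
Invariant affine opens cut out by one function of an ambient affine scheme.
-/

set_option autoImplicit false
set_option linter.style.haveILetI false
set_option linter.unusedSectionVars false
set_option backward.isDefEq.respectTransparency.types false

noncomputable section

universe u

open CategoryTheory CategoryTheory.Limits AlgebraicGeometry TopologicalSpace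

namespace Groth.Agent.Grpd80.Thick

/-- Finitely many points outside the zero locus of an ideal avoid it with one element. -/
theorem exists_mem_avoid {A : Type u} [CommRing A] (J : Ideal A) {T : Set (PrimeSpectrum A)}
    (hT : T.Finite) (h : ∀ p ∈ T, p ∉ PrimeSpectrum.zeroLocus (J : Set A)) :
    ∃ f ∈ J, ∀ p ∈ T, p ∈ PrimeSpectrum.basicOpen f := by
  classical
  let F : Finset (Ideal A) := hT.toFinset.image PrimeSpectrum.asIdeal
  have hnot : ¬ ((J : Set A) ⊆ ⋃ p ∈ (↑F : Set (Ideal A)), (p : Set A)) := by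
    rw [Ideal.subset_union_prime (f := fun p : Ideal A => p) ⊥ ⊥ fun p hp _ _ => by
      obtain ⟨q, -, rfl⟩ := Finset.mem_image.1 hp; exact q.isPrime]
    rintro ⟨p, hp, hle⟩
    obtain ⟨q, hq, rfl⟩ := Finset.mem_image.1 hp
    exact h q (hT.mem_toFinset.1 hq) hle
  obtain ⟨f, hfJ, hf⟩ := Set.not_subset.1 hnot
  refine ⟨f, hfJ, fun p hp hfp => hf (Set.mem_biUnion ?_ hfp)⟩
  exact Finset.mem_coe.2 (Finset.mem_image_of_mem _ (hT.mem_toFinset.2 hp))

variable {S : Scheme.{u}} (G : Grpd.GroupoidScheme S) [IsFinite G.s] [IsFinite G.t]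

/-- Over an immersion into an affine scheme, an invariant affine open containing given generic
orbits is cut out by one element of a given ideal. -/
theorem exists_invariant_basicOpen [LocallyOfFinitePresentation G.s] (m : ℕ) (u : Fin m → G.U)
    (hu : ∀ i, IsGenericOrbit G (u i)) (A : Type u) [CommRing A]
    (j : G.U ⟶ Spec (CommRingCat.of A)) [IsImmersion j] (I : Ideal A)
    (hI : ∀ x : G.U, j x ∉ PrimeSpectrum.zeroLocus (I : Set A))
    (hcl : IsClosed (PrimeSpectrum.zeroLocus (I : Set A) ∪ Set.range j)) :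
    ∃ h ∈ I, IsAffineOpen (j ⁻¹ᵁ PrimeSpectrum.basicOpen h) ∧
      (∀ i, u i ∈ j ⁻¹ᵁ PrimeSpectrum.basicOpen h) ∧
      G.s ⁻¹ᵁ (j ⁻¹ᵁ PrimeSpectrum.basicOpen h) = G.t ⁻¹ᵁ (j ⁻¹ᵁ PrimeSpectrum.basicOpen h) := by
  let W := bigOpen G
  have hW : IsInv G W := bigOpen_invariant G
  let T₀ : Set G.U := ⇑G.t '' (⇑G.s ⁻¹' Set.range u)
  have hT₀ : T₀.Finite :=
    ((Set.finite_range u).preimage' fun x _ => G.s.finite_preimage_singleton x).image _
  have hTW : T₀ ⊆ (W : Set G.U) := by
    rintro _ ⟨r, ⟨i, hi⟩, rfl⟩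
    exact (hW.mem_iff r).1 (hi ▸ mem_bigOpen_of_generic G (hu i))
  -- the function vanishing outside the big open
  let C : Set (PrimeSpectrum A) := closure (j '' (W : Set G.U)ᶜ)
  let J : Ideal A := I * PrimeSpectrum.vanishingIdeal C
  have hJ : ∀ p ∈ (⇑j '' T₀), p ∉ PrimeSpectrum.zeroLocus (J : Set A) := by
    rintro _ ⟨x, hx, rfl⟩ hmem
    rcases (j x).isPrime.mul_le.1 hmem with h | h
    · exact hI x h
    · have h' : j x ∈ PrimeSpectrum.zeroLocus (PrimeSpectrum.vanishingIdeal C : Set A) := h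
      rw [PrimeSpectrum.zeroLocus_vanishingIdeal_eq_closure, isClosed_closure.closure_eq] at h'
      have : x ∈ closure (W : Set G.U)ᶜ := by
        rw [j.isEmbedding.closure_eq_preimage_closure_image]; exact h'
      rw [show closure (W : Set G.U)ᶜ = (W : Set G.U)ᶜ from W.2.isClosed_compl.closure_eq] at this
      exact this (hTW hx)
  obtain ⟨f, hfJ, hf⟩ := exists_mem_avoid J (hT₀.image _) hJ
  have hfI : f ∈ I := Ideal.mul_le_left hfJ
  have hfC : f ∈ PrimeSpectrum.vanishingIdeal C := Ideal.mul_le_right hfJ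
  let D₀ : (Spec (CommRingCat.of A)).Opens := PrimeSpectrum.basicOpen f
  let D := j ⁻¹ᵁ D₀
  have hDW : D ≤ W := by
    intro x hx
    by_contra hxW
    exact hx ((PrimeSpectrum.mem_vanishingIdeal C f).1 hfC _ (subset_closure ⟨x, hxW, rfl⟩))
  haveI : IsClosedImmersion (j ∣_ D₀) := by
    refine IsClosedImmersion.of_isPreimmersion _ ?_
    have : Set.range ⇑(j ∣_ D₀) =
        D₀.ι ⁻¹' (PrimeSpectrum.zeroLocus (I : Set A) ∪ Set.range j) := by
      ext y
      constructor
      · rintro ⟨x, rfl⟩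
        refine Or.inr ⟨D.ι x, ?_⟩
        rw [← Scheme.Hom.comp_apply, ← morphismRestrict_ι, Scheme.Hom.comp_apply]
      · rintro (h | ⟨x, hx⟩)
        · exact absurd (h hfI) y.2
        · refine ⟨⟨x, show j x ∈ D₀ by rw [hx]; exact y.2⟩, D₀.ι.isOpenEmbedding.injective ?_⟩
          rw [← Scheme.Hom.comp_apply, morphismRestrict_ι]
          exact hx
    rw [this]
    exact hcl.preimage D₀.ι.continuous
  have hD₀ : IsAffineOpen D₀ := IsAffineOpen.Spec_basicOpen (R := CommRingCat.of A) f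
  have hD : IsAffineOpen D := by
    haveI : IsAffine D₀.toScheme := hD₀
    exact isAffine_of_isAffineHom (j ∣_ D₀)
  have hTD : T₀ ⊆ (D : Set G.U) := fun x hx => hf _ ⟨x, hx, rfl⟩
  -- the thinned groupoid
  obtain ⟨φ, hφ⟩ := thin_iso G
  haveI : Mono (thinι G) := by unfold thinι; infer_instance
  let t' := φ.hom ≫ pullback.snd G.t (thinι G)
  have ht : t' ≫ thinι G = pullback.fst G.s (thinι G) ≫ G.t := by
    rw [Category.assoc, ← pullback.condition, ← Category.assoc, hφ]
  let G' := restrMono ht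
  obtain ⟨hfin, hflat, hfp⟩ := finLocFree_of_fitI G (f := G.s) fun _ => rfl
  haveI : IsFinite G'.s := hfin
  haveI : Flat G'.s := hflat
  haveI : LocallyOfFinitePresentation G'.s := hfp
  have hDW' : IsAffineOpen (W.ι ⁻¹ᵁ D) := hD.preimage_of_isOpenImmersion W.ι
    (by rw [Scheme.Opens.opensRange_ι]; exact hDW)
  let D' : G'.U.Opens := (thin G).subschemeι ⁻¹ᵁ (W.ι ⁻¹ᵁ D)
  have hD' : IsAffineOpen D' := IsAffineOpen.preimage hDW' (thin G).subschemeι
  have hpt : ∀ r : G'.R, thinι G (G'.t r) = G.t (pullback.fst G.s (thinι G) r) ∧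
      G.s (pullback.fst G.s (thinι G) r) = thinι G (G'.s r) := fun r =>
    ⟨(Scheme.Hom.comp_apply t' (thinι G) r).symm.trans
      ((congr($ht r)).trans (Scheme.Hom.comp_apply (pullback.fst G.s (thinι G)) G.t r)),
     (Scheme.Hom.comp_apply (pullback.fst G.s (thinι G)) G.s r).symm.trans
      ((congr($(pullback.condition (f := G.s) (g := thinι G)) r)).trans
        (Scheme.Hom.comp_apply (pullback.snd G.s (thinι G)) (thinι G) r))⟩
  let T' : Set G'.U := ⇑(thinι G) ⁻¹' Set.range u
  have hT' : T'.Finite := (Set.finite_range u).preimage (thinι G).injective.injOn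
  obtain ⟨c', hTc', -, hc'inv⟩ := exists_inv_basicOpen_finite (G := G') hT' hD'
    (fun r hr => by
      show thinι G (G'.t r) ∈ D
      rw [(hpt r).1]
      exact hTD ⟨_, by rw [Set.mem_preimage, (hpt r).2]; exact hr, rfl⟩)
    (O := ⊤) (by simp [IsInv]) (Set.subset_univ _)
  obtain ⟨c₁, hc₁⟩ := (thin G).subschemeι.app_surjective _ hDW' c'
  haveI : IsIso (W.ι.app D) :=
    W.ι.isIso_app D (by rw [Scheme.Opens.opensRange_ι]; exact hDW)
  obtain ⟨c, hc⟩ := (ConcreteCategory.bijective_of_isIso (W.ι.app D)).2 c₁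
  have hcpre : thinι G ⁻¹ᵁ G.U.basicOpen c = G'.U.basicOpen c' := by
    rw [thinι, Scheme.Hom.comp_preimage, Scheme.preimage_basicOpen, hc,
      Scheme.preimage_basicOpen, hc₁]
    rfl
  -- lift to the ambient affine scheme
  obtain ⟨a, ha⟩ : ∃ a, j.app D₀ a = c := by
    haveI : IsAffine D₀.toScheme := hD₀
    have h := (j ∣_ D₀).app_surjective ⊤ (isAffineOpen_top _)
    rw [morphismRestrict_app] at h
    haveI hiso : ∀ (U V : G.U.Opens) (e : U = V), IsIso (G.U.presheaf.map (eqToHom e).op) :=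
      fun U V e => inferInstance
    obtain ⟨x, hx⟩ := h ((G.U.presheaf.map (eqToHom (image_morphismRestrict_preimage j D₀ ⊤)).op)
      ((G.U.presheaf.map (eqToHom (congrArg (j ⁻¹ᵁ ·) D₀.ι_image_top)).op) c))
    simp only [CommRingCat.comp_apply] at hx
    have hx' := (ConcreteCategory.bijective_of_isIso
      (G.U.presheaf.map (eqToHom (image_morphismRestrict_preimage j D₀ ⊤)).op)).1 hx
    refine ⟨(Spec (CommRingCat.of A)).presheaf.map (eqToHom D₀.ι_image_top.symm).op x, ?_⟩
    rw [← CommRingCat.comp_apply, j.naturality, CommRingCat.comp_apply]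
    erw [hx', ← CommRingCat.comp_apply, ← Functor.map_comp]
    have hid : ∀ (h : Opposite.op D ⟶ Opposite.op D), (G.U.presheaf.map h).hom c = c := fun h => by
      rw [Subsingleton.elim h (𝟙 _), CategoryTheory.Functor.map_id]
      rfl
    exact hid _
  obtain ⟨g', hg'⟩ := (isAffineOpen_top (Spec (CommRingCat.of A))).basicOpen_basicOpen_is_basicOpen
    ((Scheme.ΓSpecIso (CommRingCat.of A)).inv f)
    ((Spec (CommRingCat.of A)).presheaf.map (eqToHom (basicOpen_eq_of_affine f)).op a)
  let g := (Scheme.ΓSpecIso (CommRingCat.of A)).hom g'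
  have hga : PrimeSpectrum.basicOpen g = (Spec (CommRingCat.of A)).basicOpen a := by
    have := basicOpen_eq_of_affine' (R := CommRingCat.of A) g'
    rw [hg', Scheme.basicOpen_res_eq] at this
    exact this.symm
  have hle : (Spec (CommRingCat.of A)).basicOpen a ≤ D₀ := Scheme.basicOpen_le _ a
  have hO : j ⁻¹ᵁ PrimeSpectrum.basicOpen (f * g) = G.U.basicOpen c := by
    rw [PrimeSpectrum.basicOpen_mul, hga]
    rw [show PrimeSpectrum.basicOpen f ⊓ (Spec (CommRingCat.of A)).basicOpen a =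
      (Spec (CommRingCat.of A)).basicOpen a from inf_eq_right.2 hle, Scheme.preimage_basicOpen, ha]
  refine ⟨f * g, I.mul_mem_right g hfI, ?_, ?_, ?_⟩
  · rw [hO]; exact hD.basicOpen c
  all_goals rw [hO]
  have hlift : ∀ x ∈ W, ∃ z : G'.U, thinι G z = x := fun x hx => by
    have : (⟨x, hx⟩ : W.toScheme) ∈ Set.range (thin G).subschemeι := by
      rw [Scheme.IdealSheafData.range_subschemeι, thin_support]; trivial
    obtain ⟨z, hz⟩ := this
    exact ⟨z, congrArg W.ι hz⟩
  have hmemc : ∀ z : G'.U, thinι G z ∈ G.U.basicOpen c ↔ z ∈ G'.U.basicOpen c' := fun z =>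
    SetLike.ext_iff.1 hcpre z
  have hcW : G.U.basicOpen c ≤ W := (G.U.basicOpen_le c).trans hDW
  · intro i
    obtain ⟨z, hz⟩ := hlift (u i) (mem_bigOpen_of_generic G (hu i))
    exact hz ▸ (hmemc z).2 (hTc' ⟨i, hz.symm⟩)
  · have hlift : ∀ x ∈ W, ∃ z : G'.U, thinι G z = x := fun x hx => by
      have : (⟨x, hx⟩ : W.toScheme) ∈ Set.range (thin G).subschemeι := by
        rw [Scheme.IdealSheafData.range_subschemeι, thin_support]; trivial
      obtain ⟨z, hz⟩ := this
      exact ⟨z, congrArg W.ι hz⟩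
    have hmemc : ∀ z : G'.U, thinι G z ∈ G.U.basicOpen c ↔ z ∈ G'.U.basicOpen c' := fun z =>
      SetLike.ext_iff.1 hcpre z
    refine Opens.ext (Set.ext fun r => ?_)
    change G.s r ∈ G.U.basicOpen c ↔ G.t r ∈ G.U.basicOpen c
    by_cases hr : G.s r ∈ W
    · obtain ⟨z, hz⟩ := hlift _ hr
      obtain ⟨q, hq1, hq2⟩ := Scheme.Pullback.exists_preimage_pullback r z hz.symm
      rw [← hz, hmemc, ← show thinι G (G'.t q) = G.t r from (hpt q).1.trans (congrArg G.t hq1),
        hmemc, ← hq2]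
      exact hc'inv.mem_iff (G := G') q
    · constructor
      · exact fun h => absurd (((G.U.basicOpen_le c).trans hDW) h) hr
      · exact fun h => absurd ((hW.mem_iff r).2 (((G.U.basicOpen_le c).trans hDW) h)) hr

end Groth.Agent.Grpd80.Thick
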