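import Mathlib.RingTheory.RingHom.Flat
import Mathlib.RingTheory.RingHom.FinitePresentation
import Mathlib.RingTheory.RingHom.Finite
import Mathlib.RingTheory.Finiteness.ModuleFinitePresentation
import Mathlib.RingTheory.Finiteness.Projective
import Mathlib.RingTheory.Flat.EquationalCriterion
import Mathlib.RingTheory.IsTensorProduct
import Mathlib.Algebra.Category.Ring.Constructions

set_option autoImplicit false
universe u
open CategoryTheory

namespace Groth.Agent.Grpd80

/-- A finite flat finitely presented ring map has a finite frame. -/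
lemma exists_frame {X Y : Type u} [CommRing X] [CommRing Y] (f : X →+* Y)
    (h₁ : f.Finite) (h₂ : f.Flat) (h₃ : f.FinitePresentation) :
    ∃ (n : ℕ) (x : Fin n → Y) (l : Fin n → Y →+ X),
      (∀ k a b, l k (f a * b) = a * l k b) ∧ ∀ b, ∑ k, f (l k b) * x k = b := by
  algebraize [f]
  have : Module.FinitePresentation X Y := Module.FinitePresentation.of_finite_of_finitePresentation X Y
  have : Module.Projective X Y := Module.Flat.projective_of_finitePresentation
  obtain ⟨n, p, i, -, -, hpi⟩ := Module.Finite.exists_comp_eq_id_of_projective X Y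
  classical
  refine ⟨n, fun k => p (Pi.single k 1), fun k => ((LinearMap.proj k).comp i).toAddMonoidHom,
    fun k a b => ?_, fun b => ?_⟩
  · change i (algebraMap X Y a * b) k = a * i b k
    rw [← Algebra.smul_def, map_smul]
    rfl
  · refine Eq.trans ?_ (LinearMap.congr_fun hpi b)
    change _ = p (i b)
    conv_rhs => rw [pi_eq_sum_univ' (i b)]
    rw [map_sum]
    refine Finset.sum_congr rfl fun k _ => ?_
    rw [map_smul, Algebra.smul_def]
    rfl

/-- A frame passes along a pushout of rings. -/
lemma exists_frame_pushout {X Y X' Y' : CommRingCat.{u}} {f : X ⟶ Y} {g : X ⟶ X'} {f' : X' ⟶ Y'}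
    {h : Y ⟶ Y'} (sq : IsPushout g f f' h) {n : ℕ} (x : Fin n → Y) (l : Fin n → Y →+ X)
    (hl : ∀ k a b, l k (f.hom a * b) = a * l k b) (hf : ∀ b, ∑ k, f.hom (l k b) * x k = b) :
    ∃ l' : Fin n → Y' →+ X', (∀ k a y, l' k (f'.hom a * y) = a * l' k y) ∧
      (∀ k b, l' k (h.hom b) = g.hom (l k b)) ∧
      ∀ y, ∑ k, f'.hom (l' k y) * h.hom (x k) = y := by
  algebraize [f.hom, g.hom, f'.hom, h.hom, f'.hom.comp g.hom]
  have : IsScalarTower X Y Y' := .of_algebraMap_eq' congr($(sq.w).hom)
  have hp : Algebra.IsPushout X X' Y Y' := CommRingCat.isPushout_iff_isPushout.mp sq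
  have hb : IsBaseChange X' (IsScalarTower.toAlgHom X Y Y').toLinearMap := hp.out
  let m : Fin n → Y →ₗ[X] X' := fun k =>
    { toFun := fun b => g.hom (l k b)
      map_add' := fun b b' => by simp
      map_smul' := fun a b => by
        rw [Algebra.smul_def, RingHom.id_apply, Algebra.smul_def]
        exact (congrArg g.hom (hl k a b)).trans (map_mul _ _ _) }
  have hm : ∀ k b, hb.lift (m k) (h.hom b) = g.hom (l k b) := fun k b => hb.lift_eq (m k) b
  refine ⟨fun k => (hb.lift (m k)).toAddMonoidHom, fun k a y => ?_, hm, fun y => ?_⟩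
  · change hb.lift (m k) (algebraMap X' Y' a * y) = a * hb.lift (m k) y
    rw [← Algebra.smul_def, map_smul, smul_eq_mul]
  · simp only [LinearMap.toAddMonoidHom_coe]
    induction y using hb.inductionOn with
    | zero => simp
    | tmul b =>
      change ∑ k, f'.hom (hb.lift (m k) (h.hom b)) * h.hom (x k) = h.hom b
      simp only [hm]
      conv_rhs => rw [← hf b, map_sum]
      refine Finset.sum_congr rfl fun k _ => ?_
      rw [map_mul]
      congr 1
      exact congr($(sq.w).hom (l k b))
    | smul a y hy =>
      change ∑ k, algebraMap X' Y' (hb.lift (m k) (a • y)) * h.hom (x k) = a • y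
      conv_rhs => rw [← hy, Finset.smul_sum]
      refine Finset.sum_congr rfl fun k _ => ?_
      rw [map_smul, smul_eq_mul, map_mul, mul_assoc, Algebra.smul_def a]
      rfl
    | add y z hy hz => simp only [map_add, add_mul, Finset.sum_add_distrib, hy, hz]

end Groth.Agent.Grpd80
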