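import Mathlib.LinearAlgebra.Matrix.Charpoly.Coeff
import Mathlib.LinearAlgebra.Matrix.SchurComplement
import Mathlib.LinearAlgebra.Matrix.Nondegenerate
import Mathlib.RingTheory.TensorProduct.Maps
import Mathlib.RingTheory.IntegralClosure.IsIntegralClosure.Basic
import Mathlib.LinearAlgebra.Basis.Basic
import Mathlib.LinearAlgebra.Matrix.ToLinearEquiv

set_option autoImplicit false
universe u
open Matrix

namespace Groth.Agent.Grpd80

variable (C A B P : Type u) [CommRing C] [CommRing A] [Algebra C A] [CommRing B] [Algebra C B]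
  [CommRing P] [Algebra C P]

/-- The coordinate rings of an affine groupoid with finite locally free source map: objects `A`,
arrows `B`, composable pairs `P`, and finite frames for `B` over `A` (via `s`) and for `P` over `B`
(via `p₂`) along the two cartesian squares. -/
structure GrpdRing where
  s : A →ₐ[C] B
  t : A →ₐ[C] B
  p₁ : B →ₐ[C] P
  p₂ : B →ₐ[C] P
  μ : B →ₐ[C] P
  ε : B →ₐ[C] A
  ε_s : ∀ a, ε (s a) = a
  ε_t : ∀ a, ε (t a) = a
  μ_t : ∀ a, μ (t a) = p₁ (t a)
  μ_s : ∀ a, μ (s a) = p₂ (s a)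
  p₁_s : ∀ a, p₁ (s a) = p₂ (t a)
  n : ℕ
  x : Fin n → B
  l : Fin n → B →ₗ[C] A
  l_smul : ∀ k a b, l k (s a * b) = a * l k b
  frame : ∀ b, ∑ k, s (l k b) * x k = b
  lμ : Fin n → P →ₗ[C] B
  lμ_smul : ∀ k b y, lμ k (p₂ b * y) = b * lμ k y
  lμ_apply : ∀ k b, lμ k (μ b) = s (l k b)
  frame_μ : ∀ y, ∑ k, p₂ (lμ k y) * μ (x k) = y
  lp : Fin n → P →ₗ[C] B
  lp_smul : ∀ k b y, lp k (p₂ b * y) = b * lp k y
  lp_apply : ∀ k b, lp k (p₁ b) = t (l k b)
  frame_p : ∀ y, ∑ k, p₂ (lp k y) * p₁ (x k) = y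

namespace GrpdRing

variable {C A B P} (G : GrpdRing C A B P)

/-- The matrix of multiplication by `b`. -/
def N : B →ₗ[C] Matrix (Fin G.n) (Fin G.n) A where
  toFun b := Matrix.of fun i j => G.l i (b * G.x j)
  map_add' a b := by ext i j; simp [add_mul]
  map_smul' c b := by ext i j; simp

lemma N_apply (b : B) (i j : Fin G.n) : G.N b i j = G.l i (b * G.x j) := rfl

lemma N_mul (a b : B) : G.N a * G.N b = G.N (a * b) := by
  ext i j
  simp only [Matrix.mul_apply, N_apply]
  conv_rhs => rw [mul_assoc, ← G.frame (b * G.x j), Finset.mul_sum, map_sum]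
  refine Finset.sum_congr rfl fun k _ => ?_
  rw [mul_left_comm, G.l_smul, mul_comm]

lemma N_s_mul (a : A) (b : B) : G.N (G.s a * b) = a • G.N b := by
  ext i j
  simp [N_apply, mul_assoc, G.l_smul]

lemma N_s (a : A) : G.N (G.s a) = a • G.N 1 := by rw [← G.N_s_mul, mul_one]

/-- Coordinates of an element of `B`. -/
def coord (b : B) : Fin G.n → A := fun k => G.l k b

lemma sum_coord (b : B) : ∑ k, G.s (G.coord b k) * G.x k = b := G.frame b

lemma coord_mul (b b' : B) : G.coord (b * b') = G.N b *ᵥ G.coord b' := by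
  funext i
  simp only [Matrix.mulVec, dotProduct, N_apply, coord]
  conv_lhs => rw [← G.frame b', Finset.mul_sum, map_sum]
  refine Finset.sum_congr rfl fun k _ => ?_
  rw [mul_left_comm, G.l_smul, mul_comm]

/-- First half of the comparison of the two frames on composable pairs. -/
def compU : B →ₗ[C] Matrix (Fin G.n) (Fin G.n) B where
  toFun b := Matrix.of fun i j => G.lμ i (G.μ b * G.p₁ (G.x j))
  map_add' a b := by ext i j; simp [add_mul]
  map_smul' c b := by ext i j; simp

/-- Second half of the comparison of the two frames on composable pairs. -/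
def compV : Matrix (Fin G.n) (Fin G.n) B := Matrix.of fun i j => G.lp i (G.μ (G.x j))

lemma map_s_N (b : B) : (G.N b).map G.s = G.compU b * G.compV := by
  ext i j
  simp only [Matrix.map_apply, N_apply, ← G.lμ_apply, Matrix.mul_apply, compU, compV,
    Matrix.of_apply, LinearMap.coe_mk, AddHom.coe_mk, map_mul]
  conv_lhs => rw [← G.frame_p (G.μ (G.x j)), Finset.mul_sum, map_sum]
  refine Finset.sum_congr rfl fun k _ => ?_
  rw [mul_left_comm, G.lμ_smul, mul_comm]

lemma map_t_N {b : B} (hb : G.μ b = G.p₁ b) : (G.N b).map G.t = G.compV * G.compU b := by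
  ext i j
  simp only [Matrix.map_apply, N_apply, ← G.lp_apply, Matrix.mul_apply, compU, compV,
    Matrix.of_apply, LinearMap.coe_mk, AddHom.coe_mk, map_mul, hb]
  conv_lhs => rw [← G.frame_μ (G.p₁ b * G.p₁ (G.x j)), map_sum]
  refine Finset.sum_congr rfl fun k _ => ?_
  rw [G.lp_smul, mul_comm]

lemma μ_t_eq (a : A) : G.μ (G.t a) = G.p₁ (G.t a) := G.μ_t a

/-- Invariance of the characteristic polynomial of `t a`. -/
lemma charpoly_invariant (a : A) (k : ℕ) :
    G.s ((G.N (G.t a)).charpoly.coeff k) = G.t ((G.N (G.t a)).charpoly.coeff k) := by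
  have h : ((G.N (G.t a)).map G.s).charpoly = ((G.N (G.t a)).map G.t).charpoly := by
    rw [G.map_s_N, G.map_t_N (G.μ_t a), Matrix.charpoly_mul_comm]
  have hs := Matrix.charpoly_map (G.N (G.t a)) (G.s : A →+* B)
  have ht := Matrix.charpoly_map (G.N (G.t a)) (G.t : A →+* B)
  have := congr(Polynomial.coeff $h k)
  change Polynomial.coeff ((G.N (G.t a)).map (G.s : A →+* B)).charpoly k =
    Polynomial.coeff ((G.N (G.t a)).map (G.t : A →+* B)).charpoly k at this
  rwa [hs, ht, Polynomial.coeff_map, Polynomial.coeff_map] at this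

/-- The generic determinant of a finite family of elements of `B`. -/
noncomputable def gdet {σ : Type*} [Fintype σ] (b : σ → B) : MvPolynomial σ A :=
  det (1 + ∑ i, (MvPolynomial.X i : MvPolynomial σ A) •
    (G.N (b i)).map (MvPolynomial.C : A →+* MvPolynomial σ A))

lemma gdet_invariant {σ : Type*} [Fintype σ] (b : σ → B) (hb : ∀ i, G.μ (b i) = G.p₁ (b i)) :
    MvPolynomial.map (G.s : A →+* B) (G.gdet b) = MvPolynomial.map (G.t : A →+* B) (G.gdet b) := by
  set U : Matrix (Fin G.n) (Fin G.n) (MvPolynomial σ B) :=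
    ∑ i, (MvPolynomial.X i : MvPolynomial σ B) •
      (G.compU (b i)).map (MvPolynomial.C : B →+* MvPolynomial σ B)
  set V : Matrix (Fin G.n) (Fin G.n) (MvPolynomial σ B) :=
    G.compV.map (MvPolynomial.C : B →+* MvPolynomial σ B)
  have key : ∀ (φ : A →ₐ[C] B) (W : Matrix (Fin G.n) (Fin G.n) (MvPolynomial σ B)),
      (∑ i, (MvPolynomial.X i : MvPolynomial σ B) •
        ((G.N (b i)).map φ).map (MvPolynomial.C : B →+* MvPolynomial σ B)) = W →
      MvPolynomial.map (φ : A →+* B) (G.gdet b) = det (1 + W) := by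
    intro φ W hW
    rw [gdet, RingHom.map_det, map_add, map_one, map_sum, ← hW]
    congr 2
    refine Finset.sum_congr rfl fun i _ => ?_
    ext p q
    simp
  rw [key G.s (U * V), key G.t (V * U), Matrix.det_one_add_mul_comm]
  · simp only [U, V, Finset.mul_sum, Matrix.mul_smul]
    refine Finset.sum_congr rfl fun i _ => ?_
    rw [G.map_t_N (hb i), Matrix.map_mul]
  · simp only [U, V, Finset.sum_mul, Matrix.smul_mul]
    refine Finset.sum_congr rfl fun i _ => ?_
    rw [G.map_s_N, Matrix.map_mul]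

/-- The norm of `w`: determinant of multiplication, extended by the identity on the complement. -/
def norm (w : B) : A := det (1 + G.N (w - 1))

lemma norm_mul (v w : B) : G.norm (v * w) = G.norm v * G.norm w := by
  unfold norm
  rw [← Matrix.det_mul]
  congr 1
  simp only [add_mul, mul_add, mul_one, one_mul, G.N_mul]
  rw [add_assoc, ← map_add, ← map_add]
  congr 2
  ring

lemma norm_invariant {w : B} (hw : G.μ w = G.p₁ w) : G.s (G.norm w) = G.t (G.norm w) := by
  have h := G.gdet_invariant (σ := Unit) (fun _ => w - 1) (fun _ => by simp [hw])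
  have := congr(MvPolynomial.eval (fun _ : Unit => (1 : B)) $h)
  have ev : ∀ φ : A →ₐ[C] B, MvPolynomial.eval (fun _ : Unit => (1 : B))
      (MvPolynomial.map (φ : A →+* B) (G.gdet fun _ => w - 1)) = φ (G.norm w) := by
    intro φ
    rw [MvPolynomial.eval_map]
    change MvPolynomial.eval₂Hom (φ : A →+* B) (fun _ => 1) _ = (φ : A →+* B) _
    rw [norm, RingHom.map_det (φ : A →+* B), gdet, RingHom.map_det]
    congr 1
    ext p q
    simp [Matrix.one_apply, apply_ite]
  rwa [ev, ev] at this

/-- A row eigenvector attached to a point of `Spec B`. -/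
lemma point_vecMul {K : Type*} [CommRing K] (ρ : B →+* K) (b : B) :
    (fun k => ρ (G.x k)) ᵥ* (G.N b).map (ρ.comp (G.s : A →+* B)) =
      ρ b • fun k => ρ (G.x k) := by
  funext j
  simp only [Matrix.vecMul, dotProduct, Matrix.map_apply, N_apply, RingHom.comp_apply,
    Pi.smul_apply, smul_eq_mul, ← map_mul, ← map_sum]
  congr 1
  exact (Finset.sum_congr rfl fun k _ => mul_comm _ _).trans (G.frame _)

lemma point_ne_zero {K : Type*} [CommRing K] [Nontrivial K] (ρ : B →+* K) :
    (fun k => ρ (G.x k)) ≠ 0 := by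
  intro h
  have h1 := congr(ρ $(G.frame 1))
  simp [map_sum, show ∀ k, ρ (G.x k) = 0 from fun k => congrFun h k] at h1

lemma point_norm {K : Type*} [CommRing K] [IsDomain K] (ρ : B →+* K) {w : B} (hw : ρ w = 0) :
    ρ (G.s (G.norm w)) = 0 := by
  change (ρ.comp (G.s : A →+* B)) _ = 0
  rw [norm, RingHom.map_det]
  refine Matrix.exists_vecMul_eq_zero_iff.mp ⟨_, G.point_ne_zero ρ, ?_⟩
  rw [map_add, map_one, Matrix.vecMul_add, Matrix.vecMul_one, RingHom.mapMatrix_apply,
    G.point_vecMul, map_sub, hw, map_one, zero_sub, neg_one_smul, add_neg_cancel]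

lemma aeval_vecMul {R : Type*} [CommRing R] {n : ℕ} (M : Matrix (Fin n) (Fin n) R) (r : Fin n → R)
    (v : R) (h : r ᵥ* M = v • r) (p : Polynomial R) :
    r ᵥ* Polynomial.aeval M p = p.eval v • r := by
  induction p using Polynomial.induction_on' with
  | add p q hp hq => simp [Matrix.vecMul_add, hp, hq, add_smul]
  | monomial k c =>
    have hk : r ᵥ* M ^ k = v ^ k • r := by
      induction k with
      | zero => simp
      | succ k ih => rw [pow_succ, ← Matrix.vecMul_vecMul, ih, Matrix.smul_vecMul, h, smul_smul, pow_succ]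
    rw [Polynomial.aeval_monomial, Polynomial.eval_monomial, ← Algebra.smul_def,
      Matrix.vecMul_smul, hk, smul_smul]

lemma eval_charpoly (a : A) : (G.N (G.t a)).charpoly.eval a = 0 := by
  have h := G.point_vecMul (G.ε : B →+* A) (G.t a)
  have hmap : (G.N (G.t a)).map ((G.ε : B →+* A).comp (G.s : A →+* B)) = G.N (G.t a) := by
    ext i j; simp [G.ε_s]
  rw [hmap] at h
  have h2 := aeval_vecMul _ _ _ h (G.N (G.t a)).charpoly
  rw [Matrix.aeval_self_charpoly, Matrix.vecMul_zero] at h2
  simp only [RingHom.coe_coe, G.ε_t] at h2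
  have h3 := congr((fun k => G.l k 1) ⬝ᵥ $h2)
  have h4 : ∑ k, G.l k 1 * G.ε (G.x k) = 1 := by
    simpa [map_sum, G.ε_s] using congr(G.ε $(G.frame 1))
  rw [dotProduct_zero, dotProduct_smul, smul_eq_mul,
    show (fun k => G.l k 1) ⬝ᵥ (fun k => G.ε (G.x k)) = 1 from h4, mul_one] at h3
  exact h3.symm

/-- `C` is the ring of invariants. -/
def IsInvariants : Prop := ∀ a, G.s a = G.t a → a ∈ (algebraMap C A).range

lemma isIntegral (hC : G.IsInvariants) : Algebra.IsIntegral C A := by
  refine ⟨fun a => ?_⟩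
  rcases subsingleton_or_nontrivial A with hA | hA
  · rw [Subsingleton.elim a 0]; exact isIntegral_zero
  obtain ⟨q, hq, -, hmon⟩ := Polynomial.lifts_and_degree_eq_and_monic
    (f := algebraMap C A) (p := (G.N (G.t a)).charpoly)
    ((Polynomial.lifts_iff_coeff_lifts _).mpr fun k => hC _ (G.charpoly_invariant a k))
    (Matrix.charpoly_monic _)
  refine ⟨q, hmon, ?_⟩
  rw [← Polynomial.eval_map, hq, G.eval_charpoly]

/-- Descent of a frame given by a basis of the form `t (a i)`. -/
noncomputable def coordExt (φ : B →ₗ[C] A) (y : P) : B :=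
  ∑ k, G.t (φ (G.x k)) * G.lp k y

lemma coordExt_p₁ (φ : B →ₗ[C] A) (hφ : ∀ a b, φ (G.s a * b) = a * φ b) (b : B) :
    G.coordExt φ (G.p₁ b) = G.t (φ b) := by
  conv_rhs => rw [← G.frame b, map_sum]
  simp only [coordExt, hφ, map_sum, map_mul, G.lp_apply]
  exact Finset.sum_congr rfl fun k _ => mul_comm _ _

lemma coordExt_mul (φ : B →ₗ[C] A) (b : B) (y : P) :
    G.coordExt φ (G.p₂ b * y) = b * G.coordExt φ y := by
  simp only [coordExt, G.lp_smul, Finset.mul_sum]
  exact Finset.sum_congr rfl fun k _ => mul_left_comm _ _ _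

/-- If the elements `t (a i)` form a basis of `B` over `A`, the `a i` span and are independent. -/
lemma basis_descent {I : Type*} [Fintype I] [DecidableEq I] (hC : G.IsInvariants) (a : I → A)
    (φ : I → B →ₗ[C] A) (hφ : ∀ i a' b, φ i (G.s a' * b) = a' * φ i b)
    (hsum : ∀ b, ∑ i, G.s (φ i b) * G.t (a i) = b)
    (hdual : ∀ i j, φ i (G.t (a j)) = if i = j then 1 else 0) :
    (∀ z : A, ∃ c : I → C, ∑ i, c i • a i = z) ∧
      ∀ c : I → C, ∑ i, c i • a i = 0 → ∀ i, algebraMap C A (c i) = 0 := by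
  constructor
  · intro z
    set al : I → A := fun i => φ i (G.t z)
    have h0 : ∑ i, G.p₂ (G.s (al i)) * G.p₁ (G.t (a i)) =
        ∑ i, G.p₂ (G.t (al i)) * G.p₁ (G.t (a i)) := by
      have h1 := G.μ_t z
      rw [← hsum (G.t z), map_sum, map_sum] at h1
      simpa only [map_mul, G.μ_s, G.μ_t, G.p₁_s, al] using h1
    have heq : ∀ i, G.s (al i) = G.t (al i) := by
      intro i
      have h1 := congr(G.coordExt (φ i) $h0)
      have key : ∀ β : I → B, G.coordExt (φ i) (∑ j, G.p₂ (β j) * G.p₁ (G.t (a j))) = β i := by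
        intro β
        have hlin : ∀ y : I → P, G.coordExt (φ i) (∑ j, y j) = ∑ j, G.coordExt (φ i) (y j) := by
          intro y
          simp only [coordExt, map_sum, Finset.mul_sum]
          exact Finset.sum_comm
        rw [hlin]
        simp [G.coordExt_mul, G.coordExt_p₁ (φ i) (hφ i), hdual]
      rwa [key, key] at h1
    choose c hc using fun i => hC _ (heq i)
    refine ⟨c, ?_⟩
    have h2 := congr(G.ε $(hsum (G.t z)))
    rw [G.ε_t, map_sum] at h2
    refine Eq.trans ?_ h2
    simp [Algebra.smul_def, hc, al, G.ε_s, G.ε_t]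
  · intro c hc i
    have := congr(φ i (G.t $hc))
    simp only [map_sum, map_smul, hdual, map_zero] at this
    simpa [Algebra.smul_def] using this

end GrpdRing

end Groth.Agent.Grpd80
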