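import Groth.Agent.Grpd80.Basic
import Groth.Agent.Grpd80.Frame
import Groth.Agent.Grpd80.GrpdRing
import Mathlib.AlgebraicGeometry.Morphisms.Affine

set_option autoImplicit false
universe u
open CategoryTheory CategoryTheory.Limits AlgebraicGeometry

namespace Groth.Agent.Grpd80

variable {S : Scheme.{u}} (G : Grpd.GroupoidScheme S)

/-- Functions on arrows as an algebra over the invariants, through the source. -/
noncomputable abbrev algR : Algebra G.invariants Γ(G.R, ⊤) :=
  (G.s.appTop.hom.comp G.invariants.subtype).toAlgebra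

/-- Functions on composable pairs as an algebra over the invariants. -/
noncomputable abbrev algP : Algebra G.invariants Γ(pullback G.s G.t, ⊤) :=
  (((pullback.snd G.s G.t).appTop.hom.comp G.s.appTop.hom).comp G.invariants.subtype).toAlgebra

lemma appTop_comp {X Y Z : Scheme.{u}} (f : X ⟶ Y) (g : Y ⟶ Z) (a : Γ(Z, ⊤)) :
    f.appTop.hom (g.appTop.hom a) = (f ≫ g).appTop.hom a := rfl

lemma appTop_id {X : Scheme.{u}} (a : Γ(X, ⊤)) : (𝟙 X : X ⟶ X).appTop.hom a = a := rfl

variable [IsAffine G.U] [IsAffine G.R] [IsFinite G.s] [Flat G.s] [LocallyOfFinitePresentation G.s]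

attribute [local instance] algR algP in
/-- The groupoid ring of an affine groupoid scheme with finite locally free source. -/
theorem exists_grpdRing :
    ∃ D : GrpdRing G.invariants Γ(G.U, ⊤) Γ(G.R, ⊤) Γ(pullback G.s G.t, ⊤),
      (∀ a, D.s a = G.s.appTop.hom a) ∧ (∀ a, D.t a = G.t.appTop.hom a) ∧
      (∀ b, D.ε b = G.e.appTop.hom b) := by
  obtain ⟨n, x, l, hl, hf⟩ := exists_frame G.s.appTop.hom G.s.finite_appTop G.s.flat_appTop
    G.s.finitePresentation_appTop
  have hμ_t : G.c ≫ G.t = pullback.fst G.s G.t ≫ G.t := by rw [c_eq_mul G, mul_t]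
  have hμ_s : G.c ≫ G.s = pullback.snd G.s G.t ≫ G.s := by rw [c_eq_mul G, mul_s]
  obtain ⟨lμ, hμ1, hμ2, hμ3⟩ := exists_frame_pushout (f := G.s.appTop) (g := G.s.appTop)
    (f' := (pullback.snd G.s G.t).appTop) (h := G.c.appTop)
    (isPushout_appTop_of_isPullback (isPullback_c_snd G)).flip x l hl hf
  obtain ⟨lp, hp1, hp2, hp3⟩ := exists_frame_pushout (f := G.s.appTop) (g := G.t.appTop)
    (f' := (pullback.snd G.s G.t).appTop) (h := (pullback.fst G.s G.t).appTop)
    (isPushout_appTop_of_isPullback (IsPullback.of_hasPullback G.s G.t)).flip x l hl hf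
  have hinv : ∀ c : G.invariants, G.t.appTop.hom (c : Γ(G.U, ⊤)) = G.s.appTop.hom (c : Γ(G.U, ⊤)) :=
    fun c => c.2.symm
  have hP : ∀ c : G.invariants, (pullback.fst G.s G.t).appTop.hom (G.s.appTop.hom (c : Γ(G.U, ⊤))) =
      (pullback.snd G.s G.t).appTop.hom (G.s.appTop.hom (c : Γ(G.U, ⊤))) := fun c => by
    rw [appTop_comp, pullback.condition, ← appTop_comp, hinv]
  have hμC : ∀ c : G.invariants, G.c.appTop.hom (G.s.appTop.hom (c : Γ(G.U, ⊤))) =
      (pullback.snd G.s G.t).appTop.hom (G.s.appTop.hom (c : Γ(G.U, ⊤))) := fun c => by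
    rw [appTop_comp, hμ_s, ← appTop_comp]
  have hεC : ∀ c : G.invariants, G.e.appTop.hom (G.s.appTop.hom (c : Γ(G.U, ⊤))) =
      (c : Γ(G.U, ⊤)) := fun c => by rw [appTop_comp, G.e_s, appTop_id]
  refine ⟨{
    s := { G.s.appTop.hom with commutes' := fun c => rfl }
    t := { G.t.appTop.hom with commutes' := fun c => hinv c }
    p₁ := { (pullback.fst G.s G.t).appTop.hom with commutes' := fun c => hP c }
    p₂ := { (pullback.snd G.s G.t).appTop.hom with commutes' := fun c => rfl }
    μ := { G.c.appTop.hom with commutes' := fun c => hμC c }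
    ε := { G.e.appTop.hom with commutes' := fun c => hεC c }
    ε_s := fun a => by
      change G.e.appTop.hom (G.s.appTop.hom a) = a
      rw [appTop_comp, G.e_s, appTop_id]
    ε_t := fun a => by
      change G.e.appTop.hom (G.t.appTop.hom a) = a
      rw [appTop_comp, G.e_t, appTop_id]
    μ_t := fun a => by
      change G.c.appTop.hom (G.t.appTop.hom a) = (pullback.fst G.s G.t).appTop.hom (G.t.appTop.hom a)
      rw [appTop_comp, hμ_t, ← appTop_comp]
    μ_s := fun a => by
      change G.c.appTop.hom (G.s.appTop.hom a) = (pullback.snd G.s G.t).appTop.hom (G.s.appTop.hom a)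
      rw [appTop_comp, hμ_s, ← appTop_comp]
    p₁_s := fun a => by
      change (pullback.fst G.s G.t).appTop.hom (G.s.appTop.hom a) =
        (pullback.snd G.s G.t).appTop.hom (G.t.appTop.hom a)
      rw [appTop_comp, pullback.condition, ← appTop_comp]
    n := n
    x := x
    l := fun k => { l k with
      map_smul' := fun c b => by
        change l k (G.s.appTop.hom (c : Γ(G.U, ⊤)) * b) = (c : Γ(G.U, ⊤)) * l k b
        exact hl _ _ _ }
    l_smul := hl
    frame := hf
    lμ := fun k => { lμ k with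
      map_smul' := fun c y => by
        change lμ k ((pullback.snd G.s G.t).appTop.hom (G.s.appTop.hom (c : Γ(G.U, ⊤))) * y) =
          G.s.appTop.hom (c : Γ(G.U, ⊤)) * lμ k y
        exact hμ1 _ _ _ }
    lμ_smul := hμ1
    lμ_apply := hμ2
    frame_μ := hμ3
    lp := fun k => { lp k with
      map_smul' := fun c y => by
        change lp k ((pullback.snd G.s G.t).appTop.hom (G.s.appTop.hom (c : Γ(G.U, ⊤))) * y) =
          G.s.appTop.hom (c : Γ(G.U, ⊤)) * lp k y
        exact hp1 _ _ _ }
    lp_smul := hp1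
    lp_apply := hp2
    frame_p := hp3 }, fun a => rfl, fun a => rfl, fun b => rfl⟩

end Groth.Agent.Grpd80
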