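import Groth.Agent.Grpd80.CoeqScheme
import Groth.Agent.Grpd80.Restr
import Groth.Agent.S1878
import Mathlib.AlgebraicGeometry.Morphisms.Integral
import Mathlib.AlgebraicGeometry.Morphisms.UniversallyClosed

set_option autoImplicit false
universe u
open CategoryTheory CategoryTheory.Limits AlgebraicGeometry TopologicalSpace

namespace Groth.Agent.Grpd80

/-- Restriction of global functions to a smaller open. -/
noncomputable abbrev resTop {X : Scheme.{u}} (W : X.Opens) : Γ(X, ⊤) ⟶ Γ(X, W) :=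
  X.presheaf.map (homOfLE (le_top : W ≤ ⊤)).op

lemma exists_mul_pow_eq_res {X : Scheme.{u}} [IsAffine X] {W : X.Opens} (f : Γ(X, ⊤))
    (hW : W = X.basicOpen f) (z : Γ(X, W)) :
    ∃ (a : Γ(X, ⊤)) (k : ℕ), z * (resTop W).hom f ^ k = (resTop W).hom a := by
  subst hW
  have := (isAffineOpen_top X).isLocalization_basicOpen f
  obtain ⟨⟨a, -, k, rfl⟩, h⟩ := IsLocalization.surj (Submonoid.powers f) z
  refine ⟨a, k, ?_⟩
  rw [← map_pow]
  exact h

lemma exists_pow_mul_eq_zero {X : Scheme.{u}} [IsAffine X] {W : X.Opens} (f : Γ(X, ⊤))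
    (hW : W = X.basicOpen f) (a : Γ(X, ⊤)) (ha : (resTop W).hom a = 0) :
    ∃ k : ℕ, f ^ k * a = 0 := by
  subst hW
  have := (isAffineOpen_top X).isLocalization_basicOpen f
  obtain ⟨⟨-, k, rfl⟩, h⟩ := (IsLocalization.map_eq_zero_iff (Submonoid.powers f)
    Γ(X, X.basicOpen f) a).mp ha
  exact ⟨k, h⟩

lemma isUnit_resTop {X : Scheme.{u}} {W : X.Opens} (f : Γ(X, ⊤)) (hW : W = X.basicOpen f) :
    IsUnit ((resTop W).hom f) := by
  subst hW
  exact X.toRingedSpace.isUnit_res_basicOpen f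

lemma eq_zero_of_mul_pow {A : Type*} [CommRing A] {z v x : A} {k : ℕ} (hv : IsUnit v)
    (hx : z * v ^ k = x) (hx0 : x = 0) : z = 0 :=
  (hv.pow k).mul_left_eq_zero.mp (hx.trans hx0)

variable {S : Scheme.{u}} (G : Grpd.GroupoidScheme S) [IsAffine G.U] [IsFinite G.s] [Flat G.s]
  [LocallyOfFinitePresentation G.s]

omit [Flat G.s] [LocallyOfFinitePresentation G.s] in
lemma isAffine_R : IsAffine G.R := isAffine_of_isAffineHom G.s

lemma toQuot_w : G.t ≫ G.toQuot = G.s ≫ G.toQuot := by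
  have := isAffine_R G
  refine ext_of_isAffine ?_
  rw [Scheme.Hom.comp_appTop, Scheme.Hom.comp_appTop,
    show G.toQuot.appTop = (Scheme.ΓSpecIso _).hom ≫ CommRingCat.ofHom G.invariants.subtype from ?_]
  · ext c
    exact ((Scheme.ΓSpecIso (CommRingCat.of G.invariants)).hom c).2.symm
  · simp [Grpd.GroupoidScheme.toQuot]

instance isIntegral_toQuot : IsIntegralHom G.toQuot := by
  have := isAffine_R G
  letI := algR G
  letI := algP G
  obtain ⟨D, hs, ht, -⟩ := exists_grpdRing G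
  have hC : D.IsInvariants := fun a ha => by
    rw [hs, ht] at ha
    exact ⟨⟨a, ha⟩, rfl⟩
  have h : IsIntegralHom (Spec.map (CommRingCat.ofHom G.invariants.subtype)) := by
    rw [IsIntegralHom.SpecMap_iff]
    exact fun a => (D.isIntegral hC).isIntegral a
  change IsIntegralHom (G.U.isoSpec.hom ≫ Spec.map (CommRingCat.ofHom G.invariants.subtype))
  infer_instance

omit [IsAffine G.U] [IsFinite G.s] [Flat G.s] [LocallyOfFinitePresentation G.s] in
lemma toQuot_appTop (γ : Γ(Spec (CommRingCat.of G.invariants), ⊤)) :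
    G.toQuot.appTop.hom γ = ((Scheme.ΓSpecIso (CommRingCat.of G.invariants)).hom.hom γ : Γ(G.U, ⊤)) := by
  have h : G.toQuot.appTop = (Scheme.ΓSpecIso _).hom ≫ CommRingCat.ofHom G.invariants.subtype := by
    simp [Grpd.GroupoidScheme.toQuot]
  exact congr(($h).hom γ)

omit [IsAffine G.U] [IsFinite G.s] [Flat G.s] [LocallyOfFinitePresentation G.s] in
lemma toQuot_appTop_injective : Function.Injective G.toQuot.appTop.hom := by
  intro a b h
  rw [toQuot_appTop, toQuot_appTop] at h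
  have h' : (Scheme.ΓSpecIso (CommRingCat.of G.invariants)).hom.hom a =
      (Scheme.ΓSpecIso (CommRingCat.of G.invariants)).hom.hom b := Subtype.ext h
  have key : ∀ c, (Scheme.ΓSpecIso (CommRingCat.of G.invariants)).inv.hom
      ((Scheme.ΓSpecIso (CommRingCat.of G.invariants)).hom.hom c) = c := fun c =>
    congr(($((Scheme.ΓSpecIso (CommRingCat.of G.invariants)).hom_inv_id)).hom c)
  rw [← key a, h', key]

/-- Functions on a basic open of the target are the invariant functions. -/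
theorem isGood_basicOpen {U R M : Scheme.{u}} [IsAffine U] [IsAffine R] [IsAffine M] {s t : R ⟶ U}
    {q : U ⟶ M} (w : t ≫ q = s ≫ q) (hinj : Function.Injective q.appTop.hom)
    (hinv : ∀ b, s.appTop.hom b = t.appTop.hom b → ∃ x, q.appTop.hom x = b) (γ : Γ(M, ⊤)) :
    IsGood s t q w (M.basicOpen γ) := by
  set P := M.basicOpen γ
  set f := q.appTop.hom γ
  have hq : q ⁻¹ᵁ P = U.basicOpen f := Scheme.preimage_basicOpen_top _ _
  have hR : s ⁻¹ᵁ q ⁻¹ᵁ P = R.basicOpen (s.appTop.hom f) := by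
    rw [hq]; exact Scheme.preimage_basicOpen_top _ _
  have hf : s.appTop.hom f = t.appTop.hom f :=
    (congr(($w).appTop.hom γ)).symm
  have natq : ∀ x : Γ(M, ⊤), (q.app P).hom ((resTop P).hom x) =
      (resTop (q ⁻¹ᵁ P)).hom (q.appTop.hom x) := fun x =>
    congr(($(q.naturality (homOfLE (le_top : P ≤ ⊤)).op)).hom x)
  have hst : s ⁻¹ᵁ q ⁻¹ᵁ P ≤ t ⁻¹ᵁ q ⁻¹ᵁ P := by rw [← Scheme.Hom.comp_preimage, ← w]; exact le_rfl
  have nat : ∀ (g : R ⟶ U) (e : s ⁻¹ᵁ q ⁻¹ᵁ P ≤ g ⁻¹ᵁ q ⁻¹ᵁ P) (x : Γ(U, ⊤)),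
      (g.appLE _ _ e).hom ((resTop (q ⁻¹ᵁ P)).hom x) =
        (resTop (s ⁻¹ᵁ q ⁻¹ᵁ P)).hom (g.appTop.hom x) := by
    intro g e x
    have : resTop (q ⁻¹ᵁ P) ≫ g.appLE _ _ e = g.appTop ≫ resTop (s ⁻¹ᵁ q ⁻¹ᵁ P) := by
      rw [Scheme.Hom.map_appLE, Scheme.Hom.appTop, Scheme.Hom.app_eq_appLE]
      exact (Scheme.Hom.appLE_map _ _ _).symm
    exact congr(($this).hom x)
  have hunit : IsUnit ((resTop (q ⁻¹ᵁ P)).hom f) := isUnit_resTop f hq
  have hunit' : IsUnit ((resTop P).hom γ) := isUnit_resTop γ rfl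
  refine ⟨(injective_iff_map_eq_zero (q.app P).hom).mpr fun z hz => ?_, fun a ha => ?_⟩
  · obtain ⟨x, k, hx⟩ := exists_mul_pow_eq_res γ rfl z
    have h0 : (resTop (q ⁻¹ᵁ P)).hom (q.appTop.hom x) = 0 := by
      rw [← natq, ← hx, map_mul, hz, zero_mul]
    obtain ⟨m, hm⟩ := exists_pow_mul_eq_zero f hq _ h0
    have hxm : γ ^ m * x = 0 := hinj (by rw [map_mul, map_pow, map_zero]; exact hm)
    have h1 := congrArg (resTop P).hom hxm
    rw [map_mul, map_pow, map_zero] at h1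
    exact eq_zero_of_mul_pow hunit' hx ((hunit'.pow m).mul_right_eq_zero.mp h1)
  · obtain ⟨b, k, hb⟩ := exists_mul_pow_eq_res f hq a
    rw [Scheme.Hom.app_eq_appLE] at ha
    have h1 : (resTop (s ⁻¹ᵁ q ⁻¹ᵁ P)).hom (s.appTop.hom b - t.appTop.hom b) = 0 := by
      rw [map_sub, ← nat s le_rfl, ← nat t hst, sub_eq_zero, ← hb, map_mul, map_mul, map_pow,
        map_pow, nat, nat, hf, ha]
    obtain ⟨m, hm⟩ := exists_pow_mul_eq_zero (s.appTop.hom f) hR _ h1
    obtain ⟨x, hx⟩ := hinv (f ^ m * b) (by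
      rw [map_mul, map_mul, map_pow, map_pow, ← hf, ← sub_eq_zero, ← mul_sub, hm])
    obtain ⟨v, hv⟩ := hunit'
    refine ⟨(resTop P).hom x * ((v⁻¹ ^ (m + k) : (Γ(M, P))ˣ) : Γ(M, P)), ?_⟩
    have hv' : (q.app P).hom v = (resTop (q ⁻¹ᵁ P)).hom f := by rw [hv, natq]
    have hone : (q.app P).hom ((v⁻¹ ^ (m + k) : (Γ(M, P))ˣ) : Γ(M, P)) *
        (resTop (q ⁻¹ᵁ P)).hom f ^ (m + k) = 1 := by
      rw [← hv', ← map_pow, ← map_mul, ← Units.val_pow_eq_pow_val v, ← Units.val_mul, inv_pow,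
        inv_mul_cancel, Units.val_one, map_one]
    apply (hunit.pow (m + k)).mul_right_cancel
    rw [map_mul, mul_assoc, hone, mul_one, natq, hx, map_mul, map_pow, ← hb, pow_add]
    ring

/-- The affine quotient map is a coequalizer over every open. -/
theorem isGeomQuot_toQuot : IsGeomQuot G.s G.t G.toQuot := by
  have := isAffine_R G
  obtain ⟨⟨hsurj, hfib⟩, -⟩ := S1878.result S G
  refine ⟨toQuot_w G, hsurj, fun x y h => (hfib x y).mp h, fun O hO => ?_, fun O y hy => ?_⟩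
  · have heq : G.toQuot '' (O : Set G.U) = (G.toQuot '' (O : Set G.U)ᶜ)ᶜ := by
      ext m
      constructor
      · rintro ⟨x, hx, rfl⟩ ⟨x', hx', e⟩
        obtain ⟨r, hr1, hr2⟩ := (hfib x x').mp e.symm
        refine hx' ?_
        rw [← hr2]
        refine show r ∈ G.s ⁻¹ᵁ O from ?_
        rw [hO]
        exact show G.t r ∈ O from hr1.symm ▸ hx
      · intro hm
        obtain ⟨x, rfl⟩ := hsurj m
        exact ⟨x, by by_contra h; exact hm ⟨x, h, rfl⟩, rfl⟩
    rw [heq]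
    exact (G.toQuot.isClosedMap _ O.isOpen.isClosed_compl).isOpen_compl
  · obtain ⟨P₀, ⟨γ, rfl⟩, hyP, hPO⟩ :=
      Opens.isBasis_iff_nbhd.mp (isBasis_basicOpen (Spec (CommRingCat.of G.invariants))) hy
    refine ⟨_, hyP, hPO, isGood_basicOpen (toQuot_w G) (toQuot_appTop_injective G)
      (fun b hb => ⟨(Scheme.ΓSpecIso (CommRingCat.of G.invariants)).inv.hom ⟨b, hb⟩, ?_⟩) γ⟩
    rw [toQuot_appTop]
    exact congrArg Subtype.val
      (congr(($((Scheme.ΓSpecIso (CommRingCat.of G.invariants)).inv_hom_id)).hom ⟨b, hb⟩))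

end Groth.Agent.Grpd80
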