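import Groth.Agent.Grpd80.Restr
import Groth.Agent.Grpd80.Shear
import Groth.Agent.FlatMor68.CMComp
import Groth.Agent.S1341
import Groth.Agent.S1345
import Groth.Agent.S1346
import Groth.Prelude.Def_Grpd

/-! The Cohen–Macaulay locus of a flat groupoid. -/

set_option autoImplicit false
set_option backward.isDefEq.respectTransparency.types false

universe u

open CategoryTheory CategoryTheory.Limits AlgebraicGeometry

namespace Groth.Agent.Grpd80

lemma isCMAt_iff {X Y : Scheme.{u}} (f : X ⟶ Y) (x : X) : Grpd.IsCMAt f x ↔ MoreMor.IsCMAt f x :=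
  ⟨fun h => ⟨h.1, (FlatMor68.CMComp.cm_fibre_iff f x).2 h.2⟩, fun h => ⟨h.1, (FlatMor68.CMComp.cm_fibre_iff f x).1 h.2⟩⟩

variable {S : Scheme.{u}} (G : Grpd.GroupoidScheme S) [Flat G.s] [LocallyOfFinitePresentation G.s]

lemma cm_s_of_t_eq {r₁ r₂ : G.R} (h : G.t r₁ = G.t r₂) (h₁ : MoreMor.IsCMAt G.s r₁) :
    MoreMor.IsCMAt G.s r₂ := by
  obtain ⟨k, hk₁, hk₂⟩ := Scheme.Pullback.exists_preimage_pullback (f := G.t) (g := G.t) r₁ r₂ h
  let a : pullback G.t G.t ⟶ G.R := pullback.fst G.t G.t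
  let b : pullback G.t G.t ⟶ G.R := pullback.snd G.t G.t
  have hab : (a ≫ G.i) ≫ G.s = b ≫ G.t := by simp [a, b, pullback.condition]
  let d := mul G (a ≫ G.i) b hab
  have had : a ≫ G.s = d ≫ G.t := by simp [d]
  let m : pullback G.t G.t ⟶ pullback G.s G.t := pullback.lift a d had
  have hmc : m ≫ G.c = b := by
    change pullback.lift a d had ≫ G.c = b
    exact mul_inv_cancel_left _ _ hab
  have h1 : pullback.fst G.s G.t (m k) = r₁ := by
    rw [← Scheme.Hom.comp_apply, pullback.lift_fst]; exact hk₁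
  have h2 : G.c (m k) = r₂ := by rw [← Scheme.Hom.comp_apply, hmc]; exact hk₂
  have hN : ∀ y, IsLocallyNoetherian (G.s.fiber y) := fun y =>
    have : LocallyOfFiniteType (G.s.fiberToSpecResidueField y) :=
      MorphismProperty.pullback_snd (P := @LocallyOfFiniteType) G.s _ inferInstance
    LocallyOfFiniteType.isLocallyNoetherian (G.s.fiberToSpecResidueField y)
  have : LocallyOfFinitePresentation G.t := inferInstance
  have hsnd := Groth.Agent.S1345.result G.s hN (pullback.snd G.s G.t) (pullback.fst G.s G.t) G.t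
    (IsPullback.of_hasPullback G.s G.t) (m k) (by rw [h1]; exact h₁)
  rw [← h2]
  exact Groth.Agent.S1346.result G.s hN (pullback.snd G.s G.t) G.c G.s (isPullback_c_snd G) (m k)
    (Flat.stalkMap G.s _) hsnd

lemma cm_t_iff (r : G.R) : MoreMor.IsCMAt G.t r ↔ MoreMor.IsCMAt G.s (G.i r) := by
  have hN : ∀ y, IsLocallyNoetherian (G.s.fiber y) := fun y =>
    have : LocallyOfFiniteType (G.s.fiberToSpecResidueField y) :=
      MorphismProperty.pullback_snd (P := @LocallyOfFiniteType) G.s _ inferInstance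
    LocallyOfFiniteType.isLocallyNoetherian (G.s.fiberToSpecResidueField y)
  have sq : IsPullback G.i G.t G.s (𝟙 G.U) := IsPullback.of_horiz_isIso ⟨by simp⟩
  exact ⟨fun h => Groth.Agent.S1346.result G.s hN G.t G.i (𝟙 _) sq r (Flat.stalkMap G.s _) h,
    fun h => Groth.Agent.S1345.result G.s hN G.t G.i (𝟙 _) sq r h⟩

theorem exists_cm_open : ∃ U' : G.U.Opens, (G.t ⁻¹ᵁ U' : Set G.R) = {r | Grpd.IsCMAt G.s r} ∧
    (G.s ⁻¹ᵁ U' : Set G.R) = {r | Grpd.IsCMAt G.t r} ∧ ⇑G.t '' (G.s ⁻¹ᵁ U' : Set G.R) = Set.univ ∧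
    ⇑G.s '' (G.t ⁻¹ᵁ U' : Set G.R) = Set.univ := by
  obtain ⟨hopen, hdense⟩ := Groth.Agent.S1341.result G.s
  let E : Set G.R := {r | MoreMor.IsCMAt G.s r}
  have ho : IsOpen (G.t '' E) := G.t.isOpenMap _ hopen
  let U' : G.U.Opens := ⟨G.t '' E, ho⟩
  have hU' : ∀ r, G.t r ∈ U' ↔ r ∈ E :=
    fun r => ⟨fun ⟨r', hr', e⟩ => cm_s_of_t_eq G e hr', fun h => ⟨r, h, rfl⟩⟩
  have hti : ∀ r, G.t (G.i r) = G.s r := fun r => by rw [← Scheme.Hom.comp_apply, G.i_t]
  have hsi : ∀ r, G.s (G.i r) = G.t r := fun r => by rw [← Scheme.Hom.comp_apply, G.i_s]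
  have hnat : ∀ y : G.U, ∃ r ∈ E, G.s r = y := by
    intro y
    obtain ⟨r, hr, -⟩ := exists_unit G y
    have hne : Nonempty (G.s.fiber y) := by
      obtain ⟨z, -⟩ := (G.s.range_fiberι y).ge (show r ∈ G.s ⁻¹' {y} from hr)
      exact ⟨z⟩
    obtain ⟨z, hz⟩ := (hdense y).nonempty
    exact ⟨G.s.fiberι y z, hz, (G.s.range_fiberι y).le ⟨z, rfl⟩⟩
  refine ⟨U', ?_, ?_, ?_, ?_⟩
  · ext r
    exact (hU' r).trans (isCMAt_iff G.s r).symm
  · ext r
    change G.s r ∈ U' ↔ Grpd.IsCMAt G.t r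
    rw [isCMAt_iff, cm_t_iff, ← hti]
    exact hU' _
  · refine Set.eq_univ_of_forall fun y => ?_
    obtain ⟨r, hr, rfl⟩ := hnat y
    exact ⟨G.i r, show G.s (G.i r) ∈ U' by rw [hsi]; exact (hU' r).2 hr, hti r⟩
  · refine Set.eq_univ_of_forall fun y => ?_
    obtain ⟨r, hr, rfl⟩ := hnat y
    exact ⟨r, (hU' r).2 hr, rfl⟩

end Groth.Agent.Grpd80
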