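import Mathlib.CategoryTheory.EffectiveEpi.Basic
import Mathlib.CategoryTheory.MorphismProperty.Limits
import Mathlib.CategoryTheory.MorphismProperty.Basic
import Mathlib.CategoryTheory.Limits.Shapes.Equalizers
import Mathlib.CategoryTheory.Limits.Shapes.Pullback.Pasting

set_option autoImplicit false
universe v₁ u₁
open CategoryTheory CategoryTheory.Limits

namespace Groth.Agent.GrpQ80

variable {C : Type u₁} [Category.{v₁} C] [HasPullbacks C]
variable {X₁ X₀ Y₀ : C} (d₀ d₁ : X₁ ⟶ X₀) (s : X₀ ⟶ X₁) (hs₀ : s ≫ d₀ = 𝟙 X₀) (hs₁ : s ≫ d₁ = 𝟙 X₀)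
  (f₀ : Y₀ ⟶ X₀) [EffectiveEpi f₀]

lemma inverseImage_condition {T : C} (k : X₀ ⟶ T) (hk : d₁ ≫ k = d₀ ≫ k) :
    (pullback.fst (pullback.snd f₀ d₁ ≫ d₀) f₀ ≫ pullback.fst f₀ d₁) ≫ f₀ ≫ k =
      pullback.snd (pullback.snd f₀ d₁ ≫ d₀) f₀ ≫ f₀ ≫ k := by
  rw [← reassoc_of% (pullback.condition (f := pullback.snd f₀ d₁ ≫ d₀) (g := f₀)), ← hk]
  rw [Category.assoc, reassoc_of% (pullback.condition (f := f₀) (g := d₁))]

include hs₀ hs₁ in
lemma descent (hf : MorphismProperty.universally (MorphismProperty.epimorphisms C) f₀)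
    {T : C} (g : Y₀ ⟶ T)
    (hg : (pullback.fst (pullback.snd f₀ d₁ ≫ d₀) f₀ ≫ pullback.fst f₀ d₁) ≫ g =
      pullback.snd (pullback.snd f₀ d₁ ≫ d₀) f₀ ≫ g) :
    ∃! h : X₀ ⟶ T, d₁ ≫ h = d₀ ≫ h ∧ f₀ ≫ h = g := by
  have key : ∀ {W : C} (a b : W ⟶ Y₀), a ≫ f₀ = b ≫ f₀ → a ≫ g = b ≫ g := by
    intro W a b hab
    let l : W ⟶ pullback (pullback.snd f₀ d₁ ≫ d₀) f₀ :=
      pullback.lift (pullback.lift a (a ≫ f₀ ≫ s) (by rw [Category.assoc, Category.assoc, hs₁, Category.comp_id])) b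
        (by rw [pullback.lift_snd_assoc, Category.assoc, Category.assoc, hs₀, Category.comp_id, hab])
    have := congr(l ≫ $hg)
    simpa [l, pullback.lift_fst, pullback.lift_snd, pullback.lift_fst_assoc, pullback.lift_snd_assoc] using this
  refine ⟨EffectiveEpi.desc f₀ g key, ⟨?_, EffectiveEpi.fac _ _ _⟩, ?_⟩
  · have e₁ : Epi (pullback.snd f₀ d₁) :=
      hf _ _ _ (IsPullback.of_hasPullback f₀ d₁).flip.flip.flip
    have e₂ : Epi (pullback.fst (pullback.snd f₀ d₁ ≫ d₀) f₀) :=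
      hf _ _ _ (IsPullback.of_hasPullback (pullback.snd f₀ d₁ ≫ d₀) f₀)
    rw [← cancel_epi (pullback.snd f₀ d₁), ← cancel_epi (pullback.fst (pullback.snd f₀ d₁ ≫ d₀) f₀)]
    rw [← reassoc_of% (pullback.condition (f := f₀) (g := d₁)),
      reassoc_of% (pullback.condition (f := pullback.snd f₀ d₁ ≫ d₀) (g := f₀)), EffectiveEpi.fac]
    simpa using hg
  · rintro h ⟨-, h2⟩
    exact EffectiveEpi.uniq _ _ _ h h2

include hs₀ hs₁ in
lemma hasCoequalizer_inverseImage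
    (hf : MorphismProperty.universally (MorphismProperty.epimorphisms C) f₀)
    [HasCoequalizer d₁ d₀] :
    HasCoequalizer (pullback.fst (pullback.snd f₀ d₁ ≫ d₀) f₀ ≫ pullback.fst f₀ d₁)
        (pullback.snd (pullback.snd f₀ d₁ ≫ d₀) f₀) := by
  refine ⟨⟨⟨Cofork.ofπ (f₀ ≫ coequalizer.π d₁ d₀)
    (inverseImage_condition d₀ d₁ f₀ _ (coequalizer.condition _ _)), ?_⟩⟩⟩
  refine Cofork.IsColimit.mk _
    (fun t => coequalizer.desc (descent d₀ d₁ s hs₀ hs₁ f₀ hf t.π t.condition).exists.choose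
      (descent d₀ d₁ s hs₀ hs₁ f₀ hf t.π t.condition).exists.choose_spec.1)
    (fun t => ?_) (fun t m hm => ?_)
  · simp [(descent d₀ d₁ s hs₀ hs₁ f₀ hf t.π t.condition).exists.choose_spec.2]
  · refine coequalizer.hom_ext (f := d₁) (g := d₀) (W := t.pt) ((Eq.trans ?_ (coequalizer.π_desc _ _).symm))
    rw [← cancel_epi f₀,
      (descent d₀ d₁ s hs₀ hs₁ f₀ hf t.π t.condition).exists.choose_spec.2]
    simpa using hm

include hs₀ hs₁ in
lemma hasCoequalizer_of_inverseImage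
    (hf : MorphismProperty.universally (MorphismProperty.epimorphisms C) f₀)
    [HasCoequalizer (pullback.fst (pullback.snd f₀ d₁ ≫ d₀) f₀ ≫ pullback.fst f₀ d₁)
        (pullback.snd (pullback.snd f₀ d₁ ≫ d₀) f₀)] :
    HasCoequalizer d₁ d₀ := by
  obtain ⟨h, ⟨h1, h2⟩, -⟩ := descent d₀ d₁ s hs₀ hs₁ f₀ hf _ (coequalizer.condition
    (pullback.fst (pullback.snd f₀ d₁ ≫ d₀) f₀ ≫ pullback.fst f₀ d₁)
    (pullback.snd (pullback.snd f₀ d₁ ≫ d₀) f₀))
  refine ⟨⟨⟨Cofork.ofπ h h1, ?_⟩⟩⟩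
  refine Cofork.IsColimit.mk _
    (fun t => coequalizer.desc (f₀ ≫ t.π) (inverseImage_condition d₀ d₁ f₀ _ t.condition))
    (fun t => ?_) (fun t m hm => ?_)
  · simp [← cancel_epi f₀, reassoc_of% h2]
  · refine coequalizer.hom_ext (f := pullback.fst (pullback.snd f₀ d₁ ≫ d₀) f₀ ≫ pullback.fst f₀ d₁) (g := pullback.snd (pullback.snd f₀ d₁ ≫ d₀) f₀) (W := t.pt) ((Eq.trans ?_ (coequalizer.π_desc _ _).symm))
    simp only [Cofork.π_ofπ] at hm
    rw [← h2, Category.assoc, ← hm]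

end Groth.Agent.GrpQ80
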