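import Groth.Agent.Grpd80.PairImage
import Groth.Agent.Grpd80.Shear
import Groth.Agent.FBase64.Products
import Groth.Agent.SchBasics.Reduced

/-!
Closure of the image of a morphism of groupoid schemes over a field.
-/

set_option autoImplicit false
universe u
open CategoryTheory CategoryTheory.Limits AlgebraicGeometry IsLocalRing

namespace Groth.Agent.Grpd80

lemma comp_closedPoint {L L' : Type u} [Field L] [Field L'] {X : Scheme.{u}}
    (g : Spec (CommRingCat.of L') ⟶ Spec (CommRingCat.of L)) (α : Spec (CommRingCat.of L) ⟶ X) :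
    (g ≫ α) (closedPoint L') = α (closedPoint L) :=
  congrArg α (Subsingleton.elim (α := PrimeSpectrum L) _ _)

/-- Lift a field valued point along a morphism meeting it, after a field extension. -/
lemma exists_lift_point {X Y : Scheme.{u}} (f : X ⟶ Y) {L : Type u} [Field L]
    (α : Spec (CommRingCat.of L) ⟶ Y) (h : α (closedPoint L) ∈ Set.range f) :
    ∃ (L' : Type u) (_ : Field L') (g : Spec (CommRingCat.of L') ⟶ Spec (CommRingCat.of L))
      (α' : Spec (CommRingCat.of L') ⟶ X), α' ≫ f = g ≫ α := by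
  obtain ⟨x, hx⟩ := h
  obtain ⟨z, -, -⟩ := Scheme.Pullback.exists_preimage_pullback (f := α) (g := f)
    (closedPoint L) x hx.symm
  let P := pullback α f
  exact ⟨P.residueField z, inferInstance, P.fromSpecResidueField z ≫ pullback.fst α f,
    P.fromSpecResidueField z ≫ pullback.snd α f, by
      rw [Category.assoc, Category.assoc, pullback.condition]⟩

variable {S : Scheme.{u}} {G₁ G₂ : Grpd.GroupoidScheme S} (f : Grpd.GroupoidScheme.Hom G₁ G₂)
  [IsIso f.fU]

lemma mul_mem_range {L : Type u} [Field L] (α β : Spec (CommRingCat.of L) ⟶ G₂.R)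
    (h : α ≫ G₂.s = β ≫ G₂.t) (hα : α (closedPoint L) ∈ Set.range f.fR)
    (hβ : β (closedPoint L) ∈ Set.range f.fR) :
    mul G₂ α β h (closedPoint L) ∈ Set.range f.fR := by
  obtain ⟨L₁, _, g₁, α₁, hα₁⟩ := exists_lift_point f.fR α hα
  obtain ⟨L₂, _, g₂, β₂, hβ₂⟩ := exists_lift_point f.fR (g₁ ≫ β) (by rwa [comp_closedPoint])
  have hw : (g₂ ≫ α₁) ≫ G₁.s = β₂ ≫ G₁.t := by
    rw [← cancel_mono f.fU, Category.assoc, Category.assoc, Category.assoc, ← f.comm_s, ← f.comm_t,
      reassoc_of% hα₁, reassoc_of% hβ₂, h]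
  refine ⟨mul G₁ (g₂ ≫ α₁) β₂ hw (closedPoint L₂), ?_⟩
  rw [← Scheme.Hom.comp_apply, mul_map]
  rw [mul_congr (α' := (g₂ ≫ g₁) ≫ α) (β' := (g₂ ≫ g₁) ≫ β) _
    (by simp only [Category.assoc, h]) (by rw [Category.assoc, hα₁, Category.assoc])
    (by rw [hβ₂, Category.assoc]), ← comp_mul (g₂ ≫ g₁) α β h]
  exact comp_closedPoint _ _

lemma mul_mem_range_pt {T : Scheme.{u}} (α β : T ⟶ G₂.R) (h : α ≫ G₂.s = β ≫ G₂.t) (q : T)
    (hα : α q ∈ Set.range f.fR) (hβ : β q ∈ Set.range f.fR) :
    mul G₂ α β h q ∈ Set.range f.fR := by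
  let g : Spec (CommRingCat.of (T.residueField q)) ⟶ T := T.fromSpecResidueField q
  have hg : g (closedPoint (T.residueField q)) = q := Scheme.fromSpecResidueField_apply q _
  have key := mul_mem_range f (g ≫ α) (g ≫ β) (by simp only [Category.assoc, h])
    (by rw [Scheme.Hom.comp_apply]; exact (congrArg α hg).symm ▸ hα)
    (by rw [Scheme.Hom.comp_apply]; exact (congrArg β hg).symm ▸ hβ)
  rw [← comp_mul g α β h] at key
  exact (congrArg (mul G₂ α β h) hg) ▸ key

variable {k : Type u} [Field k] (eU : G₂.U ≅ Spec (CommRingCat.of k))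

include eU in
lemma mul_mem_closure {L : Type u} [Field L] (α β : Spec (CommRingCat.of L) ⟶ G₂.R)
    (h : α ≫ G₂.s = β ≫ G₂.t) (hα : α (closedPoint L) ∈ closure (Set.range f.fR))
    (hβ : β (closedPoint L) ∈ closure (Set.range f.fR)) :
    mul G₂ α β h (closedPoint L) ∈ closure (Set.range f.fR) := by
  let p := pullback.lift α β h (closedPoint L)
  have hp := mem_closure_preimages eU G₂.s G₂.t (Set.range f.fR) (Set.range f.fR) p
    (by rwa [← Scheme.Hom.comp_apply, pullback.lift_fst])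
    (by rwa [← Scheme.Hom.comp_apply, pullback.lift_snd])
  show (pullback.lift α β h ≫ G₂.c) (closedPoint L) ∈ _
  rw [Scheme.Hom.comp_apply]
  refine map_mem_closure G₂.c.continuous hp fun q hq => ?_
  rw [c_eq_mul]
  exact mul_mem_range_pt f _ _ pullback.condition q hq.1 hq.2

include eU in
lemma mul_mem_closure_pt {T : Scheme.{u}} (α β : T ⟶ G₂.R) (h : α ≫ G₂.s = β ≫ G₂.t) (q : T)
    (hα : α q ∈ closure (Set.range f.fR)) (hβ : β q ∈ closure (Set.range f.fR)) :
    mul G₂ α β h q ∈ closure (Set.range f.fR) := by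
  let g : Spec (CommRingCat.of (T.residueField q)) ⟶ T := T.fromSpecResidueField q
  have hg : g (closedPoint (T.residueField q)) = q := Scheme.fromSpecResidueField_apply q _
  have key := mul_mem_closure f eU (g ≫ α) (g ≫ β) (by simp only [Category.assoc, h])
    (by rw [Scheme.Hom.comp_apply]; exact (congrArg α hg).symm ▸ hα)
    (by rw [Scheme.Hom.comp_apply]; exact (congrArg β hg).symm ▸ hβ)
  rw [← comp_mul g α β h] at key
  exact (congrArg (mul G₂ α β h) hg) ▸ key

omit [IsIso f.fU] in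
lemma inv_mem_closure {x : G₂.R} (hx : x ∈ closure (Set.range f.fR)) :
    G₂.i x ∈ closure (Set.range f.fR) := by
  refine map_mem_closure G₂.i.continuous hx ?_
  rintro _ ⟨y, rfl⟩
  exact ⟨G₁.i y, by rw [← Scheme.Hom.comp_apply, i_map, Scheme.Hom.comp_apply]⟩

include eU in
/-- A locally closed image is closed. -/
theorem isClosed_range_of_isLocallyClosed (hlc : IsLocallyClosed (Set.range f.fR)) :
    IsClosed (Set.range f.fR) := by
  refine closure_subset_iff_isClosed.mp fun z hz => ?_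
  set A := Set.range f.fR with hA
  obtain ⟨O, Z, hO, hZc, hOZ⟩ := id hlc
  have hAO : A = O ∩ closure A := by
    refine subset_antisymm (fun x hx => ⟨(hOZ ▸ hx : x ∈ O ∩ Z).1, subset_closure hx⟩) ?_
    rintro x ⟨hxO, hx⟩
    rw [hOZ]
    refine ⟨hxO, ?_⟩
    exact hZc.closure_subset_iff.mpr (fun y hy => (hOZ ▸ hy : y ∈ O ∩ Z).2) hx
  let K := G₂.R.residueField z
  let p : Spec K ⟶ G₂.R := G₂.R.fromSpecResidueField z
  have hp : ∀ w : Spec K, p w = z := fun w => Scheme.fromSpecResidueField_apply z w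
  let F := pullback G₂.t (p ≫ G₂.t)
  let α₀ : F ⟶ G₂.R := pullback.fst G₂.t (p ≫ G₂.t)
  let γ₀ : F ⟶ G₂.R := pullback.snd G₂.t (p ≫ G₂.t) ≫ p
  have hw₀ : (α₀ ≫ G₂.i) ≫ G₂.s = γ₀ ≫ G₂.t := by
    rw [Category.assoc, i_s', Category.assoc, pullback.condition]
  let ψ : F ⟶ G₂.R := mul G₂ (α₀ ≫ G₂.i) γ₀ hw₀
  -- `ψ` is an open map: it is the projection from an isomorphic fibre product
  let F' := pullback G₂.s (p ≫ G₂.s)
  have hψs : ψ ≫ G₂.s = pullback.snd G₂.t (p ≫ G₂.t) ≫ p ≫ G₂.s := by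
    simp [ψ, γ₀]
  let δ₀ : F' ⟶ G₂.R := pullback.fst G₂.s (p ≫ G₂.s)
  let ε₀ : F' ⟶ G₂.R := pullback.snd G₂.s (p ≫ G₂.s) ≫ p
  have hw₁ : ε₀ ≫ G₂.s = (δ₀ ≫ G₂.i) ≫ G₂.t := by
    rw [Category.assoc, Category.assoc, i_t', pullback.condition]
  let χ : F' ⟶ F := pullback.lift (mul G₂ ε₀ (δ₀ ≫ G₂.i) hw₁) (pullback.snd _ _)
    (by simp [ε₀])
  let e : F ≅ F' :=
    { hom := pullback.lift ψ (pullback.snd _ _) hψs
      inv := χ
      hom_inv_id := by
        apply pullback.hom_ext
        · simp only [χ, Category.assoc, pullback.lift_fst, comp_mul, Category.id_comp]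
          have h1 : (pullback.lift ψ (pullback.snd G₂.t (p ≫ G₂.t)) hψs ≫ ε₀) = γ₀ := by
            simp [ε₀, γ₀, pullback.lift_snd_assoc]
          have h2 : (pullback.lift ψ (pullback.snd G₂.t (p ≫ G₂.t)) hψs ≫ δ₀ ≫ G₂.i) =
              ψ ≫ G₂.i := by simp [δ₀, pullback.lift_fst_assoc]
          have key : mul G₂ α₀ ψ (by simp [ψ]) = γ₀ := by
            rw [← mul_assoc' α₀ (α₀ ≫ G₂.i) γ₀ (by simp) hw₀,
              mul_unit_left _ (by rw [mul_inv_right _ rfl]; simp [α₀, γ₀, pullback.condition_assoc])]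
          refine (mul_congr _ (by simp [ψ, γ₀]) h1 h2).trans ?_
          rw [mul_congr (α' := mul G₂ α₀ ψ (by simp [ψ])) _ (by simp) key.symm rfl]
          exact mul_inv_cancel _ _ _
        · simp [χ, pullback.lift_snd]
      inv_hom_id := by
        apply pullback.hom_ext
        · simp only [Category.assoc, pullback.lift_fst, Category.id_comp, ψ, comp_mul]
          have h1 : χ ≫ α₀ ≫ G₂.i = mul G₂ ε₀ (δ₀ ≫ G₂.i) hw₁ ≫ G₂.i := by
            simp [χ, α₀, pullback.lift_fst_assoc]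
          have h2 : χ ≫ γ₀ = ε₀ := by simp [χ, γ₀, ε₀, pullback.lift_snd_assoc]
          have key : mul G₂ (mul G₂ ε₀ (δ₀ ≫ G₂.i) hw₁) δ₀ (by simp) = ε₀ := by
            rw [mul_assoc' ε₀ (δ₀ ≫ G₂.i) δ₀ hw₁ (by simp),
              mul_unit_right _ (by rw [mul_inv_left _ rfl]; simp [ε₀, δ₀, pullback.condition_assoc])]
          refine (mul_congr _ (by simp) h1 h2).trans ?_
          rw [mul_congr (β' := mul G₂ (mul G₂ ε₀ (δ₀ ≫ G₂.i) hw₁) δ₀ (by simp)) _ (by simp) rfl key.symm,
            ← mul_assoc' _ (mul G₂ ε₀ (δ₀ ≫ G₂.i) hw₁) δ₀ (by simp) (by simp),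
            mul_unit_left _ (by rw [mul_inv_left _ rfl]; simp [δ₀])]
        · simp [χ, pullback.lift_snd] }
  have := universallyOpen_to_point eU (p ≫ G₂.t)
  have := universallyOpen_to_point eU (p ≫ G₂.s)
  have hψopen : IsOpenMap ψ.base := by
    have h : ψ = e.hom ≫ pullback.fst G₂.s (p ≫ G₂.s) := (pullback.lift_fst _ _ _).symm
    rw [h]
    have : IsIso e.hom := Iso.isIso_hom e
    rw [Scheme.Hom.comp_base, TopCat.coe_comp]
    exact (pullback.fst G₂.s (p ≫ G₂.s)).isOpenMap.comp e.hom.homeomorph.isOpenMap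
  have hπopen : IsOpenMap α₀.base := α₀.isOpenMap
  -- membership in the closure corresponds under `α₀` and `ψ`
  have key₁ : mul G₂ α₀ ψ (by simp [ψ]) = γ₀ := by
    rw [← mul_assoc' α₀ (α₀ ≫ G₂.i) γ₀ (by simp) hw₀,
      mul_unit_left _ (by rw [mul_inv_right _ rfl]; simp [α₀, γ₀, pullback.condition_assoc])]
  have hγ : ∀ w : F, γ₀ w ∈ closure A := fun w => by
    rw [Scheme.Hom.comp_apply, hp]; exact hz
  have hiff : ∀ w : F, α₀ w ∈ closure A ↔ ψ w ∈ closure A := by
    intro w
    constructor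
    · intro hw
      exact mul_mem_closure_pt f eU _ _ hw₀ w
        (by rw [Scheme.Hom.comp_apply]; exact inv_mem_closure f hw) (hγ w)
    · intro hw
      have key : mul G₂ γ₀ (ψ ≫ G₂.i) (by simp [ψ]) = α₀ := by
        rw [mul_congr (α' := mul G₂ α₀ ψ (by simp [ψ])) _ (by simp) key₁.symm rfl]
        exact mul_inv_cancel _ _ _
      rw [← key]
      exact mul_mem_closure_pt f eU _ _ _ w (hγ w)
        (by rw [Scheme.Hom.comp_apply]; exact inv_mem_closure f hw)
  obtain ⟨w₀, hw₀1, -⟩ := Scheme.Pullback.exists_preimage_pullback (f := G₂.t) (g := p ≫ G₂.t) z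
    (closedPoint K) (by rw [Scheme.Hom.comp_apply, hp])
  have hw₀2 : α₀ w₀ ∈ closure A := by
    show pullback.fst G₂.t (p ≫ G₂.t) w₀ ∈ _
    rw [hw₀1]; exact hz
  -- a point with `α₀ ∈ A`
  obtain ⟨w₁, hw₁A⟩ : ∃ w₁ : F, α₀ w₁ ∈ A := by
    have : w₀ ∈ closure (α₀.base ⁻¹' A) := by
      rw [← hπopen.preimage_closure_eq_closure_preimage α₀.continuous]
      exact hw₀2
    exact closure_nonempty_iff.mp ⟨_, this⟩
  have hw₁O : α₀ w₁ ∈ O := (hAO ▸ hw₁A : α₀ w₁ ∈ O ∩ closure A).1
  have hw₁ψ : w₁ ∈ closure (ψ.base ⁻¹' A) := by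
    rw [← hψopen.preimage_closure_eq_closure_preimage ψ.continuous]
    exact (hiff w₁).mp (subset_closure hw₁A)
  obtain ⟨w, hwO, hwψ⟩ := mem_closure_iff.mp hw₁ψ _ (hO.preimage α₀.continuous) hw₁O
  have hwA : α₀ w ∈ A := hAO ▸ ⟨hwO, (hiff w).mpr (subset_closure hwψ)⟩
  have := mul_mem_range_pt f α₀ ψ (by simp [ψ]) w hwA hwψ
  rwa [key₁, Scheme.Hom.comp_apply, hp] at this

/-- A reduced scheme over a perfect field has reduced products with reduced schemes. -/
lemma isReduced_pullback_perfect {U X Y : Scheme.{u}} {k : Type u} [Field k] [PerfectField k]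
    (eU : U ≅ Spec (CommRingCat.of k)) (a : X ⟶ U) (b : Y ⟶ U) [IsReduced X] [IsReduced Y] :
    IsReduced (pullback a b) := by
  have : GeometricallyReduced (a ≫ eU.hom) := by
    have : IsReduced (FBase.bc (a ≫ eU.hom) k) := by
      have : IsIso (Spec.map (CommRingCat.ofHom (algebraMap k k))) := by
        rw [Algebra.algebraMap_self]
        exact inferInstanceAs (IsIso (Spec.map (𝟙 (CommRingCat.of k))))
      have : IsIso (pullback.fst (a ≫ eU.hom) (Spec.map (CommRingCat.ofHom (algebraMap k k)))) :=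
        inferInstance
      let E := asIso (pullback.fst (a ≫ eU.hom) (Spec.map (CommRingCat.ofHom (algebraMap k k))))
      exact @isReduced_of_isOpenImmersion _ _ E.hom (IsOpenImmersion.of_isIso E.hom) ‹_›
    exact FBase64.geometricallyReduced_of_isReduced_perfect _ k
  have := FBase64.isReduced_pullback_of_geometricallyReduced (a ≫ eU.hom) (b ≫ eU.hom)
  exact isReduced_of_isOpenImmersion
    (pullback.map a b (a ≫ eU.hom) (b ≫ eU.hom) (𝟙 X) (𝟙 Y) eU.hom (by simp) (by simp))

variable [PerfectField k]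

/-- The reduced closure of the image, as a subgroupoid. -/
noncomputable def closureSub : Sub G₂ :=
  let I := Scheme.IdealSheafData.vanishingIdeal
    (⟨closure (Set.range f.fR), isClosed_closure⟩ : TopologicalSpace.Closeds G₂.R)
  { P := I.subscheme
    ι := I.subschemeι
    hι := inferInstance
    unit := by
      obtain ⟨_, _⟩ := isIntegral_subsingleton_of_iso eU
      refine ⟨IsClosedImmersion.lift I.subschemeι G₂.e
        (SchBasics.ker_le_ker_of_range_subset _ _ ?_), IsClosedImmersion.lift_fac _ _ _⟩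
      rw [SchBasics.range_vanishingIdeal_subschemeι]
      rintro _ ⟨u, rfl⟩
      refine subset_closure ⟨(inv f.fU ≫ G₁.e) u, ?_⟩
      rw [← Scheme.Hom.comp_apply, Category.assoc, e_map, IsIso.inv_hom_id_assoc]
    inv := by
      have := SchBasics.isReduced_vanishingIdeal_subscheme
        (⟨closure (Set.range f.fR), isClosed_closure⟩ : TopologicalSpace.Closeds G₂.R)
      refine ⟨IsClosedImmersion.lift I.subschemeι (I.subschemeι ≫ G₂.i)
        (SchBasics.ker_le_ker_of_range_subset _ _ ?_), IsClosedImmersion.lift_fac _ _ _⟩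
      rintro _ ⟨u, rfl⟩
      have h : I.subschemeι u ∈ Set.range I.subschemeι := ⟨u, rfl⟩
      rw [SchBasics.range_vanishingIdeal_subschemeι] at h ⊢
      rw [Scheme.Hom.comp_apply]
      exact inv_mem_closure f h
    mul := by
      have := SchBasics.isReduced_vanishingIdeal_subscheme
        (⟨closure (Set.range f.fR), isClosed_closure⟩ : TopologicalSpace.Closeds G₂.R)
      let P := pullback (I.subschemeι ≫ G₂.s) (I.subschemeι ≫ G₂.t)
      have : IsReduced P := isReduced_pullback_perfect eU _ _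
      have hw : (pullback.fst _ _ ≫ I.subschemeι : P ⟶ G₂.R) ≫ G₂.s =
          (pullback.snd _ _ ≫ I.subschemeι) ≫ G₂.t := by
        rw [Category.assoc, Category.assoc, pullback.condition]
      obtain ⟨c, hc⟩ : ∃ c : P ⟶ I.subscheme, c ≫ I.subschemeι = mul G₂ _ _ hw := by
        refine ⟨IsClosedImmersion.lift I.subschemeι (mul G₂ _ _ hw)
          (SchBasics.ker_le_ker_of_range_subset _ _ ?_), IsClosedImmersion.lift_fac _ _ _⟩
        rintro _ ⟨q, rfl⟩
        have hmem : ∀ y, I.subschemeι y ∈ closure (Set.range f.fR) := fun y => by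
          have h : I.subschemeι y ∈ Set.range I.subschemeι := ⟨y, rfl⟩
          rwa [SchBasics.range_vanishingIdeal_subschemeι] at h
        rw [SchBasics.range_vanishingIdeal_subschemeι]
        exact mul_mem_closure_pt f eU _ _ hw q (by rw [Scheme.Hom.comp_apply]; exact hmem _)
          (by rw [Scheme.Hom.comp_apply]; exact hmem _)
      intro T a b h
      refine ⟨pullback.lift a b (by simpa using h) ≫ c, ?_⟩
      rw [Category.assoc, hc, comp_mul]
      exact mul_congr _ _ (pullback.lift_fst_assoc _ _ _ _) (pullback.lift_snd_assoc _ _ _ _) }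

end Groth.Agent.Grpd80
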