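import Mathlib.AlgebraicGeometry.Restrict
import Mathlib.AlgebraicGeometry.AffineScheme
import Mathlib.AlgebraicGeometry.Gluing

set_option autoImplicit false
universe u
open CategoryTheory CategoryTheory.Limits AlgebraicGeometry TopologicalSpace

namespace Groth.Agent.Grpd80

variable {U R M : Scheme.{u}} (s t : R ⟶ U) (q : U ⟶ M)

lemma restrict_apply {X Y : Scheme.{u}} (f : X ⟶ Y) (V : Y.Opens) (z : (f ⁻¹ᵁ V).toScheme) :
    V.ι ((f ∣_ V) z) = f ((f ⁻¹ᵁ V).ι z) :=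
  (Scheme.Hom.comp_apply _ _ _).symm.trans
    ((congrArg (fun g : _ ⟶ Y => g z) (morphismRestrict_ι f V)).trans (Scheme.Hom.comp_apply _ _ _))

lemma homOfLE_pt {X : Scheme.{u}} {A B : X.Opens} (h : A ≤ B) (z : A.toScheme) :
    B.ι (X.homOfLE h z) = A.ι z :=
  (Scheme.Hom.comp_apply _ _ _).symm.trans (congrArg (fun g : _ ⟶ X => g z) (X.homOfLE_ι h))

lemma resLE_pt {X Y : Scheme.{u}} (f : X ⟶ Y) {B : Y.Opens} {A : X.Opens} (h : A ≤ f ⁻¹ᵁ B)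
    (z : A.toScheme) : B.ι (f.resLE B A h z) = f (A.ι z) :=
  (Scheme.Hom.comp_apply _ _ _).symm.trans
    ((congrArg (fun g : _ ⟶ Y => g z) (Scheme.Hom.resLE_comp_ι f h)).trans (Scheme.Hom.comp_apply _ _ _))

lemma appTop_resLE {X Y : Scheme.{u}} (f : X ⟶ Y) {B : Y.Opens} {A : X.Opens} (h : A ≤ f ⁻¹ᵁ B) :
    (f.resLE B A h).appTop ≫ A.topIso.hom = B.topIso.hom ≫ f.appLE B A h := by
  have e : (f.resLE B A h).appTop = B.topIso.hom ≫ f.appLE B A h ≫ A.topIso.inv :=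
    Scheme.Hom.resLE_app_top f h
  rw [e, Category.assoc, Category.assoc, Iso.inv_hom_id, Category.comp_id]

lemma appTop_restrict {X Y : Scheme.{u}} (f : X ⟶ Y) (V : Y.Opens) :
    (f ∣_ V).appTop ≫ (f ⁻¹ᵁ V).topIso.hom = V.topIso.hom ≫ f.app V := by
  have h : (f ∣_ V).appTop = V.topIso.hom ≫ f.app V ≫ (f ⁻¹ᵁ V).topIso.inv := by
    rw [← Scheme.Hom.resLE_eq_morphismRestrict, Scheme.Hom.app_eq_appLE]
    exact Scheme.Hom.resLE_app_top f le_rfl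
  rw [h, Category.assoc, Category.assoc, Iso.inv_hom_id, Category.comp_id]

/-- An open over which functions are exactly the invariant functions upstairs. -/
def IsGood (w : t ≫ q = s ≫ q) (P : M.Opens) : Prop :=
  Function.Injective (q.app P).hom ∧ ∀ a : Γ(U, q ⁻¹ᵁ P),
    (s.app (q ⁻¹ᵁ P)).hom a =
      (t.appLE (q ⁻¹ᵁ P) (s ⁻¹ᵁ q ⁻¹ᵁ P) (by rw [← Scheme.Hom.comp_preimage, ← w]; exact le_rfl)).hom a →
    a ∈ Set.range (q.app P).hom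

/-- The hypotheses making `q` a coequalizer on every open of the target. -/
structure IsGeomQuot : Prop where
  w : t ≫ q = s ≫ q
  surj : Function.Surjective q
  fibres : ∀ x y : U, q x = q y → ∃ r : R, t r = x ∧ s r = y
  image_open : ∀ O : U.Opens, s ⁻¹ᵁ O = t ⁻¹ᵁ O → IsOpen (q '' (O : Set U))
  basis : ∀ (O : M.Opens), ∀ y ∈ O, ∃ P : M.Opens, y ∈ P ∧ P ≤ O ∧ IsGood s t q w P

variable {s t q}

lemma IsGeomQuot.hom_ext (h : IsGeomQuot s t q) {T : Scheme.{u}} {V : M.Opens}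
    {g₁ g₂ : V.toScheme ⟶ T} (e : (q ∣_ V) ≫ g₁ = (q ∣_ V) ≫ g₂) : g₁ = g₂ := by
  have hpt : ∀ y : V.toScheme, g₁ y = g₂ y := by
    intro y
    obtain ⟨x, hx⟩ := h.surj y.1
    have hxV : x ∈ q ⁻¹ᵁ V := show q x ∈ V from hx.symm ▸ y.2
    let x' : (q ⁻¹ᵁ V).toScheme := ⟨x, hxV⟩
    have hy : (q ∣_ V) x' = y := V.ι.isOpenEmbedding.injective ((restrict_apply q V x').trans hx)
    rw [← hy, ← Scheme.Hom.comp_apply, ← Scheme.Hom.comp_apply, e]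
  have hloc : ∀ y : V.toScheme, ∃ (P : M.Opens) (hP : P ≤ V), y.1 ∈ P ∧
      M.homOfLE hP ≫ g₁ = M.homOfLE hP ≫ g₂ := by
    intro y
    obtain ⟨i, z, hz⟩ := T.affineCover.exists_eq (g₁ y)
    set Ti := (T.affineCover.f i).opensRange
    obtain ⟨P, hyP, hPle, hP⟩ := h.basis (V.ι ''ᵁ (g₁ ⁻¹ᵁ Ti)) y.1 ⟨y, ⟨z, hz⟩, rfl⟩
    have hPV : P ≤ V := hPle.trans (Scheme.Opens.ι_image_le _ _)
    refine ⟨P, hPV, hyP, ?_⟩
    have hsub : ∀ (g : V.toScheme ⟶ T), (∀ y, g y = g₁ y) →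
        Set.range (M.homOfLE hPV ≫ g) ⊆ Set.range (T.affineCover.f i) := by
      rintro g hg _ ⟨p, rfl⟩
      obtain ⟨y', hy', hpy⟩ := hPle p.2
      have : M.homOfLE hPV p = y' :=
        V.ι.isOpenEmbedding.injective ((homOfLE_pt hPV p).trans hpy.symm)
      rw [Scheme.Hom.comp_apply, this, hg]
      exact hy'
    let l₁ := IsOpenImmersion.lift (T.affineCover.f i) _ (hsub g₁ fun _ => rfl)
    let l₂ := IsOpenImmersion.lift (T.affineCover.f i) _ (hsub g₂ fun y => (hpt y).symm)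
    rw [← IsOpenImmersion.lift_fac (T.affineCover.f i) _ (hsub g₁ fun _ => rfl),
      ← IsOpenImmersion.lift_fac (T.affineCover.f i) _ (hsub g₂ fun y => (hpt y).symm)]
    congr 1
    refine ext_of_isAffine ?_
    have hl : (q ∣_ P) ≫ l₁ = (q ∣_ P) ≫ l₂ := by
      rw [← cancel_mono (T.affineCover.f i)]
      simp only [Category.assoc, l₁, l₂, IsOpenImmersion.lift_fac]
      rw [← Category.assoc, ← Category.assoc]
      have hnat : (q ∣_ P) ≫ M.homOfLE hPV =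
          U.homOfLE (q.preimage_mono hPV) ≫ (q ∣_ V) := by
        simp [← cancel_mono V.ι, morphismRestrict_ι]
      rw [hnat, Category.assoc, Category.assoc, e]
    have hl' := congr(Scheme.Hom.appTop $hl)
    rw [Scheme.Hom.comp_appTop, Scheme.Hom.comp_appTop] at hl'
    ext a
    have h2 := congr(($hl').hom a)
    rw [CommRingCat.hom_comp, CommRingCat.hom_comp, RingHom.comp_apply, RingHom.comp_apply] at h2
    have hinj : Function.Injective (q ∣_ P).appTop.hom := by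
      intro a b hab
      have hb := P.topIso.commRingCatIsoToRingEquiv.injective
      refine hb (hP.1 ?_)
      have key : ∀ a, (q.app P).hom (P.topIso.hom.hom a) =
          (q ⁻¹ᵁ P).topIso.hom.hom ((q ∣_ P).appTop.hom a) := fun a =>
        (congr(($(appTop_restrict q P)).hom a)).symm
      exact (key a).trans ((congrArg _ hab).trans (key b).symm)
    exact hinj h2
  choose P hP hyP hPe using hloc
  refine Scheme.Cover.hom_ext ((Scheme.openCoverOfIsOpenCover V.toScheme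
    (fun y => V.ι ⁻¹ᵁ P y) ?_)) _ _ fun y => ?_
  · exact TopologicalSpace.IsOpenCover.mk (top_le_iff.mp fun y _ => Opens.mem_iSup.mpr ⟨y, hyP y⟩)
  · change (V.ι ⁻¹ᵁ P y).ι ≫ g₁ = (V.ι ⁻¹ᵁ P y).ι ≫ g₂
    have hr : Set.range ((V.ι ⁻¹ᵁ P y).ι ≫ V.ι) ⊆ Set.range (P y).ι := by
      rintro _ ⟨z, rfl⟩
      rw [Scheme.Opens.range_ι]
      exact z.2
    have hfac : (V.ι ⁻¹ᵁ P y).ι = IsOpenImmersion.lift (P y).ι _ hr ≫ M.homOfLE (hP y) := by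
      rw [← cancel_mono V.ι, Category.assoc, Scheme.homOfLE_ι, IsOpenImmersion.lift_fac]
    rw [hfac, Category.assoc, Category.assoc, hPe y]

/-- `q` is a coequalizer over every open of the target. -/
lemma IsGeomQuot.exists_desc (h : IsGeomQuot s t q) {T : Scheme.{u}} (V : M.Opens)
    (f : (q ⁻¹ᵁ V).toScheme ⟶ T)
    (hf : s.resLE (q ⁻¹ᵁ V) (s ⁻¹ᵁ q ⁻¹ᵁ V) le_rfl ≫ f =
      t.resLE (q ⁻¹ᵁ V) (s ⁻¹ᵁ q ⁻¹ᵁ V)
        (by rw [← Scheme.Hom.comp_preimage, ← h.w]; exact le_rfl) ≫ f) :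
    ∃ g : V.toScheme ⟶ T, (q ∣_ V) ≫ g = f := by
  have hst : s ⁻¹ᵁ q ⁻¹ᵁ V = t ⁻¹ᵁ q ⁻¹ᵁ V := by
    rw [← Scheme.Hom.comp_preimage, ← Scheme.Hom.comp_preimage, h.w]
  have hloc : ∀ y : V.toScheme, ∃ (P : M.Opens) (hP : P ≤ V) (g : P.toScheme ⟶ T),
      y.1 ∈ P ∧ (q ∣_ P) ≫ g = U.homOfLE (q.preimage_mono hP) ≫ f := by
    intro y
    obtain ⟨x, hx⟩ := h.surj y.1
    have hxV : x ∈ q ⁻¹ᵁ V := show q x ∈ V from hx.symm ▸ y.2
    obtain ⟨i, z, hz⟩ := T.affineCover.exists_eq (f ⟨x, hxV⟩)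
    set Ti := (T.affineCover.f i).opensRange
    set O : U.Opens := (q ⁻¹ᵁ V).ι ''ᵁ (f ⁻¹ᵁ Ti)
    have hmem : ∀ (x' : U) (hx' : x' ∈ q ⁻¹ᵁ V), x' ∈ O ↔ f ⟨x', hx'⟩ ∈ Ti := by
      intro x' hx'
      constructor
      · rintro ⟨w, hw, rfl⟩; exact hw
      · exact fun hh => ⟨⟨x', hx'⟩, hh, rfl⟩
    have hO : s ⁻¹ᵁ O = t ⁻¹ᵁ O := by
      refine Opens.ext (Set.ext fun r => ?_)
      change s r ∈ O ↔ t r ∈ O
      by_cases hr : r ∈ s ⁻¹ᵁ q ⁻¹ᵁ V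
      · rw [hmem _ hr, hmem (t r) (hst ▸ hr :)]
        let r' : (s ⁻¹ᵁ q ⁻¹ᵁ V).toScheme := ⟨r, hr⟩
        have this := congrArg (fun g : (s ⁻¹ᵁ q ⁻¹ᵁ V).toScheme ⟶ T => g r') hf
        have this := (Scheme.Hom.comp_apply _ _ _).symm.trans (this.trans (Scheme.Hom.comp_apply _ _ _))
        have e1 : s.resLE (q ⁻¹ᵁ V) (s ⁻¹ᵁ q ⁻¹ᵁ V) le_rfl ⟨r, hr⟩ = ⟨s r, hr⟩ :=
          (q ⁻¹ᵁ V).ι.isOpenEmbedding.injective (resLE_pt s le_rfl _)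
        have e2 : t.resLE (q ⁻¹ᵁ V) (s ⁻¹ᵁ q ⁻¹ᵁ V) hst.le ⟨r, hr⟩ = ⟨t r, (hst ▸ hr :)⟩ :=
          (q ⁻¹ᵁ V).ι.isOpenEmbedding.injective (resLE_pt t hst.le _)
        have e := (congrArg (fun z => f z) e1).symm.trans (this.trans (congrArg (fun z => f z) e2))
        exact Eq.to_iff (congrArg (fun z => z ∈ Ti) e)
      · have hr' : r ∉ t ⁻¹ᵁ q ⁻¹ᵁ V := hst ▸ hr
        exact iff_of_false (fun hh => hr (show s r ∈ q ⁻¹ᵁ V from Scheme.Opens.ι_image_le _ _ hh))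
          (fun hh => hr' (show t r ∈ q ⁻¹ᵁ V from Scheme.Opens.ι_image_le _ _ hh))
    obtain ⟨P, hyP, hPle, hP⟩ := h.basis ⟨q '' (O : Set U), h.image_open O hO⟩ y.1
      ⟨x, (hmem x hxV).mpr ⟨z, hz⟩, hx⟩
    have hPV : P ≤ V := fun m hm => by
      obtain ⟨x', hx', rfl⟩ := hPle hm
      exact (show x' ∈ q ⁻¹ᵁ V from Scheme.Opens.ι_image_le _ _ hx')
    have hPO : q ⁻¹ᵁ P ≤ O := by
      intro x' hx'
      obtain ⟨x'', hx'', e⟩ := hPle hx'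
      obtain ⟨r, hr1, hr2⟩ := h.fibres x'' x' e
      rw [← hr2]
      refine show r ∈ s ⁻¹ᵁ O from ?_
      rw [hO]
      exact show t r ∈ O from hr1.symm ▸ hx''
    have hrange : Set.range (U.homOfLE (q.preimage_mono hPV) ≫ f) ⊆
        Set.range (T.affineCover.f i) := by
      rintro _ ⟨w, rfl⟩
      rw [Scheme.Hom.comp_apply]
      have hw' : w.1 ∈ q ⁻¹ᵁ V := q.preimage_mono hPV w.2
      have : U.homOfLE (q.preimage_mono hPV) w = ⟨w.1, hw'⟩ :=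
        (q ⁻¹ᵁ V).ι.isOpenEmbedding.injective (homOfLE_pt (q.preimage_mono hPV) w)
      rw [this]
      exact (hmem w.1 hw').mp (hPO w.2)
    let l := IsOpenImmersion.lift (T.affineCover.f i) _ hrange
    -- the ring map to functions downstairs
    let θ : Γ(T.affineCover.X i, ⊤) ⟶ Γ(U, q ⁻¹ᵁ P) := l.appTop ≫ (q ⁻¹ᵁ P).topIso.hom
    have hstP : s ⁻¹ᵁ q ⁻¹ᵁ P ≤ t ⁻¹ᵁ q ⁻¹ᵁ P := by
      rw [← Scheme.Hom.comp_preimage, ← h.w]; exact le_rfl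
    have hl : s.resLE (q ⁻¹ᵁ P) (s ⁻¹ᵁ q ⁻¹ᵁ P) le_rfl ≫ l =
        t.resLE (q ⁻¹ᵁ P) (s ⁻¹ᵁ q ⁻¹ᵁ P) hstP ≫ l := by
      rw [← cancel_mono (T.affineCover.f i)]
      simp only [Category.assoc, l, IsOpenImmersion.lift_fac]
      rw [← Category.assoc, ← Category.assoc, Scheme.Hom.resLE_map, Scheme.Hom.resLE_map,
        ← Scheme.Hom.map_resLE s (U := q ⁻¹ᵁ V) le_rfl (s.preimage_mono (q.preimage_mono hPV)),
        ← Scheme.Hom.map_resLE t (U := q ⁻¹ᵁ V) hst.le (s.preimage_mono (q.preimage_mono hPV)),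
        Category.assoc, Category.assoc, hf]
    have hinv : ∀ b, (s.app (q ⁻¹ᵁ P)).hom (θ.hom b) =
        (t.appLE (q ⁻¹ᵁ P) (s ⁻¹ᵁ q ⁻¹ᵁ P) hstP).hom (θ.hom b) := by
      intro b
      have h3 : θ ≫ s.appLE (q ⁻¹ᵁ P) (s ⁻¹ᵁ q ⁻¹ᵁ P) le_rfl =
          θ ≫ t.appLE (q ⁻¹ᵁ P) (s ⁻¹ᵁ q ⁻¹ᵁ P) hstP := by
        simp only [θ, Category.assoc]
        rw [← appTop_resLE s, ← appTop_resLE t, ← Category.assoc, ← Category.assoc,
          ← Scheme.Hom.comp_appTop, ← Scheme.Hom.comp_appTop, hl]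
      rw [Scheme.Hom.app_eq_appLE]
      exact congr(($h3).hom b)
    choose σ hσ using fun b => hP.2 _ (hinv b)
    let φ : Γ(T.affineCover.X i, ⊤) →+* Γ(M, P) :=
      { toFun := σ
        map_one' := hP.1 (by rw [hσ, map_one, map_one])
        map_mul' := fun a b => hP.1 (by rw [map_mul, hσ, hσ, hσ, map_mul])
        map_zero' := hP.1 (by rw [hσ, map_zero, map_zero])
        map_add' := fun a b => hP.1 (by rw [map_add, hσ, hσ, hσ, map_add]) }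
    let g₀ : P.toScheme ⟶ T.affineCover.X i :=
      P.toScheme.toSpecΓ ≫ Spec.map (CommRingCat.ofHom φ ≫ P.topIso.inv) ≫
        (T.affineCover.X i).isoSpec.inv
    refine ⟨P, hPV, g₀ ≫ T.affineCover.f i, hyP, ?_⟩
    rw [← Category.assoc, show (q ∣_ P) ≫ g₀ = l from ?_]
    · exact IsOpenImmersion.lift_fac _ _ _
    rw [← cancel_mono (T.affineCover.X i).isoSpec.hom]
    simp only [g₀, Category.assoc, Iso.inv_hom_id, Category.comp_id]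
    change _ = l ≫ (T.affineCover.X i).toSpecΓ
    rw [Scheme.toSpecΓ_naturality, Scheme.toSpecΓ_naturality_assoc, ← Spec.map_comp]
    congr 2
    rw [← cancel_mono (q ⁻¹ᵁ P).topIso.hom, Category.assoc, Category.assoc, appTop_restrict,
      Iso.inv_hom_id_assoc]
    ext b
    exact hσ b
  choose P hP g hyP hg using hloc
  let 𝒰 := Scheme.openCoverOfIsOpenCover V.toScheme (fun y => V.ι ⁻¹ᵁ P y)
    (TopologicalSpace.IsOpenCover.mk (top_le_iff.mp fun y _ => Opens.mem_iSup.mpr ⟨y, hyP y⟩))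
  have hgg : ∀ y y', M.homOfLE (inf_le_left : P y ⊓ P y' ≤ P y) ≫ g y =
      M.homOfLE (inf_le_right : P y ⊓ P y' ≤ P y') ≫ g y' := by
    intro y y'
    refine h.hom_ext ?_
    have e : ∀ (z : V.toScheme) (hz : P y ⊓ P y' ≤ P z), (q ∣_ (P y ⊓ P y')) ≫ M.homOfLE hz ≫ g z =
        U.homOfLE (q.preimage_mono (hz.trans (hP z))) ≫ f := by
      intro z hz
      rw [← Category.assoc, show (q ∣_ (P y ⊓ P y')) ≫ M.homOfLE hz =
        U.homOfLE (q.preimage_mono hz) ≫ (q ∣_ P z) by simp [← cancel_mono (P z).ι, morphismRestrict_ι],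
        Category.assoc, hg, ← Category.assoc, Scheme.homOfLE_homOfLE]
    rw [e y inf_le_left, e y' inf_le_right]
  let lft : ∀ y, (V.ι ⁻¹ᵁ P y).toScheme ⟶ (P y).toScheme := fun y =>
    IsOpenImmersion.lift (P y).ι ((V.ι ⁻¹ᵁ P y).ι ≫ V.ι) (by
      rintro _ ⟨z, rfl⟩
      rw [Scheme.Opens.range_ι]
      exact z.2)
  have hlft : ∀ y, lft y ≫ (P y).ι = (V.ι ⁻¹ᵁ P y).ι ≫ V.ι := fun y => IsOpenImmersion.lift_fac _ _ _
  have hc : ∀ (y y' : V.toScheme) {Z : Scheme.{u}} (a : Z ⟶ (V.ι ⁻¹ᵁ P y).toScheme)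
      (b : Z ⟶ (V.ι ⁻¹ᵁ P y').toScheme), a ≫ (V.ι ⁻¹ᵁ P y).ι = b ≫ (V.ι ⁻¹ᵁ P y').ι →
      a ≫ lft y ≫ g y = b ≫ lft y' ≫ g y' := by
    intro y y' Z a b hab
    have hab' : a ≫ lft y ≫ (P y).ι = b ≫ lft y' ≫ (P y').ι := by
      rw [hlft, hlft, reassoc_of% hab]
    have hr : Set.range (a ≫ lft y ≫ (P y).ι) ⊆ Set.range (P y ⊓ P y').ι := by
      rintro _ ⟨z, rfl⟩
      rw [Scheme.Opens.range_ι]
      refine ⟨?_, ?_⟩
      · exact (lft y (a z)).2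
      · rw [hab']
        exact (lft y' (b z)).2
    let m := IsOpenImmersion.lift (P y ⊓ P y').ι _ hr
    have hm : m ≫ (P y ⊓ P y').ι = a ≫ lft y ≫ (P y).ι := IsOpenImmersion.lift_fac _ _ _
    have h1 : a ≫ lft y = m ≫ M.homOfLE inf_le_left := by
      rw [← cancel_mono (P y).ι, Category.assoc, Category.assoc, Scheme.homOfLE_ι, hm]
    have h2 : b ≫ lft y' = m ≫ M.homOfLE inf_le_right := by
      rw [← cancel_mono (P y').ι, Category.assoc, Category.assoc, Scheme.homOfLE_ι, hm, hab']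
    rw [reassoc_of% h1, reassoc_of% h2, hgg]
  let G := 𝒰.glueMorphisms (fun y => lft y ≫ g y) fun y y' =>
    hc _ _ _ _ (pullback.condition (f := 𝒰.f y) (g := 𝒰.f y'))
  have hG : ∀ y, 𝒰.f y ≫ G = lft y ≫ g y := fun y => 𝒰.ι_glueMorphisms _ _ y
  refine ⟨G, ?_⟩
  suffices key : ∀ y : V.toScheme, ((q ⁻¹ᵁ V).ι ⁻¹ᵁ q ⁻¹ᵁ P y).ι ≫ (q ∣_ V) ≫ G =
      ((q ⁻¹ᵁ V).ι ⁻¹ᵁ q ⁻¹ᵁ P y).ι ≫ f by
    refine Scheme.Cover.hom_ext (Scheme.openCoverOfIsOpenCover (q ⁻¹ᵁ V).toScheme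
      (fun y => (q ⁻¹ᵁ V).ι ⁻¹ᵁ q ⁻¹ᵁ P y) (TopologicalSpace.IsOpenCover.mk (top_le_iff.mp fun x _ =>
        Opens.mem_iSup.mpr ⟨(q ∣_ V) x, ?_⟩))) _ _ key
    have h0 : V.ι ((q ∣_ V) x) ∈ P ((q ∣_ V) x) := hyP _
    rw [restrict_apply] at h0
    exact h0
  intro y
  let k : ((q ⁻¹ᵁ V).ι ⁻¹ᵁ q ⁻¹ᵁ P y).toScheme ⟶ (q ⁻¹ᵁ P y).toScheme :=
    IsOpenImmersion.lift (q ⁻¹ᵁ P y).ι (((q ⁻¹ᵁ V).ι ⁻¹ᵁ q ⁻¹ᵁ P y).ι ≫ (q ⁻¹ᵁ V).ι) (by
      rintro _ ⟨z, rfl⟩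
      rw [Scheme.Opens.range_ι]
      exact z.2)
  have hk : k ≫ (q ⁻¹ᵁ P y).ι = ((q ⁻¹ᵁ V).ι ⁻¹ᵁ q ⁻¹ᵁ P y).ι ≫ (q ⁻¹ᵁ V).ι :=
    IsOpenImmersion.lift_fac _ _ _
  let m : ((q ⁻¹ᵁ V).ι ⁻¹ᵁ q ⁻¹ᵁ P y).toScheme ⟶ (V.ι ⁻¹ᵁ P y).toScheme :=
    IsOpenImmersion.lift (V.ι ⁻¹ᵁ P y).ι (((q ⁻¹ᵁ V).ι ⁻¹ᵁ q ⁻¹ᵁ P y).ι ≫ (q ∣_ V)) (by
      rintro _ ⟨z, rfl⟩
      rw [Scheme.Opens.range_ι]
      change V.ι ((((q ⁻¹ᵁ V).ι ⁻¹ᵁ q ⁻¹ᵁ P y).ι ≫ (q ∣_ V)) z) ∈ P y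
      rw [Scheme.Hom.comp_apply, restrict_apply]
      exact z.2)
  have hm : m ≫ (V.ι ⁻¹ᵁ P y).ι = ((q ⁻¹ᵁ V).ι ⁻¹ᵁ q ⁻¹ᵁ P y).ι ≫ (q ∣_ V) :=
    IsOpenImmersion.lift_fac _ _ _
  have h1 : m ≫ lft y = k ≫ (q ∣_ P y) := by
    rw [← cancel_mono (P y).ι, Category.assoc, Category.assoc, hlft, reassoc_of% hm,
      morphismRestrict_ι, morphismRestrict_ι, reassoc_of% hk]
  have h2 : k ≫ U.homOfLE (q.preimage_mono (hP y)) = ((q ⁻¹ᵁ V).ι ⁻¹ᵁ q ⁻¹ᵁ P y).ι := by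
    rw [← cancel_mono (q ⁻¹ᵁ V).ι, Category.assoc, Scheme.homOfLE_ι, hk]
  rw [← Category.assoc, ← hm, Category.assoc, show (V.ι ⁻¹ᵁ P y).ι ≫ G = lft y ≫ g y from hG y,
    reassoc_of% h1, hg, reassoc_of% h2]

end Groth.Agent.Grpd80
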