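import Groth.Agent.Grpd80.Shear
import Groth.Agent.Grp57.Irreducible
import Groth.Agent.Grp57.Prod
import Groth.Agent.Alg80.BigField
import Groth.Agent.Grpd80.InvOpen

/-!
Irreducible components of groupoid schemes over a field.
-/

set_option autoImplicit false
universe u
open CategoryTheory CategoryTheory.Limits AlgebraicGeometry IsLocalRing

namespace Groth.Agent.Grpd80

variable {S : Scheme.{u}} (G : Grpd.GroupoidScheme S) {k : Type u} [Field k]
  (eU : G.U ≅ Spec (CommRingCat.of k)) {Ω : Type u} [Field Ω]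
  (g : Spec (CommRingCat.of Ω) ⟶ G.U)

/-- The restriction of `R` along a field valued point `g` of `U`: triples `(u, α, v)`. -/
noncomputable abbrev Tri' : Scheme.{u} := pullback (pullback.snd g G.t ≫ G.s) g

/-- First coordinate. -/
noncomputable def cu : Tri' G g ⟶ Spec (CommRingCat.of Ω) := pullback.fst _ _ ≫ pullback.fst g G.t
/-- The arrow. -/
noncomputable def cp : Tri' G g ⟶ G.R := pullback.fst _ _ ≫ pullback.snd g G.t
/-- Last coordinate. -/
noncomputable def cv : Tri' G g ⟶ Spec (CommRingCat.of Ω) := pullback.snd _ _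

@[reassoc] lemma cu_g : cu G g ≫ g = cp G g ≫ G.t := by
  simp [cu, cp, pullback.condition]

@[reassoc] lemma cp_s : cp G g ≫ G.s = cv G g ≫ g := by
  simp only [cp, cv, Category.assoc]; exact pullback.condition

variable {G g} {T : Scheme.{u}}

/-- A triple from its coordinates. -/
noncomputable def mk' (u : T ⟶ Spec (CommRingCat.of Ω)) (α : T ⟶ G.R) (v : T ⟶ Spec (CommRingCat.of Ω))
    (h₁ : u ≫ g = α ≫ G.t) (h₂ : α ≫ G.s = v ≫ g) : T ⟶ Tri' G g :=
  pullback.lift (pullback.lift u α h₁) v (by rw [pullback.lift_snd_assoc, h₂])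

@[reassoc (attr := simp)]
lemma mk'_cu (u : T ⟶ Spec (CommRingCat.of Ω)) (α : T ⟶ G.R) (v : T ⟶ Spec (CommRingCat.of Ω))
    (h₁ : u ≫ g = α ≫ G.t) (h₂ : α ≫ G.s = v ≫ g) : mk' u α v h₁ h₂ ≫ cu G g = u := by
  simp [mk', cu, pullback.lift_fst_assoc, pullback.lift_fst]

@[reassoc (attr := simp)]
lemma mk'_cp (u : T ⟶ Spec (CommRingCat.of Ω)) (α : T ⟶ G.R) (v : T ⟶ Spec (CommRingCat.of Ω))
    (h₁ : u ≫ g = α ≫ G.t) (h₂ : α ≫ G.s = v ≫ g) : mk' u α v h₁ h₂ ≫ cp G g = α := by
  simp [mk', cp, pullback.lift_fst_assoc, pullback.lift_snd]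

@[reassoc (attr := simp)]
lemma mk'_cv (u : T ⟶ Spec (CommRingCat.of Ω)) (α : T ⟶ G.R) (v : T ⟶ Spec (CommRingCat.of Ω))
    (h₁ : u ≫ g = α ≫ G.t) (h₂ : α ≫ G.s = v ≫ g) : mk' u α v h₁ h₂ ≫ cv G g = v := by
  simp [mk', cv, pullback.lift_snd]

lemma tri'_ext {a b : T ⟶ Tri' G g} (hu : a ≫ cu G g = b ≫ cu G g)
    (hp : a ≫ cp G g = b ≫ cp G g) (hv : a ≫ cv G g = b ≫ cv G g) : a = b := by
  apply pullback.hom_ext
  · apply pullback.hom_ext
    · simpa [cu] using hu
    · simpa [cp] using hp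
  · exact hv

/-- Product of composable triples. -/
noncomputable def triMul : pullback (cv G g) (cu G g) ⟶ Tri' G g :=
  mk' (pullback.fst _ _ ≫ cu G g)
    (mul G (pullback.fst _ _ ≫ cp G g) (pullback.snd _ _ ≫ cp G g) (by
      rw [Category.assoc, Category.assoc, cp_s, ← cu_g, pullback.condition_assoc]))
    (pullback.snd _ _ ≫ cv G g)
    (by rw [mul_t, Category.assoc, Category.assoc, cu_g])
    (by rw [mul_s, Category.assoc, Category.assoc, cp_s])

/-- Left division of triples with the same first coordinate. -/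
noncomputable def triDiv : pullback (cu G g) (cu G g) ⟶ Tri' G g :=
  mk' (pullback.fst _ _ ≫ cv G g)
    (mul G ((pullback.fst _ _ ≫ cp G g) ≫ G.i) (pullback.snd _ _ ≫ cp G g) (by
      simp only [Category.assoc, i_s', ← cu_g]
      rw [pullback.condition_assoc]))
    (pullback.snd _ _ ≫ cv G g)
    (by simp [cp_s])
    (by simp [cp_s])

/-- At most one component passes through a point, rational for the first projection. -/
theorem uniqueComp_of_rational [IsSepClosed Ω] (z : Spec (CommRingCat.of Ω) ⟶ Tri' G g)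
    (hz : IsIso (z ≫ cu G g)) : Grp57.UniqueComp (z (closedPoint Ω)) := by
  intro C₁ hC₁ C₂ hC₂ h₁ h₂
  -- the unit
  let e' : Spec (CommRingCat.of Ω) ⟶ Tri' G g := mk' (𝟙 _) (g ≫ G.e) (𝟙 _) (by simp) (by simp)
  -- a component containing all quotients of the two components
  have hD := (Grp57.isIrreducible_prod (cu G g) (cu G g) hC₁.1 hC₂.1
    (isClosed_of_mem_irreducibleComponents _ hC₂)).image (triDiv (G := G) (g := g))
      (triDiv (G := G) (g := g)).continuous.continuousOn
  obtain ⟨E, hE, hDE⟩ := exists_mem_irreducibleComponents_subset_of_isIrreducible _ hD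
  have hM := (Grp57.isIrreducible_prod (cv G g) (cu G g) hC₁.1 hE.1
    (isClosed_of_mem_irreducibleComponents _ hE)).image (triMul (G := G) (g := g))
      (triMul (G := G) (g := g)).continuous.continuousOn
  have hsub : ∀ w : Spec (CommRingCat.of Ω), w = closedPoint Ω := fun w =>
    Subsingleton.elim (α := PrimeSpectrum Ω) _ _
  -- the unit lies in `E`
  let q₀ : Spec (CommRingCat.of Ω) ⟶ pullback (cu G g) (cu G g) := pullback.lift z z rfl
  have hq₀ : q₀ ≫ triDiv = (z ≫ cv G g) ≫ e' := by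
    apply tri'_ext
    · simp [q₀, triDiv, e', pullback.lift_fst_assoc]
    · simp only [q₀, triDiv, e', Category.assoc, mk'_cp, comp_mul]
      rw [mul_congr (α' := (z ≫ cp G g) ≫ G.i) (β' := z ≫ cp G g) _ (by simp)
        (by simp [pullback.lift_fst_assoc]) (by simp [pullback.lift_snd_assoc]),
        mul_inv_left _ rfl, Category.assoc, cp_s_assoc]
    · simp [q₀, triDiv, e', pullback.lift_snd_assoc]
  have heE : e' (closedPoint Ω) ∈ E := by
    refine hDE ⟨q₀ (closedPoint Ω), ⟨?_, ?_⟩, ?_⟩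
    · rw [Set.mem_preimage, ← Scheme.Hom.comp_apply, pullback.lift_fst]; exact h₁
    · rw [Set.mem_preimage, ← Scheme.Hom.comp_apply, pullback.lift_snd]; exact h₂
    · rw [← Scheme.Hom.comp_apply, hq₀, Scheme.Hom.comp_apply]
      exact congrArg e' (hsub _)
  -- `C₁` lies in the products
  have hC₁M : C₁ ⊆ triMul (G := G) (g := g) '' (pullback.fst (cv G g) (cu G g) ⁻¹' C₁ ∩
      pullback.snd (cv G g) (cu G g) ⁻¹' E) := by
    intro x hx
    let q : Tri' G g ⟶ pullback (cv G g) (cu G g) :=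
      pullback.lift (𝟙 _) (cv G g ≫ e') (by simp [e'])
    have hq : q ≫ triMul = 𝟙 _ := by
      apply tri'_ext
      · simp [q, triMul, pullback.lift_fst_assoc]
      · simp only [q, triMul, e', Category.assoc, mk'_cp, comp_mul, Category.id_comp]
        rw [mul_congr (α' := cp G g) (β' := cp G g ≫ G.s ≫ G.e) _ (by simp)
          (by simp [pullback.lift_fst_assoc]) (by simp [pullback.lift_snd_assoc, cp_s_assoc])]
        exact mul_unit_right _ rfl
      · simp [q, triMul, e', pullback.lift_snd_assoc]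
    refine ⟨q x, ⟨?_, ?_⟩, by rw [← Scheme.Hom.comp_apply, hq]; rfl⟩
    · rw [Set.mem_preimage, ← Scheme.Hom.comp_apply, pullback.lift_fst]; exact hx
    · rw [Set.mem_preimage, ← Scheme.Hom.comp_apply, pullback.lift_snd, Scheme.Hom.comp_apply]
      exact (congrArg e' (hsub (cv G g x))).symm ▸ heE
  -- `C₂` lies in the products
  have hC₂M : C₂ ⊆ triMul (G := G) (g := g) '' (pullback.fst (cv G g) (cu G g) ⁻¹' C₁ ∩
      pullback.snd (cv G g) (cu G g) ⁻¹' E) := by
    intro y hy
    let ζ : Tri' G g ⟶ Tri' G g := cu G g ≫ inv (z ≫ cu G g) ≫ z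
    have hζu : ζ ≫ cu G g = cu G g := by simp [ζ]
    have hζy : ζ y = z (closedPoint Ω) := by
      show (cu G g ≫ inv (z ≫ cu G g) ≫ z) y = _
      rw [Scheme.Hom.comp_apply, Scheme.Hom.comp_apply]
      exact congrArg z (hsub _)
    let q₁ : Tri' G g ⟶ pullback (cu G g) (cu G g) := pullback.lift ζ (𝟙 _) (by simp [hζu])
    let q₂ : Tri' G g ⟶ pullback (cv G g) (cu G g) :=
      pullback.lift ζ (q₁ ≫ triDiv) (by simp [q₁, triDiv, pullback.lift_fst_assoc])
    have hq₂ : q₂ ≫ triMul = 𝟙 _ := by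
      have hw : ((ζ ≫ cp G g) ≫ G.i) ≫ G.s = cp G g ≫ G.t := by
        simp only [Category.assoc, i_s', ← cu_g]
        rw [reassoc_of% hζu]
      apply tri'_ext
      · simp [q₂, triMul, hζu, pullback.lift_fst_assoc]
      · simp only [q₂, triMul, Category.assoc, mk'_cp, comp_mul, Category.id_comp]
        have hd : q₁ ≫ triDiv ≫ cp G g = mul G ((ζ ≫ cp G g) ≫ G.i) (cp G g) hw := by
          simp only [triDiv, mk'_cp, comp_mul]
          exact mul_congr _ _ (by simp [q₁, pullback.lift_fst_assoc])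
            (by simp [q₁, pullback.lift_snd_assoc])
        rw [mul_congr (α' := ζ ≫ cp G g) (β' := mul G ((ζ ≫ cp G g) ≫ G.i) (cp G g) hw) _
          (by simp) (by simp [pullback.lift_fst_assoc])
          (by rw [pullback.lift_snd_assoc, Category.assoc, hd])]
        exact mul_inv_cancel_left _ _ _
      · simp [q₂, q₁, triMul, triDiv, pullback.lift_snd_assoc]
    refine ⟨q₂ y, ⟨?_, ?_⟩, by rw [← Scheme.Hom.comp_apply, hq₂]; rfl⟩
    · rw [Set.mem_preimage, ← Scheme.Hom.comp_apply, pullback.lift_fst, hζy]; exact h₁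
    · rw [Set.mem_preimage, ← Scheme.Hom.comp_apply, pullback.lift_snd, Scheme.Hom.comp_apply]
      refine hDE ⟨q₁ y, ⟨?_, ?_⟩, rfl⟩
      · rw [Set.mem_preimage, ← Scheme.Hom.comp_apply, pullback.lift_fst, hζy]; exact h₁
      · rw [Set.mem_preimage, ← Scheme.Hom.comp_apply, pullback.lift_snd]; exact hy
  have h21 : C₂ ⊆ C₁ := hC₂M.trans (hC₁.2 hM hC₁M)
  exact (h21.antisymm (hC₂.2 hC₁.1 h21)).symm

include eU in
theorem flat_field_point : Flat g := by
  have : Flat (g ≫ eU.hom) := by
    rw [← Spec.map_preimage (g ≫ eU.hom)]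
    exact Grp57.flat_to_field (Spec.preimage (g ≫ eU.hom)).hom
  have h : g = (g ≫ eU.hom) ≫ eU.inv := by simp
  rw [h]; infer_instance

variable (G)

include eU in
/-- Through every point of a groupoid scheme over a field passes a single component. -/
theorem uniqueComp (x : G.R) : Grp57.UniqueComp x := by
  obtain ⟨Ω, _, _, i, hcard⟩ := Alg80.exists_big_algClosed k (G.R.residueField x)
  let α : Spec (CommRingCat.of Ω) ⟶ G.R :=
    Spec.map (CommRingCat.ofHom i) ≫ G.R.fromSpecResidueField x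
  have hα : ∀ w, α w = x := fun w => Scheme.fromSpecResidueField_apply x _
  let a := Spec.preimage (α ≫ G.s ≫ eU.hom)
  let b := Spec.preimage (α ≫ G.t ≫ eU.hom)
  obtain ⟨ψ, hψ⟩ := Alg80.exists_ringEquiv_comp hcard a.hom b.hom
  let g : Spec (CommRingCat.of Ω) ⟶ G.U := α ≫ G.t
  have hgs : α ≫ G.s = Spec.map (CommRingCat.ofHom (ψ : Ω →+* Ω)) ≫ g := by
    have h : b ≫ CommRingCat.ofHom (ψ : Ω →+* Ω) = a := CommRingCat.hom_ext hψ
    have h' := congrArg Spec.map h
    rw [Spec.map_comp, Spec.map_preimage, Spec.map_preimage] at h'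
    rw [← cancel_mono eU.hom]
    simpa [g] using h'.symm
  have := flat_field_point eU (g := g)
  let z : Spec (CommRingCat.of Ω) ⟶ Tri' G g :=
    mk' (𝟙 _) α (Spec.map (CommRingCat.ofHom (ψ : Ω →+* Ω))) (Category.id_comp _) hgs
  have hu := uniqueComp_of_rational z (by rw [mk'_cu]; infer_instance)
  have hx : cp G g (z (closedPoint Ω)) = x := by
    rw [← Scheme.Hom.comp_apply, mk'_cp]; exact hα _
  rw [← hx]
  have : Flat (cp G g) := by unfold cp; infer_instance
  exact Grp57.uniqueComp_of_generalizing (cp G g).continuous (Flat.generalizingMap (cp G g)) hu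

/-- A single minimal prime in local rings where a single component passes. -/
theorem minimalPrimes_subsingleton_of_uniqueComp {X : Scheme.{u}} (x : X) (hx : Grp57.UniqueComp x) :
    (minimalPrimes (X.presheaf.stalk x)).Subsingleton := by
  have key : ∀ P ∈ minimalPrimes (X.presheaf.stalk x), ∃ p : Spec (X.presheaf.stalk x),
      p.asIdeal = P ∧ closure {X.fromSpecStalk x p} ∈ irreducibleComponents X ∧
        X.fromSpecStalk x p ⤳ x := by
    intro P hP
    let p : Spec (X.presheaf.stalk x) := ⟨P, hP.1.1⟩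
    have hpx : X.fromSpecStalk x p ⤳ x :=
      (Scheme.range_fromSpecStalk (X := X) (x := x)).le ⟨p, rfl⟩
    refine ⟨p, rfl, (SchBasics.closure_singleton_mem_irreducibleComponents_iff _).2 fun z hz => ?_, hpx⟩
    obtain ⟨q, rfl⟩ := (Scheme.range_fromSpecStalk (X := X) (x := x)).ge
      (show z ⤳ x from hz.trans hpx)
    have hq : q ⤳ p := (X.fromSpecStalk x).isEmbedding.isInducing.specializes_iff.1 hz
    have hle : q.asIdeal ≤ p.asIdeal := (PrimeSpectrum.le_iff_specializes q p).2 hq
    exact congrArg _ (PrimeSpectrum.ext (hle.antisymm (hP.2 ⟨q.isPrime, bot_le⟩ hle)))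
  intro P hP Q hQ
  obtain ⟨p, rfl, hp, hpx⟩ := key P hP
  obtain ⟨q, rfl, hq, hqx⟩ := key Q hQ
  have h := hx _ hp _ hq (specializes_iff_mem_closure.1 hpx) (specializes_iff_mem_closure.1 hqx)
  have h1 : X.fromSpecStalk x p = X.fromSpecStalk x q :=
    ((specializes_iff_mem_closure.2 (h ▸ subset_closure rfl :
      X.fromSpecStalk x q ∈ closure {X.fromSpecStalk x p})).antisymm
      (specializes_iff_mem_closure.2 (h.symm ▸ subset_closure rfl :
      X.fromSpecStalk x p ∈ closure {X.fromSpecStalk x q}))).eq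
  exact congrArg PrimeSpectrum.asIdeal ((X.fromSpecStalk x).isEmbedding.injective h1)

/-- The identity point. -/
noncomputable abbrev ePt : G.R := G.e (eU.inv (closedPoint k))

/-- The component through the identity stays irreducible over an algebraic closure (for `s`). -/
theorem isIrreducible_preimage_component {Z : Set G.R} (hZ : Z ∈ irreducibleComponents (G.R : Type u))
    (he : ePt G eU ∈ Z) :
    IsIrreducible (pullback.fst (G.s ≫ eU.hom)
      (Spec.map (CommRingCat.ofHom (algebraMap k (AlgebraicClosure k)))) ⁻¹' Z) := by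
  let K := AlgebraicClosure k
  let tK := Spec.map (CommRingCat.ofHom (algebraMap k K))
  let g : Spec (CommRingCat.of K) ⟶ G.U := tK ≫ eU.inv
  let π := pullback.fst (G.s ≫ eU.hom) tK
  have := flat_field_point eU (g := g)
  let z : Spec (CommRingCat.of K) ⟶ Tri' G g := mk' (𝟙 _) (g ≫ G.e) (𝟙 _) (by simp) (by simp)
  have hu := uniqueComp_of_rational z (by rw [mk'_cu]; infer_instance)
  have hg : g ≫ eU.hom = tK := by simp [g]
  let m : pullback G.s g ⟶ pullback (G.s ≫ eU.hom) tK :=
    pullback.map _ _ _ _ (𝟙 _) (𝟙 _) eU.hom (by simp) (by simp [hg])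
  have : IsIso m := pullback.map_isIso ..
  let n : Tri' G g ⟶ pullback G.s g := pullback.map _ _ _ _ (pullback.snd g G.t) (𝟙 _) (𝟙 _) (by simp) (by simp)
  have hn : Flat n := by
    have hs : n = (pullbackRightPullbackFstIso G.s g (pullback.snd g G.t)).inv ≫
        pullback.snd (pullback.snd g G.t) (pullback.fst G.s g) := by
      apply pullback.hom_ext
      · simp only [n, pullback.map, pullback.lift_fst, Category.assoc]
        rw [← pullback.condition, pullbackRightPullbackFstIso_inv_fst_assoc]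
      · simp only [n, pullback.map, pullback.lift_snd, Category.assoc, Category.comp_id,
          pullbackRightPullbackFstIso_inv_snd_snd]
    rw [hs]; infer_instance
  have hgen := (Grp57.uniqueComp_of_generalizing (n ≫ m).continuous (Flat.generalizingMap (n ≫ m)) hu)
  let w₀ : ↥(pullback (G.s ≫ eU.hom) tK) := (n ≫ m) (z (closedPoint K))
  have hπw₀ : π w₀ = ePt G eU := by
    show pullback.fst (G.s ≫ eU.hom) tK ((n ≫ m) (z (closedPoint K))) = _
    rw [← Scheme.Hom.comp_apply, ← Scheme.Hom.comp_apply]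
    have : z ≫ (n ≫ m) ≫ pullback.fst (G.s ≫ eU.hom) tK = g ≫ G.e := by
      have : z ≫ cp G g = g ≫ G.e := mk'_cp _ _ _ _ _
      simpa [n, m, cp, pullback.lift_fst, pullback.lift_fst_assoc] using this
    rw [this, Scheme.Hom.comp_apply, Scheme.Hom.comp_apply]
    exact congrArg G.e (congrArg eU.inv (Subsingleton.elim (α := PrimeSpectrum k) _ _))
  -- only one point lies over the identity
  have hfib : ∀ w, π w = ePt G eU → w = w₀ := by
    intro w hw
    let σ : Spec (CommRingCat.of K) ⟶ pullback (G.s ≫ eU.hom) tK :=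
      pullback.lift (g ≫ G.e) (𝟙 _) (by simp [hg])
    have hr : π ⁻¹' {ePt G eU} ⊆ Set.range σ := by
      let e₁ : Spec (CommRingCat.of k) ⟶ G.R := eU.inv ≫ G.e
      let j : pullback (e₁ ≫ G.s ≫ eU.hom) tK ⟶ pullback (G.s ≫ eU.hom) tK :=
        pullback.map _ _ _ _ e₁ (𝟙 _) (𝟙 _) (by simp) (by simp)
      intro v hv
      have hj : v ∈ Set.range j := by
        rw [Scheme.Pullback.range_map]
        exact ⟨⟨closedPoint k, (Set.mem_singleton_iff.mp hv).symm⟩, by simp⟩
      obtain ⟨v', rfl⟩ := hj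
      have h1 : e₁ ≫ G.s ≫ eU.hom = 𝟙 _ := by simp [e₁]
      have hjσ : j = pullback.snd (e₁ ≫ G.s ≫ eU.hom) tK ≫ σ := by
        apply pullback.hom_ext
        · simp only [j, σ, Category.assoc, pullback.lift_fst, pullback.map]
          have h := pullback.condition (f := e₁ ≫ G.s ≫ eU.hom) (g := tK)
          rw [h1] at h
          calc pullback.fst (e₁ ≫ G.s ≫ eU.hom) tK ≫ e₁
              = (pullback.fst (e₁ ≫ G.s ≫ eU.hom) tK ≫ 𝟙 _) ≫ eU.inv ≫ G.e := by simp [e₁]
            _ = _ := by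
              have h' : pullback.fst (e₁ ≫ G.s ≫ eU.hom) tK ≫ 𝟙 _ =
                  pullback.snd (e₁ ≫ G.s ≫ eU.hom) tK ≫ tK := by
                rw [← h1]; exact pullback.condition
              rw [h']; simp [g]
        · simp [j, σ, pullback.lift_snd]
      exact ⟨pullback.snd (e₁ ≫ G.s ≫ eU.hom) tK v', by
        rw [← Scheme.Hom.comp_apply, ← hjσ]⟩
    obtain ⟨a, ha⟩ := hr hw
    obtain ⟨b, hb⟩ := hr hπw₀
    rw [← ha, ← hb, show a = b from Subsingleton.elim (α := PrimeSpectrum K) _ _]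
  have hZc := isClosed_of_mem_irreducibleComponents _ hZ
  have hclosed : IsClosedMap π := FBase64.isClosedMap_fst (G.s ≫ eU.hom)
  have : Flat tK := Grp57.flat_to_field _
  have hgenπ : GeneralizingMap π := Flat.generalizingMap π
  obtain ⟨ζ, hζ⟩ := QuasiSober.sober hZ.1 hZc
  obtain ⟨C₀, hC₀, hwC₀⟩ : ∃ C ∈ irreducibleComponents ↥(pullback (G.s ≫ eU.hom) tK), w₀ ∈ C :=
    ⟨_, irreducibleComponent_mem_irreducibleComponents _, mem_irreducibleComponent⟩
  -- every point over `Z` specialises from a point over `ζ`, whose closure maps onto `Z`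
  have key : ∀ w, π w ∈ Z → w ∈ C₀ := by
    intro w hw
    obtain ⟨w', hw'w, hw'⟩ := hgenπ (hζ.specializes hw)
    obtain ⟨C, hC, hw'C⟩ := exists_mem_irreducibleComponents_subset_of_isIrreducible _
      (isIrreducible_singleton (x := w')).closure
    have hCc := isClosed_of_mem_irreducibleComponents _ hC
    have himg : Z ⊆ π '' closure {w'} := by
      rw [← hζ.def]
      exact closure_minimal (Set.singleton_subset_iff.mpr ⟨w', subset_closure rfl, hw'⟩)
        (hclosed _ isClosed_closure)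
    obtain ⟨v, hv, hve⟩ := himg he
    have hw₀C : w₀ ∈ C := by rw [← hfib v hve]; exact hw'C hv
    rw [← hgen C hC C₀ hC₀ hw₀C hwC₀]
    exact hCc.stableUnderSpecialization hw'w (hw'C (subset_closure rfl))
  have hC₀Z : C₀ ⊆ π ⁻¹' Z := by
    intro w hw
    have hirr : IsIrreducible (π '' C₀) := hC₀.1.image _ π.continuous.continuousOn
    obtain ⟨Z', hZ', hsub⟩ := exists_mem_irreducibleComponents_subset_of_isIrreducible _ hirr
    have : Z' = Z := uniqueComp G eU (ePt G eU) Z' hZ' Z hZ (hsub ⟨w₀, hwC₀, hπw₀⟩) he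
    exact this ▸ hsub ⟨w, hw, rfl⟩
  have heq : π ⁻¹' Z = C₀ := Set.Subset.antisymm (fun w hw => key w hw) hC₀Z
  show IsIrreducible (π ⁻¹' Z)
  rw [heq]; exact hC₀.1

end Groth.Agent.Grpd80
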