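import Groth.Agent.Grpd80.Shear
import Mathlib.AlgebraicGeometry.Morphisms.Immersion
import Mathlib.AlgebraicGeometry.Morphisms.Flat

/-! The diagonal of `t` is the base change of the identity section along `(a, b) ↦ a⁻¹ b`. -/

set_option autoImplicit false
universe u
open CategoryTheory CategoryTheory.Limits AlgebraicGeometry

namespace Groth.Agent.Grpd80

variable {S : Scheme.{u}} (G : Grpd.GroupoidScheme S)

/-- `(a, b) ↦ a⁻¹ b`. -/
noncomputable def diffMap : pullback G.t G.t ⟶ G.R :=
  mul G (pullback.fst G.t G.t ≫ G.i) (pullback.snd G.t G.t)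
    (by rw [Category.assoc, G.i_s, pullback.condition])

lemma comp_diffMap {T : Scheme.{u}} (x : T ⟶ pullback G.t G.t) :
    x ≫ diffMap G = mul G ((x ≫ pullback.fst G.t G.t) ≫ G.i) (x ≫ pullback.snd G.t G.t)
      (by simp [G.i_s, pullback.condition]) := by
  unfold diffMap
  rw [comp_mul]
  exact mul_congr _ _ (Category.assoc _ _ _).symm rfl

lemma diagonal_diffMap : pullback.diagonal G.t ≫ diffMap G = G.s ≫ G.e := by
  rw [comp_diffMap]
  refine Eq.trans ?_ ((G.i_comp (𝟙 G.R)).trans (Category.id_comp _))
  exact mul_congr _ (by simp [G.i_s]) (by simp) (by simp)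

/-- The square `R → R ×_t R`, `R → U`, `a⁻¹ b`, `e` is cartesian. -/
lemma isPullback_diagonal : IsPullback (pullback.diagonal G.t) G.s (diffMap G) G.e := by
  refine ⟨⟨diagonal_diffMap G⟩, ⟨PullbackCone.IsLimit.mk _
    (fun c => c.fst ≫ pullback.fst G.t G.t) (fun c => ?_) (fun c => ?_) fun c m hm _ => ?_⟩⟩
  · have h := c.condition
    rw [comp_diffMap] at h
    have hs : (c.fst ≫ pullback.fst G.t G.t) ≫ G.s = c.snd := by
      have h' := congrArg (· ≫ G.t) h
      simp only [mul_t, Category.assoc, G.e_t, G.i_t, Category.comp_id] at h'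
      rw [Category.assoc]
      exact h'
    apply pullback.hom_ext
    · simp
    · rw [Category.assoc, pullback.diagonal_snd, Category.comp_id]
      have h1 := mul_inv_cancel_left (G := G) (c.fst ≫ pullback.fst G.t G.t) (c.fst ≫ pullback.snd G.t G.t)
        (by simp [G.i_s, pullback.condition])
      rw [← h1]
      symm
      refine (mul_congr _ ?_ rfl h).trans (mul_unit_right _ ?_)
      · rw [Category.assoc c.snd, G.e_t, Category.comp_id, hs]
      · rw [← Category.assoc _ G.s, hs]
  · have h := c.condition
    rw [comp_diffMap] at h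
    have h' := congrArg (· ≫ G.t) h
    simp only [mul_t, Category.assoc, G.e_t, G.i_t, Category.comp_id] at h'
    rw [Category.assoc]
    exact h'
  · rw [← hm]
    simp

/-- `R ×_t R ≅ R ×_{s,t} R`, `(a, b) ↦ (a, a⁻¹ b)`. -/
noncomputable def diffIso : pullback G.t G.t ≅ pullback G.s G.t where
  hom := pullback.lift (pullback.fst _ _) (diffMap G) (by simp [diffMap, G.i_t])
  inv := pullback.lift (pullback.fst _ _) (mul G (pullback.fst _ _) (pullback.snd _ _) pullback.condition)
    (by simp)
  hom_inv_id := by
    apply pullback.hom_ext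
    · simp [pullback.lift_fst]
    · rw [Category.assoc, pullback.lift_snd, Category.id_comp, comp_mul]
      refine (mul_congr _ ?_ (pullback.lift_fst _ _ _) (pullback.lift_snd _ _ _)).trans ?_
      · simp [diffMap, G.i_t]
      exact mul_inv_cancel_left _ _ (by simp [G.i_s, pullback.condition])
  inv_hom_id := by
    apply pullback.hom_ext
    · simp [pullback.lift_fst]
    · rw [Category.assoc, pullback.lift_snd, Category.id_comp, comp_diffMap]
      refine (mul_congr _ ?_ (congrArg (· ≫ G.i) (pullback.lift_fst _ _ _))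
        (pullback.lift_snd _ _ _)).trans (inv_mul_cancel _ _ pullback.condition)
      simp [G.i_s]

lemma flat_diffMap [Flat G.s] : Flat (diffMap G) := by
  have h : diffMap G = (diffIso G).hom ≫ pullback.snd G.s G.t := (pullback.lift_snd _ _ _).symm
  rw [h]
  infer_instance

lemma isImmersion_e : IsImmersion G.e :=
  haveI : IsImmersion (G.e ≫ G.t) := by rw [G.e_t]; infer_instance
  IsImmersion.of_comp G.e G.t

lemma quasiCompact_e [QuasiSeparated G.t] : QuasiCompact G.e :=
  haveI : QuasiCompact (G.e ≫ G.t) := by rw [G.e_t]; infer_instance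
  QuasiCompact.of_comp G.e G.t

end Groth.Agent.Grpd80
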