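import Mathlib.AlgebraicGeometry.Morphisms.Etale
import Mathlib.AlgebraicGeometry.Morphisms.FlatMono
import Mathlib.AlgebraicGeometry.Morphisms.QuasiFinite
import Groth.Agent.Unr55.FinitePart
import Groth.Agent.SpFP87.EtLocInst

/-!
Maps into etale schemes are determined by their values at points with trivial residue extension.
-/

set_option autoImplicit false
universe u
open CategoryTheory CategoryTheory.Limits AlgebraicGeometry

namespace Groth.Agent.Grpd80

/-- Two points of an unramified scheme with trivial residue extension agree if they agree on the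
base. -/
theorem fromSpec_comp_eq {Q U' U : Scheme.{u}} (g : U' ⟶ U) (e₁ e₂ : Q ⟶ U')
    (h : e₁ ≫ g = e₂ ≫ g) (q : Q) (hp : e₁ q = e₂ q) (hi : IsIso (g.residueFieldMap (e₁ q))) :
    Q.fromSpecResidueField q ≫ e₁ = Q.fromSpecResidueField q ≫ e₂ := by
  have h1 : Q.fromSpecResidueField q ≫ e₁ =
      Spec.map (e₁.residueFieldMap q) ≫ U'.fromSpecResidueField (e₁ q) :=
    (Scheme.Hom.SpecMap_residueFieldMap_fromSpecResidueField _ _).symm
  have h2 : Q.fromSpecResidueField q ≫ e₂ =
      Spec.map ((U'.residueFieldCongr hp).hom ≫ e₂.residueFieldMap q) ≫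
        U'.fromSpecResidueField (e₁ q) := by
    rw [Spec.map_comp, Category.assoc, Scheme.residueFieldCongr_fromSpecResidueField hp,
      Scheme.Hom.SpecMap_residueFieldMap_fromSpecResidueField]
  rw [h1, h2]
  congr 1
  have key : g.residueFieldMap (e₁ q) ≫ e₁.residueFieldMap q =
      g.residueFieldMap (e₁ q) ≫ (U'.residueFieldCongr hp).hom ≫ e₂.residueFieldMap q := by
    apply Spec.map_injective
    rw [← cancel_mono (U.fromSpecResidueField (g (e₁ q)))]
    simp only [Spec.map_comp, Category.assoc, Scheme.Hom.SpecMap_residueFieldMap_fromSpecResidueField]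
    rw [Scheme.Hom.SpecMap_residueFieldMap_fromSpecResidueField_assoc,
      Scheme.residueFieldCongr_fromSpecResidueField_assoc hp,
      Scheme.Hom.SpecMap_residueFieldMap_fromSpecResidueField_assoc, h]
  exact congrArg Spec.map ((cancel_epi _).mp key)

/-- A morphism to an unramified scheme is determined by its points, if they have trivial residue
extension. -/
theorem eq_of_forall_point {Q U' U : Scheme.{u}} (g : U' ⟶ U) [Etale g] (e₁ e₂ : Q ⟶ U')
    (h : e₁ ≫ g = e₂ ≫ g) (hp : ∀ q, e₁ q = e₂ q) (hi : ∀ q, IsIso (g.residueFieldMap (e₁ q))) :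
    e₁ = e₂ := by
  let L := pullback.lift e₁ e₂ h
  have : IsOpenImmersion (pullback.fst L (pullback.diagonal g)) := inferInstance
  have : Surjective (pullback.fst L (pullback.diagonal g)) := by
    refine ⟨fun q => ?_⟩
    let a := Q.fromSpecResidueField q
    have w : a ≫ L = (a ≫ e₁) ≫ pullback.diagonal g := by
      apply pullback.hom_ext
      · rw [Category.assoc, Category.assoc, pullback.lift_fst, pullback.diagonal_fst, Category.comp_id]
      · rw [Category.assoc, Category.assoc, pullback.lift_snd, pullback.diagonal_snd, Category.comp_id]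
        exact (fromSpec_comp_eq g e₁ e₂ h q (hp q) (hi q)).symm
    refine ⟨pullback.lift a (a ≫ e₁) w (IsLocalRing.closedPoint _), ?_⟩
    rw [← Scheme.Hom.comp_apply, pullback.lift_fst]
    exact Scheme.fromSpecResidueField_apply _ _
  have : IsIso (pullback.fst L (pullback.diagonal g)) := by
    rw [isIso_iff_isOpenImmersion_and_epi_base]
    exact ⟨inferInstance, (TopCat.epi_iff_surjective _).mpr (pullback.fst L (pullback.diagonal g)).surjective⟩
  have hw := pullback.condition (f := L) (g := pullback.diagonal g)
  rw [← cancel_epi (pullback.fst L (pullback.diagonal g))]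
  have c1 := congrArg (· ≫ pullback.fst g g) hw
  have c2 := congrArg (· ≫ pullback.snd g g) hw
  simp only [Category.assoc, L, pullback.lift_fst, pullback.lift_snd, pullback.diagonal_fst,
    pullback.diagonal_snd, Category.comp_id] at c1 c2
  rw [c1, c2]

/-- A map from a finite discrete scheme lifts to an etale scheme through given points with trivial
residue extension. -/
theorem exists_lift_of_discrete {Q U' U : Scheme.{u}} [DiscreteTopology Q] (g : U' ⟶ U) [Etale g]
    (x : Q ⟶ U) (u' : U') [IsIso (g.residueFieldMap u')] (hx : ∀ q, x q = g u') :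
    ∃ e : Q ⟶ U', e ≫ g = x ∧ ∀ q, e q = u' := by
  let P := pullback g x
  have : LocallyQuasiFinite g := SpFP87.etale_locallyQuasiFinite g inferInstance
  have hdisc : DiscreteTopology ↥P := by
    refine discreteTopology_iff_isOpen_singleton.mpr fun z => ?_
    let π := pullback.snd g x
    obtain ⟨O, hO, hOz⟩ := isDiscrete_iff_forall_exists_isOpen.mp
      (π.isDiscrete_preimage_singleton (π z)) z rfl
    rw [← hOz]
    exact hO.inter ((isOpen_discrete _).preimage π.continuous)
  let Z : P.Opens := ⟨pullback.fst g x ⁻¹' {u'}, isOpen_discrete _⟩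
  let π : Z.toScheme ⟶ Q := Z.ι ≫ pullback.snd g x
  have hu : ∀ {T : Scheme.{u}} (m : T ⟶ Z.toScheme) (t : T),
      (m ≫ Z.ι ≫ pullback.fst g x) t = u' := fun m t => (m t).2
  have : Mono π := by
    refine ⟨fun {T} m₁ m₂ hm => ?_⟩
    rw [← cancel_mono Z.ι]
    refine pullback.hom_ext ?_ (by simpa [π] using hm)
    simp only [Category.assoc]
    refine eq_of_forall_point g _ _ ?_ (fun t => (hu m₁ t).trans (hu m₂ t).symm)
      (fun t => by rw [hu m₁ t]; infer_instance)
    simp only [π] at hm
    simp only [Category.assoc, pullback.condition, reassoc_of% hm]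
  have : IsOpenImmersion π := IsOpenImmersion.of_flat_of_mono π
  have : Surjective π := ⟨fun q => by
    obtain ⟨z, hz1, hz2⟩ := Scheme.Pullback.exists_preimage_pullback (f := g) (g := x) u' q (hx q).symm
    exact ⟨⟨z, hz1⟩, hz2⟩⟩
  have : IsIso π := by
    rw [isIso_iff_isOpenImmersion_and_epi_base]
    exact ⟨inferInstance, (TopCat.epi_iff_surjective _).mpr π.surjective⟩
  refine ⟨inv π ≫ Z.ι ≫ pullback.fst g x, ?_, fun q => hu (inv π) q⟩
  simp only [Category.assoc, pullback.condition]
  rw [show Z.ι ≫ pullback.snd g x ≫ x = π ≫ x from (Category.assoc _ _ _).symm, IsIso.inv_hom_id_assoc]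

end Groth.Agent.Grpd80
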