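import Mathlib
import Groth.Prelude.Def_QuotSh
import Groth.Agent.Topos46.Quot
import Groth.Agent.SpFP87.EtaleMor

/-!
Quotient sheaves of equivalence relations for the etale topology and etale surjective quotients.
-/

universe u

set_option autoImplicit false

namespace Groth.Agent.Grpd80.EtaleQuot

open CategoryTheory CategoryTheory.Limits AlgebraicGeometry Opposite

variable {S : Scheme.{u}}

local notation "Kt" => Scheme.etalePrecoverage

theorem etale_le_fppf : (Scheme.etalePrecoverage : Precoverage Scheme.{u}) ≤ Scheme.fppfPrecoverage :=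
  Scheme.precoverage_mono fun _ _ _ _ => ⟨inferInstance, inferInstance⟩

instance subcanonical_etale :
    (Scheme.etalePrecoverage : Precoverage Scheme.{u}).toGrothendieck.Subcanonical :=
  GrothendieckTopology.Subcanonical.of_le (Precoverage.toGrothendieck_mono etale_le_fppf)

instance hasIsos_etale : (Scheme.etalePrecoverage : Precoverage Scheme.{u}).HasIsos := by
  unfold Scheme.etalePrecoverage; infer_instance

instance stableComp_etale :
    (Scheme.etalePrecoverage : Precoverage Scheme.{u}).IsStableUnderComposition := by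
  unfold Scheme.etalePrecoverage; infer_instance

instance stableBC_etale :
    (Scheme.etalePrecoverage : Precoverage Scheme.{u}).IsStableUnderBaseChange := by
  unfold Scheme.etalePrecoverage; infer_instance

/-- The representable sheaves on the big etale site. -/
noncomputable abbrev G (S : Scheme.{u}) : Over S ⥤ QuotSh.Sh Scheme.etalePrecoverage S :=
  (QuotSh.J Scheme.etalePrecoverage S).uliftYoneda.{u + 1}

theorem repMap_comp_iso {U M : Over S} (g : U ⟶ M) :
    QuotSh.repMap Kt g ≫ (QuotSh.repIsoUliftYoneda Kt M).hom =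
      (QuotSh.repIsoUliftYoneda Kt U).hom ≫ (G S).map g := by
  refine CategoryTheory.Sheaf.hom_ext (sheafify_hom_ext (J := QuotSh.J Kt S) _ _
    ((G S).obj M).property ?_)
  change toSheafify _ _ ≫ sheafifyMap _ (Functor.whiskerRight (yoneda.map g) uliftFunctor.{u + 1, u}) ≫
      (isoSheafify (QuotSh.J Kt S) ((G S).obj M).property).inv =
    toSheafify _ _ ≫ (isoSheafify (QuotSh.J Kt S) ((G S).obj U).property).inv ≫
      ((G S).map g).hom
  simp only [isoSheafify_inv, toSheafify_sheafifyLift_assoc, Category.id_comp]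
  have h2 := congrArg (Functor.whiskerRight (yoneda.map g) uliftFunctor.{u + 1, u} ≫ ·)
    (toSheafify_sheafifyLift (QuotSh.J Kt S) (𝟙 ((G S).obj M).obj) ((G S).obj M).property)
  have h3 := congrArg (· ≫ sheafifyLift (QuotSh.J Kt S) (𝟙 ((G S).obj M).obj) ((G S).obj M).property)
    (toSheafify_naturality (QuotSh.J Kt S) (Functor.whiskerRight (yoneda.map g) uliftFunctor.{u + 1, u}))
  exact ((Category.assoc _ _ _).symm.trans h3.symm).trans
    ((Category.assoc _ _ _).trans (h2.trans (Category.comp_id _)))

variable {R U Y : Over S} (s t : R ⟶ U)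

/-- The quotient map from the representable sheaf. -/
noncomputable abbrev quotMap : (G S).obj U ⟶ QuotSh.quot Kt s t :=
  (QuotSh.repIsoUliftYoneda Kt U).inv ≫ QuotSh.quotπ Kt s t

theorem map_repInv {g : R ⟶ U} :
    (G S).map g ≫ (QuotSh.repIsoUliftYoneda Kt U).inv =
      (QuotSh.repIsoUliftYoneda Kt R).inv ≫ QuotSh.repMap Kt g := by
  rw [Iso.eq_inv_comp, ← Category.assoc, Iso.comp_inv_eq]
  exact (repMap_comp_iso g).symm

theorem quotMap_condition : (G S).map t ≫ quotMap s t = (G S).map s ≫ quotMap s t := by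
  rw [quotMap, ← Category.assoc, map_repInv, ← Category.assoc, map_repInv, Category.assoc,
    Category.assoc, QuotSh.quot_condition]

/-- `quotMap` is the coequalizer. -/
theorem exists_desc_iso {Q : QuotSh.Sh Kt S} (p : (G S).obj U ⟶ Q)
    (w : (G S).map s ≫ p = (G S).map t ≫ p) (hc : IsColimit (Cofork.ofπ p w)) :
    ∃ i : QuotSh.quot Kt s t ≅ Q, quotMap s t ≫ i.hom = p := by
  let iU := QuotSh.repIsoUliftYoneda Kt U
  let d : QuotSh.quot Kt s t ⟶ Q := coequalizer.desc (iU.hom ≫ p) (by
    rw [← Category.assoc, ← Category.assoc, repMap_comp_iso, repMap_comp_iso, Category.assoc,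
      Category.assoc, w])
  have hd : quotMap s t ≫ d = p := by
    rw [quotMap, Category.assoc,
      show QuotSh.quotπ Kt s t ≫ d = iU.hom ≫ p from coequalizer.π_desc _ _,
      Iso.inv_hom_id_assoc]
  obtain ⟨b, hb⟩ := Cofork.IsColimit.desc' hc (quotMap s t) (quotMap_condition s t).symm
  change p ≫ b = quotMap s t at hb
  have : Epi (QuotSh.quotπ Kt s t) := coequalizer.π_epi
  have : Epi (quotMap s t) := epi_comp _ _
  refine ⟨⟨d, b, ?_, ?_⟩, hd⟩
  · rw [← cancel_epi (quotMap s t), ← Category.assoc, hd, hb, Category.comp_id]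
  · exact Cofork.IsColimit.hom_ext hc (by
      change p ≫ b ≫ d = p ≫ 𝟙 _
      rw [← Category.assoc, hb, hd, Category.comp_id])

/-- The representable relation is an equivalence relation of sheaves. -/
theorem isEquivalenceRelation_map [IsEquivalenceRelation s t] :
    IsEquivalenceRelation ((G S).map s) ((G S).map t) := by
  obtain ⟨e⟩ := IsEquivalenceRelation.nonempty_equivalenceRelation (p₁ := s) (p₂ := t)
  refine ⟨⟨{ right_cancellation := ?_
             r := (G S).map e.r
             reflexivity₁ := by rw [← Functor.map_comp, e.reflexivity₁, CategoryTheory.Functor.map_id]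
             reflexivity₂ := by rw [← Functor.map_comp, e.reflexivity₂, CategoryTheory.Functor.map_id]
             s := (G S).map e.s
             symmetry₁ := by rw [← Functor.map_comp, e.symmetry₁]
             symmetry₂ := by rw [← Functor.map_comp, e.symmetry₂]
             c := ((IsPullback.of_isLimit e.isLimit).map (G S)).cone
             isLimit := ((IsPullback.of_isLimit e.isLimit).map (G S)).isLimit
             t := (G S).map e.t
             transitivity₁ := ?_
             transitivity₂ := ?_ }⟩⟩
  · intro T a b h1 h2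
    apply CategoryTheory.Sheaf.hom_ext
    ext V x
    apply ULift.down_injective
    refine e.right_cancellation _ _ ?_ ?_
    · exact congrArg ULift.down (ConcreteCategory.congr_hom (congr_app (congrArg (·.hom) h1) V) x)
    · exact congrArg ULift.down (ConcreteCategory.congr_hom (congr_app (congrArg (·.hom) h2) V) x)
  · change (G S).map e.t ≫ _ = (G S).map e.c.fst ≫ _
    rw [← Functor.map_comp, ← Functor.map_comp]
    exact congrArg _ e.transitivity₁
  · change (G S).map e.t ≫ _ = (G S).map e.c.snd ≫ _
    rw [← Functor.map_comp, ← Functor.map_comp]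
    exact congrArg _ e.transitivity₂

/-- An etale surjection is an epimorphism of etale sheaves. -/
theorem epi_map (q : U ⟶ Y) [Etale q.left] [Surjective q.left] : Epi ((G S).map q) := by
  refine (Sheaf.isLocallySurjective_iff_epi _).1 ⟨fun {T} x => ?_⟩
  let g : T ⟶ Y := x.down
  have hmem : Sieve.generate (Presieve.singleton (pullback.fst g.left q.left)) ∈
      Scheme.etalePrecoverage.toGrothendieck T.left := by
    refine Precoverage.generate_mem_toGrothendieck ?_
    rw [← Presieve.ofArrows_pUnit.{0}]
    exact ((pullback.fst g.left q.left).cover (P := @Etale) inferInstance).mem₀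
  rw [GrothendieckTopology.mem_over_iff]
  refine GrothendieckTopology.superset_covering _ ?_ hmem
  rintro W c ⟨W', φ, p, hp, rfl⟩
  cases hp
  rw [Sieve.overEquiv_iff]
  have hw : (φ ≫ pullback.snd g.left q.left) ≫ U.hom =
      (φ ≫ pullback.fst g.left q.left) ≫ T.hom := by
    rw [← Over.w q, ← Over.w g, Category.assoc, Category.assoc, pullback.condition_assoc]
  refine ⟨ULift.up (Over.homMk (U := Over.mk ((φ ≫ pullback.fst g.left q.left) ≫ T.hom))
    (φ ≫ pullback.snd g.left q.left) hw), ?_⟩
  apply ULift.down_injective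
  show Over.homMk (U := Over.mk ((φ ≫ pullback.fst g.left q.left) ≫ T.hom))
      (φ ≫ pullback.snd g.left q.left) hw ≫ q =
    Over.homMk (U := Over.mk ((φ ≫ pullback.fst g.left q.left) ≫ T.hom))
      (φ ≫ pullback.fst g.left q.left) rfl ≫ g
  ext1
  show (φ ≫ pullback.snd g.left q.left) ≫ q.left = (φ ≫ pullback.fst g.left q.left) ≫ g.left
  rw [Category.assoc, Category.assoc, pullback.condition]

theorem isQuotient_etale (q : U ⟶ Y) (sq : IsPullback s t q q) [Etale q.left] [Surjective q.left] :
    QuotSh.IsQuotient Kt s t q := by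
  have := epi_map q
  have := IsRegularEpiCategory.regularEpiOfEpi ((G S).map q)
  have hk : IsKernelPair ((G S).map q) ((G S).map s) ((G S).map t) := sq.map (G S)
  obtain ⟨i, hi⟩ := exists_desc_iso s t ((G S).map q) hk.w hk.toCoequalizer'
  refine ⟨sq.w, ?_⟩
  have h : QuotSh.quotDesc Kt q sq.w ≫ (QuotSh.repIsoUliftYoneda Kt Y).hom = i.hom := by
    have : Epi (QuotSh.quotπ Kt s t) := coequalizer.π_epi
    rw [← cancel_epi (QuotSh.quotπ Kt s t), ← Category.assoc,
      show QuotSh.quotπ Kt s t ≫ QuotSh.quotDesc Kt q sq.w = QuotSh.repMap Kt q from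
        coequalizer.π_desc _ _, repMap_comp_iso]
    rw [← hi, quotMap, Category.assoc, Iso.hom_inv_id_assoc]
  have : IsIso (QuotSh.quotDesc Kt q sq.w ≫ (QuotSh.repIsoUliftYoneda Kt Y).hom) := by
    rw [h]; infer_instance
  exact IsIso.of_isIso_comp_right _ (QuotSh.repIsoUliftYoneda Kt Y).hom

theorem of_isQuotient [IsEquivalenceRelation s t] [Etale s.left] [Surjective s.left]
    (q : U ⟶ Y) (h : QuotSh.IsQuotient Kt s t q) :
    IsPullback s t q q ∧ Etale q.left ∧ Surjective q.left := by
  obtain ⟨w, hq⟩ := h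
  have := isEquivalenceRelation_map s t
  obtain ⟨⟨e⟩⟩ := (Topos46.isUniversallyEffective_sheaf
    ((G S).map s) ((G S).map t)).nonempty_universallyEffectiveEquivalenceRelation
  obtain ⟨i, hi⟩ := exists_desc_iso s t e.π e.isKernelPair.w e.isCoequalizer
  let iY := QuotSh.repIsoUliftYoneda Kt Y
  have : IsIso (QuotSh.quotDesc Kt q w) := hq
  let d : e.B ≅ (G S).obj Y := i.symm ≪≫ asIso (QuotSh.quotDesc Kt q w) ≪≫ iY
  have hd : e.π ≫ d.hom = (G S).map q := by
    rw [← hi]
    simp only [d, quotMap, Iso.trans_hom, Iso.symm_hom, asIso_hom, Category.assoc,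
      Iso.hom_inv_id_assoc]
    rw [← Category.assoc (QuotSh.quotπ Kt s t),
      show QuotSh.quotπ Kt s t ≫ QuotSh.quotDesc Kt q w = QuotSh.repMap Kt q from
        coequalizer.π_desc _ _, repMap_comp_iso, Iso.inv_hom_id_assoc]
  have sq : IsPullback s t q q := IsPullback.of_map (G S) w
    (IsPullback.of_iso e.isKernelPair (Iso.refl _) (Iso.refl _) (Iso.refl _) d
      (by simp) (by simp) (by simp [hd]) (by simp [hd]))
  have : Epi ((G S).map q) := by
    have : Epi e.π := epi_of_isColimit_cofork e.isCoequalizer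
    rw [← hd]; exact epi_comp _ _
  have : Sheaf.IsLocallySurjective ((G S).map q) := (Sheaf.isLocallySurjective_iff_epi _).2 this
  have hmem := Presheaf.imageSieve_mem (QuotSh.J Kt S) ((G S).map q).hom (U := op Y)
    (show ((G S).obj Y).obj.obj (op Y) from ULift.up (𝟙 Y))
  rw [GrothendieckTopology.mem_over_iff,
    Precoverage.mem_toGrothendieck_iff_of_isStableUnderComposition] at hmem
  obtain ⟨R', hR', hle⟩ := hmem
  obtain ⟨(𝒰 : Y.left.Cover (Scheme.precoverage @Etale)), rfl⟩ :=
    Precoverage.mem_iff_exists_zeroHypercover.1 hR'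
  choose idx v hv using fun y : Y.left => 𝒰.exists_eq y
  choose l hl using fun y : Y.left =>
    (Sieve.overEquiv_iff _ (𝒰.f (idx y))).1 (hle _ _ (Presieve.ofArrows.mk (idx y)))
  have hl' : ∀ y, (l y).down.left ≫ q.left = 𝒰.f (idx y) := fun y => by
    have := congrArg (fun z => (ULift.down z).left) (hl y)
    exact this.trans (Category.comp_id _)
  let W := ∐ fun y : Y.left => 𝒰.X (idx y)
  let c : W ⟶ Y.left := Sigma.desc fun y => 𝒰.f (idx y)
  let L : W ⟶ U.left := Sigma.desc fun y => (l y).down.left
  have hLc : L ≫ q.left = c := Sigma.hom_ext _ _ fun y => by simp [L, c, hl']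
  have : IsZariskiLocalAtSource (@Etale : MorphismProperty Scheme.{u}) :=
    HasRingHomProperty.instIsZariskiLocalAtSource
  have hce : Etale c := IsZariskiLocalAtSource.sigmaDesc fun y => 𝒰.map_prop (idx y)
  have hcs : Surjective c := ⟨fun y => ⟨Sigma.ι (fun y : Y.left => 𝒰.X (idx y)) y (v y), by
    rw [← Scheme.Hom.comp_apply, Sigma.ι_desc]; exact hv y⟩⟩
  have hcf : SpFP87.fppfSurj c := (SpFP87.fppfSurj_iff _).2 ⟨hcs, inferInstance, inferInstance⟩
  have sqL := sq.map (Over.forget S)
  have hk : IsPullback (pullback.fst L s.left) (pullback.snd L s.left ≫ t.left) c q.left := by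
    rw [← hLc]
    exact (IsPullback.of_hasPullback L s.left).paste_vert sqL
  have : MorphismProperty.DescendsAlong (@Etale : MorphismProperty Scheme.{u}) SpFP87.fppfSurj :=
    SpFP87.etale_descendsAlong_fppfSurj
  refine ⟨sq, MorphismProperty.of_isPullback_of_descendsAlong (P := @Etale) hk hcf inferInstance,
    ⟨fun y => ?_⟩⟩
  obtain ⟨z, hz⟩ := hcs.surj y
  exact ⟨L z, by rw [← Scheme.Hom.comp_apply, hLc, hz]⟩

end Groth.Agent.Grpd80.EtaleQuot
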