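import Groth.Agent.Alg80.EtaleWeil
import Mathlib.AlgebraicGeometry.Morphisms.Etale
import Mathlib.AlgebraicGeometry.Morphisms.Finite
import Mathlib.AlgebraicGeometry.Morphisms.Flat
import Mathlib.AlgebraicGeometry.Pullbacks

/-!
Etale schemes of sections over a finite locally free affine scheme.
-/

set_option autoImplicit false
universe u
open CategoryTheory CategoryTheory.Limits AlgebraicGeometry TensorProduct

namespace Groth.Agent.Grpd80

open Alg80.WeilAlg

lemma isPullback_spec_tensor {P U T : Scheme.{u}} [IsAffine P] [IsAffine U] [IsAffine T]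
    {π : P ⟶ U} {h : T ⟶ U} {B B' A : Type u} [CommRing B] [CommRing B'] [CommRing A] [Algebra B B']
    [Algebra B A] (eP : P ≅ Spec (CommRingCat.of B')) (eT : T ≅ Spec (CommRingCat.of A))
    (eU : U ≅ Spec (CommRingCat.of B))
    (hπ : π ≫ eU.hom = eP.hom ≫ Spec.map (CommRingCat.ofHom (algebraMap B B')))
    (hh : h ≫ eU.hom = eT.hom ≫ Spec.map (CommRingCat.ofHom (algebraMap B A))) :
    IsPullback
      (Spec.map (CommRingCat.ofHom (algebraMap B' (B' ⊗[B] A))) ≫ eP.inv)
      (Spec.map (CommRingCat.ofHom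
        (Algebra.TensorProduct.includeRight (R := B) (A := B') (B := A)).toRingHom) ≫ eT.inv)
      π h := by
  have sq := isPullback_SpecMap_of_isPushout _ _ _ _ (CommRingCat.isPushout_tensorProduct B B' A)
  refine sq.of_iso (Iso.refl _) eP.symm eT.symm eU.symm ?_ ?_ ?_ ?_
  · exact (Category.id_comp _).symm
  · exact (Category.id_comp _).symm
  · simp only [Iso.symm_hom]
    rw [Iso.eq_inv_comp, ← Category.assoc, ← hπ, Category.assoc, Iso.hom_inv_id, Category.comp_id]
  · simp only [Iso.symm_hom]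
    rw [Iso.eq_inv_comp, ← Category.assoc, ← hh, Category.assoc, Iso.hom_inv_id, Category.comp_id]

/-- The scheme of sections of an etale `E` over a finite locally free `P` over `U'`. -/
theorem exists_weil_scheme {P U' E : Scheme.{u}} [IsAffine P] [IsAffine U'] [IsAffine E]
    (π₁ : P ⟶ U') [IsFinite π₁] [Flat π₁] [LocallyOfFinitePresentation π₁] (q : E ⟶ P) [Etale q] :
    ∃ (W : Scheme.{u}) (_ : IsAffine W) (π : W ⟶ U') (_ : Etale π) (σ : pullback π₁ π ⟶ E),
      σ ≫ q = pullback.fst π₁ π ∧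
      ∀ (T : Scheme.{u}) [IsAffine T] (h : T ⟶ U') (e : pullback π₁ h ⟶ E),
        e ≫ q = pullback.fst π₁ h → ∃! k : T ⟶ W, ∃ hk : k ≫ π = h,
          pullback.lift (pullback.fst π₁ h) (pullback.snd π₁ h ≫ k)
            (by rw [Category.assoc, hk, pullback.condition]) ≫ σ = e := by
  let B : Type u := Γ(U', ⊤)
  let B' : Type u := Γ(P, ⊤)
  let C : Type u := Γ(E, ⊤)
  obtain ⟨β, hβ⟩ := Spec.map_surjective (P.isoSpec.inv ≫ π₁ ≫ U'.isoSpec.hom)
  obtain ⟨γ, hγ⟩ := Spec.map_surjective (E.isoSpec.inv ≫ q ≫ P.isoSpec.hom)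
  let algB' : Algebra B B' := β.hom.toAlgebra
  let algC : Algebra B' C := γ.hom.toAlgebra
  have hfin : Module.Finite B B' := by
    have h : β.hom.Finite := (IsFinite.SpecMap_iff (f := β)).mp (by rw [hβ]; infer_instance)
    exact h
  have : Algebra.FinitePresentation B B' := by
    have h : β.hom.FinitePresentation :=
      (HasRingHomProperty.Spec_iff (P := @LocallyOfFinitePresentation)).mp (by rw [hβ]; infer_instance)
    exact h
  have : Module.Flat B B' := by
    have h : β.hom.Flat := (Flat.SpecMap_iff (f := β)).mp (by rw [hβ]; infer_instance)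
    exact h
  have : Module.FinitePresentation B B' :=
    Module.FinitePresentation.of_finite_of_finitePresentation B B'
  have : Module.Projective B B' := Module.Flat.projective_of_finitePresentation
  have : Algebra.Etale B' C := by
    have h : γ.hom.Etale := (HasRingHomProperty.Spec_iff (P := @Etale)).mp (by rw [hγ]; infer_instance)
    exact h
  obtain ⟨W, _, _, uX, hWet, hW⟩ := exists_weil_etale (B := B) (B' := B') C
  have hπW : Etale (Spec.map (CommRingCat.ofHom (algebraMap B W))) :=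
    (HasRingHomProperty.Spec_iff (P := @Etale)).mpr (RingHom.etale_algebraMap.mpr hWet)
  let π : Spec (CommRingCat.of W) ⟶ U' :=
    Spec.map (CommRingCat.ofHom (algebraMap B W)) ≫ U'.isoSpec.inv
  have hq : ∀ {X : Scheme.{u}} (c : X ⟶ Spec (CommRingCat.of C)),
      (c ≫ E.isoSpec.inv) ≫ q = c ≫ Spec.map γ ≫ P.isoSpec.inv := fun c => by
    rw [hγ]; simp [B']
  have hP : π₁ ≫ U'.isoSpec.hom = P.isoSpec.hom ≫ Spec.map (CommRingCat.ofHom (algebraMap B B')) := by
    rw [show CommRingCat.ofHom (algebraMap B B') = β from rfl, hβ]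
    simp [B']
  have sqW := isPullback_spec_tensor (π := π₁) (h := π) (B' := B') (A := W) P.isoSpec (Iso.refl _)
    U'.isoSpec hP (by simp [π, B])
  let σ₀ : Spec (CommRingCat.of (B' ⊗[B] W)) ⟶ E :=
    Spec.map (CommRingCat.ofHom uX.toRingHom) ≫ E.isoSpec.inv
  refine ⟨_, inferInstance, π, inferInstance, sqW.isoPullback.inv ≫ σ₀, ?_, ?_⟩
  · rw [Category.assoc, hq, ← Spec.map_comp_assoc,
      show γ ≫ CommRingCat.ofHom uX.toRingHom = CommRingCat.ofHom (algebraMap B' (B' ⊗[B] W)) from
        CommRingCat.hom_ext (RingHom.ext fun r => uX.commutes r)]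
    exact sqW.isoPullback_inv_fst
  intro T _ h e he
  let A : Type u := Γ(T, ⊤)
  obtain ⟨α, hα⟩ := Spec.map_surjective (T.isoSpec.inv ≫ h ≫ U'.isoSpec.hom)
  let algA : Algebra B A := α.hom.toAlgebra
  have sqT := isPullback_spec_tensor (π := π₁) (h := h) (B' := B') (A := A) P.isoSpec T.isoSpec
    U'.isoSpec hP (by
      rw [show CommRingCat.ofHom (algebraMap B A) = α from rfl, hα]
      simp [A, B])
  obtain ⟨ψ₀, hψ₀⟩ := Spec.map_surjective (sqT.isoPullback.hom ≫ e ≫ E.isoSpec.hom)
  have hψγ : γ ≫ ψ₀ = CommRingCat.ofHom (algebraMap B' (B' ⊗[B] A)) := by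
    apply Spec.map_injective
    rw [Spec.map_comp, hψ₀, ← cancel_mono P.isoSpec.inv]
    simp only [Category.assoc]
    rw [← hq (E.isoSpec.hom), Iso.hom_inv_id, Category.id_comp, he]
    exact sqT.isoPullback_hom_fst
  let ψ : C →ₐ[B'] B' ⊗[B] A :=
    { ψ₀.hom with commutes' := fun r => congrArg (fun f => f.hom r) hψγ }
  obtain ⟨φ, hφ, huniq⟩ := hW A ψ
  have key : ∀ (φ' : W →ₐ[B] A) (w : pullback.fst π₁ h ≫ π₁ =
      (pullback.snd π₁ h ≫ T.isoSpec.hom ≫ Spec.map (CommRingCat.ofHom φ'.toRingHom)) ≫ π),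
      pullback.lift (pullback.fst π₁ h)
        (pullback.snd π₁ h ≫ T.isoSpec.hom ≫ Spec.map (CommRingCat.ofHom φ'.toRingHom)) w ≫
        sqW.isoPullback.inv ≫ σ₀ =
      sqT.isoPullback.inv ≫
        Spec.map (CommRingCat.ofHom ((mapId φ').comp uX).toRingHom) ≫ E.isoSpec.inv := by
    intro φ' w
    rw [← cancel_epi sqT.isoPullback.hom, Iso.hom_inv_id_assoc]
    have : sqT.isoPullback.hom ≫ pullback.lift (pullback.fst π₁ h)
        (pullback.snd π₁ h ≫ T.isoSpec.hom ≫ Spec.map (CommRingCat.ofHom φ'.toRingHom)) w =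
        Spec.map (CommRingCat.ofHom (mapId (B' := B') φ').toRingHom) ≫ sqW.isoPullback.hom := by
      apply pullback.hom_ext
      · rw [Category.assoc, pullback.lift_fst, Category.assoc, sqT.isoPullback_hom_fst,
          sqW.isoPullback_hom_fst, ← Spec.map_comp_assoc]
        congr 2
        exact CommRingCat.hom_ext (RingHom.ext fun r => ((mapId φ').commutes r).symm)
      · rw [Category.assoc, pullback.lift_snd, Category.assoc, sqW.isoPullback_hom_snd,
          ← Category.assoc, sqT.isoPullback_hom_snd]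
        simp only [Category.assoc, Iso.inv_hom_id_assoc, Iso.refl_inv, Category.comp_id,
          ← Spec.map_comp]
        congr 1
    rw [reassoc_of% this, Iso.hom_inv_id_assoc, ← Spec.map_comp_assoc]
    rfl
  have hkπ : ∀ φ' : W →ₐ[B] A,
      (T.isoSpec.hom ≫ Spec.map (CommRingCat.ofHom φ'.toRingHom)) ≫ π = h := fun φ' => by
    simp only [π, Category.assoc, ← Spec.map_comp_assoc]
    rw [show CommRingCat.ofHom (algebraMap B W) ≫ CommRingCat.ofHom φ'.toRingHom = α from
      CommRingCat.hom_ext (RingHom.ext fun r => φ'.commutes r), hα]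
    simp [A]
  refine ⟨T.isoSpec.hom ≫ Spec.map (CommRingCat.ofHom φ.toRingHom), ⟨hkπ φ, ?_⟩, ?_⟩
  · rw [key φ, hφ]
    show sqT.isoPullback.inv ≫ Spec.map ψ₀ ≫ E.isoSpec.inv = e
    rw [hψ₀]; simp [C]
  · rintro k ⟨hk, hke⟩
    obtain ⟨φ₀, hφ₀⟩ := Spec.map_surjective (T.isoSpec.inv ≫ k)
    have hcomm : CommRingCat.ofHom (algebraMap B W) ≫ φ₀ = α := by
      apply Spec.map_injective
      rw [Spec.map_comp, hφ₀, hα, ← hk]
      simp [π, B]
    let φ' : W →ₐ[B] A := { φ₀.hom with commutes' := fun r => congrArg (fun f => f.hom r) hcomm }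
    have hkφ : k = T.isoSpec.hom ≫ Spec.map (CommRingCat.ofHom φ'.toRingHom) := by
      rw [show CommRingCat.ofHom φ'.toRingHom = φ₀ from rfl, hφ₀]
      simp [A]
    subst hkφ
    rw [key φ'] at hke
    have h1 : CommRingCat.ofHom ((mapId φ').comp uX).toRingHom = ψ₀ := by
      apply Spec.map_injective
      rw [hψ₀, ← cancel_mono E.isoSpec.inv, ← cancel_epi sqT.isoPullback.inv, hke]
      simp [C]
    rw [huniq φ' (AlgHom.ext fun c => congrArg (fun f => f.hom c) h1)]

end Groth.Agent.Grpd80
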