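import Groth.Agent.Grpd80.Shear

set_option autoImplicit false
universe u
open CategoryTheory CategoryTheory.Limits AlgebraicGeometry

namespace Groth.Agent.Grpd80

variable {S : Scheme.{u}} {G₁ G₂ : Grpd.GroupoidScheme S} (a : Grpd.GroupoidScheme.Hom G₁ G₂)
variable {T : Scheme.{u}}

lemma mul_map (α β : T ⟶ G₁.R) (h : α ≫ G₁.s = β ≫ G₁.t) :
    mul G₁ α β h ≫ a.fR = mul G₂ (α ≫ a.fR) (β ≫ a.fR)
      (by rw [Category.assoc, Category.assoc, a.comm_s, a.comm_t, reassoc_of% h]) :=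
  a.comm_c α β h

lemma e_map : G₁.e ≫ a.fR = a.fU ≫ G₂.e := by
  have h1 : G₁.e ≫ G₁.s = G₁.e ≫ G₁.t := by simp
  have e1 : mul G₁ G₁.e G₁.e h1 = G₁.e := mul_unit_right _ (by simp)
  have e2 := mul_map a G₁.e G₁.e h1
  rw [e1] at e2
  refine (eq_unit_of_mul_self _ e2.symm).trans ?_
  rw [Category.assoc, reassoc_of% a.comm_t, e_t'_assoc]

lemma eq_of_mul_right {G : Grpd.GroupoidScheme S} {α α' γ : T ⟶ G.R} (h : α ≫ G.s = γ ≫ G.t)
    (h' : α' ≫ G.s = γ ≫ G.t) (e : mul G α γ h = mul G α' γ h') : α = α' := by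
  rw [← mul_inv_cancel α γ h, ← mul_inv_cancel α' γ h']
  exact mul_congr _ _ e rfl

end Groth.Agent.Grpd80
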