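import Groth.Prelude.Def_Grpd
import Groth.Prelude.Def_Mor2
import Groth.Prelude.Def_Fitting
import Groth.Agent.Fit14.Local
import Groth.Agent.Fit14.Props
import Groth.Agent.Div89.Stalk
import Groth.Agent.Div89.Comap
import Groth.Agent.Div89.Cartier
import Groth.Agent.Cyc90.FlatFinFibre
import Groth.Agent.Grpd80.Shear
import Mathlib.RingTheory.LocalProperties.FinitePresentation
import Mathlib.RingTheory.Flat.Localization

/-!
Fitting ideals of a finite morphism, computed on affine opens, and the stratification of a finite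
groupoid by them.
-/

set_option autoImplicit false
set_option linter.style.haveILetI false
set_option backward.isDefEq.respectTransparency.types false

noncomputable section

universe u

open CategoryTheory CategoryTheory.Limits AlgebraicGeometry TensorProduct

namespace Groth.Agent.Grpd80.FitStrat

variable {X Y : Scheme.{u}}

/-- The Fitting ideal of the sections over the preimage of `V` as a module over those over `V`. -/
def fitAt (f : X ⟶ Y) (V : Y.Opens) (r : ℕ) : Ideal Γ(Y, V) :=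
  letI := (f.app V).hom.toAlgebra
  Fitt.ideal Γ(Y, V) Γ(X, f ⁻¹ᵁ V) r

theorem fitAt_bc {P Y' : Scheme.{u}} {g' : P ⟶ X} {f' : P ⟶ Y'} {f : X ⟶ Y} {g : Y' ⟶ Y}
    (h : IsPullback g' f' f g) [IsFinite f] {V : Y.Opens} (hV : IsAffineOpen V) {V' : Y'.Opens}
    (hV' : IsAffineOpen V') (e : V' ≤ g ⁻¹ᵁ V) (r : ℕ) :
    fitAt f' V' r = (fitAt f V r).map (g.appLE V V' e).hom := by
  have hle : f' ⁻¹ᵁ V' ≤ g' ⁻¹ᵁ (f ⁻¹ᵁ V) := by
    rw [← Scheme.Hom.comp_preimage, h.w, Scheme.Hom.comp_preimage]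
    exact f'.preimage_mono e
  have hUY : f' ⁻¹ᵁ V' = g' ⁻¹ᵁ (f ⁻¹ᵁ V) ⊓ f' ⁻¹ᵁ V' := (inf_eq_right.2 hle).symm
  have hpo := (isIso_pushoutSection_iff h e le_rfl hUY).1
    (isIso_pushoutSection_of_isAffineOpen h e le_rfl hUY hV hV' (hV.preimage f))
  simp only [← Scheme.Hom.app_eq_appLE] at hpo
  letI a1 : Algebra Γ(Y, V) Γ(X, f ⁻¹ᵁ V) := (f.app V).hom.toAlgebra
  letI a2 : Algebra Γ(Y, V) Γ(Y', V') := (g.appLE V V' e).hom.toAlgebra
  letI a3 : Algebra Γ(X, f ⁻¹ᵁ V) Γ(P, f' ⁻¹ᵁ V') := (g'.appLE _ _ hle).hom.toAlgebra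
  letI a4 : Algebra Γ(Y', V') Γ(P, f' ⁻¹ᵁ V') := (f'.app V').hom.toAlgebra
  letI a5 : Algebra Γ(Y, V) Γ(P, f' ⁻¹ᵁ V') :=
    ((g'.appLE _ _ hle).hom.comp (f.app V).hom).toAlgebra
  haveI : IsScalarTower Γ(Y, V) Γ(X, f ⁻¹ᵁ V) Γ(P, f' ⁻¹ᵁ V') :=
    IsScalarTower.of_algebraMap_eq fun _ => rfl
  haveI : IsScalarTower Γ(Y, V) Γ(Y', V') Γ(P, f' ⁻¹ᵁ V') :=
    IsScalarTower.of_algebraMap_eq' (congrArg CommRingCat.Hom.hom hpo.w)
  haveI hp : Algebra.IsPushout Γ(Y, V) Γ(X, f ⁻¹ᵁ V) Γ(Y', V') Γ(P, f' ⁻¹ᵁ V') :=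
    CommRingCat.isPushout_iff_isPushout.1 hpo
  haveI : Module.Finite Γ(Y, V) Γ(X, f ⁻¹ᵁ V) := IsFinite.finite_app f V hV
  change Fitt.ideal Γ(Y', V') Γ(P, f' ⁻¹ᵁ V') r = (Fitt.ideal Γ(Y, V) Γ(X, f ⁻¹ᵁ V) r).map _
  rw [← Fit14.ideal_congr hp.symm.out.equiv r, Fit14.ideal_baseChange Γ(Y', V') r]
  rfl

/-- The Fitting ideal sheaf of a finite morphism. -/
def fitI (f : X ⟶ Y) [IsFinite f] (r : ℕ) : Y.IdealSheafData where
  ideal U := fitAt f U.1 r
  map_ideal_basicOpen U a := by
    have hsq : IsPullback (𝟙 X) f f (𝟙 Y) := IsPullback.of_horiz_isIso ⟨by simp⟩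
    have hle : (Y.affineBasicOpen a).1 ≤ (𝟙 Y) ⁻¹ᵁ U.1 := Y.basicOpen_le a
    rw [fitAt_bc hsq U.2 (Y.affineBasicOpen a).2 hle r]
    congr 2

lemma fitI_ideal (f : X ⟶ Y) [IsFinite f] (r : ℕ) (U : Y.affineOpens) :
    (fitI f r).ideal U = fitAt f U.1 r := rfl

theorem fitI_comap {P Y' : Scheme.{u}} {g' : P ⟶ X} {f' : P ⟶ Y'} {f : X ⟶ Y} {g : Y' ⟶ Y}
    (h : IsPullback g' f' f g) [IsFinite f] [IsFinite f'] (r : ℕ) :
    (fitI f r).comap g = fitI f' r := by
  refine Div89.ext_stalkIdeal fun y => ?_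
  obtain ⟨U, hU⟩ := Div89.exists_affine_mem (g y)
  obtain ⟨V, hV, e⟩ := Div89.exists_affine_le (X := Y') (U := g ⁻¹ᵁ U.1) (x := y) hU
  rw [Div89.stalkIdeal_comap, Div89.stalkIdeal_eq _ U (g y) hU, Div89.stalkIdeal_eq _ V y hV,
    fitI_ideal, fitI_ideal, fitAt_bc h U.2 V.2 e r, Ideal.map_map, Ideal.map_map,
    ← CommRingCat.hom_comp, ← CommRingCat.hom_comp, Scheme.Hom.germ_stalkMap, Scheme.Hom.appLE,
    Category.assoc, TopCat.Presheaf.germ_res]

theorem fitI_mono (f : X ⟶ Y) [IsFinite f] : Monotone (fitI f) := by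
  intro k l hkl U
  letI := (f.app U.1).hom.toAlgebra
  haveI : Module.Finite Γ(Y, U.1) Γ(X, f ⁻¹ᵁ U.1) := IsFinite.finite_app f U.1 U.2
  exact Fit14.ideal_mono hkl

theorem fitI_zero_of_section (f : X ⟶ Y) [IsFinite f] (σ : Y ⟶ X) (h : σ ≫ f = 𝟙 Y) :
    fitI f 0 = ⊥ := by
  refine Scheme.IdealSheafData.ext (funext fun U => eq_bot_iff.2 fun a ha => ?_)
  letI := (f.app U.1).hom.toAlgebra
  haveI : Module.Finite Γ(Y, U.1) Γ(X, f ⁻¹ᵁ U.1) := IsFinite.finite_app f U.1 U.2
  have h1 := Fit14.ideal_zero_le_annihilator ha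
  rw [Module.mem_annihilator] at h1
  have h2 : (f.app U.1).hom a = 0 := by
    have := h1 (1 : Γ(X, f ⁻¹ᵁ U.1))
    rw [Algebra.smul_def, mul_one] at this
    exact this
  have e : U.1 ≤ σ ⁻¹ᵁ (f ⁻¹ᵁ U.1) := by
    rw [← Scheme.Hom.comp_preimage, h]; rfl
  have key : ∀ (g : Y ⟶ Y), g = 𝟙 Y → ∀ (e' : U.1 ≤ g ⁻¹ᵁ U.1),
      g.appLE U.1 U.1 e' = 𝟙 _ := by
    rintro g rfl e'
    simp only [Scheme.Hom.appLE, Scheme.Hom.id_app]
    erw [Category.id_comp]
    exact Y.presheaf.map_id _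
  have h3 : (f.app U.1 ≫ σ.appLE _ _ e).hom a = a := by
    rw [Scheme.Hom.app_eq_appLE, Scheme.Hom.appLE_comp_appLE, key _ h]
    rfl
  rw [CommRingCat.comp_apply, h2, map_zero] at h3
  simpa using h3.symm

theorem fitI_exists_notMem (f : X ⟶ Y) [IsFinite f] (y : Y) :
    ∃ r, y ∉ (fitI f r).support := by
  obtain ⟨U, hU⟩ := Div89.exists_affine_mem y
  letI := (f.app U.1).hom.toAlgebra
  haveI : Module.Finite Γ(Y, U.1) Γ(X, f ⁻¹ᵁ U.1) := IsFinite.finite_app f U.1 U.2
  obtain ⟨n, x, hx⟩ := Module.Finite.exists_fin (R := Γ(Y, U.1)) (M := Γ(X, f ⁻¹ᵁ U.1))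
  refine ⟨n, ?_⟩
  rw [Div89.notMem_support_iff_stalkIdeal, Div89.stalkIdeal_eq _ U y hU, fitI_ideal]
  have : fitAt f U.1 n = ⊤ := Fit14.ideal_eq_top_of_gens x hx le_rfl
  rw [this, Ideal.map_top]

theorem free_span_of_ideal {A M : Type u} [CommRing A] [AddCommGroup M] [Module A M]
    [Module.Finite A M] {n : ℕ} (h1 : ∀ k, k < n → Fitt.ideal A M k = ⊥)
    (h2 : ∀ k, n ≤ k → Fitt.ideal A M k = ⊤) :
    Module.FinitePresentation A M ∧ Module.Flat A M ∧
      ∀ p : PrimeSpectrum A, Module.rankAtStalk M p = n := by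
  have hloc := (Fit14.locallyFree_iff (R := A) (M := M) n).2 ⟨h1, h2⟩
  let s : Set A := {a | Module.Free (Localization.Away a) (LocalizedModule (Submonoid.powers a) M)}
  have hs : Ideal.span s = ⊤ := by
    by_contra hne
    obtain ⟨m, hm, hle⟩ := Ideal.exists_le_maximal _ hne
    obtain ⟨a, ha, hfree, -⟩ := hloc m
    exact ha (hle (Ideal.subset_span (show a ∈ s from hfree)))
  have hfin : ∀ g : s, Module.Finite (Localization.Away g.1)
      (LocalizedModule (Submonoid.powers g.1) M) := fun g =>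
    Module.Finite.of_isLocalizedModule (Submonoid.powers g.1)
      (LocalizedModule.mkLinearMap (Submonoid.powers g.1) M)
  have hflat : Module.Flat A M := by
    refine Module.flat_of_localized_span A M s hs fun g => ?_
    haveI : Module.Free (Localization.Away g.1) (LocalizedModule (Submonoid.powers g.1) M) := g.2
    exact Module.Flat.trans A (Localization.Away g.1) (LocalizedModule (Submonoid.powers g.1) M)
  have hfp : Module.FinitePresentation A M := by
    refine Module.FinitePresentation.of_localizationSpan s hs fun g => ?_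
    haveI : Module.Free (Localization.Away g.1) (LocalizedModule (Submonoid.powers g.1) M) := g.2
    haveI := hfin g
    exact Module.finitePresentation_of_projective _ _
  refine ⟨hfp, hflat, fun p => ?_⟩
  rw [Module.rankAtStalk_eq]
  refine le_antisymm ((Fit14.not_le_iff_finrank_le p.asIdeal n).1 ?_) ?_
  · rw [h2 n le_rfl]
    exact fun h => p.isPrime.ne_top (top_le_iff.1 h)
  · by_contra hlt
    push Not at hlt
    refine (Fit14.not_le_iff_finrank_le p.asIdeal (n - 1)).2 (Nat.le_sub_one_of_lt hlt) ?_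
    rw [h1 (n - 1) (by omega)]
    exact bot_le

theorem isFinLocFreeOfDeg (f : X ⟶ Y) [IsFinite f] {n : ℕ}
    (h1 : ∀ k, k < n → fitI f k = ⊥) (h2 : ∀ k, n ≤ k → fitI f k = ⊤) :
    Mor2.IsFinLocFreeOfDeg n f := by
  have hloc : ∀ U : Y.Opens, IsAffineOpen U →
      (f.app U).hom.Flat ∧ (f.app U).hom.FinitePresentation ∧
        ∀ p, (f.app U).hom.finrank p = n := by
    intro U hU
    letI := (f.app U).hom.toAlgebra
    haveI : Module.Finite Γ(Y, U) Γ(X, f ⁻¹ᵁ U) := IsFinite.finite_app f U hU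
    obtain ⟨hfp, hflat, hrk⟩ := free_span_of_ideal (A := Γ(Y, U)) (M := Γ(X, f ⁻¹ᵁ U)) (n := n)
      (fun k hk => congrArg (fun I : Y.IdealSheafData => I.ideal ⟨U, hU⟩) (h1 k hk))
      (fun k hk => congrArg (fun I : Y.IdealSheafData => I.ideal ⟨U, hU⟩) (h2 k hk))
    exact ⟨hflat, RingHom.finitePresentation_algebraMap.2
      (Algebra.FinitePresentation.of_finitePresentation _ _), hrk⟩
  haveI : Flat f := by
    rw [HasRingHomProperty.eq_affineLocally @Flat]
    exact ((targetAffineLocally_affineAnd_iff_affineLocally RingHom.Flat.propertyIsLocal f).1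
      ((targetAffineLocally_affineAnd_iff' RingHom.Flat.propertyIsLocal.respectsIso f).2
        ⟨inferInstance, fun U hU => (hloc U hU).1⟩)).2
  have hlfp : LocallyOfFinitePresentation f := by
    rw [HasRingHomProperty.eq_affineLocally @LocallyOfFinitePresentation]
    exact ((targetAffineLocally_affineAnd_iff_affineLocally RingHom.finitePresentation_isLocal f).1
      ((targetAffineLocally_affineAnd_iff' RingHom.finitePresentation_isLocal.respectsIso f).2
        ⟨inferInstance, fun U hU => (hloc U hU).2.1⟩)).2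
  refine ⟨⟨inferInstance, inferInstance, hlfp⟩, fun y => ?_⟩
  obtain ⟨U, hU⟩ := Div89.exists_affine_mem y
  rw [Cyc90.finrank_eq_rankAtStalk f U.2 (U.2.preimage f) hU]
  exact (hloc U.1 U.2).2.2 _

section Groupoid

variable {S : Scheme.{u}} (G : Grpd.GroupoidScheme S)

/-- `(α, β) ↦ (α ∘ β, β)` from composable pairs to pairs with the same source. -/
def srcIso : pullback G.s G.t ≅ pullback G.s G.s where
  hom := pullback.lift G.c (pullback.snd _ _) (by
    have h := G.comp_s (pullback.fst G.s G.t) (pullback.snd G.s G.t) pullback.condition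
    rwa [show pullback.lift (pullback.fst G.s G.t) (pullback.snd G.s G.t) pullback.condition =
      𝟙 (pullback G.s G.t) from pullback.hom_ext (by simp) (by simp), Category.id_comp] at h)
  inv := pullback.lift
    (mul G (pullback.fst _ _) (pullback.snd _ _ ≫ G.i) (by simp [pullback.condition]))
    (pullback.snd _ _) (by simp)
  hom_inv_id := by
    have hid : pullback.lift (pullback.fst G.s G.t) (pullback.snd G.s G.t) pullback.condition =
        𝟙 (pullback G.s G.t) := pullback.hom_ext (by simp) (by simp)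
    have hc : G.c = mul G (pullback.fst G.s G.t) (pullback.snd G.s G.t) pullback.condition := by
      rw [mul, hid, Category.id_comp]
    apply pullback.hom_ext
    · simp only [Category.assoc, pullback.lift_fst, Category.id_comp, comp_mul]
      refine Eq.trans ?_ (mul_inv_cancel _ _ pullback.condition)
      exact mul_congr _ _ hc (pullback.lift_snd_assoc ..)
    · simp only [Category.assoc, pullback.lift_snd, Category.id_comp]
  inv_hom_id := by
    apply pullback.hom_ext
    · rw [Category.assoc, pullback.lift_fst, Category.id_comp]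
      exact inv_mul_cancel_right _ _ (by simp [pullback.condition])
    · simp only [Category.assoc, pullback.lift_snd, Category.id_comp]

theorem fitI_invariant [IsFinite G.s] [IsFinite G.t] (r : ℕ) :
    (fitI G.s r).comap G.s = (fitI G.s r).comap G.t := by
  have hP : IsPullback (pullback.fst G.s G.t) (pullback.snd G.s G.t) G.s G.t :=
    IsPullback.of_hasPullback _ _
  have hQ : IsPullback (pullback.fst G.s G.s) (pullback.snd G.s G.s) G.s G.s :=
    IsPullback.of_hasPullback _ _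
  haveI : IsFinite (pullback.snd G.s G.t) := inferInstance
  have hPQ : IsPullback (srcIso G).hom (pullback.snd G.s G.t) (pullback.snd G.s G.s) (𝟙 G.R) :=
    IsPullback.of_horiz_isIso ⟨(pullback.lift_snd ..).trans (Category.comp_id _).symm⟩
  rw [fitI_comap hP, fitI_comap hQ, ← fitI_comap hPQ, Scheme.IdealSheafData.comap_id]

/-- An isomorphism of pullbacks of a closed subscheme with the same inverse image. -/
def isoOfComapEq {R U : Scheme.{u}} (a b : R ⟶ U) (I : U.IdealSheafData)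
    (h : I.comap a = I.comap b) : pullback a I.subschemeι ≅ pullback b I.subschemeι :=
  (I.comapIso a).symm ≪≫ eqToIso (congrArg Scheme.IdealSheafData.subscheme h) ≪≫ I.comapIso b

@[reassoc]
lemma isoOfComapEq_fst {R U : Scheme.{u}} (a b : R ⟶ U) (I : U.IdealSheafData)
    (h : I.comap a = I.comap b) :
    (isoOfComapEq a b I h).hom ≫ pullback.fst b I.subschemeι = pullback.fst a I.subschemeι := by
  have key : ∀ (J : R.IdealSheafData) (hJ : I.comap a = J),
      eqToHom (congrArg Scheme.IdealSheafData.subscheme hJ) ≫ J.subschemeι =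
        (I.comap a).subschemeι := by rintro J rfl; simp
  simp only [isoOfComapEq, Iso.trans_hom, Iso.symm_hom, eqToIso.hom, Category.assoc,
    Scheme.IdealSheafData.comapIso_hom_fst, key _ h,
    Scheme.IdealSheafData.comapIso_inv_subschemeι]

theorem stratification [IsFinite G.s] [IsFinite G.t] :
    ∃ Z : ℕ → G.U.IdealSheafData, Z 0 = ⊥ ∧ Monotone Z ∧
      (⋂ r, ((Z r).support : Set G.U)) = ∅ ∧
      (∀ r, ∃ φ : pullback G.s (Z r).subschemeι ≅ pullback G.t (Z r).subschemeι,
        φ.hom ≫ pullback.fst G.t (Z r).subschemeι = pullback.fst G.s (Z r).subschemeι) ∧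
      ∀ r, Mor2.IsFinLocFreeOfDeg (r + 1) (pullback.snd G.s
        (((Z r).subschemeι ⁻¹ᵁ (Z (r + 1)).support.compl).ι ≫ (Z r).subschemeι)) := by
  refine ⟨fitI G.s, fitI_zero_of_section G.s G.e G.e_s, fitI_mono G.s, ?_, fun r =>
    ⟨isoOfComapEq _ _ _ (fitI_invariant G r), isoOfComapEq_fst _ _ _ _⟩, fun r => ?_⟩
  · refine Set.eq_empty_of_forall_notMem fun y hy => ?_
    obtain ⟨r, hr⟩ := fitI_exists_notMem G.s y
    exact hr (Set.mem_iInter.1 hy r)
  · let ι := (fitI G.s r).subschemeι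
    let W := ι ⁻¹ᵁ (fitI G.s (r + 1)).support.compl
    have hsq := IsPullback.of_hasPullback G.s (W.ι ≫ ι)
    haveI : IsFinite (pullback.snd G.s (W.ι ≫ ι)) := inferInstance
    refine isFinLocFreeOfDeg _ (fun k hk => ?_) (fun k hk => ?_)
    · rw [← fitI_comap hsq, Scheme.IdealSheafData.comap_comp, eq_bot_iff]
      have h0 : (fitI G.s k).comap ι ≤ ⊥ := by
        rw [← Scheme.IdealSheafData.le_map_iff_comap_le, Scheme.IdealSheafData.map_bot,
          Scheme.IdealSheafData.ker_subschemeι]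
        exact fitI_mono G.s (Nat.lt_succ_iff.1 hk)
      rw [le_bot_iff] at h0
      rw [h0, Scheme.IdealSheafData.comap_bot]
    · rw [← fitI_comap hsq, ← Scheme.IdealSheafData.support_eq_bot_iff]
      refine eq_bot_iff.2 fun x hx => ?_
      rw [Scheme.IdealSheafData.support_comap] at hx
      have hx2 : (W.ι ≫ ι) x ∈ (fitI G.s (r + 1)).support :=
        Scheme.IdealSheafData.support_antitone (fitI_mono G.s hk) hx
      exact (x.2 hx2).elim

end Groupoid

end Groth.Agent.Grpd80.FitStrat
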