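import Groth.Agent.Grpd80.Frame
import Mathlib.LinearAlgebra.Matrix.Nondegenerate
import Mathlib.LinearAlgebra.Matrix.ToLinearEquiv
import Mathlib.RingTheory.Ideal.GoingUp

set_option autoImplicit false
universe u
open Matrix

namespace Groth.Agent.Grpd80

/-- For a finite flat finitely presented ring map, the primes below some point where `w` vanishes
form the zero set of a single element. -/
theorem exists_norm_element {X Y : Type u} [CommRing X] [CommRing Y] (f : X →+* Y)
    (h₁ : f.Finite) (h₂ : f.Flat) (h₃ : f.FinitePresentation) (w : Y) :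
    ∃ m : X, ∀ p : Ideal X, p.IsPrime →
      (m ∈ p ↔ ∃ Q : Ideal Y, Q.IsPrime ∧ Q.comap f = p ∧ w ∈ Q) := by
  classical
  obtain ⟨n, x, l, hl, hf⟩ := exists_frame f h₁ h₂ h₃
  let N : Y →+ Matrix (Fin n) (Fin n) X :=
    AddMonoidHom.mk' (fun b => Matrix.of fun i j => l i (b * x j))
      (fun a b => by ext i j; simp [add_mul])
  have hN : ∀ a b, N a * N b = N (a * b) := by
    intro a b
    ext i j
    simp only [N, AddMonoidHom.mk'_apply, Matrix.mul_apply, Matrix.of_apply]
    conv_rhs => rw [mul_assoc, ← hf (b * x j), Finset.mul_sum, map_sum]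
    exact Finset.sum_congr rfl fun k _ => by rw [mul_left_comm, hl, mul_comm]
  have hNf : ∀ a b, N (f a * b) = a • N b := by
    intro a b; ext i j; simp [N, mul_assoc, hl]
  let m : Y → X := fun w => det (1 + N (w - 1))
  have hm : ∀ v w, m (v * w) = m v * m w := by
    intro v w
    simp only [m, ← Matrix.det_mul]
    congr 1
    simp only [add_mul, mul_add, mul_one, one_mul, hN]
    rw [add_assoc, ← map_add, ← map_add]
    congr 2
    ring
  refine ⟨m w, fun p hp => ⟨fun hmem => ?_, ?_⟩⟩
  · have hI : (Ideal.span {w}).comap f ≤ p := by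
      intro a ha
      by_contra hap
      obtain ⟨v, hv⟩ := Ideal.mem_span_singleton'.mp (Ideal.mem_comap.mp ha)
      have h1 : m w * m v = m (f a) := by rw [← hm, mul_comm w, hv]
      let χ : X →+* p.ResidueField := algebraMap X p.ResidueField
      have h0 : χ (m (f a)) = 0 := by
        rw [← h1, map_mul, Ideal.algebraMap_residueField_eq_zero.mpr hmem, zero_mul]
      set e := (N 1).map χ
      have he : e * e = e := by rw [← Matrix.map_mul, hN, one_mul]
      have hfa : N (f a - 1) = (a - 1) • N 1 := by
        rw [map_sub, ← mul_one (f a), hNf, sub_smul, one_smul]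
      rw [show m (f a) = det (1 + (a - 1) • N 1) by simp only [m, hfa], RingHom.map_det,
        RingHom.mapMatrix_apply] at h0
      have hχa : χ a ≠ 0 := fun h => hap (Ideal.algebraMap_residueField_eq_zero.mp h)
      have hmap : (1 + (a - 1) • N 1).map χ = 1 + (χ a - 1) • e := by
        ext i j; simp [e, Matrix.one_apply, apply_ite χ]
      rw [hmap] at h0
      have hprod : (1 + (χ a - 1) • e) * (1 + ((χ a)⁻¹ - 1) • e) = 1 := by
        simp only [mul_add, add_mul, mul_one, one_mul, Matrix.smul_mul, Matrix.mul_smul, he,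
          smul_smul, add_assoc, ← add_smul]
        rw [show ((χ a)⁻¹ - 1) * (χ a - 1) = 1 - χ a - (χ a)⁻¹ + 1 by field_simp; ring]
        ring_nf
        simp
      have := congr(det $hprod)
      rw [det_mul, h0, zero_mul, det_one] at this
      exact zero_ne_one this
    algebraize [f]
    have : Algebra.IsIntegral X Y := Algebra.IsIntegral.of_finite X Y
    obtain ⟨Q, hQw, hQ, hQp⟩ := Ideal.exists_ideal_over_prime_of_isIntegral p (Ideal.span {w}) hI
    exact ⟨Q, hQ, hQp, hQw (Ideal.mem_span_singleton_self w)⟩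
  · rintro ⟨Q, hQ, rfl, hwQ⟩
    refine Ideal.mem_comap.mpr (Ideal.Quotient.eq_zero_iff_mem.mp ?_)
    change ((Ideal.Quotient.mk Q).comp f) _ = 0
    rw [RingHom.map_det, RingHom.mapMatrix_apply]
    refine Matrix.exists_vecMul_eq_zero_iff.mp ⟨fun k => Ideal.Quotient.mk Q (x k), ?_, ?_⟩
    · intro h
      have h1 := congr(Ideal.Quotient.mk Q $(hf 1))
      simp [map_sum, show ∀ k, Ideal.Quotient.mk Q (x k) = 0 from fun k => congrFun h k] at h1
    · funext j
      simp only [Matrix.vecMul, dotProduct, Matrix.map_apply, Matrix.add_apply, RingHom.comp_apply,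
        map_add, mul_add, Finset.sum_add_distrib, Pi.zero_apply]
      rw [show ∑ k, Ideal.Quotient.mk Q (x k) * Ideal.Quotient.mk Q (f (N (w - 1) k j)) =
        Ideal.Quotient.mk Q ((w - 1) * x j) by
          rw [← hf ((w - 1) * x j), map_sum]
          exact Finset.sum_congr rfl fun k _ => by rw [map_mul]; exact mul_comm _ _]
      simp [Matrix.one_apply, apply_ite f, apply_ite (Ideal.Quotient.mk Q),
        Ideal.Quotient.eq_zero_iff_mem.mpr hwQ]

end Groth.Agent.Grpd80
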