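import Groth.Agent.Grpd80.Restr
import Groth.Agent.Grpd80.Norm
import Mathlib.AlgebraicGeometry.Morphisms.QuasiFinite
import Mathlib.RingTheory.Spectrum.Prime.Topology

set_option autoImplicit false
universe u
open CategoryTheory CategoryTheory.Limits AlgebraicGeometry

namespace Groth.Agent.Grpd80

lemma fromSpec_mem_basicOpen {X : Scheme.{u}} {V : X.Opens} (hV : IsAffineOpen V) (f : Γ(X, V))
    (p : PrimeSpectrum Γ(X, V)) : hV.fromSpec.base p ∈ X.basicOpen f ↔ f ∉ p.asIdeal := by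
  change p ∈ hV.fromSpec ⁻¹ᵁ X.basicOpen f ↔ _
  rw [hV.fromSpec_preimage_basicOpen]
  exact Iff.rfl

lemma exists_fromSpec_eq {X : Scheme.{u}} {V : X.Opens} (hV : IsAffineOpen V) {x : X} (hx : x ∈ V) :
    ∃ p : PrimeSpectrum Γ(X, V), hV.fromSpec.base p = x :=
  (hV.range_fromSpec.symm ▸ hx : x ∈ Set.range hV.fromSpec.base)

/-- A finite set of points in an open subset of an affine open lies in a basic open inside it. -/
lemma exists_basicOpen_of_finite {X : Scheme.{u}} {V : X.Opens} (hV : IsAffineOpen V) {O : X.Opens}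
    {T : Set X} (hT : T.Finite) (hTV : T ⊆ (V : Set X)) (hTO : T ⊆ (O : Set X)) :
    ∃ f : Γ(X, V), X.basicOpen f ≤ O ∧ T ⊆ (X.basicOpen f : Set X) := by
  classical
  obtain ⟨I, hI⟩ := (PrimeSpectrum.isClosed_iff_zeroLocus_ideal
    ((hV.fromSpec.base ⁻¹' (O : Set X))ᶜ : Set (PrimeSpectrum Γ(X, V)))).mp
    (O.isOpen.preimage hV.fromSpec.continuous).isClosed_compl
  have hfin : ({p : PrimeSpectrum Γ(X, V) | hV.fromSpec.base p ∈ T}).Finite :=
    hT.preimage hV.fromSpec.isOpenEmbedding.injective.injOn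
  let F : Finset (Ideal Γ(X, V)) := hfin.toFinset.image PrimeSpectrum.asIdeal
  have hF : ∀ p ∈ F, ∃ q : PrimeSpectrum Γ(X, V), hV.fromSpec.base q ∈ T ∧ q.asIdeal = p :=
    fun p hp => by simpa [F] using hp
  have hnot : ¬ ((I : Set Γ(X, V)) ⊆ ⋃ p ∈ (↑F : Set (Ideal Γ(X, V))), (p : Set Γ(X, V))) := by
    rw [Ideal.subset_union_prime (f := fun p : Ideal Γ(X, V) => p) ⊥ ⊥
      fun p hp _ _ => by obtain ⟨q, -, rfl⟩ := hF p hp; exact q.isPrime]
    rintro ⟨p, hp, hle⟩
    obtain ⟨q, hq, rfl⟩ := hF p hp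
    exact ((Set.ext_iff.mp hI q).mpr hle) (hTO hq)
  obtain ⟨f, hfI, hf⟩ := Set.not_subset.mp hnot
  refine ⟨f, ?_, ?_⟩
  · intro x hx
    obtain ⟨p, rfl⟩ := exists_fromSpec_eq hV (X.basicOpen_le f hx)
    by_contra hpO
    exact (fromSpec_mem_basicOpen hV f p).mp hx ((Set.ext_iff.mp hI p).mp hpO hfI)
  · intro x hx
    obtain ⟨p, rfl⟩ := exists_fromSpec_eq hV (hTV hx)
    refine (fromSpec_mem_basicOpen hV f p).mpr fun hfp => hf (Set.mem_biUnion ?_ hfp)
    simp only [F, Finset.coe_image]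
    exact Set.mem_image_of_mem _ (hfin.mem_toFinset.mpr hx)

variable {S : Scheme.{u}} {G : Grpd.GroupoidScheme S}
variable [IsFinite G.s] [Flat G.s] [LocallyOfFinitePresentation G.s]

omit [Flat G.s] [LocallyOfFinitePresentation G.s] in
lemma finite_orbit (u : G.U) : (G.t.base '' (G.s.base ⁻¹' {u})).Finite :=
  (G.s.finite_preimage_singleton u).image _

/-- Finitely many points whose classes lie in an affine open have a common invariant affine
neighbourhood, inside any given invariant open containing them. -/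
theorem exists_inv_basicOpen_finite {T : Set G.U} (hT : T.Finite) {V : G.U.Opens}
    (hV : IsAffineOpen V) (huV : ∀ r : G.R, G.s r ∈ T → G.t r ∈ V) {O : G.U.Opens} (hO : IsInv G O)
    (huO : T ⊆ (O : Set G.U)) :
    ∃ m₀ : Γ(G.U, V), T ⊆ (G.U.basicOpen m₀ : Set G.U) ∧ G.U.basicOpen m₀ ≤ O ∧
      IsInv G (G.U.basicOpen m₀) := by
  set Z : Set G.U := G.t.base '' (G.s.base ⁻¹' (V : Set G.U)ᶜ)
  have hZ : IsClosed Z :=
    G.t.isClosedMap _ (V.isOpen.isClosed_compl.preimage G.s.continuous)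
  let W₁ : G.U.Opens := O ⊓ ⟨Zᶜ, hZ.isOpen_compl⟩
  have hW₁ : IsInv G W₁ := by
    refine hO.inf ?_
    apply TopologicalSpace.Opens.ext
    have := saturation_invariant G (V : Set G.U)ᶜ
    simpa [Set.preimage_compl, Z] using congrArg compl this
  have hW₁V : W₁ ≤ V := fun x hx => by
    by_contra hxV
    exact hx.2 (subset_saturation G _ hxV)
  have huW₁ : ∀ x ∈ T, x ∈ W₁ := by
    intro x hx
    refine ⟨huO hx, ?_⟩
    rintro ⟨r, hr, hru⟩
    obtain ⟨r', h1, h2⟩ := exists_inv G r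
    exact hr (h2 ▸ huV r' (show G.s r' ∈ T by rw [h1, hru]; exact hx))
  obtain ⟨f, hfW₁, hforb⟩ := exists_basicOpen_of_finite hV (O := W₁) (T := ⇑G.t '' (⇑G.s ⁻¹' T))
    ((hT.preimage' fun x _ => G.s.finite_preimage_singleton x).image _)
    (by rintro _ ⟨r, hr, rfl⟩; exact huV r hr)
    (by rintro _ ⟨r, hr, rfl⟩; exact (hW₁.mem_iff r).mp (huW₁ _ hr))
  set D := G.U.basicOpen f
  have hD : IsAffineOpen D := hV.basicOpen f
  have hsD : IsAffineOpen (G.s ⁻¹ᵁ D) := hD.preimage G.s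
  have e : G.s ⁻¹ᵁ D ≤ G.t ⁻¹ᵁ V := fun r hr => hW₁V ((hW₁.mem_iff r).mp (hfW₁ hr))
  let w : Γ(G.R, G.s ⁻¹ᵁ D) := G.t.appLE V (G.s ⁻¹ᵁ D) e f
  have hw : G.R.basicOpen w = G.s ⁻¹ᵁ D ⊓ G.t ⁻¹ᵁ D := Scheme.basicOpen_appLE ..
  obtain ⟨m, hm⟩ := exists_norm_element (G.s.app D).hom (G.s.finite_app D hD)
    (G.s.flat_appLE hD hsD le_rfl |> fun h => by simpa [Scheme.Hom.app_eq_appLE] using h)
    (G.s.finitePresentation_appLE hD hsD le_rfl |> fun h => by
      simpa [Scheme.Hom.app_eq_appLE] using h) w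
  have hnat : ∀ Q, hD.fromSpec.base ((Spec.map (G.s.app D)).base Q) =
      G.s.base (hsD.fromSpec.base Q) := by
    intro Q
    have := hD.SpecMap_appLE_fromSpec G.s hsD le_rfl
    rw [← Scheme.Hom.app_eq_appLE] at this
    exact congr($(this).base Q)
  have key : ∀ x : G.U, x ∈ G.U.basicOpen m ↔ ∀ r : G.R, G.s r = x → G.t r ∈ D := by
    intro x
    constructor
    · intro hx r hr
      subst hr
      have hxD := G.U.basicOpen_le m hx
      by_contra hrD
      obtain ⟨Q, hQ⟩ := exists_fromSpec_eq hsD (show r ∈ G.s ⁻¹ᵁ D from hxD)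
      subst hQ
      have hmP : m ∈ ((Spec.map (G.s.app D)).base Q).asIdeal := by
        refine (hm _ ((Spec.map (G.s.app D)).base Q).isPrime).mpr ⟨Q.asIdeal, Q.isPrime, rfl, ?_⟩
        by_contra hQw
        have h := (fromSpec_mem_basicOpen hsD w Q).mpr hQw
        rw [hw] at h
        exact hrD h.2
      exact (fromSpec_mem_basicOpen hD m _).mp ((hnat Q).symm ▸ hx) hmP
    · intro h
      have hxD : x ∈ D := by
        obtain ⟨r, h1, h2⟩ := exists_unit G x
        exact h2 ▸ h r h1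
      obtain ⟨p, rfl⟩ := exists_fromSpec_eq hD hxD
      refine (fromSpec_mem_basicOpen hD m p).mpr fun hmp => ?_
      obtain ⟨Q, hQ, hQp, hwQ⟩ := (hm p.asIdeal p.isPrime).mp hmp
      let Q' : PrimeSpectrum Γ(G.R, G.s ⁻¹ᵁ D) := ⟨Q, hQ⟩
      have hp : (Spec.map (G.s.app D)).base Q' = p := PrimeSpectrum.ext hQp
      have hr : G.s.base (hsD.fromSpec.base Q') = hD.fromSpec.base p :=
        (hnat Q').symm.trans (congrArg (fun q => hD.fromSpec.base q) hp)
      refine (fromSpec_mem_basicOpen hsD w Q').mp ?_ hwQ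
      rw [hw]
      exact ⟨show G.s.base _ ∈ D from hr.symm ▸ hxD, h _ hr⟩
  obtain ⟨m₀, hm₀⟩ := hV.basicOpen_basicOpen_is_basicOpen f m
  refine ⟨m₀, hm₀.symm ▸ fun x hx => (key x).mpr fun r hr =>
    hforb ⟨r, show G.s r ∈ T by rw [hr]; exact hx, rfl⟩, hm₀.symm ▸ ?_, hm₀.symm ▸ ?_⟩
  · exact le_trans (G.U.basicOpen_le m) (hfW₁.trans inf_le_left)
  · refine TopologicalSpace.Opens.ext (Set.ext fun r => ?_)
    change G.s r ∈ G.U.basicOpen m ↔ G.t r ∈ G.U.basicOpen m
    rw [key, key]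
    constructor
    · intro h r' hr'
      obtain ⟨c, hc1, hc2⟩ := exists_comp G (a := r') (b := r) hr'
      exact hc2 ▸ h c hc1
    · intro h r' hr'
      obtain ⟨i, hi1, hi2⟩ := exists_inv G r
      obtain ⟨c, hc1, hc2⟩ := exists_comp G (a := r') (b := i) (hr'.trans hi2.symm)
      exact hc2 ▸ h c (hc1.trans hi1)

/-- Finitely many points whose classes lie in an affine open have a common invariant affine
neighbourhood, inside any given invariant open containing them. -/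
theorem exists_inv_affine_finite {T : Set G.U} (hT : T.Finite) {V : G.U.Opens} (hV : IsAffineOpen V)
    (huV : ∀ r : G.R, G.s r ∈ T → G.t r ∈ V) {O : G.U.Opens} (hO : IsInv G O)
    (huO : T ⊆ (O : Set G.U)) :
    ∃ W : G.U.Opens, IsAffineOpen W ∧ T ⊆ (W : Set G.U) ∧ W ≤ O ∧ IsInv G W := by
  obtain ⟨m₀, h1, h2, h3⟩ := exists_inv_basicOpen_finite hT hV huV hO huO
  exact ⟨_, hV.basicOpen m₀, h1, h2, h3⟩

/-- A point whose class lies in an affine open has an invariant affine neighbourhood, inside any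
given invariant open containing it. -/
theorem exists_inv_affine {u : G.U} {V : G.U.Opens} (hV : IsAffineOpen V)
    (huV : ∀ r : G.R, G.s r = u → G.t r ∈ V) {O : G.U.Opens} (hO : IsInv G O) (huO : u ∈ O) :
    ∃ W : G.U.Opens, IsAffineOpen W ∧ u ∈ W ∧ W ≤ O ∧ IsInv G W := by
  obtain ⟨W, h1, h2, h3, h4⟩ := exists_inv_affine_finite (Set.finite_singleton u) hV
    (fun r hr => huV r hr) hO (Set.singleton_subset_iff.2 huO)
  exact ⟨W, h1, h2 rfl, h3, h4⟩

end Groth.Agent.Grpd80
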