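import Groth.Agent.Grpd80.Thickening
import Groth.Agent.Grpd80.InvAffine
import Groth.Agent.FDesc60.Topo2
import Groth.Agent.LimTop61.IdealLfp
import Groth.Agent.VarGal.Thickening
import Mathlib.RingTheory.Finiteness.ModuleFinitePresentation
import Mathlib.AlgebraicGeometry.Limits

/-!
Orbits of generic points: they lie in the big open, and have invariant affine neighbourhoods on
which the groupoid is finite locally free after thinning.
-/

set_option autoImplicit false
set_option linter.style.haveILetI false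
set_option linter.unusedSectionVars false
set_option linter.unusedSimpArgs false
set_option backward.isDefEq.respectTransparency.types false

noncomputable section

universe u

open CategoryTheory CategoryTheory.Limits AlgebraicGeometry TopologicalSpace

namespace Groth.Agent.Grpd80.Thick

/-- A maximal point outside a quasi-compact open is not in its closure. -/
theorem notMem_closure_of_max {X : Scheme.{u}} {x : X} (hmax : ∀ z : X, z ⤳ x → z = x)
    (A : X.Opens) [QuasiCompact A.ι] (hx : x ∉ A) : x ∉ closure (A : Set X) := by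
  intro h
  rw [← Scheme.Opens.range_ι A] at h
  obtain ⟨z, hz⟩ := FDesc60.exists_specializes_of_mem_closure_range A.ι h
  exact hx (hmax _ hz ▸ z.2)

/-- Finitely many maximal points of a quasi-separated scheme lie in an affine open. -/
theorem exists_affine_of_max {X : Scheme.{u}} [QuasiSeparatedSpace X] (O : X.Opens) {T : Set X}
    (hT : T.Finite) (hTO : T ⊆ (O : Set X)) (hmax : ∀ x ∈ T, ∀ z : X, z ⤳ x → z = x) :
    ∃ A : X.Opens, IsAffineOpen A ∧ A ≤ O ∧ T ⊆ (A : Set X) := by
  induction T, hT using Set.Finite.induction_on with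
  | empty => exact ⟨⊥, isAffineOpen_bot X, bot_le, Set.empty_subset _⟩
  | @insert a s _ _ ih =>
    obtain ⟨A, hA, hAO, hsA⟩ :=
      ih (fun z hz => hTO (Set.mem_insert_of_mem a hz)) fun x hx => hmax x (Set.mem_insert_of_mem a hx)
    by_cases ha : a ∈ A
    · exact ⟨A, hA, hAO, Set.insert_subset ha hsA⟩
    have : CompactSpace A.toScheme := isCompact_iff_compactSpace.mp hA.isCompact
    have : QuasiCompact A.ι := inferInstance
    have hac := notMem_closure_of_max (hmax a (Set.mem_insert _ _)) A ha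
    obtain ⟨V, hV, haV, hVO⟩ := exists_isAffineOpen_mem_and_subset (x := a)
      (U := O ⊓ ⟨(closure (A : Set X))ᶜ, isClosed_closure.isOpen_compl⟩)
      ⟨hTO (Set.mem_insert _ _), hac⟩
    refine ⟨A ⊔ V, hA.sup_of_disjoint hV ?_, sup_le hAO fun z hz => (hVO hz).1,
      Set.insert_subset (Or.inr haV) fun z hz => Or.inl (hsA hz)⟩
    refine Opens.coe_disjoint.1 (Set.disjoint_left.2 ?_)
    exact fun z hzA hzV => (hVO hzV).2 (subset_closure hzA)

/-- A maximal point of the support of a finitely generated ideal sheaf is not adherent to the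
complement. -/
theorem notMem_closure_compl_support {X : Scheme.{u}} (I : X.IdealSheafData)
    (hfg : ∀ U : X.affineOpens, (I.ideal U).FG) {x : X} (hmax : ∀ z : X, z ⤳ x → z = x)
    (hx : x ∈ I.support) : x ∉ closure (I.support : Set X)ᶜ := by
  obtain ⟨U, hU⟩ := Div89.exists_affine_mem x
  obtain ⟨F, hF⟩ := hfg U
  intro h
  have hcov : (U.1 : Set X) ∩ (I.support : Set X)ᶜ ⊆
      ⋃ f ∈ F, (X.basicOpen f : Set X) := by
    rintro z ⟨hzU, hz⟩
    by_contra hne
    simp only [Set.mem_iUnion, not_exists] at hne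
    refine hz ((Scheme.IdealSheafData.mem_support_iff_of_mem (I := I) (U := U) hzU).2 ?_)
    rw [← hF, Scheme.zeroLocus_span]
    rw [Scheme.mem_zeroLocus_iff]
    exact fun f hf => hne f hf
  have h1 : x ∈ closure (⋃ f ∈ F, (X.basicOpen f : Set X)) :=
    closure_mono hcov (U.1.2.inter_closure ⟨hU, h⟩)
  have h1' : x ∈ closure (⋃ f ∈ (F : Set Γ(X, U.1)), (X.basicOpen f : Set X)) := by simpa using h1
  rw [F.finite_toSet.closure_biUnion] at h1'
  replace h1 := h1'
  simp only [Set.mem_iUnion] at h1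
  obtain ⟨f, hf, hxf⟩ := h1
  have hxnot : x ∉ X.basicOpen f := by
    have := (Scheme.IdealSheafData.mem_support_iff_of_mem (I := I) (U := U) hU).1 hx
    rw [← hF, Scheme.zeroLocus_span, Scheme.mem_zeroLocus_iff] at this
    exact this f hf
  have : IsAffine U.1.toScheme := U.2
  let B : U.1.toScheme.Opens := U.1.ι ⁻¹ᵁ X.basicOpen f
  have : QuasiSeparatedSpace U.1.toScheme := inferInstance
  have : CompactSpace B.toScheme := isCompact_iff_compactSpace.mp
    (((U.2.basicOpen f).preimage_of_isOpenImmersion U.1.ι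
      (by rw [Scheme.Opens.opensRange_ι]; exact X.basicOpen_le f)).isCompact)
  have : QuasiCompact B.ι := inferInstance
  refine notMem_closure_of_max (x := (⟨x, hU⟩ : U.1.toScheme)) (fun z hz => ?_) B hxnot ?_
  · exact Subtype.ext (hmax z.1 (hz.map U.1.ι.continuous))
  · rw [U.1.ι.isOpenEmbedding.isEmbedding.closure_eq_preimage_closure_image]
    show x ∈ closure (U.1.ι '' (U.1.ι ⁻¹' (X.basicOpen f : Set X)))
    rwa [Set.image_preimage_eq_of_subset (by
      rw [Scheme.Opens.range_ι]; exact X.basicOpen_le f)]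

theorem finLocFree_bc {R U T T' : Scheme.{u}} {f : R ⟶ U} {j : T ⟶ U}
    (h : Mor2.IsFinLocFree (pullback.snd f j)) (q : T' ⟶ T) (j' : T' ⟶ U) (hq : q ≫ j = j') :
    Mor2.IsFinLocFree (pullback.snd f j') := by
  subst hq
  obtain ⟨h1, h2, h3⟩ := h
  have hsq : IsPullback (pullback.map f (q ≫ j) f j (𝟙 R) q (𝟙 U) (by simp) (by simp))
      (pullback.snd f (q ≫ j)) (pullback.snd f j) q := by
    refine IsPullback.of_right ?_ ?_ (IsPullback.of_hasPullback f j)
    · simp only [pullback.map, pullback.lift_fst, Category.comp_id]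
      exact IsPullback.of_hasPullback _ _
    · simp only [pullback.map, pullback.lift_snd]
  exact ⟨MorphismProperty.of_isPullback hsq h1, MorphismProperty.of_isPullback hsq h2,
    MorphismProperty.of_isPullback hsq h3⟩

variable {S : Scheme.{u}} (G : Grpd.GroupoidScheme S) [IsFinite G.s] [IsFinite G.t]

theorem fitI_fg [LocallyOfFinitePresentation G.s] (r : ℕ) (U : G.U.affineOpens) :
    ((FitStrat.fitI G.s r).ideal U).FG := by
  letI := (G.s.app U.1).hom.toAlgebra
  haveI : Module.Finite Γ(G.U, U.1) Γ(G.R, G.s ⁻¹ᵁ U.1) := IsFinite.finite_app G.s U.1 U.2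
  haveI : Algebra.FinitePresentation Γ(G.U, U.1) Γ(G.R, G.s ⁻¹ᵁ U.1) := by
    have h := G.s.finitePresentation_appLE U.2 (U.2.preimage G.s) le_rfl
    rwa [← Scheme.Hom.app_eq_appLE] at h
  haveI := Module.FinitePresentation.of_finite_of_finitePresentation Γ(G.U, U.1)
    Γ(G.R, G.s ⁻¹ᵁ U.1)
  exact Fit14.fg_of_finitePresentation r

/-- All translates of `u` are generic points of irreducible components. -/
def IsGenericOrbit (u : G.U) : Prop :=
  ∀ r : G.R, G.s r = u → ∀ x : G.U, x ⤳ G.t r → x = G.t r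

theorem mem_bigOpen_of_generic [LocallyOfFinitePresentation G.s] {u : G.U}
    (hu : IsGenericOrbit G u) : u ∈ bigOpen G := by
  classical
  obtain ⟨n, hn⟩ := FitStrat.fitI_exists_notMem G.s u
  have hex : ∃ r, u ∉ Zs G r := ⟨n, hn⟩
  have hspec := Nat.find_spec hex
  have hmin := fun m => Nat.find_min hex (m := m)
  cases hr : Nat.find hex with
  | zero =>
    rw [hr, Zs_zero] at hspec
    exact (hspec trivial).elim
  | succ r =>
    rw [hr] at hspec
    have hur : u ∈ Zs G r := not_not.1 (hmin r (by omega))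
    refine Opens.mem_iSup.2 ⟨r, ?_⟩
    rintro (h | ⟨a, ha, hau⟩)
    · exact hspec h
    · obtain ⟨c, hc1, hc2⟩ := exists_inv G a
      have hsa : G.s a ∈ Zs G r := by
        have : a ∈ ⇑G.t ⁻¹' Zs G r := by rw [Set.mem_preimage, hau]; exact hur
        rw [← Zs_invariant G r] at this
        exact this
      exact notMem_closure_compl_support (FitStrat.fitI G.s r) (fitI_fg G r)
        (fun z hz => hc2 ▸ hu c (hc1.trans hau) z (hc2 ▸ hz)) hsa ha

theorem thin_lfp [LocallyOfFinitePresentation G.s] :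
    LocallyOfFinitePresentation (thin G).subschemeι := by
  let V := fun r => (bigOpen G).ι ⁻¹ᵁ stratOpen G r
  have hcov : (⨆ r, V r) = ⊤ := by
    rw [← Scheme.Hom.preimage_iSup, eq_top_iff]
    exact fun x _ => x.2
  rw [IsZariskiLocalAtTarget.iff_of_iSup_eq_top (P := @LocallyOfFinitePresentation) _ hcov]
  intro r
  have hrange : Set.range ((V r).ι ≫ (bigOpen G).ι) ⊆ Set.range (stratOpen G r).ι := by
    rintro _ ⟨y, rfl⟩
    rw [Scheme.Opens.range_ι]
    exact y.2
  let l := IsOpenImmersion.lift (stratOpen G r).ι ((V r).ι ≫ (bigOpen G).ι) hrange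
  have hl : l ≫ G.U.homOfLE (le_iSup (stratOpen G) r) = (V r).ι := by
    rw [← cancel_mono (bigOpen G).ι, Category.assoc]
    exact (congrArg (l ≫ ·) (Scheme.homOfLE_ι ..)).trans (IsOpenImmersion.lift_fac _ _ _)
  haveI := LimTop61.lfp_of_fg_ideal _ (fitI_fg G r)
  haveI h1 : LocallyOfFinitePresentation ((thin G).comap (V r).ι).subschemeι := by
    rw [← hl, Scheme.IdealSheafData.comap_comp, thin_restrict]
    haveI := LimTop61.lfp_comap (FitStrat.fitI G.s r) (stratOpen G r).ι
    exact LimTop61.lfp_comap _ _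
  have hsq := (isPullback_morphismRestrict (thin G).subschemeι (V r)).flip
  have he : hsq.isoPullback.hom ≫ (pullbackSymmetry _ _).hom ≫
      ((thin G).comapIso (V r).ι).inv ≫ ((thin G).comap (V r).ι).subschemeι =
        (thin G).subschemeι ∣_ V r := by simp
  rw [← he]
  infer_instance

/-- An isomorphism of the pullbacks of a closed subscheme of an invariant open. -/
theorem exists_iso_of_invariant {B : G.U.Opens} (hB : IsInv G B) (J : B.toScheme.IdealSheafData)
    (hJ : ∀ a b : (G.s ⁻¹ᵁ B).toScheme ⟶ B.toScheme, a ≫ B.ι = (G.s ⁻¹ᵁ B).ι ≫ G.s →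
      b ≫ B.ι = (G.s ⁻¹ᵁ B).ι ≫ G.t → J.comap a = J.comap b) :
    ∃ φ : pullback G.s (J.subschemeι ≫ B.ι) ≅ pullback G.t (J.subschemeι ≫ B.ι),
      φ.hom ≫ pullback.fst G.t (J.subschemeι ≫ B.ι) = pullback.fst G.s (J.subschemeι ≫ B.ι) := by
  have hsq : ∀ f : G.R ⟶ G.U, G.s ⁻¹ᵁ B = f ⁻¹ᵁ B →
      ∃ a : (G.s ⁻¹ᵁ B).toScheme ⟶ B.toScheme, a ≫ B.ι = (G.s ⁻¹ᵁ B).ι ≫ f ∧
      ∃ e : pullback a J.subschemeι ≅ pullback f (J.subschemeι ≫ B.ι),
        e.hom ≫ pullback.fst f (J.subschemeι ≫ B.ι) = pullback.fst a _ ≫ (G.s ⁻¹ᵁ B).ι := by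
    intro f hf
    refine ⟨(G.R.isoOfEq hf).hom ≫ f ∣_ B, by simp [morphismRestrict_ι], ?_⟩
    have h0 : IsPullback (G.s ⁻¹ᵁ B).ι ((G.R.isoOfEq hf).hom ≫ f ∣_ B) f B.ι :=
      (isPullback_morphismRestrict f B).flip.of_iso (G.R.isoOfEq hf).symm (Iso.refl _) (Iso.refl _)
        (Iso.refl _) (by simp) (by simp) (by simp) (by simp)
    have h1 := ((IsPullback.of_hasPullback ((G.R.isoOfEq hf).hom ≫ f ∣_ B)
      J.subschemeι).flip.paste_vert h0.flip).flip
    exact ⟨h1.isoPullback, h1.isoPullback_hom_fst⟩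
  obtain ⟨a, ha, ea, hea⟩ := hsq G.s rfl
  obtain ⟨b, hb, eb, heb⟩ := hsq G.t hB
  refine ⟨ea.symm ≪≫ FitStrat.isoOfComapEq a b _ (hJ a b ha hb) ≪≫ eb, ?_⟩
  simp only [Iso.trans_hom, Iso.symm_hom, Category.assoc, heb, FitStrat.isoOfComapEq_fst_assoc]
  rw [← hea, Iso.inv_hom_id_assoc]

section RestrMono

variable {G}
variable {V : Scheme.{u}} {ι : V ⟶ G.U} [Mono ι] {t' : pullback G.s ι ⟶ V}
  (ht : t' ≫ ι = pullback.fst G.s ι ≫ G.t)

include ht in
lemma restrMono_w {T : Scheme.{u}} {α β : T ⟶ pullback G.s ι}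
    (h : α ≫ pullback.snd G.s ι = β ≫ t') :
    (α ≫ pullback.fst _ _) ≫ G.s = (β ≫ pullback.fst _ _) ≫ G.t := by
  rw [Category.assoc, Category.assoc, pullback.condition, ← ht, reassoc_of% h]

/-- The groupoid induced on an invariant monomorphism into the objects. -/
def restrMono : Grpd.GroupoidScheme S where
  U := V
  R := pullback G.s ι
  pU := ι ≫ G.pU
  pR := pullback.fst G.s ι ≫ G.pR
  s := pullback.snd G.s ι
  t := t'
  e := pullback.lift (ι ≫ G.e) (𝟙 V) (by simp)
  i := pullback.lift (pullback.fst G.s ι ≫ G.i) t' (by simp [ht])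
  c := pullback.lift
    (mul G (pullback.fst (pullback.snd G.s ι) t' ≫ pullback.fst _ _)
      (pullback.snd (pullback.snd G.s ι) t' ≫ pullback.fst _ _) (restrMono_w ht pullback.condition))
    (pullback.snd (pullback.snd G.s ι) t' ≫ pullback.snd G.s ι)
    (by rw [mul_s, Category.assoc, Category.assoc, pullback.condition])
  s_over := by rw [← pullback.condition_assoc, G.s_over]
  t_over := by rw [reassoc_of% ht, G.t_over]
  comp_s α β h := by simp only [Category.assoc, pullback.lift_snd, pullback.lift_snd_assoc]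
  comp_t α β h := by
    simp [← cancel_mono ι, ht, pullback.lift_fst_assoc]
  assoc α β γ h₁ h₂ := by
    apply pullback.hom_ext
    · simp only [Category.assoc, pullback.lift_fst, comp_mul, pullback.lift_fst_assoc,
        pullback.lift_snd_assoc]
      exact mul_assoc' _ _ _ (restrMono_w ht h₁) (restrMono_w ht h₂)
    · simp only [Category.assoc, pullback.lift_snd, pullback.lift_snd_assoc]
  e_s := pullback.lift_snd _ _ _
  e_t := by
    rw [← cancel_mono ι, Category.assoc]
    refine (congrArg (_ ≫ ·) ht).trans ?_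
    rw [pullback.lift_fst_assoc, Category.assoc, G.e_t, Category.comp_id, Category.id_comp]
  comp_e α := by
    apply pullback.hom_ext
    · simp only [Category.assoc, pullback.lift_fst, comp_mul, pullback.lift_fst_assoc,
        pullback.lift_snd_assoc]
      exact mul_unit_right _ (by simp [pullback.condition_assoc])
    · simp only [Category.assoc, pullback.lift_snd, pullback.lift_snd_assoc, Category.comp_id,
        Category.id_comp]
  e_comp α := by
    apply pullback.hom_ext
    · simp only [Category.assoc, pullback.lift_fst, comp_mul, pullback.lift_fst_assoc,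
        pullback.lift_snd_assoc]
      exact mul_unit_left _ (by simp [reassoc_of% ht])
    · simp only [Category.assoc, pullback.lift_snd, pullback.lift_snd_assoc, Category.comp_id,
        Category.id_comp]
  i_s := pullback.lift_snd _ _ _
  i_t := by
    rw [← cancel_mono ι, Category.assoc]
    refine (congrArg (_ ≫ ·) ht).trans ?_
    rw [pullback.lift_fst_assoc, Category.assoc, i_t', pullback.condition]
  comp_i α := by
    apply pullback.hom_ext
    · simp only [Category.assoc, pullback.lift_fst, comp_mul, pullback.lift_fst_assoc,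
        pullback.lift_snd_assoc]
      rw [mul_inv_right _ (by simp)]
      simp [reassoc_of% ht]
    · simp only [Category.assoc, pullback.lift_snd, pullback.lift_snd_assoc, Category.comp_id,
        Category.id_comp]
  i_comp α := by
    apply pullback.hom_ext
    · simp only [Category.assoc, pullback.lift_fst, comp_mul, pullback.lift_fst_assoc,
        pullback.lift_snd_assoc]
      rw [mul_inv_left _ (by simp)]
      simp [pullback.condition_assoc]
    · simp only [Category.assoc, pullback.lift_snd, pullback.lift_snd_assoc, Category.comp_id,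
        Category.id_comp]

end RestrMono

theorem exists_affine_thickening [LocallyOfFinitePresentation G.s] [QuasiSeparatedSpace G.U]
    (m : ℕ) (u : Fin m → G.U) (hu : ∀ i, IsGenericOrbit G (u i)) :
    ∃ (V : G.U.Opens) (V' : (↑V : Scheme.{u}).IdealSheafData), IsAffineOpen V ∧ (∀ i, u i ∈ V) ∧
      G.s ⁻¹ᵁ V = G.t ⁻¹ᵁ V ∧ V'.support = ⊤ ∧ LocallyOfFinitePresentation V'.subschemeι ∧
      (∃ φ : pullback G.s (V'.subschemeι ≫ V.ι) ≅ pullback G.t (V'.subschemeι ≫ V.ι),
        φ.hom ≫ pullback.fst G.t (V'.subschemeι ≫ V.ι) = pullback.fst G.s (V'.subschemeι ≫ V.ι)) ∧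
      Mor2.IsFinLocFree (pullback.snd G.s (V'.subschemeι ≫ V.ι)) ∧
      Mor2.IsFinLocFree (pullback.snd G.t (V'.subschemeι ≫ V.ι)) := by
  let W := bigOpen G
  have hW : IsInv G W := bigOpen_invariant G
  let T₀ : Set G.U := ⇑G.t '' (⇑G.s ⁻¹' Set.range u)
  have hT₀ : T₀.Finite :=
    ((Set.finite_range u).preimage' fun x _ => G.s.finite_preimage_singleton x).image _
  obtain ⟨A, hA, hAW, hTA⟩ := exists_affine_of_max W hT₀
    (by
      rintro _ ⟨r, ⟨i, hi⟩, rfl⟩
      exact (hW.mem_iff r).1 (hi ▸ mem_bigOpen_of_generic G (hu i)))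
    (by
      rintro _ ⟨r, ⟨i, hi⟩, rfl⟩
      exact hu i r hi.symm)
  obtain ⟨φ, hφ⟩ := thin_iso G
  haveI : Mono (thinι G) := by unfold thinι; infer_instance
  let t' := φ.hom ≫ pullback.snd G.t (thinι G)
  have ht : t' ≫ thinι G = pullback.fst G.s (thinι G) ≫ G.t := by
    rw [Category.assoc, ← pullback.condition, ← Category.assoc, hφ]
  let G' := restrMono ht
  obtain ⟨hfin, hflat, hfp⟩ := finLocFree_of_fitI G (f := G.s) fun _ => rfl
  haveI : IsFinite G'.s := hfin
  haveI : Flat G'.s := hflat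
  haveI : LocallyOfFinitePresentation G'.s := hfp
  let A' : G'.U.Opens := (thin G).subschemeι ⁻¹ᵁ (W.ι ⁻¹ᵁ A)
  have hA' : IsAffineOpen A' := IsAffineOpen.preimage (hA.preimage_of_isOpenImmersion W.ι
    (by rw [Scheme.Opens.opensRange_ι]; exact hAW)) (thin G).subschemeι
  let T' : Set G'.U := ⇑(thinι G) ⁻¹' Set.range u
  have hT' : T'.Finite := (Set.finite_range u).preimage (thinι G).injective.injOn
  have hpt : ∀ r : G'.R, thinι G (G'.t r) = G.t (pullback.fst G.s (thinι G) r) ∧
      G.s (pullback.fst G.s (thinι G) r) = thinι G (G'.s r) := fun r =>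
    ⟨(Scheme.Hom.comp_apply t' (thinι G) r).symm.trans
      ((congr($ht r)).trans (Scheme.Hom.comp_apply (pullback.fst G.s (thinι G)) G.t r)),
     (Scheme.Hom.comp_apply (pullback.fst G.s (thinι G)) G.s r).symm.trans
      ((congr($(pullback.condition (f := G.s) (g := thinι G)) r)).trans
        (Scheme.Hom.comp_apply (pullback.snd G.s (thinι G)) (thinι G) r))⟩
  obtain ⟨V', hV', hTV', -, hV'inv⟩ := exists_inv_affine_finite (G := G') hT' hA'
    (fun r hr => by
      show thinι G (G'.t r) ∈ A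
      rw [(hpt r).1]
      exact hTA ⟨_, by rw [Set.mem_preimage, (hpt r).2]; exact hr, rfl⟩)
    (O := ⊤) (by simp [IsInv]) (Set.subset_univ _)
  have hsurj : Surjective (thin G).subschemeι := ⟨fun x => by
    have : x ∈ Set.range (thin G).subschemeι := by
      rw [Scheme.IdealSheafData.range_subschemeι, thin_support]; trivial
    exact this⟩
  obtain ⟨V₁, hV₁⟩ := VarGal.exists_opens (thin G).subschemeι V'
  have hV₁aff : IsAffineOpen V₁ := by
    haveI : Surjective ((thin G).subschemeι ∣_ V₁) := IsZariskiLocalAtTarget.restrict hsurj V₁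
    haveI : IsAffine ((thin G).subschemeι ⁻¹ᵁ V₁).toScheme := by rw [hV₁]; exact hV'
    exact VarGal.isAffine_of_thickening ((thin G).subschemeι ∣_ V₁)
  let V : G.U.Opens := W.ι ''ᵁ V₁
  have hVW : V ≤ W := W.ι_image_le V₁
  have hmem : ∀ x, x ∈ V ↔ ∃ z : G'.U, z ∈ V' ∧ thinι G z = x := by
    intro x
    constructor
    · rintro ⟨w, hw, rfl⟩
      obtain ⟨z, rfl⟩ := (thin G).subschemeι.surjective w
      exact ⟨z, hV₁.le hw, rfl⟩
    · rintro ⟨z, hz, rfl⟩
      exact ⟨_, hV₁.ge hz, rfl⟩
  have hlift : ∀ x ∈ W, ∃ z : G'.U, thinι G z = x := fun x hx => by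
    obtain ⟨z, hz⟩ := (thin G).subschemeι.surjective (⟨x, hx⟩ : W.toScheme)
    exact ⟨z, congrArg W.ι hz⟩
  have hinvV : IsInv G V := by
    refine Opens.ext (Set.ext fun r => ?_)
    change G.s r ∈ V ↔ G.t r ∈ V
    constructor
    · intro hr
      obtain ⟨z, hz, hzr⟩ := (hmem _).1 hr
      obtain ⟨q, hq1, hq2⟩ := Scheme.Pullback.exists_preimage_pullback r z hzr.symm
      refine (hmem _).2 ⟨G'.t q, (hV'inv.mem_iff (G := G') q).1 (show G'.s q ∈ V' from ?_), ?_⟩
      · rw [show G'.s q = z from hq2]; exact hz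
      · exact (hpt q).1.trans (congrArg G.t hq1)
    · intro hr
      obtain ⟨z, hz⟩ := hlift _ ((hW.mem_iff r).2 (hVW hr))
      obtain ⟨q, hq1, hq2⟩ := Scheme.Pullback.exists_preimage_pullback r z hz.symm
      obtain ⟨z', hz', hzr'⟩ := (hmem _).1 hr
      have heq : G'.t q = z' := (thinι G).injective ((hpt q).1.trans ((congrArg G.t hq1).trans hzr'.symm))
      refine (hmem _).2 ⟨z, ?_, hz⟩
      rw [← hq2]
      exact (hV'inv.mem_iff (G := G') q).2 (heq ▸ hz')
  let j : V.toScheme ⟶ W.toScheme := G.U.homOfLE hVW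
  let J := (thin G).comap j
  have hj : j ≫ W.ι = V.ι := Scheme.homOfLE_ι _ _
  refine ⟨V, J, hV₁aff.image_of_isOpenImmersion W.ι, fun i => ?_, hinvV, ?_, ?_, ?_, ?_, ?_⟩
  · obtain ⟨z, hz⟩ := hlift (u i) (mem_bigOpen_of_generic G (hu i))
    exact (hmem _).2 ⟨z, hTV' ⟨i, hz.symm⟩, hz⟩
  · rw [Scheme.IdealSheafData.support_comap, thin_support]
    rfl
  · haveI := thin_lfp G
    exact LimTop61.lfp_comap _ _
  · refine exists_iso_of_invariant G hinvV J fun a b ha hb => ?_
    have key : ∀ (f : G.R ⟶ G.U) (a : (G.s ⁻¹ᵁ V).toScheme ⟶ V.toScheme),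
        a ≫ V.ι = (G.s ⁻¹ᵁ V).ι ≫ f → ∀ (a₀ : (G.s ⁻¹ᵁ W).toScheme ⟶ W.toScheme),
        a₀ ≫ W.ι = (G.s ⁻¹ᵁ W).ι ≫ f →
        J.comap a = ((thin G).comap a₀).comap (G.R.homOfLE (G.s.preimage_mono hVW)) := by
      intro f a ha a₀ ha₀
      rw [← Scheme.IdealSheafData.comap_comp, ← Scheme.IdealSheafData.comap_comp]
      congr 1
      rw [← cancel_mono W.ι, Category.assoc, Category.assoc, hj, ha, ha₀, Scheme.homOfLE_ι_assoc]
    let a₀ := G.s ∣_ W
    have ha₀ : a₀ ≫ W.ι = (G.s ⁻¹ᵁ W).ι ≫ G.s := morphismRestrict_ι _ _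
    let b₀ := restrT hW
    have hb₀ : b₀ ≫ W.ι = (G.s ⁻¹ᵁ W).ι ≫ G.t := restrT_ι hW
    rw [key G.s a ha a₀ ha₀, key G.t b hb b₀ hb₀, thin_invariant G a₀ b₀ ha₀ hb₀]
  all_goals
    let q : J.subscheme ⟶ (thin G).subscheme := ((thin G).comapIso j).hom ≫ pullback.snd _ _
    have hq : q ≫ thinι G = J.subschemeι ≫ V.ι := by
      rw [← hj]
      simp only [q, thinι, Category.assoc, ← pullback.condition_assoc]
      exact Scheme.IdealSheafData.comapIso_hom_fst_assoc _ _ _
  · exact finLocFree_bc (finLocFree_of_fitI G (f := G.s) fun _ => rfl) q _ hq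
  · exact finLocFree_bc (finLocFree_of_fitI G (f := G.t) (fitI_t G)) q _ hq

end Groth.Agent.Grpd80.Thick
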