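import Groth.Agent.Grpd80.AffineQuot
import Groth.Agent.Grpd80.InvAffine

set_option autoImplicit false
universe u
open CategoryTheory CategoryTheory.Limits AlgebraicGeometry TopologicalSpace

namespace Groth.Agent.Grpd80

/-- A geometric quotient is a coequalizer. -/
lemma IsGeomQuot.existsUnique_desc {U R M : Scheme.{u}} {s t : R ⟶ U} {q : U ⟶ M}
    (h : IsGeomQuot s t q) {T : Scheme.{u}} (f : U ⟶ T) (hf : s ≫ f = t ≫ f) :
    ∃! g : M ⟶ T, q ≫ g = f := by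
  obtain ⟨g, hg⟩ := h.exists_desc ⊤ ((q ⁻¹ᵁ ⊤).ι ≫ f) (by
    rw [← Category.assoc, ← Category.assoc, Scheme.Hom.resLE_comp_ι, Scheme.Hom.resLE_comp_ι,
      Category.assoc, Category.assoc, hf])
  let jU : U ⟶ (q ⁻¹ᵁ ⊤).toScheme := IsOpenImmersion.lift (q ⁻¹ᵁ ⊤).ι (𝟙 U)
    (fun x _ => by rw [Scheme.Opens.range_ι]; exact trivial)
  let jM : M ⟶ (⊤ : M.Opens).toScheme := IsOpenImmersion.lift (⊤ : M.Opens).ι (𝟙 M)
    (fun x _ => by rw [Scheme.Opens.range_ι]; exact trivial)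
  have hU : jU ≫ (q ⁻¹ᵁ ⊤).ι = 𝟙 U := IsOpenImmersion.lift_fac _ _ _
  have hM : jM ≫ (⊤ : M.Opens).ι = 𝟙 M := IsOpenImmersion.lift_fac _ _ _
  have e : q ≫ jM = jU ≫ (q ∣_ ⊤) := by
    rw [← cancel_mono (⊤ : M.Opens).ι, Category.assoc, hM, Category.assoc, morphismRestrict_ι,
      reassoc_of% hU, Category.comp_id]
  refine ⟨jM ≫ g, ?_, fun g' hg' => ?_⟩
  · change q ≫ jM ≫ g = f
    rw [reassoc_of% e, hg, reassoc_of% hU]
  · have h1 : (⊤ : M.Opens).ι ≫ g' = g := by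
      refine h.hom_ext ?_
      rw [hg, ← Category.assoc, morphismRestrict_ι, Category.assoc, hg']
    rw [← h1, reassoc_of% hM]

lemma IsGeomQuot.hom_ext' {U R M : Scheme.{u}} {s t : R ⟶ U} {q : U ⟶ M}
    (h : IsGeomQuot s t q) {T : Scheme.{u}} {g₁ g₂ : M ⟶ T} (e : q ≫ g₁ = q ≫ g₂) : g₁ = g₂ :=
  (h.existsUnique_desc (q ≫ g₂) (by rw [← Category.assoc, ← Category.assoc, h.w])).unique e rfl

variable {S : Scheme.{u}} (G : Grpd.GroupoidScheme S) [IsFinite G.s] [Flat G.s]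
  [LocallyOfFinitePresentation G.s]

/-- Invariant affine opens. -/
abbrev InvAff : Type u := {W : G.U.Opens // IsAffineOpen W ∧ IsInv G W}

variable {G} (W : InvAff G)

/-- The groupoid on an invariant affine open. -/
noncomputable abbrev chartGrpd : Grpd.GroupoidScheme S := restr W.2.2

instance : IsAffine (chartGrpd W).U := W.2.1

/-- The affine quotient of an invariant affine open. -/
noncomputable abbrev chartObj : Scheme.{u} := Spec (CommRingCat.of (chartGrpd W).invariants)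

/-- The quotient map of an invariant affine open. -/
noncomputable def chartQ : W.1.toScheme ⟶ chartObj W := (chartGrpd W).toQuot

lemma chartQ_geom :
    IsGeomQuot (G.s ∣_ W.1) (restrT W.2.2) (chartQ W) := isGeomQuot_toQuot (chartGrpd W)

lemma chart_step {W : InvAff G} {r : G.R} (hr : G.s r ∈ W.1) :
    chartQ W ⟨G.t r, (W.2.2.mem_iff r).mp hr⟩ = chartQ W ⟨G.s r, hr⟩ := by
  let r' : (G.s ⁻¹ᵁ W.1).toScheme := ⟨r, hr⟩
  have e1 : restrT W.2.2 r' = ⟨G.t r, (W.2.2.mem_iff r).mp hr⟩ :=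
    W.1.ι.isOpenEmbedding.injective ((Scheme.Hom.comp_apply _ _ _).symm.trans
      ((congrArg (fun g : (G.s ⁻¹ᵁ W.1).toScheme ⟶ G.U => g r') (restrT_ι W.2.2)).trans
        (Scheme.Hom.comp_apply _ _ _)))
  have e2 : (G.s ∣_ W.1) r' = ⟨G.s r, hr⟩ :=
    W.1.ι.isOpenEmbedding.injective (restrict_apply G.s W.1 r')
  rw [← e1, ← e2, ← Scheme.Hom.comp_apply, ← Scheme.Hom.comp_apply, (chartQ_geom W).w]

lemma chartQ_eq_iff {W : InvAff G} (x y : W.1.toScheme) :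
    chartQ W x = chartQ W y ↔ ∃ r : G.R, G.t r = x.1 ∧ G.s r = y.1 := by
  constructor
  · intro h
    obtain ⟨r, h1, h2⟩ := (chartQ_geom W).fibres x y h
    refine ⟨r.1, ?_, ?_⟩
    · rw [← h1]
      exact ((Scheme.Hom.comp_apply _ _ _).symm.trans
        ((congrArg (fun g : (G.s ⁻¹ᵁ W.1).toScheme ⟶ G.U => g r) (restrT_ι W.2.2)).trans
          (Scheme.Hom.comp_apply _ _ _))).symm
    · rw [← h2]
      exact (restrict_apply G.s W.1 r).symm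
  · rintro ⟨r, h1, h2⟩
    obtain ⟨x, hx⟩ := x
    obtain ⟨y, hy⟩ := y
    subst h1
    subst h2
    exact chart_step hy

variable {W}

/-- The image of a smaller invariant affine open in a chart. -/
noncomputable def chartImage {W' W : InvAff G} (_h : W'.1 ≤ W.1) : (chartObj W).Opens :=
  ⟨chartQ W '' (W.1.ι ⁻¹ᵁ W'.1 : Set W.1.toScheme), (chartQ_geom W).image_open (W.1.ι ⁻¹ᵁ W'.1) (by
    rw [← Scheme.Hom.comp_preimage, ← Scheme.Hom.comp_preimage, morphismRestrict_ι, restrT_ι,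
      Scheme.Hom.comp_preimage, Scheme.Hom.comp_preimage]
    exact congrArg ((G.s ⁻¹ᵁ W.1).ι ⁻¹ᵁ ·) W'.2.2)⟩

lemma chartQ_preimage_image {W' W : InvAff G} (h : W'.1 ≤ W.1) :
    chartQ W ⁻¹ᵁ chartImage h = W.1.ι ⁻¹ᵁ W'.1 := by
  refine Opens.ext (Set.ext fun x => ⟨?_, fun hx => ⟨x, hx, rfl⟩⟩)
  rintro ⟨x', hx', e⟩
  obtain ⟨r, h1, h2⟩ := (chartQ_eq_iff x' x).mp e
  change x.1 ∈ W'.1
  rw [← h2]
  exact (W'.2.2.mem_iff r).mpr (h1.symm ▸ hx')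

/-- Smaller invariant affine opens have open quotients in larger ones. -/
theorem exists_transition {W' W : InvAff G} (h : W'.1 ≤ W.1) :
    ∃ l : chartObj W' ⟶ chartObj W, chartQ W' ≫ l = G.U.homOfLE h ≫ chartQ W ∧
      IsOpenImmersion l ∧ Set.range l = chartQ W '' (W.1.ι ⁻¹ᵁ W'.1 : Set W.1.toScheme) := by
  have hh : G.s ⁻¹ᵁ W'.1 ≤ G.s ⁻¹ᵁ W.1 := G.s.preimage_mono h
  have hs : (G.s ∣_ W'.1) ≫ G.U.homOfLE h = G.R.homOfLE hh ≫ (G.s ∣_ W.1) := by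
    simp [← cancel_mono W.1.ι, morphismRestrict_ι]
  have ht : restrT W'.2.2 ≫ G.U.homOfLE h = G.R.homOfLE hh ≫ restrT W.2.2 := by
    simp [← cancel_mono W.1.ι]
  obtain ⟨l, hl, -⟩ := (chartQ_geom W').existsUnique_desc (G.U.homOfLE h ≫ chartQ W) (by
    rw [reassoc_of% hs, reassoc_of% ht, (chartQ_geom W).w])
  refine ⟨l, hl, ?_⟩
  set V := chartImage h
  -- the inverse on the image
  let ι₀ := (chartQ W ⁻¹ᵁ V).ι
  have hr : Set.range (ι₀ ≫ W.1.ι) ⊆ Set.range W'.1.ι := by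
    rintro _ ⟨z, rfl⟩
    rw [Scheme.Opens.range_ι]
    exact ((SetLike.ext_iff.mp (chartQ_preimage_image h) z.1).mp z.2 :)
  let a := IsOpenImmersion.lift W'.1.ι (ι₀ ≫ W.1.ι) hr
  have ha : a ≫ W'.1.ι = ι₀ ≫ W.1.ι := IsOpenImmersion.lift_fac _ _ _
  have hla : a ≫ G.U.homOfLE h = ι₀ := by
    rw [← cancel_mono W.1.ι, Category.assoc, Scheme.homOfLE_ι, ha]
  obtain ⟨k, hk⟩ := (chartQ_geom W).exists_desc V (a ≫ chartQ W') (by
    set Q := (G.s ∣_ W.1) ⁻¹ᵁ chartQ W ⁻¹ᵁ V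
    have hQ : Set.range (Q.ι ≫ (G.s ⁻¹ᵁ W.1).ι) ⊆ Set.range (G.s ⁻¹ᵁ W'.1).ι := by
      rintro _ ⟨z, rfl⟩
      rw [Scheme.Opens.range_ι]
      have hz : (G.s ∣_ W.1) z.1 ∈ W.1.ι ⁻¹ᵁ W'.1 := chartQ_preimage_image h ▸ z.2
      change G.s ((G.s ⁻¹ᵁ W.1).ι (Q.ι z)) ∈ W'.1
      rw [← restrict_apply]
      exact hz
    let b := IsOpenImmersion.lift (G.s ⁻¹ᵁ W'.1).ι (Q.ι ≫ (G.s ⁻¹ᵁ W.1).ι) hQ
    have hb : b ≫ (G.s ⁻¹ᵁ W'.1).ι = Q.ι ≫ (G.s ⁻¹ᵁ W.1).ι := IsOpenImmersion.lift_fac _ _ _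
    have e : ∀ (g : (G.s ⁻¹ᵁ W.1).toScheme ⟶ W.1.toScheme)
        (g' : (G.s ⁻¹ᵁ W'.1).toScheme ⟶ W'.1.toScheme) (γ : G.R ⟶ G.U)
        (hle : Q ≤ g ⁻¹ᵁ chartQ W ⁻¹ᵁ V), g ≫ W.1.ι = (G.s ⁻¹ᵁ W.1).ι ≫ γ →
        g' ≫ W'.1.ι = (G.s ⁻¹ᵁ W'.1).ι ≫ γ →
        g.resLE _ Q hle ≫ a = b ≫ g' := by
      intro g g' γ hle hg hg'
      rw [← cancel_mono W'.1.ι, Category.assoc, Category.assoc, ha, hg', reassoc_of% hb,
        Scheme.Hom.resLE_comp_ι_assoc, hg]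
    rw [← Category.assoc, ← Category.assoc,
      e (G.s ∣_ W.1) (G.s ∣_ W'.1) G.s le_rfl (morphismRestrict_ι _ _) (morphismRestrict_ι _ _),
      e (restrT W.2.2) (restrT W'.2.2) G.t _ (restrT_ι _) (restrT_ι _),
      Category.assoc, Category.assoc, (chartQ_geom W').w])
  have hlV : Set.range l ⊆ Set.range V.ι := by
    rintro _ ⟨m, rfl⟩
    obtain ⟨x, rfl⟩ := (chartQ_geom W').surj m
    rw [Scheme.Opens.range_ι]
    refine ⟨G.U.homOfLE h x, ?_, ?_⟩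
    · change W.1.ι (G.U.homOfLE h x) ∈ W'.1
      rw [homOfLE_pt]
      exact x.2
    · rw [← Scheme.Hom.comp_apply, ← hl, Scheme.Hom.comp_apply]
  let l' := IsOpenImmersion.lift V.ι l hlV
  have hl' : l' ≫ V.ι = l := IsOpenImmersion.lift_fac _ _ _
  have h1 : k ≫ l = V.ι := by
    refine (chartQ_geom W).hom_ext ?_
    rw [← Category.assoc, hk, Category.assoc, hl, reassoc_of% hla, morphismRestrict_ι]
  have h2 : l' ≫ k = 𝟙 _ := by
    refine (chartQ_geom W').hom_ext' ?_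
    have hr' : Set.range (G.U.homOfLE h) ⊆ Set.range ι₀ := by
      rintro _ ⟨x, rfl⟩
      rw [Scheme.Opens.range_ι, chartQ_preimage_image]
      change W.1.ι (G.U.homOfLE h x) ∈ W'.1
      rw [homOfLE_pt]
      exact x.2
    let c := IsOpenImmersion.lift ι₀ (G.U.homOfLE h) hr'
    have hc : c ≫ ι₀ = G.U.homOfLE h := IsOpenImmersion.lift_fac _ _ _
    have hca : c ≫ a = 𝟙 _ := by
      rw [← cancel_mono W'.1.ι, Category.assoc, ha, reassoc_of% hc, Scheme.homOfLE_ι, Category.id_comp]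
    have hcq : c ≫ (chartQ W ∣_ V) = chartQ W' ≫ l' := by
      rw [← cancel_mono V.ι, Category.assoc, Category.assoc, morphismRestrict_ι, reassoc_of% hc, hl', hl]
    rw [← Category.assoc, ← hcq, Category.assoc, hk, reassoc_of% hca, Category.comp_id]
  have h3 : k ≫ l' = 𝟙 _ := by rw [← cancel_mono V.ι, Category.assoc, hl', h1, Category.id_comp]
  have : IsIso l' := ⟨⟨k, h2, h3⟩⟩
  refine ⟨hl' ▸ inferInstance, ?_⟩
  rw [← hl', Scheme.Hom.comp_base, TopCat.coe_comp,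
    Function.Surjective.range_comp l'.surjective, Scheme.Opens.range_ι]
  rfl

end Groth.Agent.Grpd80
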