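import Groth.Agent.Grpd80.OverFieldPoints
import Groth.Agent.Cartier57.Stalk
import Groth.Agent.FBase64.Openness

/-!
Cartier's theorem for groupoid schemes over a field of characteristic zero.
-/

set_option autoImplicit false
universe u
open CategoryTheory CategoryTheory.Limits AlgebraicGeometry IsLocalRing TrivSqZeroExt
open Groth.Agent.Cartier57 (exists_stalk_lift eq_of_specMap_comp mkDual dualMap)

namespace Groth.Agent.Grpd80

variable {S : Scheme.{u}} (G : Grpd.GroupoidScheme S) {k : Type u} [Field k]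
  (eU : G.U ≅ Spec (CommRingCat.of k))

local notation "O" => G.R.presheaf.stalk (e₀ G eU)

/-- `k → O_e` through `s`. -/
noncomputable def strS : CommRingCat.of k ⟶ O :=
  Spec.preimage (G.R.fromSpecStalk (e₀ G eU) ≫ G.s ≫ eU.hom)

/-- `k → O_e` through `t`. -/
noncomputable def strT : CommRingCat.of k ⟶ O :=
  Spec.preimage (G.R.fromSpecStalk (e₀ G eU) ≫ G.t ≫ eU.hom)

/-- Evaluation at the identity. -/
noncomputable def evE : O ⟶ CommRingCat.of k :=
  (exists_stalk_lift (R := CommRingCat.of k) (eU.inv ≫ G.e) rfl).choose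

theorem evE_spec : Spec.map (evE G eU) ≫ G.R.fromSpecStalk (e₀ G eU) = eU.inv ≫ G.e :=
  (exists_stalk_lift (R := CommRingCat.of k) (eU.inv ≫ G.e) rfl).choose_spec

theorem strS_evE : strS G eU ≫ evE G eU = 𝟙 _ := by
  apply Spec.map_injective
  rw [Spec.map_comp, strS, Spec.map_preimage, ← Category.assoc, evE_spec, Spec.map_id]
  simp

theorem strT_evE : strT G eU ≫ evE G eU = 𝟙 _ := by
  apply Spec.map_injective
  rw [Spec.map_comp, strT, Spec.map_preimage, ← Category.assoc, evE_spec, Spec.map_id]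
  simp

/-- The arrow of a map out of the local ring at the identity. -/
noncomputable def arr {R : CommRingCat.{u}} (f : O ⟶ R) : Spec R ⟶ G.R :=
  Spec.map f ≫ G.R.fromSpecStalk (e₀ G eU)

theorem arr_s {R : CommRingCat.{u}} (f : O ⟶ R) :
    arr G eU f ≫ G.s = Spec.map (strS G eU ≫ f) ≫ eU.inv := by
  rw [arr, Spec.map_comp, strS, Spec.map_preimage]
  simp

theorem arr_t {R : CommRingCat.{u}} (f : O ⟶ R) :
    arr G eU f ≫ G.t = Spec.map (strT G eU ≫ f) ≫ eU.inv := by
  rw [arr, Spec.map_comp, strT, Spec.map_preimage]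
  simp

theorem arr_evE {R : CommRingCat.{u}} (c : CommRingCat.of k ⟶ R) :
    arr G eU (evE G eU ≫ c) = (Spec.map c ≫ eU.inv) ≫ G.e := by
  rw [arr, Spec.map_comp, Category.assoc, evE_spec, Category.assoc]

theorem comp_arr {R R' : CommRingCat.{u}} (f : O ⟶ R) (g : R ⟶ R') :
    Spec.map g ≫ arr G eU f = arr G eU (f ≫ g) := by
  rw [arr, arr, Spec.map_comp, Category.assoc]

/-- Invariant derivations with prescribed value at the identity. -/
theorem exists_derivation_grpd (ℓ : O → k)
    (hadd : ∀ a b, ℓ (a + b) = ℓ a + ℓ b)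
    (hmul : ∀ a b, ℓ (a * b) = evE G eU a * ℓ b + evE G eU b * ℓ a)
    (hk : ∀ c : k, ℓ (strS G eU c) = 0) :
    ∃ D : O → O,
      (∀ a b, D (a + b) = D a + D b) ∧ (∀ a b, D (a * b) = a * D b + b * D a) ∧
      (∀ c, D (strS G eU c) = 0) ∧ ∀ a, evE G eU (D a) = ℓ a := by
  let DO := CommRingCat.of (DualNumber O)
  let i : O ⟶ DO := CommRingCat.ofHom (inlHom O O)
  let r : DO ⟶ O := CommRingCat.ofHom (fstHom O O O).toRingHom
  let q : DO ⟶ CommRingCat.of (DualNumber k) := CommRingCat.ofHom (dualMap (evE G eU).hom)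
  let v : O ⟶ DO := CommRingCat.ofHom
    (mkDual (evE G eU ≫ strT G eU).hom (fun a => strT G eU (ℓ a))
      (fun a b => (congrArg _ (hadd a b)).trans (map_add _ _ _))
      (fun a b => (congrArg _ (hmul a b)).trans <| (map_add _ _ _).trans <|
        congrArg₂ _ (map_mul _ _ _) (map_mul _ _ _)))
  have hevS : ∀ c, evE G eU (strS G eU c) = c := fun c => congr($(strS_evE G eU) c)
  have hevT : ∀ c, evE G eU (strT G eU c) = c := fun c => congr($(strT_evE G eU) c)
  have hv : strS G eU ≫ v = strT G eU ≫ i := CommRingCat.hom_ext (RingHom.ext fun c => by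
    show inl (strT G eU (evE G eU (strS G eU c))) + inr (strT G eU (ℓ (strS G eU c))) =
      inl (strT G eU c)
    rw [hevS, hk, map_zero, inr_zero, add_zero])
  have hvr : v ≫ r = evE G eU ≫ strT G eU := CommRingCat.hom_ext (RingHom.ext fun a => by
    show (inl (strT G eU (evE G eU a)) + inr (strT G eU (ℓ a)) : DualNumber O).fst =
      strT G eU (evE G eU a)
    simp)
  let i2 : CommRingCat.of k ⟶ CommRingCat.of (DualNumber k) := CommRingCat.ofHom (inlHom k k)
  have hiq : i ≫ q = evE G eU ≫ i2 := CommRingCat.hom_ext (RingHom.ext fun a => by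
    show dualMap (evE G eU).hom (inl a) = inl (evE G eU a)
    refine TrivSqZeroExt.ext ?_ ?_
    · simp
    · simp only [Cartier57.snd_dualMap, snd_inl]; exact map_zero _)
  have hvs : arr G eU v ≫ G.s = arr G eU i ≫ G.t := by rw [arr_s, arr_t, hv]
  let P := mul G (arr G eU v) (arr G eU i) hvs
  have hPr : Spec.map r ≫ P = arr G eU (𝟙 O) := by
    have hir : i ≫ r = 𝟙 O := rfl
    rw [comp_mul_eq _ _ _ _ (arr G eU (evE G eU ≫ strT G eU)) (arr G eU (𝟙 O))
      (by rw [arr_s, arr_t, reassoc_of% (strS_evE G eU), Category.comp_id]) (by rw [comp_arr, hvr])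
      (by rw [comp_arr, hir])]
    refine mul_unit_left _ ?_
    rw [arr_evE, ← Category.assoc, arr_t, Category.comp_id]
  have hPq : Spec.map q ≫ P = arr G eU (v ≫ q) := by
    rw [comp_mul_eq _ _ _ _ (arr G eU (v ≫ q)) (arr G eU (evE G eU ≫ i2))
      (by rw [arr_s, arr_t, reassoc_of% hv, hiq]) (comp_arr G eU v q) (by rw [comp_arr, hiq])]
    refine mul_unit_right _ ?_
    rw [arr_evE, ← Category.assoc (arr G eU (v ≫ q)) G.s G.e, arr_s, reassoc_of% hv, hiq,
      ← Category.assoc (strT G eU), strT_evE, Category.id_comp]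
  have hPs : P ≫ G.s = arr G eU i ≫ G.s := mul_s _ _ _
  have hpt : P (closedPoint DO) = e₀ G eU := by
    have h2 : Spec.map r (closedPoint O) = closedPoint DO := by
      have : IsLocalHom r.hom := ⟨fun a ha => by
        rw [TrivSqZeroExt.isUnit_iff_isUnit_fst]; exact ha⟩
      exact Spec_closedPoint
    rw [← h2, ← Scheme.Hom.comp_apply, hPr, arr, Spec.map_id, Category.id_comp]
    exact Scheme.fromSpecStalk_closedPoint
  obtain ⟨ψ, hψ⟩ := exists_stalk_lift (R := DO) P hpt
  have hfst : ψ ≫ r = 𝟙 O := eq_of_specMap_comp (by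
    rw [Spec.map_comp, Category.assoc, hψ]
    exact hPr)
  have hval : ψ ≫ q = v ≫ q := eq_of_specMap_comp (by
    rw [Spec.map_comp, Category.assoc, hψ]
    exact hPq)
  have hstr : strS G eU ≫ ψ = strS G eU ≫ i := by
    apply Spec.map_injective
    rw [← cancel_mono eU.inv, ← arr_s, ← arr_s, ← hPs]
    exact congrArg (· ≫ G.s) hψ
  have hf : ∀ a, (ψ a).fst = a := fun a => congr($hfst a)
  refine ⟨fun a => (ψ a).snd, fun a b => ?_, fun a b => ?_, fun c => ?_, fun a => ?_⟩
  · show (ψ (a + b)).snd = _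
    rw [map_add, snd_add]
  · show (ψ (a * b)).snd = _
    rw [map_mul, DualNumber.snd_mul, hf, hf]
    ring
  · show ((strS G eU ≫ ψ) c).snd = 0
    rw [hstr]
    exact snd_inl _ _
  · have h : (dualMap (evE G eU).hom (ψ a)).snd =
        (dualMap (evE G eU).hom (inl (strT G eU (evE G eU a)) + inr (strT G eU (ℓ a)) : DualNumber O)).snd :=
      congr(($hval a).snd)
    rw [Cartier57.snd_dualMap, Cartier57.snd_dualMap, snd_add, snd_inl, snd_inr, zero_add] at h
    exact h.trans (hevT _)

theorem isDomain_stalk_e₀ [CharZero k] [LocallyOfFiniteType G.s] : IsDomain O := by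
  have := LocallyOfFiniteType.isLocallyNoetherian (strF G eU)
  let : Algebra k O := (strS G eU).hom.toAlgebra
  have hev : ∀ c, evE G eU (strS G eU c) = c := fun c => congr($(strS_evE G eU) c)
  have hker : ∀ a, evE G eU a = 0 ↔ a ∈ maximalIdeal O := by
    have : (RingHom.ker (evE G eU).hom).IsMaximal :=
      RingHom.ker_isMaximal_of_surjective _ fun c => ⟨strS G eU c, hev c⟩
    intro a
    rw [← IsLocalRing.eq_maximalIdeal this]
    rfl
  have hres : ∀ a, a - strS G eU (evE G eU a) ∈ maximalIdeal _ := fun a =>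
    (hker _).1 (by rw [map_sub, hev, sub_self])
  refine Cartier57.isDomain_of_derivations (K := k) (fun a => ⟨_, hres a⟩) fun ℓ hℓ => ?_
  obtain ⟨D, h1, h2, h3, h4⟩ := exists_derivation_grpd G eU
    (fun a => ℓ (a - strS G eU (evE G eU a)))
    (fun a b => by
      show ℓ (a + b - strS G eU (evE G eU (a + b))) = _
      rw [← map_add ℓ]; congr 1; rw [map_add]; erw [map_add]; ring)
    (fun a b => by
      show ℓ (a * b - strS G eU (evE G eU (a * b))) = _
      set a' := a - strS G eU (evE G eU a)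
      set b' := b - strS G eU (evE G eU b)
      have h0 : ℓ (a' * b') = 0 := hℓ _ (by rw [pow_two]; exact Ideal.mul_mem_mul (hres a) (hres b))
      have e : a * b - strS G eU (evE G eU (a * b)) = evE G eU a • b' + evE G eU b • a' + a' * b' := by
        simp only [Algebra.smul_def, a', b', map_mul]
        show _ = strS G eU (evE G eU a) * _ + strS G eU (evE G eU b) * _ + _
        ring
      rw [e, map_add, map_add, h0, add_zero, map_smul, map_smul, smul_eq_mul, smul_eq_mul])
    (fun c => by
      show ℓ (strS G eU c - strS G eU (evE G eU (strS G eU c))) = 0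
      rw [hev, sub_self, map_zero])
  refine ⟨Derivation.mk' { toFun := D, map_add' := h1, map_smul' := fun c a => ?_ } h2, fun a ha => ?_⟩
  · rw [RingHom.id_apply, Algebra.smul_def, Algebra.smul_def, h2]
    show strS G eU c * D a + a * D (strS G eU c) = _
    rw [h3, mul_zero, add_zero]; rfl
  · refine (hker _).1 ?_
    show evE G eU (D a - strS G eU (ℓ a)) = 0
    rw [map_sub, hev, h4, (hker a).2 ha, map_zero, sub_zero, sub_self]

include eU in
theorem smooth_of_charZero [CharZero k] [LocallyOfFiniteType G.s] : Smooth G.s ∧ Smooth G.t := by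
  have := LocallyOfFiniteType.isLocallyNoetherian (strF G eU)
  have := isDomain_stalk_e₀ G eU
  let V : G.R.Opens := ⟨_, FBase64.isOpen_setOf_isDomain_stalk (Y := G.R)⟩
  have hV : ∀ y : (V : Scheme.{u}), _root_.IsReduced ((V : Scheme.{u}).presheaf.stalk y) := fun y => by
    have : IsDomain (G.R.presheaf.stalk ((Scheme.Opens.ι V) y)) := y.2
    have : _root_.IsReduced (G.R.presheaf.stalk ((Scheme.Opens.ι V) y)) := inferInstance
    exact isReduced_of_injective (asIso (Scheme.Hom.stalkMap (Scheme.Opens.ι V) y)).commRingCatIsoToRingEquiv.symm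
      (RingEquiv.injective _)
  have : AlgebraicGeometry.IsReduced (V : Scheme.{u}) := isReduced_of_isReduced_stalk _
  have : Nonempty (V : Scheme.{u}) := ⟨⟨e₀ G eU, isDomain_stalk_e₀ G eU⟩⟩
  obtain ⟨y, hy⟩ := (Scheme.Opens.ι V ≫ strF G eU).dense_smoothLocus_of_perfectField.nonempty
  rw [← Scheme.Hom.preimage_smoothLocus_eq] at hy
  have := smooth_of_mem G eU _ hy
  exact ⟨this, smooth_t_of_s G⟩

end Groth.Agent.Grpd80
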