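import Groth.Agent.Grpd80.Subgrpd
import Groth.Agent.Grpd80.FieldImage

set_option autoImplicit false
universe u
open CategoryTheory CategoryTheory.Limits AlgebraicGeometry

namespace Groth.Agent.Grpd80

variable {S : Scheme.{u}} {G₁ G₂ : Grpd.GroupoidScheme S} (a : Grpd.GroupoidScheme.Hom G₁ G₂)

lemma i_map : G₁.i ≫ a.fR = a.fR ≫ G₂.i := by
  have h1 : G₁.i ≫ G₁.s = 𝟙 _ ≫ G₁.t := by simp
  have e := mul_map a G₁.i (𝟙 _) h1
  rw [mul_inv_left h1 (by simp)] at e
  refine eq_of_mul_right (γ := a.fR) (h := by simp [a.comm_s, a.comm_t]) (h' := by simp) ?_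
  rw [mul_inv_left (α := a.fR ≫ G₂.i) _ rfl, reassoc_of% a.comm_s, ← e_map a]
  simp only [Category.id_comp, Category.assoc] at e ⊢
  exact e.symm

/-- The inclusion of a subgroupoid. -/
noncomputable def Sub.hom {G : Grpd.GroupoidScheme S} (H : Sub G) :
    Grpd.GroupoidScheme.Hom H.toGrpd G where
  fU := 𝟙 G.U
  fR := H.ι
  fU_over := Category.id_comp _
  comm_s := (Category.comp_id _).symm
  comm_t := (Category.comp_id _).symm
  comm_c α β h := by
    exact (Category.assoc _ _ _).trans (Sub.lift_comp_ι H α β h)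

instance {G : Grpd.GroupoidScheme S} (H : Sub G) : IsIso H.hom.fU := inferInstanceAs (IsIso (𝟙 G.U))

end Groth.Agent.Grpd80
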