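import Groth.Agent.Grpd80.HomInv
import Groth.Agent.Grpd80.OverField
import Mathlib.AlgebraicGeometry.Morphisms.SchemeTheoreticallyDominant
import Mathlib.AlgebraicGeometry.Morphisms.ClosedImmersion

/-!
Scheme theoretic image of a morphism of groupoid schemes over a field.
-/

set_option autoImplicit false
universe u
open CategoryTheory CategoryTheory.Limits AlgebraicGeometry

namespace Groth.Agent.Grpd80

lemma flat_to_point {U X : Scheme.{u}} {k : Type u} [Field k]
    (eU : U ≅ Spec (CommRingCat.of k)) (f : X ⟶ U) : Flat f := by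
  obtain ⟨h1, h2⟩ := isIntegral_subsingleton_of_iso eU
  infer_instance

/-- A morphism is scheme theoretically dominant onto its image. -/
theorem isSTD_toImage {X Y : Scheme.{u}} (f : X ⟶ Y) [QuasiCompact f] :
    IsSchemeTheoreticallyDominant f.toImage := by
  rw [isSchemeTheoreticallyDominant_iff]
  let U (V : Y.affineOpens) : f.image.affineOpens := ⟨f.imageι ⁻¹ᵁ V.1, V.2.preimage f.imageι⟩
  refine Scheme.IdealSheafData.ext_of_iSup_eq_top U ?_ fun V => ?_
  · simp only [U, ← Scheme.Hom.preimage_iSup, iSup_affineOpens_eq_top, Scheme.Hom.preimage_top]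
  · rw [Scheme.Hom.ker_apply, Scheme.IdealSheafData.ideal_bot, Pi.bot_apply,
      ← RingHom.injective_iff_ker_eq_bot]
    exact f.toImage_app_injective _

/-- Pullback of scheme theoretically dominant morphisms over a point. -/
theorem isSTD_map {U X Y X' Y' : Scheme.{u}} {k : Type u} [Field k]
    (eU : U ≅ Spec (CommRingCat.of k)) (f : X' ⟶ U) (g : Y' ⟶ U) (p : X ⟶ X') (q : Y ⟶ Y')
    [IsSchemeTheoreticallyDominant p] [QuasiCompact p] [IsSchemeTheoreticallyDominant q]
    [QuasiCompact q] :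
    IsSchemeTheoreticallyDominant (pullback.map (p ≫ f) (q ≫ g) f g p q (𝟙 U) (by simp) (by simp)) ∧
    QuasiCompact (pullback.map (p ≫ f) (q ≫ g) f g p q (𝟙 U) (by simp) (by simp)) := by
  have := flat_to_point eU f
  have := flat_to_point eU (q ≫ g)
  let e := pullbackRightPullbackFstIso f (q ≫ g) p
  let e' := pullbackLeftPullbackSndIso f g q
  let m₁ : pullback (p ≫ f) (q ≫ g) ⟶ pullback f (q ≫ g) :=
    e.inv ≫ pullback.snd p (pullback.fst f (q ≫ g))
  let m₂ : pullback f (q ≫ g) ⟶ pullback f g := e'.inv ≫ pullback.fst (pullback.snd f g) q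
  have he : pullback.map (p ≫ f) (q ≫ g) f g p q (𝟙 U) (by simp) (by simp) = m₁ ≫ m₂ := by
    apply pullback.hom_ext
    · simp only [m₁, m₂, e, e', pullback.map, pullback.lift_fst, Category.assoc,
        pullbackLeftPullbackSndIso_inv_fst]
      rw [← pullback.condition, pullbackRightPullbackFstIso_inv_fst_assoc]
    · simp only [m₁, m₂, e, e', pullback.map, pullback.lift_snd, Category.assoc,
        pullback.condition]
      rw [pullbackLeftPullbackSndIso_inv_snd_snd_assoc,
        pullbackRightPullbackFstIso_inv_snd_snd_assoc]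
  rw [he]
  have : Flat (pullback.snd f g) := by
    have := flat_to_point eU f
    infer_instance
  have : Flat (pullback.fst f (q ≫ g)) := inferInstance
  exact ⟨inferInstance, inferInstance⟩

/-- Factorisation through a closed immersion can be tested on a scheme theoretically dominant
cover. -/
theorem exists_lift_of_std {X Y Z W : Scheme.{u}} (ι : Z ⟶ W) [IsClosedImmersion ι] (π : X ⟶ Y)
    [IsSchemeTheoreticallyDominant π] (φ : Y ⟶ W) (h : ∃ l : X ⟶ Z, l ≫ ι = π ≫ φ) :
    ∃ l : Y ⟶ Z, l ≫ ι = φ := by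
  obtain ⟨l, hl⟩ := h
  refine ⟨IsClosedImmersion.lift ι φ ?_, IsClosedImmersion.lift_fac _ _ _⟩
  have h1 : (π ≫ φ).ker = φ.ker := by
    rw [Scheme.Hom.ker_comp, π.ker_eq_bot, Scheme.IdealSheafData.map_bot]
  rw [← h1, ← hl]
  exact Scheme.Hom.le_ker_comp _ _

variable {S : Scheme.{u}} {G₁ G₂ : Grpd.GroupoidScheme S}

/-- The scheme theoretic image is a subgroupoid. -/
noncomputable def imageSub (f : Grpd.GroupoidScheme.Hom G₁ G₂) [IsIso f.fU] [QuasiCompact f.fR]
    {k : Type u} [Field k] (eU : G₂.U ≅ Spec (CommRingCat.of k)) : Sub G₂ where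
  P := f.fR.image
  ι := f.fR.imageι
  hι := inferInstance
  unit := ⟨inv f.fU ≫ G₁.e ≫ f.fR.toImage, by
    rw [Category.assoc, Category.assoc, Scheme.Hom.toImage_imageι, e_map, IsIso.inv_hom_id_assoc]⟩
  inv := by
    have := isSTD_toImage f.fR
    exact exists_lift_of_std f.fR.imageι f.fR.toImage (f.fR.imageι ≫ G₂.i)
      ⟨G₁.i ≫ f.fR.toImage, by
        rw [Category.assoc, Scheme.Hom.toImage_imageι, ← Category.assoc f.fR.toImage,
          Scheme.Hom.toImage_imageι, i_map]⟩
  mul := by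
    have := isSTD_toImage f.fR
    let π := f.fR.toImage
    let ι := f.fR.imageι
    obtain ⟨_, _⟩ := isSTD_map eU (ι ≫ G₂.s) (ι ≫ G₂.t) π π
    let P := pullback (ι ≫ G₂.s) (ι ≫ G₂.t)
    have hw : (pullback.fst _ _ ≫ ι : P ⟶ G₂.R) ≫ G₂.s = (pullback.snd _ _ ≫ ι) ≫ G₂.t := by
      rw [Category.assoc, Category.assoc, pullback.condition]
    let Q := pullback (π ≫ ι ≫ G₂.s) (π ≫ ι ≫ G₂.t)
    let m : Q ⟶ P := pullback.map _ _ _ _ π π (𝟙 G₂.U) (by simp) (by simp)
    have hQ : (pullback.fst _ _ : Q ⟶ G₁.R) ≫ G₁.s = pullback.snd _ _ ≫ G₁.t := by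
      have h := pullback.condition (f := π ≫ ι ≫ G₂.s) (g := π ≫ ι ≫ G₂.t)
      have es : π ≫ ι ≫ G₂.s = G₁.s ≫ f.fU := by simp [π, ι, f.comm_s]
      have et : π ≫ ι ≫ G₂.t = G₁.t ≫ f.fU := by simp [π, ι, f.comm_t]
      rw [← cancel_mono f.fU, Category.assoc, Category.assoc]
      exact ((congrArg (_ ≫ ·) es.symm).trans h).trans (congrArg (_ ≫ ·) et)
    obtain ⟨c, hc⟩ := exists_lift_of_std ι m (mul G₂ _ _ hw)
      ⟨mul G₁ _ _ hQ ≫ π, by
        rw [Category.assoc, Scheme.Hom.toImage_imageι, mul_map, comp_mul]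
        exact mul_congr _ _
          (by simp [m, π, ι, pullback.map, pullback.lift_fst_assoc])
          (by simp [m, π, ι, pullback.map, pullback.lift_snd_assoc])⟩
    intro T a b h
    refine ⟨pullback.lift a b (by simpa using h) ≫ c, ?_⟩
    rw [Category.assoc, hc, comp_mul]
    exact mul_congr _ _ (pullback.lift_fst_assoc _ _ _ _) (pullback.lift_snd_assoc _ _ _ _)

/-- The scheme theoretic image of a morphism of groupoid schemes over a field is a groupoid scheme. -/
theorem exists_image_grpd (f : Grpd.GroupoidScheme.Hom G₁ G₂) [IsIso f.fU] [QuasiCompact f.fR]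
    {k : Type u} [Field k] (eU : G₂.U ≅ Spec (CommRingCat.of k)) :
    ∃ (G' : Grpd.GroupoidScheme S) (ψ : Grpd.GroupoidScheme.Hom G' G₂),
      IsIso ψ.fU ∧ IsClosedImmersion ψ.fR ∧ ψ.fR.ker = f.fR.ker :=
  ⟨_, (imageSub f eU).hom, inferInstance, inferInstanceAs (IsClosedImmersion f.fR.imageι),
    f.fR.ker.ker_subschemeι⟩

end Groth.Agent.Grpd80
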