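import Groth.Agent.Grpd80.SliceStab
import Groth.Agent.Grpd80.Shear
import Groth.Agent.Grpd80.CMLocus
import Groth.Agent.S1347
import Groth.Agent.S4961
import Groth.Agent.SpPts86.SliceLocus
import Groth.Agent.Desc59.EtaleDim
import Groth.Prelude.Def_Flat

/-!
Slices of a groupoid with Cohen–Macaulay source map through a point of finite type.
-/

set_option autoImplicit false
set_option backward.isDefEq.respectTransparency.types false
set_option linter.style.haveILetI false
universe u

open CategoryTheory CategoryTheory.Limits AlgebraicGeometry IsLocalRing RingTheory.Sequence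

namespace Groth.Agent.Grpd80.Slice

variable {S : Scheme.{u}} (G : Grpd.GroupoidScheme S) {Z : Scheme.{u}} (i : Z ⟶ G.U)

/-- The arrows ending in the slice, mapped by their source. -/
noncomputable abbrev h : pullback i G.t ⟶ G.U := pullback.snd i G.t ≫ G.s

/-- Moving an arrow that ends in the slice by a composable arrow. -/
noncomputable def φ : pullback (h G i) G.t ⟶ pullback i G.t :=
  pullback.lift (pullback.fst _ _ ≫ pullback.fst i G.t)
    (mul G (pullback.fst _ _ ≫ pullback.snd i G.t) (pullback.snd _ _)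
      (by rw [Category.assoc]; exact pullback.condition))
    (by rw [Category.assoc, mul_t, Category.assoc, pullback.condition])

lemma φ_fst : φ G i ≫ pullback.fst i G.t = pullback.fst _ _ ≫ pullback.fst i G.t :=
  pullback.lift_fst _ _ _

lemma φ_snd : φ G i ≫ pullback.snd i G.t =
    mul G (pullback.fst _ _ ≫ pullback.snd i G.t) (pullback.snd (h G i) G.t)
      (by rw [Category.assoc]; exact pullback.condition) :=
  pullback.lift_snd _ _ _

lemma φ_h : φ G i ≫ h G i = pullback.snd (h G i) G.t ≫ G.s := by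
  rw [reassoc_of% φ_snd, mul_s]

theorem isPullback_φ : IsPullback (φ G i) (pullback.snd (h G i) G.t) (h G i) G.s := by
  refine ⟨⟨φ_h G i⟩, ⟨PullbackCone.IsLimit.mk _ (fun c => ?_) (fun c => ?_) (fun c => ?_) fun c m hm₁ hm₂ => ?_⟩⟩
  · exact pullback.lift
      (pullback.lift (c.fst ≫ pullback.fst i G.t)
        (mul G (c.fst ≫ pullback.snd i G.t) (c.snd ≫ G.i)
          (by rw [Category.assoc, c.condition, Category.assoc, i_t']))
        (by rw [Category.assoc, mul_t, Category.assoc, pullback.condition]))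
      c.snd (by rw [pullback.lift_snd_assoc, mul_s, Category.assoc, i_s'])
  · apply pullback.hom_ext
    · rw [Category.assoc, φ_fst, pullback.lift_fst_assoc, pullback.lift_fst]
    · rw [Category.assoc, φ_snd, comp_mul]
      refine (mul_congr (α' := mul G (c.fst ≫ pullback.snd i G.t) (c.snd ≫ G.i)
          (by rw [Category.assoc, c.condition, Category.assoc, i_t'])) (β' := c.snd) _
        (by rw [mul_s, Category.assoc, i_s']) ?_ (pullback.lift_snd _ _ _)).trans ?_
      · rw [pullback.lift_fst_assoc, pullback.lift_snd]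
      · rw [mul_assoc' _ _ _ _ (by rw [Category.assoc, i_s'])]
        refine mul_unit_right _ ?_
        rw [mul_inv_left _ rfl, Category.assoc, ← reassoc_of% c.condition]
  · exact pullback.lift_snd _ _ _
  · apply pullback.hom_ext
    · apply pullback.hom_ext
      · rw [pullback.lift_fst, pullback.lift_fst, ← hm₁, Category.assoc, Category.assoc, φ_fst]
      · rw [pullback.lift_fst, pullback.lift_snd]
        have hx : (m ≫ pullback.fst (h G i) G.t ≫ pullback.snd i G.t) ≫ G.s = c.snd ≫ G.t := by
          rw [← hm₂, Category.assoc, Category.assoc, Category.assoc, ← pullback.condition]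
        have e : c.fst ≫ pullback.snd i G.t =
            mul G (m ≫ pullback.fst (h G i) G.t ≫ pullback.snd i G.t) c.snd hx := by
          rw [← hm₁, Category.assoc, φ_snd, comp_mul]
          exact mul_congr _ _ rfl hm₂
        rw [mul_congr (α' := mul G (m ≫ pullback.fst (h G i) G.t ≫ pullback.snd i G.t) c.snd hx)
          (β' := c.snd ≫ G.i) _ (by rw [mul_s, Category.assoc, i_t']) e rfl,
          mul_assoc' _ _ _ _ (by rw [Category.assoc, i_t']), Category.assoc]
        refine (mul_unit_right _ ?_).symm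
        rw [mul_inv_right _ rfl]
        simp only [Category.assoc] at hx ⊢
        rw [reassoc_of% hx]
    · rw [pullback.lift_snd, hm₂]

/-- Two arrows ending at the same point of the slice differ by an arrow. -/
theorem exists_rel (x x' : ↥(pullback i G.t))
    (e : pullback.fst i G.t x = pullback.fst i G.t x') :
    ∃ y : ↥(pullback (h G i) G.t), pullback.fst (h G i) G.t y = x ∧ φ G i y = x' := by
  let p₁ := pullback.fst (pullback.fst i G.t) (pullback.fst i G.t)
  let p₂ := pullback.snd (pullback.fst i G.t) (pullback.fst i G.t)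
  let a := p₁ ≫ pullback.snd i G.t
  let b := p₂ ≫ pullback.snd i G.t
  have hab : a ≫ G.t = b ≫ G.t := by
    simp only [a, b, p₁, p₂, Category.assoc, ← pullback.condition]
    exact pullback.condition_assoc _
  have hab' : (a ≫ G.i) ≫ G.s = b ≫ G.t := by rw [Category.assoc, i_s', hab]
  let θ : pullback (pullback.fst i G.t) (pullback.fst i G.t) ⟶ pullback (h G i) G.t :=
    pullback.lift p₁ (mul G (a ≫ G.i) b hab') (by rw [mul_t]; simp [a, h])
  have hθ : θ ≫ φ G i = p₂ := by
    apply pullback.hom_ext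
    · rw [Category.assoc, φ_fst, pullback.lift_fst_assoc]; exact pullback.condition
    · rw [Category.assoc, φ_snd, comp_mul]
      refine (mul_congr (α' := a) (β' := mul G (a ≫ G.i) b hab') _
        (by rw [mul_t]; simp [a]) ?_ (pullback.lift_snd _ _ _)).trans
          (mul_inv_cancel_left _ _ hab')
      rw [pullback.lift_fst_assoc]
  obtain ⟨z, hz₁, hz₂⟩ := Scheme.Pullback.exists_preimage_pullback x x' e
  refine ⟨θ z, ?_, ?_⟩
  · rw [← Scheme.Hom.comp_apply, pullback.lift_fst, hz₁]
  · rw [← Scheme.Hom.comp_apply, hθ, hz₂]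

/-- An open condition on arrows ending in the slice which is invariant under moving comes from the
slice. -/
theorem exists_sat [Flat G.t] [LocallyOfFinitePresentation G.t] (Pp : ↥(pullback i G.t) → Prop)
    (hopen : IsOpen {x | Pp x})
    (hinv : ∀ y : ↥(pullback (h G i) G.t), Pp (pullback.fst (h G i) G.t y) ↔ Pp (φ G i y)) :
    ∃ Z₀ : Z.Opens, ∀ x, pullback.fst i G.t x ∈ Z₀ ↔ Pp x := by
  refine ⟨⟨pullback.fst i G.t '' {x | Pp x}, (pullback.fst i G.t).isOpenMap _ hopen⟩,
    fun x => ⟨?_, fun hx => ⟨x, hx, rfl⟩⟩⟩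
  rintro ⟨x', hx', e⟩
  obtain ⟨y, rfl, rfl⟩ := exists_rel G i x' x e
  exact (hinv y).1 hx'

/-- The Cohen–Macaulay property commutes with flat base change. -/
theorem cm_iff_of_flat {X Y X' Y' : Scheme.{u}} {g' : X' ⟶ X} {f' : X' ⟶ Y'} {f : X ⟶ Y} {g : Y' ⟶ Y}
    (sq : IsPullback g' f' f g) [LocallyOfFiniteType f] [Flat g] [LocallyOfFiniteType g] (x : X') :
    MoreMor.IsCMAt f' x ↔ MoreMor.IsCMAt f (g' x) := by
  have hN : ∀ y, IsLocallyNoetherian (f.fiber y) := fun y =>
    have : LocallyOfFiniteType (f.fiberToSpecResidueField y) :=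
      MorphismProperty.pullback_snd (P := @LocallyOfFiniteType) f _ inferInstance
    LocallyOfFiniteType.isLocallyNoetherian (f.fiberToSpecResidueField y)
  exact ⟨Groth.Agent.S1347.result f hN f' g' g sq x (Flat.stalkMap g _),
    Groth.Agent.S1345.result f hN f' g' g sq x⟩

/-- The Cohen–Macaulay property along an open immersion. -/
theorem cm_comp_open {X' X Y : Scheme.{u}} (k : X' ⟶ X) [IsOpenImmersion k] (f : X ⟶ Y) (g : X' ⟶ Y)
    (hg : k ≫ f = g) (z : X') : MoreMor.IsCMAt g z ↔ MoreMor.IsCMAt f (k z) := by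
  obtain ⟨e⟩ := fibQuot_of_openImmersion k f g hg z
  rw [cm_iff_fibQuot, cm_iff_fibQuot]
  exact and_congr (Unr55.stalkMap_iff_of_square RingHom.Flat.respectsIso f g k (𝟙 Y)
    (by rw [Category.comp_id, hg]) z).symm ⟨CAlg1.cm_of_ringEquiv e.symm, CAlg1.cm_of_ringEquiv e⟩

section Cut

variable (u : G.U) [hu : Fact (LocallyOfFiniteType (G.U.fromSpecResidueField u))]

omit hu in
lemma isClosed_e [LocallyOfFiniteType G.s] :
    IsClosed ({G.s.asFiber (G.e u)} : Set ↥(G.s.fiber (G.s (G.e u)))) := by
  have hsr : G.s (G.e u) = u := by rw [← Scheme.Hom.comp_apply, G.e_s]; rfl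
  let x₀ := G.U.fromSpecResidueField u
  let σ : Spec (G.U.residueField u) ⟶ G.s.fiber u := pullback.lift (x₀ ≫ G.e) (𝟙 _)
    ((Category.assoc _ _ _).trans ((congrArg (x₀ ≫ ·) G.e_s).trans
      ((Category.comp_id _).trans (Category.id_comp _).symm)))
  let q : G.s.fiber u ⟶ Spec (CommRingCat.of (G.U.residueField u)) := G.s.fiberToSpecResidueField u
  have : LocallyOfFiniteType q :=
    MorphismProperty.pullback_snd (P := @LocallyOfFiniteType) G.s _ inferInstance
  have hcl := isClosed_section (K := G.U.residueField u) q σ (pullback.lift_snd _ _ _)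
  have hσ : G.s.fiberι u (σ (closedPoint _)) = G.e u :=
    (congrArg (fun f : Spec (G.U.residueField u) ⟶ G.R => f (closedPoint _))
      (pullback.lift_fst _ _ _ : σ ≫ G.s.fiberι u = x₀ ≫ G.e)).trans
      (congrArg G.e (Scheme.fromSpecResidueField_apply u _))
  rw [isClosed_asFiber_iff, hsr, ← hσ, ← G.s.range_fiberι u, ← Set.image_singleton,
    ← Set.image_preimage_eq_inter_range, ← (G.s.fiberι u).isEmbedding.closure_eq_preimage_closure_image,
    hcl.closure_eq]

/-- A slice through `u` cutting the fibre of the source at the identity down to dimension `d`, for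
any `d` at least the dimension of the stabilizer. -/
theorem exists_cut [LocallyOfFinitePresentation G.s] (hcm : MoreMor.IsCMAt G.s (G.e u))
    (d k : ℕ) (hd : topologicalKrullDim ↥(G.stabilizerToU.fiber u) ≤ d)
    (hk : FlatMor.fibreDimAt G.s (G.e u) = (d + k : ℕ)) :
    ∃ (Z : Scheme.{u}) (_ : IsAffine Z) (i : Z ⟶ G.U) (_ : IsImmersion i)
      (_ : LocallyOfFinitePresentation i) (p : ↥(pullback i G.t)),
      pullback.snd i G.t p = G.e u ∧ i (pullback.fst i G.t p) = u ∧
      MoreMor.IsCMAt (h G i) p ∧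
      IsClosed ({(h G i).asFiber p} : Set ↥((h G i).fiber (h G i p))) ∧
      ringKrullDim (FibQuot (h G i) p) = d := by
  let r := G.e u
  have htr : G.t r = u := by rw [← Scheme.Hom.comp_apply, G.e_t]; rfl
  obtain ⟨W, hW, hrW, -⟩ := exists_isAffineOpen_mem_and_subset (U := (⊤ : G.U.Opens)) (x := G.t r) trivial
  let I : Ideal Γ(G.U, W) := (hW.primeIdealOf ⟨G.t r, hrW⟩).asIdeal
  let A := FibQuot G.s r
  have hA : LocCoh.IsCohenMacaulayLocalRing A := ((cm_iff_fibQuot G.s r).1 hcm).2
  let φ₀ : Γ(G.U, W) →+* A := fibMap G.s G.t r hrW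
  have : IsLocalRing A := hA.toIsLocalRing
  have : IsLocalHom (Ideal.Quotient.mk (fibIdeal G.s r)) := IsLocalHom.of_surjective _ Ideal.Quotient.mk_surjective
  have hI' : ∀ o ∈ I, φ₀ o ∈ maximalIdeal A := fun o ho =>
    map_nonunit (Ideal.Quotient.mk (fibIdeal G.s r)) _ (fibMap_mem G.t r hW hrW o ho)
  have hImap : I.map φ₀ = (fibIdeal G.t r).map (Ideal.Quotient.mk (fibIdeal G.s r)) := by
    letI := TopCat.Presheaf.algebra_section_stalk G.U.presheaf ⟨G.t r, hrW⟩
    haveI : IsLocalization.AtPrime (G.U.presheaf.stalk (G.t r)) I :=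
      hW.isLocalization_stalk ⟨G.t r, hrW⟩
    show I.map φ₀ = ((maximalIdeal (G.U.presheaf.stalk (G.t r))).map (G.t.stalkMap r).hom).map _
    rw [← IsLocalization.AtPrime.map_eq_maximalIdeal I (G.U.presheaf.stalk (G.t r)),
      Ideal.map_map, Ideal.map_map]
    rfl
  have hdim : ringKrullDim (A ⧸ I.map φ₀) = topologicalKrullDim ↥(G.stabilizerToU.fiber u) := by
    rw [hImap, ringKrullDim_eq_of_ringEquiv (DoubleQuot.quotQuotEquivQuotSup _ _)]
    exact ringKrullDim_stab G u
  have hn : Module.supportDim A A = (d + k : ℕ) := by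
    rw [Module.supportDim_self_eq_ringKrullDim, ← hk, fibreDimAt_eq_fibQuot G.s r (isClosed_e G u)]
  obtain ⟨os, -, hos, hreg, hos0⟩ := exists_regularSeq_le φ₀ I hI' d (hdim.le.trans hd) k
    (M := A) hA.supportDim_eq_depth hn
  obtain ⟨p, hp, hflat, ⟨e⟩⟩ := slice_at G.s G.t r hcm.1 hW hrW os hos hreg
  let mk₀ : Γ(G.U, W) ⟶ CommRingCat.of (Γ(G.U, W) ⧸ Ideal.ofList os) :=
    CommRingCat.ofHom (Ideal.Quotient.mk (Ideal.ofList os))
  have : IsClosedImmersion (Spec.map mk₀) :=
    IsClosedImmersion.spec_of_surjective _ Ideal.Quotient.mk_surjective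
  have : LocallyOfFinitePresentation (Spec.map mk₀) := by
    classical
    refine (HasRingHomProperty.Spec_iff (P := @LocallyOfFinitePresentation)).2
      (RingHom.FinitePresentation.of_surjective _ Ideal.Quotient.mk_surjective ?_)
    change (RingHom.ker (Ideal.Quotient.mk _)).FG
    rw [Ideal.mk_ker]
    exact ⟨os.toFinset, congrArg Ideal.span (Set.ext fun x => List.mem_toFinset)⟩
  let i := Spec.map mk₀ ≫ hW.fromSpec
  have : IsPreimmersion (pullback.snd i G.t) :=
    MorphismProperty.pullback_snd (P := @IsPreimmersion) i G.t inferInstance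
  let J := Ideal.ofList (os.map φ₀)
  have hosm : ∀ x ∈ os.map φ₀, x ∈ maximalIdeal A := by
    intro x hx
    obtain ⟨o, ho, rfl⟩ := List.mem_map.1 hx
    exact hI' o (hos o ho)
  have hJ : J ≤ maximalIdeal A := Ideal.span_le.2 hosm
  let eJ : (A ⧸ (J • (⊤ : Submodule A A))) ≃ₗ[A] A ⧸ J :=
    Submodule.quotEquivOfEq _ _ (by rw [Ideal.smul_eq_mul, Ideal.mul_top])
  have hAJ : LocCoh.IsCohenMacaulayLocalRing (A ⧸ J) := by
    have : Nontrivial (A ⧸ J) :=
      Ideal.Quotient.nontrivial_iff.2 (ne_top_of_le_ne_top (maximalIdeal.isMaximal A).ne_top hJ)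
    have : IsLocalRing (A ⧸ J) := IsLocalRing.of_surjective' _ Ideal.Quotient.mk_surjective
    have : IsLocalHom (algebraMap A (A ⧸ J)) := IsLocalHom.of_surjective _ Ideal.Quotient.mk_surjective
    have h1 := EGA4Alg4.isCohenMacaulayModule_quotient hA.supportDim_eq_depth hreg hosm
    rw [LocCoh.IsCohenMacaulayModule, Module.supportDim_eq_of_equiv eJ,
      EGA4Alg4.depth_eq_of_equiv eJ, Module.supportDim_quotient_eq_ringKrullDim,
      EGA4Alg4.depth_eq_of_finite (A := A) (B := A ⧸ J) (A ⧸ J)] at h1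
    exact { supportDim_eq_depth := by rw [Module.supportDim_self_eq_ringKrullDim]; exact h1 }
  have hclp : IsClosed ({(h G i).asFiber p} : Set ↥((h G i).fiber (h G i p))) := by
    rw [isClosed_asFiber_iff]
    refine Set.eq_singleton_iff_unique_mem.2 ⟨⟨subset_closure rfl, rfl⟩, fun y ⟨hy₁, hy₂⟩ => ?_⟩
    have hr := (isClosed_asFiber_iff G.s r).1 (isClosed_e G u)
    have : pullback.snd i G.t y ∈ closure {r} ∩ G.s ⁻¹' {G.s r} := by
      refine ⟨?_, ?_⟩
      · rw [← hp, ← Set.image_singleton]
        exact image_closure_subset_closure_image (pullback.snd i G.t).continuous ⟨y, hy₁, rfl⟩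
      · have e : (h G i) y = (h G i) p := hy₂
        rw [Scheme.Hom.comp_apply, Scheme.Hom.comp_apply, hp] at e
        exact e
    rw [hr] at this
    exact (pullback.snd i G.t).isEmbedding.injective (this.trans hp.symm)
  refine ⟨_, inferInstance, i, inferInstance, inferInstance, p, hp, ?_,
    (cm_iff_fibQuot _ _).2 ⟨hflat, CAlg1.cm_of_ringEquiv e.symm hAJ⟩, hclp, ?_⟩
  · rw [← Scheme.Hom.comp_apply, pullback.condition, Scheme.Hom.comp_apply, hp, htr]
  · rw [ringKrullDim_eq_of_ringEquiv e, ← Module.supportDim_quotient_eq_ringKrullDim,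
      ← Module.supportDim_eq_of_equiv eJ]
    exact hos0

end Cut

end Groth.Agent.Grpd80.Slice
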