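import Groth.Agent.Grpd80.OrbitCutAlg
import Groth.Agent.Grpd80.SliceMain
import Mathlib.RingTheory.Regular.Flat

/-!
Slices through an orbit of a groupoid which meet the orbit in finitely many points.
-/

set_option autoImplicit false
set_option backward.isDefEq.respectTransparency.types false
set_option linter.style.haveILetI false
universe u

open CategoryTheory CategoryTheory.Limits AlgebraicGeometry IsLocalRing RingTheory.Sequence

namespace Groth.Agent.Grpd80.Slice

lemma stalkMap_germ_appLE' {X Y : Scheme.{u}} (f : X ⟶ Y) (W : Y.Opens) (e : ⊤ ≤ f ⁻¹ᵁ W) (m : X) (a : Γ(Y, W)) :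
    (f.stalkMap m).hom ((Y.presheaf.germ W (f m) (e (x := m) trivial)).hom a) =
      (X.presheaf.germ ⊤ m trivial).hom ((f.appLE W ⊤ e).hom a) :=
  FlatMor66.stalkMap_germ_appLE f e (x := m) trivial a

/-- A slice through the orbit of a point closed in its fibre, flat over that point, with finite trace on the orbit. -/
theorem exists_orbit_slice {S : Scheme.{u}} (G : Grpd.GroupoidScheme S)
    [LocallyOfFiniteType G.pU] [Flat G.s] [LocallyOfFinitePresentation G.s] [QuasiCompact G.t]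
    (x : G.U) (hx : closure ({x} : Set ↥G.U) ∩ G.pU ⁻¹' {G.pU x} = {x})
    {W : G.U.Opens} (hW : IsAffineOpen W) (hxW : x ∈ W) :
    ∃ os : List Γ(G.U, W),
      (∃ p, h G (Spec.map (CommRingCat.ofHom (Ideal.Quotient.mk (Ideal.ofList os))) ≫ hW.fromSpec) p = x) ∧
      {z | ∃ r : G.R, G.s r = x ∧
        G.t r = (Spec.map (CommRingCat.ofHom (Ideal.Quotient.mk (Ideal.ofList os))) ≫ hW.fromSpec) z}.Finite ∧
      ∀ p, h G (Spec.map (CommRingCat.ofHom (Ideal.Quotient.mk (Ideal.ofList os))) ≫ hW.fromSpec) p = x →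
        ((h G (Spec.map (CommRingCat.ofHom (Ideal.Quotient.mk (Ideal.ofList os))) ≫ hW.fromSpec)).stalkMap p).hom.Flat := by
  classical
  -- the part of the fibre landing in `W`
  let Fb := G.s.fiber x
  let ι₀ := G.s.fiberι x
  let O : Fb.Opens := ι₀ ⁻¹ᵁ G.t ⁻¹ᵁ W
  have : QuasiCompact (G.U.fromSpecResidueField x) :=
    ⟨fun _ _ _ => (Set.subsingleton_of_subsingleton.finite).isCompact⟩
  have : QuasiCompact ι₀ := MorphismProperty.pullback_fst (P := @QuasiCompact) _ _ ‹_›
  have hO : IsCompact (O : Set Fb) :=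
    ι₀.isCompact_preimage (G.t.isCompact_preimage hW.isCompact)
  have : CompactSpace O.toScheme := isCompact_iff_compactSpace.mp hO
  let 𝒰 := O.toScheme.affineCover.finiteSubcover
  let f : ∀ k, 𝒰.X k ⟶ Fb := fun k => 𝒰.f k ≫ O.ι
  have hfaff : ∀ k, IsAffine (𝒰.X k) := fun k => by dsimp [𝒰]; infer_instance
  let τ : ∀ k, 𝒰.X k ⟶ G.U := fun k => (f k ≫ ι₀) ≫ G.t
  have hτ : ∀ k, ⊤ ≤ τ k ⁻¹ᵁ W := fun k z _ => by
    show (f k ≫ ι₀ ≫ G.t) z ∈ W
    exact (𝒰.f k z).2
  let φ : ∀ k, Γ(G.U, W) →+* Γ(𝒰.X k, ⊤) := fun k => ((τ k).appLE W ⊤ (hτ k)).hom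
  -- finite type over the residue field
  have hlft : ∀ k, LocallyOfFiniteType (f k ≫ G.s.fiberToSpecResidueField x) := fun k =>
    have : LocallyOfFiniteType (G.s.fiberToSpecResidueField x) :=
      MorphismProperty.pullback_snd (P := @LocallyOfFiniteType) G.s _ inferInstance
    inferInstance
  have hring : ∀ k, IsNoetherianRing Γ(𝒰.X k, ⊤) ∧ IsJacobsonRing Γ(𝒰.X k, ⊤) := fun k => by
    have := hlft k
    have hft := (HasRingHomProperty.iff_of_isAffine (P := @LocallyOfFiniteType)).1 this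
    have hft' : ((Scheme.ΓSpecIso (G.U.residueField x)).inv ≫
        (f k ≫ G.s.fiberToSpecResidueField x).appTop).hom.FiniteType :=
      hft.comp (RingHom.FiniteType.of_surjective _
        (Scheme.ΓSpecIso (G.U.residueField x)).commRingCatIsoToRingEquiv.symm.surjective)
    algebraize [((Scheme.ΓSpecIso (G.U.residueField x)).inv ≫
      (f k ≫ G.s.fiberToSpecResidueField x).appTop).hom]
    exact ⟨Algebra.FiniteType.isNoetherianRing (G.U.residueField x) _,
      isJacobsonRing_of_finiteType (A := G.U.residueField x)⟩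
  have : ∀ k, IsNoetherianRing Γ(𝒰.X k, ⊤) := fun k => (hring k).1
  have : ∀ k, IsJacobsonRing Γ(𝒰.X k, ⊤) := fun k => (hring k).2
  -- the fibre over the image in the base
  let F₀ := G.pU.fiber (G.pU x)
  let ξ : Spec (G.U.residueField x) ⟶ F₀ := pullback.lift (G.U.fromSpecResidueField x)
    (Spec.map (G.pU.residueFieldMap x)) (by rw [Scheme.Hom.SpecMap_residueFieldMap_fromSpecResidueField])
  have hξ : ξ ≫ G.pU.fiberι (G.pU x) = G.U.fromSpecResidueField x := pullback.lift_fst _ _ _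
  have : IsPreimmersion (ξ ≫ G.pU.fiberι (G.pU x)) := by rw [hξ]; infer_instance
  have : IsPreimmersion ξ := IsPreimmersion.of_comp ξ (G.pU.fiberι (G.pU x))
  have hξr : Set.range ξ = {G.pU.asFiber x} := by
    refine Set.eq_singleton_iff_nonempty_unique_mem.2 ⟨Set.range_nonempty _, ?_⟩
    rintro _ ⟨z, rfl⟩
    apply (G.pU.fiberι (G.pU x)).isEmbedding.injective
    rw [G.pU.fiberι_asFiber, ← Scheme.Hom.comp_apply, hξ, Scheme.fromSpecResidueField_apply]
  have hcl₀ : IsClosed ({G.pU.asFiber x} : Set F₀) := (isClosed_asFiber_iff G.pU x).2 hx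
  have : IsClosedImmersion ξ := .of_isPreimmersion ξ (hξr ▸ hcl₀)
  have : LocallyOfFiniteType (G.pU.fiberToSpecResidueField (G.pU x)) :=
    MorphismProperty.pullback_snd (P := @LocallyOfFiniteType) G.pU _ inferInstance
  have : LocallyOfFiniteType (Spec.map (G.pU.residueFieldMap x)) := by
    rw [show Spec.map (G.pU.residueFieldMap x) = ξ ≫ G.pU.fiberToSpecResidueField (G.pU x) from
      (pullback.lift_snd _ _ _).symm]
    infer_instance
  have : JacobsonSpace F₀ :=
    LocallyOfFiniteType.jacobsonSpace (G.pU.fiberToSpecResidueField (G.pU x))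
  let g : ∀ k, 𝒰.X k ⟶ F₀ := fun k => pullback.lift (τ k)
    ((f k ≫ G.s.fiberToSpecResidueField x) ≫ Spec.map (G.pU.residueFieldMap x)) (by
      simp only [τ, ι₀, Category.assoc]
      rw [Scheme.Hom.SpecMap_residueFieldMap_fromSpecResidueField, G.t_over, ← G.s_over,
        ← reassoc_of% (G.s.fiber_fac x)])
  have hg : ∀ k, LocallyOfFiniteType (g k) := fun k => by
    have : LocallyOfFiniteType (g k ≫ G.pU.fiberToSpecResidueField (G.pU x)) := by
      rw [show g k ≫ G.pU.fiberToSpecResidueField (G.pU x) = _ from pullback.lift_snd _ _ _]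
      have := hlft k
      infer_instance
    exact locallyOfFiniteType_of_comp (g k) (G.pU.fiberToSpecResidueField (G.pU x))
  let pt : ∀ k, (P : Ideal Γ(𝒰.X k, ⊤)) → P.IsPrime → 𝒰.X k := fun k P hP =>
    (isAffineOpen_top (𝒰.X k)).fromSpec ⟨P, hP⟩
  have hpt : ∀ k P (hP : P.IsPrime),
      P.comap (φ k) = (hW.primeIdealOf ⟨τ k (pt k P hP), hτ k (x := _) trivial⟩).asIdeal := by
    intro k P hP
    have h1 := IsAffineOpen.comap_primeIdealOf_appLE (f := τ k) W hW ⊤ (isAffineOpen_top _) (hτ k)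
      (x := pt k P hP) trivial
    have h2 : (isAffineOpen_top (𝒰.X k)).primeIdealOf ⟨pt k P hP, trivial⟩ = ⟨P, hP⟩ :=
      (isAffineOpen_top (𝒰.X k)).fromSpec.isOpenEmbedding.injective
        ((isAffineOpen_top (𝒰.X k)).fromSpec_primeIdealOf _)
    rw [h2] at h1
    exact congrArg PrimeSpectrum.asIdeal h1
  have hcl : ∀ (i j) (M : Ideal Γ(𝒰.X i, ⊤)), M.IsMaximal → ∀ P : Ideal Γ(𝒰.X j, ⊤), P.IsPrime →
      M.comap (φ i) ≤ P.comap (φ j) → P.comap (φ j) = M.comap (φ i) := by
    intro i j M hM P hP hle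
    rw [hpt i M hM.isPrime, hpt j P hP] at hle ⊢
    let m := pt i M hM.isPrime
    let m' := pt j P hP
    have hm : IsClosed ({m} : Set (𝒰.X i)) := by
      have e : ({m} : Set (𝒰.X i)) = (isAffineOpen_top (𝒰.X i)).fromSpec '' {⟨M, hM.isPrime⟩} := by
        rw [Set.image_singleton]
      rw [e, IsAffineOpen.fromSpec_top]
      exact ((𝒰.X i).isoSpec.inv.homeomorph.isClosedMap) _
        ((PrimeSpectrum.isClosed_singleton_iff_isMaximal _).2 hM)
    have := hg i
    have hgm : IsClosed ({g i m} : Set F₀) := (g i).closePoints_subset_preimage_closedPoints hm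
    have hspec : τ i m ⤳ τ j m' := by
      have h := ((PrimeSpectrum.le_iff_specializes _ _).1 hle).map hW.fromSpec.continuous
      rwa [hW.fromSpec_primeIdealOf, hW.fromSpec_primeIdealOf] at h
    have hτg : ∀ k z, G.pU.fiberι (G.pU x) (g k z) = τ k z := fun k z => by
      rw [← Scheme.Hom.comp_apply, show g k ≫ G.pU.fiberι (G.pU x) = τ k from pullback.lift_fst _ _ _]
    have hsp' : g i m ⤳ g j m' :=
      (G.pU.fiberι (G.pU x)).isEmbedding.toIsInducing.specializes_iff.1 (by rw [hτg, hτg]; exact hspec)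
    have heq : g j m' = g i m := by
      have h := hsp'.mem_closure
      rwa [hgm.closure_eq] at h
    have : τ j m' = τ i m := by rw [← hτg, ← hτg, heq]
    exact congrArg (fun z => (hW.primeIdealOf z).asIdeal) (Subtype.ext this)
  have hne : ∃ k, Nontrivial Γ(𝒰.X k, ⊤) := by
    obtain ⟨r, hr₁, hr₂⟩ := exists_unit G x
    subst hr₁
    have hrO : G.s.asFiber r ∈ O := by
      show G.t (ι₀ (G.s.asFiber r)) ∈ W
      rw [G.s.fiberι_asFiber, hr₂]; exact hxW
    obtain ⟨k, z, -⟩ := 𝒰.exists_eq (⟨_, hrO⟩ : O.toScheme)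
    exact ⟨k, ((isAffineOpen_top (𝒰.X k)).primeIdealOf ⟨z, trivial⟩).nontrivial⟩
  obtain ⟨os, hreg, ⟨k₀, hk₀⟩, hfin⟩ := exists_cut_image (fun k => Γ(𝒰.X k, ⊤)) φ hcl hne
  refine ⟨os, ?_⟩
  let i := Spec.map (CommRingCat.ofHom (Ideal.Quotient.mk (Ideal.ofList os))) ≫ hW.fromSpec
  have hrange : ∀ u, u ∈ Set.range i ↔ ∃ hu : u ∈ W, ∀ o ∈ os, o ∈ (hW.primeIdealOf ⟨u, hu⟩).asIdeal := by
    intro u
    constructor
    · rintro ⟨w, rfl⟩
      let P : Spec Γ(G.U, W) := Spec.map (CommRingCat.ofHom (Ideal.Quotient.mk (Ideal.ofList os))) w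
      have hu : hW.fromSpec P ∈ W := hW.range_fromSpec.le ⟨P, rfl⟩
      refine ⟨hu, fun o ho => ?_⟩
      have e : hW.primeIdealOf ⟨hW.fromSpec P, hu⟩ = P :=
        hW.fromSpec.isOpenEmbedding.injective (hW.fromSpec_primeIdealOf _)
      show o ∈ (hW.primeIdealOf ⟨hW.fromSpec P, hu⟩).asIdeal
      rw [e]
      show Ideal.Quotient.mk (Ideal.ofList os) o ∈ w.asIdeal
      rw [Ideal.Quotient.eq_zero_iff_mem.2 (show o ∈ Ideal.ofList os from Ideal.subset_span ho)]
      exact Ideal.zero_mem _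
    · rintro ⟨hu, hle⟩
      obtain ⟨w, hw⟩ : hW.primeIdealOf ⟨u, hu⟩ ∈
          Set.range (PrimeSpectrum.comap (Ideal.Quotient.mk (Ideal.ofList os))) := by
        rw [range_comap_of_surjective _ _ Ideal.Quotient.mk_surjective, PrimeSpectrum.mem_zeroLocus, Ideal.mk_ker]
        exact Ideal.span_le.2 hle
      exact ⟨w, (congrArg hW.fromSpec hw).trans (hW.fromSpec_primeIdealOf _)⟩
  have hchart : ∀ r : G.R, G.s r = x → G.t r ∈ W → ∃ k m, ι₀ (f k m) = r := by
    rintro r rfl hr
    have hrO : G.s.asFiber r ∈ O := by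
      show G.t (ι₀ (G.s.asFiber r)) ∈ W
      rw [G.s.fiberι_asFiber]; exact hr
    obtain ⟨k, z, hz⟩ := 𝒰.exists_eq (⟨_, hrO⟩ : O.toScheme)
    exact ⟨k, z, by rw [Scheme.Hom.comp_apply, hz]; exact G.s.fiberι_asFiber r⟩
  refine ⟨?_, ?_, ?_⟩
  · obtain ⟨M, hM, hle⟩ := Ideal.exists_le_maximal _ hk₀
    let m := pt k₀ M hM.isPrime
    obtain ⟨w, hw⟩ := (hrange (τ k₀ m)).2 ⟨hτ k₀ (x := m) trivial, fun o ho => by
      rw [← hpt k₀ M hM.isPrime]
      exact hle (Ideal.subset_span (List.mem_map_of_mem (f := φ k₀) ho))⟩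
    obtain ⟨p, hp₁, hp₂⟩ := Scheme.Pullback.exists_preimage_pullback (f := i) (g := G.t) w
      (ι₀ (f k₀ m)) (hw.trans rfl)
    refine ⟨p, ?_⟩
    rw [Scheme.Hom.comp_apply, hp₂, ← Scheme.Hom.comp_apply, G.s.fiber_fac, Scheme.Hom.comp_apply,
      Scheme.fromSpecResidueField_apply]
  · refine Set.Finite.of_finite_image (f := i) ?_ ?_
    · refine ((hfin.preimage (f := fun u : W => (hW.primeIdealOf u).asIdeal) ?_).image Subtype.val).subset ?_
      · intro a _ b _ hab
        have := congrArg hW.fromSpec (PrimeSpectrum.ext hab :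
          hW.primeIdealOf a = hW.primeIdealOf b)
        rw [hW.fromSpec_primeIdealOf, hW.fromSpec_primeIdealOf] at this
        exact Subtype.ext this
      · rintro _ ⟨z, ⟨r, hr, hrt⟩, rfl⟩
        obtain ⟨hu, hle⟩ := (hrange (i z)).1 ⟨z, rfl⟩
        obtain ⟨k, m, hm⟩ := hchart r hr (hrt ▸ hu)
        have hτm : τ k m = i z := by
          rw [Scheme.Hom.comp_apply, Scheme.Hom.comp_apply, hm, hrt]
        let P := ((isAffineOpen_top (𝒰.X k)).primeIdealOf ⟨m, trivial⟩).asIdeal
        have hPm : pt k P inferInstance = m := (isAffineOpen_top (𝒰.X k)).fromSpec_primeIdealOf _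
        have hPc : P.comap (φ k) = (hW.primeIdealOf ⟨i z, hu⟩).asIdeal := by
          rw [hpt k P inferInstance]
          exact congrArg (fun u : W => (hW.primeIdealOf u).asIdeal) (Subtype.ext (by show τ k (pt k P inferInstance) = i z; rw [hPm, hτm]))
        refine ⟨⟨i z, hu⟩, ⟨k, P, inferInstance, ?_, hPc⟩, rfl⟩
        rw [Ideal.ofList, Ideal.span_le]
        intro a ha
        obtain ⟨o, ho, rfl⟩ := List.mem_map.1 ha
        exact hPc.ge (hle o ho)
    · exact (i.isEmbedding.injective).injOn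
  · intro p hp
    let r := pullback.snd i G.t p
    have hrt : G.t r = i (pullback.fst i G.t p) := by
      rw [← Scheme.Hom.comp_apply, ← pullback.condition, Scheme.Hom.comp_apply]
    obtain ⟨hu, hle⟩ := (hrange (G.t r)).1 ⟨_, hrt.symm⟩
    obtain ⟨k, m, hm⟩ := hchart r hp hu
    have hregr : IsWeaklyRegular (FibQuot G.s (ι₀ (f k m))) (os.map (fibMap G.s G.t (ι₀ (f k m)) (hτ k (x := m) trivial))) := by
      haveI : IsOpenImmersion (f k) := inferInstance
      let Θ : FibQuot G.s (ι₀ (f k m)) ≃+* (𝒰.X k).presheaf.stalk m :=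
        (FlatMor68.FibreStalk.fibreStalkEquiv G.s x (f k m)).trans
          (asIso ((f k).stalkMap m)).commRingCatIsoToRingEquiv
      letI := TopCat.Presheaf.algebra_section_stalk (𝒰.X k).presheaf (U := (⊤ : (𝒰.X k).Opens)) ⟨m, trivial⟩
      haveI := (isAffineOpen_top (𝒰.X k)).isLocalization_stalk ⟨m, trivial⟩
      have hr' := (hreg k).of_isLocalization ((𝒰.X k).presheaf.stalk m)
        ((isAffineOpen_top (𝒰.X k)).primeIdealOf ⟨m, trivial⟩).asIdeal.primeCompl
      rw [List.map_map] at hr'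
      refine (AddEquiv.isWeaklyRegular_congr (e := Θ.toAddEquiv) ?_).2 hr'
      rw [List.forall₂_map_left_iff, List.forall₂_map_right_iff, List.forall₂_same]
      intro o _ a
      show Θ (_ * a) = _ * Θ a
      rw [map_mul]
      congr 1
      show ((f k).stalkMap m).hom (FlatMor68.FibreStalk.fibreStalkEquiv G.s x (f k m) (Ideal.Quotient.mk _ _)) = _
      rw [FlatMor68.FibreStalk.fibreStalkEquiv_mk]
      refine Eq.trans ?_ (stalkMap_germ_appLE' (τ k) W (hτ k) m o)
      simp only [Scheme.Hom.stalkMap_comp, f, τ]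
      rfl
    obtain ⟨p', hp', hflat, -⟩ := slice_at G.s G.t (ι₀ (f k m)) (Flat.stalkMap G.s _) hW (hτ k (x := m) trivial) os
      (fun o ho => by
        have h := hle o ho
        have e : (⟨τ k m, hτ k (x := m) trivial⟩ : W) = ⟨G.t r, hu⟩ :=
          Subtype.ext (by show G.t (ι₀ (f k m)) = G.t r; rw [hm])
        rw [← e] at h
        exact h) hregr
    have hpp : p' = p := (pullback.snd i G.t).isEmbedding.injective (hp'.trans hm)
    exact hpp ▸ hflat

end Groth.Agent.Grpd80.Slice
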