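import Mathlib.RingTheory.Regular.RegularSequence
import Mathlib.RingTheory.Ideal.AssociatedPrime.Finiteness
import Mathlib.RingTheory.Jacobson.Ring
import Mathlib.Data.DFinsupp.WellFounded

/-!
Cutting finitely many Noetherian Jacobson algebras down to finite image in the base.
-/

set_option autoImplicit false
universe u

open RingTheory.Sequence

namespace Groth.Agent.Grpd80

/-- If images of maximal ideals are maximal among images of primes, a regular sequence from the base cuts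
the image of the spectra down to a finite nonempty set. -/
theorem exists_cut_image {A : Type u} [CommRing A] {ι : Type u} [Finite ι] (B : ι → Type u)
    [∀ i, CommRing (B i)] [∀ i, IsNoetherianRing (B i)] [∀ i, IsJacobsonRing (B i)] (φ : ∀ i, A →+* B i)
    (hcl : ∀ (i j : ι) (M : Ideal (B i)), M.IsMaximal → ∀ P : Ideal (B j), P.IsPrime →
      M.comap (φ i) ≤ P.comap (φ j) → P.comap (φ j) = M.comap (φ i))
    (h0 : ∃ i, Nontrivial (B i)) :
    ∃ os : List A, (∀ i, IsWeaklyRegular (B i) (os.map (φ i))) ∧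
      (∃ i, Ideal.ofList (os.map (φ i)) ≠ ⊤) ∧
      {q : Ideal A | ∃ i, ∃ P : Ideal (B i), P.IsPrime ∧ Ideal.ofList (os.map (φ i)) ≤ P ∧ P.comap (φ i) = q}.Finite := by
  suffices key : ∀ (J : ∀ i, Ideal (B i)) (os : List A), (∀ i, Ideal.ofList (os.map (φ i)) = J i) →
      (∀ i, IsWeaklyRegular (B i) (os.map (φ i))) → (∃ i, J i ≠ ⊤) →
      ∃ os : List A, (∀ i, IsWeaklyRegular (B i) (os.map (φ i))) ∧
        (∃ i, Ideal.ofList (os.map (φ i)) ≠ ⊤) ∧
        {q : Ideal A | ∃ i, ∃ P : Ideal (B i), P.IsPrime ∧ Ideal.ofList (os.map (φ i)) ≤ P ∧ P.comap (φ i) = q}.Finite by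
    obtain ⟨i, hi⟩ := h0
    exact key (fun i => ⊥) [] (fun i => by simp [Ideal.ofList]) (fun i => by simp)
      ⟨i, bot_ne_top⟩
  intro J
  have : WellFoundedGT (∀ i, Ideal (B i)) :=
    (inferInstance : WellFoundedLT (∀ i, (Ideal (B i))ᵒᵈ))
  induction J using WellFoundedGT.induction with
  | ind J ih =>
  intro os hJ hreg hne
  classical
  let M := fun i => B i ⧸ (Ideal.ofList (os.map (φ i)) • (⊤ : Submodule (B i) (B i)))
  let S : Set (Ideal A) := ⋃ i, (fun p : Ideal (B i) => p.comap (φ i)) '' associatedPrimes (B i) (M i)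
  have hS : S.Finite := Set.finite_iUnion fun i => (associatedPrimes.finite (B i) (M i)).image _
  by_cases hall : ∀ i (m : Ideal (B i)), m.IsMaximal → J i ≤ m → m.comap (φ i) ∈ S
  · refine ⟨os, hreg, ?_, hS.subset ?_⟩
    · obtain ⟨i, hi⟩ := hne
      exact ⟨i, (hJ i).symm ▸ hi⟩
    rintro q ⟨i, P, hP, hle, rfl⟩
    have hPJ : P = sInf {m | P ≤ m ∧ m.IsMaximal} :=
      (IsJacobsonRing.out (inferInstance : IsJacobsonRing (B i)) hP.isRadical).symm
    have hmem : ∀ m ∈ {m | P ≤ m ∧ m.IsMaximal}, m.comap (φ i) ∈ S := fun m hm =>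
      hall i m hm.2 ((hJ i).symm.le.trans (hle.trans hm.1))
    have hfin : ((fun m : Ideal (B i) => m.comap (φ i)) '' {m | P ≤ m ∧ m.IsMaximal}).Finite :=
      hS.subset (Set.image_subset_iff.2 hmem)
    have hinf : hfin.toFinset.inf id ≤ P.comap (φ i) := by
      intro a ha
      rw [Ideal.mem_comap, hPJ, Ideal.mem_sInf]
      intro m hm
      exact (Finset.inf_le (f := id) (hfin.mem_toFinset.2 ⟨m, hm, rfl⟩) : _ ≤ m.comap (φ i)) ha
    obtain ⟨q, hq, hqP⟩ := ((hP.comap (φ i)).inf_le').1 hinf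
    obtain ⟨m, hm, rfl⟩ := hfin.mem_toFinset.1 hq
    rw [hcl i i m hm.2 P hP hqP]
    exact hmem m hm
  push Not at hall
  obtain ⟨i₀, m, hm, hJm, hmS⟩ := hall
  have havoid : ∃ f ∈ m.comap (φ i₀), ∀ q ∈ S, f ∉ q := by
    by_contra! h
    have hsub : (m.comap (φ i₀) : Set A) ⊆ ⋃ q ∈ (hS.toFinset : Set (Ideal A)), (q : Set A) := fun f hf => by
      obtain ⟨q, hq, hfq⟩ := h f hf
      exact Set.mem_iUnion₂.2 ⟨q, hS.mem_toFinset.2 hq, hfq⟩
    obtain ⟨q, hq, hle⟩ := (Ideal.subset_union_prime ⊤ ⊤ (fun q hq _ _ => by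
      obtain ⟨j, p, hp, rfl⟩ := Set.mem_iUnion.1 (hS.mem_toFinset.1 hq)
      exact hp.isPrime.comap _)).1 hsub
    rw [hS.mem_toFinset] at hq
    obtain ⟨j, p, hp, rfl⟩ := Set.mem_iUnion.1 hq
    exact hmS ((hcl i₀ j m hm p hp.isPrime hle) ▸ hq)
  obtain ⟨f, hfm, hfS⟩ := havoid
  have hsm : ∀ i, IsSMulRegular (M i) (φ i f) := by
    intro i
    rw [isSMulRegular_iff_right_eq_zero_of_smul]
    intro x hx
    by_contra hx0
    have hz : φ i f ∈ ⋃ p ∈ associatedPrimes (B i) (M i), (p : Set (B i)) := by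
      rw [biUnion_associatedPrimes_eq_zero_divisors]
      exact ⟨x, hx0, hx⟩
    obtain ⟨p, hp, hfp⟩ := Set.mem_iUnion₂.1 hz
    exact hfS _ (Set.mem_iUnion.2 ⟨i, p, hp, rfl⟩) hfp
  let J' : ∀ i, Ideal (B i) := fun i => Ideal.ofList ((os ++ [f]).map (φ i))
  have hJ' : ∀ i, J' i = J i ⊔ Ideal.span {φ i f} := fun i => by
    simp only [J', List.map_append, Ideal.ofList_append, hJ i, List.map_cons, List.map_nil,
      Ideal.ofList_singleton]
  have hlt : J < J' := by
    refine lt_of_le_not_ge (fun i => (hJ' i).symm ▸ le_sup_left) fun hge => ?_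
    have hf : φ i₀ f ∈ J i₀ := hge i₀ (by
      rw [hJ']; exact Ideal.mem_sup_right (Ideal.mem_span_singleton_self _))
    have h1 : (Submodule.Quotient.mk (1 : B i₀) : M i₀) = 0 := by
      refine isSMulRegular_iff_right_eq_zero_of_smul.1 (hsm i₀) _ ?_
      rw [← Submodule.Quotient.mk_smul, Submodule.Quotient.mk_eq_zero, smul_eq_mul (φ i₀ f), mul_one, smul_eq_mul,
        Ideal.mul_top, hJ]
      exact hf
    rw [Submodule.Quotient.mk_eq_zero, smul_eq_mul, Ideal.mul_top, hJ] at h1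
    exact hm.ne_top (top_le_iff.1 ((Ideal.eq_top_iff_one _).2 h1 ▸ hJm))
  refine ih J' hlt (os ++ [f]) (fun i => rfl) (fun i => ?_) ⟨i₀, ne_top_of_le_ne_top hm.ne_top ?_⟩
  · rw [List.map_append, isWeaklyRegular_append_iff]
    exact ⟨hreg i, (isWeaklyRegular_cons_iff _ _ _).2 ⟨hsm i, IsWeaklyRegular.nil _ _⟩⟩
  · rw [hJ']
    exact sup_le hJm ((Ideal.span_singleton_le_iff_mem _).2 hfm)

end Groth.Agent.Grpd80
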