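import Groth.Agent.Pinch2.Ringed
import Groth.Agent.Desc59.FpqcMor
import Mathlib.AlgebraicGeometry.AffineSpace
import Mathlib.AlgebraicGeometry.Morphisms.UniversallyOpen

/-!
Fppf coverings are coequalizers of their kernel pairs in ringed spaces.
-/

set_option autoImplicit false
set_option backward.isDefEq.respectTransparency.types false
universe u

open CategoryTheory CategoryTheory.Limits AlgebraicGeometry TopologicalSpace Opposite

namespace Groth.Agent.Grpd80.RS

open Pinch2 (toRS secMap secMap_self secMap_comp_apply secMap_congr_apply res_secMap_apply hom_ext_secMap)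

lemma appTop_eq_appLE {X Y : Scheme.{u}} {O : Y.Opens} (g : X ⟶ O.toScheme) (a : Γ(Y, O)) :
    g.appTop (O.topIso.inv a) = (g ≫ O.ι).appLE O ⊤ (fun x _ => (g x).2) a := by
  have e : O.topIso.inv ≫ g.appTop = (g ≫ O.ι).appLE O ⊤ (fun x _ => (g x).2) := by
    rw [← Scheme.Hom.appLE_comp_appLE g O.ι O ⊤ ⊤ (fun x _ => x.2) (fun x _ => trivial),
      Scheme.Opens.ι_appLE, Scheme.Hom.appLE]
    simp [Scheme.Opens.topIso]
    exact congrArg (· ≫ g.app ⊤) (congrArg Y.presheaf.map (Subsingleton.elim _ _))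
  exact congr(($e).hom a)

variable {P V : Scheme.{u}} (h : P ⟶ V) [Flat h] [Surjective h] [LocallyOfFinitePresentation h]

lemma app_injective (W : V.Opens) : Function.Injective (h.app W).hom := by
  let L := (AffineSpace.toSpecMvPolyIntEquiv PUnit.{u + 1} (X := W.toScheme))
  intro a b hab
  apply W.topIso.commRingCatIsoToRingEquiv.symm.injective
  have : Flat (h ∣_ W) := MorphismProperty.of_isPullback (P := @Flat) (isPullback_morphismRestrict h W).flip ‹_›
  have : Surjective (h ∣_ W) :=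
    MorphismProperty.of_isPullback (P := @Surjective) (isPullback_morphismRestrict h W).flip ‹_›
  have : LocallyOfFinitePresentation (h ∣_ W) := MorphismProperty.of_isPullback
    (P := @LocallyOfFinitePresentation) (isPullback_morphismRestrict h W).flip ‹_›
  have key : (h ∣_ W).appTop (W.topIso.inv a) = (h ∣_ W).appTop (W.topIso.inv b) := by
    rw [appTop_eq_appLE, appTop_eq_appLE]
    have e : ∀ c, ((h ∣_ W) ≫ W.ι).appLE W ⊤ (fun x _ => ((h ∣_ W) x).2) c =
        (h ⁻¹ᵁ W).ι.appLE (h ⁻¹ᵁ W) ⊤ (fun x _ => x.2) (h.app W c) := by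
      intro c
      simp only [morphismRestrict_ι, Scheme.Hom.app_eq_appLE]
      rw [← CommRingCat.comp_apply, Scheme.Hom.appLE_comp_appLE]
    rw [e, e]
    exact congrArg _ hab
  have := (cancel_epi (h ∣_ W)).1 (show (h ∣_ W) ≫ L.symm (fun _ => W.topIso.inv a) =
      (h ∣_ W) ≫ L.symm (fun _ => W.topIso.inv b) from
    (AffineSpace.toSpecMvPolyIntEquiv PUnit.{u + 1}).injective (funext fun i => by
      rw [AffineSpace.toSpecMvPolyIntEquiv_comp, AffineSpace.toSpecMvPolyIntEquiv_comp,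
        Equiv.apply_symm_apply, Equiv.apply_symm_apply, key]))
  exact congrFun (L.symm.injective this) PUnit.unit

/-- Functions equal on the two pullbacks descend. -/
lemma exists_descend (W : V.Opens) (a : Γ(P, h ⁻¹ᵁ W))
    (ha : (pullback.fst h h).appLE (h ⁻¹ᵁ W) (pullback.fst h h ⁻¹ᵁ h ⁻¹ᵁ W) le_rfl a =
      (pullback.snd h h).appLE (h ⁻¹ᵁ W) (pullback.fst h h ⁻¹ᵁ h ⁻¹ᵁ W)
        (by rw [← Scheme.Hom.comp_preimage, pullback.condition]; rfl) a) :
    ∃ c, (h.app W).hom c = a := by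
  have : Flat (h ∣_ W) := MorphismProperty.of_isPullback (P := @Flat) (isPullback_morphismRestrict h W).flip ‹_›
  have : Surjective (h ∣_ W) :=
    MorphismProperty.of_isPullback (P := @Surjective) (isPullback_morphismRestrict h W).flip ‹_›
  have : LocallyOfFinitePresentation (h ∣_ W) := MorphismProperty.of_isPullback
    (P := @LocallyOfFinitePresentation) (isPullback_morphismRestrict h W).flip ‹_›
  let L := AffineSpace.toSpecMvPolyIntEquiv PUnit.{u + 1} (X := (h ⁻¹ᵁ W).toScheme)
  let α := L.symm fun _ => (h ⁻¹ᵁ W).topIso.inv a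
  let c := EffectiveEpi.desc (h ∣_ W) α fun {Z} g₁ g₂ hg => by
    apply (AffineSpace.toSpecMvPolyIntEquiv PUnit.{u + 1}).injective
    funext i
    rw [AffineSpace.toSpecMvPolyIntEquiv_comp, AffineSpace.toSpecMvPolyIntEquiv_comp,
      Equiv.apply_symm_apply]
    let l : Z ⟶ pullback h h := pullback.lift (g₁ ≫ (h ⁻¹ᵁ W).ι) (g₂ ≫ (h ⁻¹ᵁ W).ι) (by
      rw [Category.assoc, Category.assoc, ← morphismRestrict_ι, reassoc_of% hg])
    rw [appTop_eq_appLE, appTop_eq_appLE]
    have e₁ : g₁ ≫ (h ⁻¹ᵁ W).ι = l ≫ pullback.fst h h := (pullback.lift_fst _ _ _).symm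
    have e₂ : g₂ ≫ (h ⁻¹ᵁ W).ι = l ≫ pullback.snd h h := (pullback.lift_snd _ _ _).symm
    have hl : ⊤ ≤ l ⁻¹ᵁ pullback.fst h h ⁻¹ᵁ h ⁻¹ᵁ W := fun x _ => by
      show pullback.fst h h (l x) ∈ h ⁻¹ᵁ W
      rw [← Scheme.Hom.comp_apply, ← e₁]
      exact (g₁ x).2
    have q₁ := congrArg (l.appLE _ ⊤ hl) ha
    rw [← CommRingCat.comp_apply, ← CommRingCat.comp_apply, Scheme.Hom.appLE_comp_appLE,
      Scheme.Hom.appLE_comp_appLE] at q₁
    simp only [e₁, e₂]
    exact q₁
  refine ⟨W.topIso.hom (AffineSpace.toSpecMvPolyIntEquiv PUnit.{u + 1} c PUnit.unit), ?_⟩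
  have hc : (h ∣_ W) ≫ c = α := EffectiveEpi.fac _ _ _
  have h1 := congrFun (congrArg (AffineSpace.toSpecMvPolyIntEquiv PUnit.{u + 1}) hc) PUnit.unit
  rw [AffineSpace.toSpecMvPolyIntEquiv_comp, Equiv.apply_symm_apply] at h1
  apply (h ⁻¹ᵁ W).topIso.commRingCatIsoToRingEquiv.symm.injective
  refine Eq.trans ?_ h1
  have e : W.topIso.hom ≫ h.app W ≫ (h ⁻¹ᵁ W).topIso.inv = (h ∣_ W).appTop := by
    rw [← Scheme.Hom.resLE_eq_morphismRestrict, Scheme.Hom.app_eq_appLE]
    exact (Scheme.Hom.resLE_app_top h le_rfl).symm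
  exact congr(($e).hom _)

include h in
theorem exists_desc {X : SheafedSpace CommRingCat.{u}} (k : toRS.obj P ⟶ X)
    (hk : toRS.map (pullback.fst h h) ≫ k = toRS.map (pullback.snd h h) ≫ k) :
    ∃ g : toRS.obj V ⟶ X, toRS.map h ≫ g = k := by
  have hpt : ∀ x y : P, h x = h y → k.hom.base x = k.hom.base y := by
    intro x y hxy
    obtain ⟨z, hz₁, hz₂⟩ := Scheme.Pullback.exists_preimage_pullback (f := h) (g := h) x y hxy
    rw [← hz₁, ← hz₂]
    exact congrArg (fun f : toRS.obj (pullback h h) ⟶ X => f.hom.base z) hk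
  choose σ hσ using h.surjective
  let h₀ : V → X := fun v => k.hom.base (σ v)
  have h₀h : ∀ x, h₀ (h x) = k.hom.base x := fun x => hpt _ _ (hσ _)
  have hcont : Continuous h₀ := ⟨fun O hO => by
    have e : h₀ ⁻¹' O = h '' (k.hom.base ⁻¹' O) := by
      ext v
      exact ⟨fun hv => ⟨σ v, hv, hσ v⟩, fun ⟨x, hx, e⟩ => by
        rw [Set.mem_preimage, ← e, h₀h]; exact hx⟩
    rw [e]
    exact h.isOpenMap _ (hO.preimage k.hom.base.hom.continuous)⟩
  let hb : ((toRS.obj V).carrier : TopCat) ⟶ X.carrier := TopCat.ofHom ⟨h₀, hcont⟩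
  let O : Opens X → V.Opens := fun U => (Opens.map hb).obj U
  have hO : ∀ U, h ⁻¹ᵁ O U ≤ (Opens.map k.hom.base).obj U := fun U x hx => by
    show k.hom.base x ∈ U
    rw [← h₀h]; exact hx
  have hex : ∀ (U : Opens X) (t : X.presheaf.obj (op U)), ∃ r : Γ(V, O U),
      h.app (O U) r = secMap k U (h ⁻¹ᵁ O U) (hO U) t := by
    intro U t
    refine exists_descend h (O U) _ ?_
    exact ((secMap_comp_apply (toRS.map (pullback.fst h h)) k U _ _ (hO U) le_rfl t).trans
      (secMap_congr_apply hk U _ _ _ t)).trans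
      (secMap_comp_apply (toRS.map (pullback.snd h h)) k U _ _ (hO U)
        (show pullback.fst h h ⁻¹ᵁ h ⁻¹ᵁ O U ≤ pullback.snd h h ⁻¹ᵁ h ⁻¹ᵁ O U by
          rw [← Scheme.Hom.comp_preimage, pullback.condition]; exact le_rfl) t).symm
  choose r hr using hex
  have inj := app_injective h
  let c₀ : ∀ U : Opens X, X.presheaf.obj (op U) →+* Γ(V, O U) := fun U =>
    { toFun := r U
      map_one' := inj _ (by show h.app _ _ = h.app _ _; rw [hr, map_one, map_one]; rfl)
      map_mul' := fun x y => inj _ (by show h.app _ _ = h.app _ _; rw [hr, map_mul, map_mul, hr, hr]; rfl)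
      map_zero' := inj _ (by show h.app _ _ = h.app _ _; rw [hr, map_zero, map_zero]; rfl)
      map_add' := fun x y => inj _ (by show h.app _ _ = h.app _ _; rw [hr, map_add, map_add, hr, hr]; rfl) }
  let cc : X.presheaf ⟶ (TopCat.Presheaf.pushforward CommRingCat hb).obj V.presheaf :=
    { app := fun U => CommRingCat.ofHom (c₀ U.unop)
      naturality := fun U U' f => by
        refine CommRingCat.hom_ext (RingHom.ext fun t => ?_)
        have hle : U'.unop ≤ U.unop := leOfHom f.unop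
        have hO' : O U'.unop ≤ O U.unop := fun p hp => hle hp
        show r U'.unop (X.presheaf.map (homOfLE hle).op t) = V.presheaf.map (homOfLE hO').op (r U.unop t)
        refine inj _ ?_
        refine (hr _ _).trans ((res_secMap_apply k hle (h.preimage_mono hO') (hO U.unop) (hO U'.unop) t).trans ?_)
        rw [← CommRingCat.comp_apply (V.presheaf.map _), h.naturality, CommRingCat.comp_apply (h.app _), hr]
        rfl }
  let m : toRS.obj V ⟶ X := InducedCategory.homMk ⟨hb, cc⟩
  refine ⟨m, ?_⟩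
  have hbase : (toRS.map h ≫ m).hom.base = k.hom.base :=
    TopCat.hom_ext (ContinuousMap.ext fun x => h₀h x)
  refine hom_ext_secMap _ _ hbase fun U => ?_
  refine CommRingCat.hom_ext (RingHom.ext fun t => ?_)
  refine ((secMap_comp_apply (toRS.map h) m U (O U) _ le_rfl le_rfl t).symm.trans ?_)
  show (secMap (toRS.map h) (O U) (h ⁻¹ᵁ O U) le_rfl) (secMap m U (O U) le_rfl t) = _
  exact (congr($(secMap_self (toRS.map h) (O U)) _)).trans
    ((congrArg (h.app (O U)) congr($(secMap_self m U) t)).trans (hr U t))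

theorem epi_toRS : Epi (toRS.map h) := by
  constructor
  intro X g₁ g₂ e
  have hbase : g₁.hom.base = g₂.hom.base := TopCat.hom_ext (ContinuousMap.ext fun v => by
    obtain ⟨x, rfl⟩ := h.surjective v
    exact congrArg (fun f : toRS.obj P ⟶ X => f.hom.base x) e)
  refine hom_ext_secMap g₁ g₂ hbase fun U => CommRingCat.hom_ext (RingHom.ext fun t => ?_)
  refine app_injective h _ ?_
  refine (congr($(secMap_self (toRS.map h) _) _)).symm.trans (Eq.trans ?_ (congr($(secMap_self (toRS.map h) _) _)))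
  exact (secMap_comp_apply (toRS.map h) g₁ U _ _ le_rfl le_rfl t).trans
    ((secMap_congr_apply e U _ _ _ t).trans (secMap_comp_apply (toRS.map h) g₂ U _ _ (hbase ▸ le_rfl) le_rfl t).symm)

end Groth.Agent.Grpd80.RS
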