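import Groth.Agent.Grpd80.SliceMain

/-!
Slices of Cohen–Macaulay groupoids, shrunk to the invariant good locus.
-/

set_option autoImplicit false
set_option backward.isDefEq.respectTransparency.types false
universe u

open CategoryTheory CategoryTheory.Limits AlgebraicGeometry IsLocalRing

namespace Groth.Agent.Grpd80.Slice

variable {S : Scheme.{u}} (G : Grpd.GroupoidScheme S) (u : G.U)
  [hu : Fact (LocallyOfFiniteType (G.U.fromSpecResidueField u))]

omit hu in
lemma flat_s_of_cm (hs : ∀ r : G.R, Grpd.IsCMAt G.s r) : Flat G.s :=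
  (Flat.iff_flat_stalkMap G.s).2 fun r => (hs r).1

/-- The two dimensions at a point of finite type are natural numbers. -/
theorem exists_dims [LocallyOfFinitePresentation G.s] (hcm : MoreMor.IsCMAt G.s (G.e u)) :
    ∃ d k : ℕ, topologicalKrullDim ↥(G.stabilizerToU.fiber u) = (d : ℕ) ∧
      FlatMor.fibreDimAt G.s (G.e u) = (d + k : ℕ) := by
  let r := G.e u
  let A := FibQuot G.s r
  have hA : LocCoh.IsCohenMacaulayLocalRing A := ((cm_iff_fibQuot G.s r).1 hcm).2
  have : IsLocalRing A := hA.toIsLocalRing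
  have : IsLocalHom (Ideal.Quotient.mk (fibIdeal G.s r)) := IsLocalHom.of_surjective _ Ideal.Quotient.mk_surjective
  let J : Ideal A := (fibIdeal G.t r).map (Ideal.Quotient.mk (fibIdeal G.s r))
  have hJ : J ≤ maximalIdeal A := by
    refine Ideal.map_le_iff_le_comap.2 fun a ha => ?_
    refine map_nonunit (Ideal.Quotient.mk (fibIdeal G.s r)) a ?_
    have hle : fibIdeal G.t r ≤ maximalIdeal (G.R.presheaf.stalk r) :=
      Ideal.map_le_iff_le_comap.2 fun b hb => map_nonunit (G.t.stalkMap r).hom b hb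
    exact hle ha
  have : Nontrivial (A ⧸ J) :=
    Ideal.Quotient.nontrivial_iff.2 (ne_top_of_le_ne_top (maximalIdeal.isMaximal A).ne_top hJ)
  obtain ⟨n, hn⟩ := EGA4Alg4.exists_supportDim_eq (A := A) (M := A)
  obtain ⟨d, hd⟩ := EGA4Alg4.exists_supportDim_eq (A := A) (M := A ⧸ J)
  rw [Module.supportDim_quotient_eq_ringKrullDim] at hd
  rw [Module.supportDim_self_eq_ringKrullDim] at hn
  have hdn : d ≤ n := by
    have h := ringKrullDim_quotient_le (R := A) J
    rw [hd, hn] at h
    exact_mod_cast h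
  refine ⟨d, n - d, ?_, ?_⟩
  · rw [← ringKrullDim_stab G u, ← hd]
    exact (ringKrullDim_eq_of_ringEquiv (DoubleQuot.quotQuotEquivQuotSup _ _)).symm
  · rw [fibreDimAt_eq_fibQuot G.s r (isClosed_e G u), Nat.add_sub_cancel' hdn]
    exact hn

omit hu in
/-- Shrink a slice to the part where an invariant open condition holds. -/
theorem exists_shrink [Flat G.t] [LocallyOfFinitePresentation G.t] {Z : Scheme.{u}} (i : Z ⟶ G.U)
    [IsImmersion i] [LocallyOfFinitePresentation i] (Pp : ↥(pullback i G.t) → Prop)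
    (hopen : IsOpen {x | Pp x})
    (hinv : ∀ y : ↥(pullback (h G i) G.t), Pp (pullback.fst (h G i) G.t y) ↔ Pp (φ G i y))
    (p : ↥(pullback i G.t)) (hp : Pp p) :
    ∃ (Z₁ : Scheme.{u}) (_ : IsAffine Z₁) (g : Z₁ ⟶ G.U) (_ : IsImmersion g)
      (_ : LocallyOfFinitePresentation g) (κ : pullback g G.t ⟶ pullback i G.t) (_ : IsOpenImmersion κ)
      (p₁ : ↥(pullback g G.t)),
      κ ≫ h G i = h G g ∧ κ p₁ = p ∧ g (pullback.fst g G.t p₁) = i (pullback.fst i G.t p) ∧
      pullback.snd g G.t p₁ = pullback.snd i G.t p ∧ ∀ x, Pp (κ x) := by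
  obtain ⟨Z₀, hZ₀⟩ := exists_sat G i Pp hopen hinv
  obtain ⟨Z₁, hZ₁, hpZ, hle⟩ := exists_isAffineOpen_mem_and_subset (U := Z₀) (x := pullback.fst i G.t p)
    ((hZ₀ p).2 hp)
  let κ : pullback (Z₁.ι ≫ i) G.t ⟶ pullback i G.t :=
    pullback.lift (pullback.fst _ _ ≫ Z₁.ι) (pullback.snd _ _)
      (by rw [Category.assoc]; exact pullback.condition)
  have sq : IsPullback (pullback.fst (Z₁.ι ≫ i) G.t) κ Z₁.ι (pullback.fst i G.t) :=
    IsPullback.of_bot (by rw [pullback.lift_snd]; exact IsPullback.of_hasPullback _ _)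
      (pullback.lift_fst _ _ _).symm (IsPullback.of_hasPullback i G.t)
  have : IsOpenImmersion κ := MorphismProperty.of_isPullback (P := @IsOpenImmersion) sq inferInstance
  obtain ⟨p₁, hp₁, hp₂⟩ := Scheme.exists_preimage_of_isPullback sq
    (⟨pullback.fst i G.t p, hpZ⟩ : Z₁.toScheme) p rfl
  refine ⟨Z₁.toScheme, hZ₁, Z₁.ι ≫ i, inferInstance, inferInstance, κ, inferInstance, p₁, ?_, hp₂, ?_, ?_, fun x => ?_⟩
  · rw [← Category.assoc, pullback.lift_snd]
  · rw [Scheme.Hom.comp_apply, hp₁]; rfl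
  · rw [← hp₂, ← Scheme.Hom.comp_apply, pullback.lift_snd]
  · refine (hZ₀ _).1 (hle ?_)
    rw [← Scheme.Hom.comp_apply, pullback.lift_fst, Scheme.Hom.comp_apply]
    exact (pullback.fst (Z₁.ι ≫ i) G.t x).2

omit hu in
lemma cm_inv [LocallyOfFiniteType G.s] [Flat G.s] [LocallyOfFiniteType G.t] [Flat G.t]
    {Z : Scheme.{u}} (i : Z ⟶ G.U) [LocallyOfFiniteType i] (y : ↥(pullback (h G i) G.t)) :
    MoreMor.IsCMAt (h G i) (pullback.fst (h G i) G.t y) ↔ MoreMor.IsCMAt (h G i) (φ G i y) :=
  (cm_iff_of_flat (IsPullback.of_hasPullback (h G i) G.t) y).symm.trans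
    (cm_iff_of_flat (isPullback_φ G i) y)

omit hu in
lemma flatQF_inv [LocallyOfFiniteType G.s] [Flat G.s] [LocallyOfFiniteType G.t] [Flat G.t]
    {Z : Scheme.{u}} (i : Z ⟶ G.U) [LocallyOfFiniteType i] (y : ↥(pullback (h G i) G.t)) :
    SpPts86.FlatQFAt (h G i) (pullback.fst (h G i) G.t y) ↔ SpPts86.FlatQFAt (h G i) (φ G i y) :=
  (SpPts86.flatQFAt_of_isPullback (IsPullback.of_hasPullback (h G i) G.t) y).symm.trans
    (SpPts86.flatQFAt_of_isPullback (isPullback_φ G i) y)

omit hu in
/-- A point whose fibre ring is zero dimensional and which is closed in its fibre is quasi-finite. -/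
lemma quasiFiniteAt_of_dim_zero {X Y : Scheme.{u}} (f : X ⟶ Y) [LocallyOfFiniteType f] (x : X)
    (hcl : IsClosed ({f.asFiber x} : Set ↥(f.fiber (f x))))
    (hdim : ringKrullDim (FibQuot f x) = (0 : ℕ)) : f.QuasiFiniteAt x := by
  refine Scheme.Hom.quasiFiniteAt_iff_isOpen_singleton_asFiber.2 ?_
  have : LocallyOfFiniteType (f.fiberToSpecResidueField (f x)) :=
    MorphismProperty.pullback_snd (P := @LocallyOfFiniteType) f _ inferInstance
  have := LocallyOfFiniteType.isLocallyNoetherian (f.fiberToSpecResidueField (f x))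
  refine SpFP87.isOpen_singleton_of_closed_minimal _ hcl fun w hw => ?_
  apply (f.fiberι _).isEmbedding.injective
  rw [f.fiberι_asFiber]
  have h1 : f.fiberι (f x) w ⤳ x := by
    have := hw.map (f.fiberι (f x)).continuous
    rwa [f.fiberι_asFiber] at this
  have h2 : f (f.fiberι (f x) w) = f x := (f.range_fiberι (f x)).le ⟨w, rfl⟩
  obtain ⟨P, hP⟩ := (X.range_fromSpecStalk (x := x)).ge h1
  have hle : fibIdeal f x ≤ P.asIdeal := (apply_fromSpecStalk_eq_iff f x P).1 (by rw [hP]; exact h2)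
  have : Ring.KrullDimLE 0 (FibQuot f x) := Ring.krullDimLE_iff.2 hdim.le
  have : (P.asIdeal.map (Ideal.Quotient.mk (fibIdeal f x))).IsPrime :=
    Ideal.map_isPrime_of_surjective Ideal.Quotient.mk_surjective (by rwa [Ideal.mk_ker])
  have hmax : (P.asIdeal.map (Ideal.Quotient.mk (fibIdeal f x))).IsMaximal := Ideal.isMaximal_of_isPrime _
  have := Ideal.comap_isMaximal_of_surjective (Ideal.Quotient.mk (fibIdeal f x)) Ideal.Quotient.mk_surjective
    (K := P.asIdeal.map (Ideal.Quotient.mk (fibIdeal f x)))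
  rw [Ideal.comap_map_of_surjective _ Ideal.Quotient.mk_surjective, ← RingHom.ker_eq_comap_bot,
    Ideal.mk_ker, sup_eq_left.2 hle] at this
  rw [← hP, show P = closedPoint (X.presheaf.stalk x) from PrimeSpectrum.ext (eq_maximalIdeal this),
    Scheme.fromSpecStalk_closedPoint]

section Restr

variable {Z : Scheme.{u}} (g : Z ⟶ G.U)

omit hu in
/-- The inverse on the restricted arrows. -/
theorem exists_invol : ∃ σ : pullback (h G g) g ⟶ pullback (h G g) g, IsIso σ ∧
    σ ≫ pullback.snd (h G g) g = pullback.fst (h G g) g ≫ pullback.fst g G.t := by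
  let ar := pullback.fst (h G g) g ≫ pullback.snd g G.t
  let zt := pullback.fst (h G g) g ≫ pullback.fst g G.t
  let zs := pullback.snd (h G g) g
  have hs : ar ≫ G.s = zs ≫ g := by
    rw [Category.assoc]; exact pullback.condition
  have ht : ar ≫ G.t = zt ≫ g := by
    simp only [ar, zt, Category.assoc, pullback.condition]
  let σ : pullback (h G g) g ⟶ pullback (h G g) g :=
    pullback.lift (pullback.lift zs (ar ≫ G.i) (by rw [Category.assoc, i_t', hs])) zt
      (by rw [pullback.lift_snd_assoc, Category.assoc, i_s', ht])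
  have h₁ : σ ≫ pullback.fst (h G g) g ≫ pullback.fst g G.t = zs := by
    rw [pullback.lift_fst_assoc, pullback.lift_fst]
  have h₂ : σ ≫ pullback.fst (h G g) g ≫ pullback.snd g G.t = ar ≫ G.i := by
    rw [pullback.lift_fst_assoc, pullback.lift_snd]
  have h₃ : σ ≫ pullback.snd (h G g) g = zt := pullback.lift_snd _ _ _
  have hσσ : σ ≫ σ = 𝟙 _ := by
    apply pullback.hom_ext
    · apply pullback.hom_ext
      · simp only [Category.assoc, Category.id_comp, h₁]
        exact h₃
      · simp only [Category.assoc, Category.id_comp, h₂]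
        show σ ≫ (pullback.fst (h G g) g ≫ pullback.snd g G.t) ≫ G.i = _
        rw [Category.assoc, reassoc_of% h₂]
        simp only [ar, Category.assoc, i_i, Category.comp_id]
    · simp only [Category.assoc, Category.id_comp, h₃]
      exact h₁
  exact ⟨σ, ⟨⟨σ, hσσ, hσσ⟩⟩, h₃⟩

omit hu in
/-- Properties of the source pass to both maps of the restriction. -/
theorem restr_props {P : MorphismProperty Scheme.{u}} [P.IsStableUnderBaseChange] [P.RespectsIso]
    (hP : P (h G g)) :
    P (pullback.snd (h G g) g) ∧ P (pullback.fst (h G g) g ≫ pullback.fst g G.t) := by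
  have h1 : P (pullback.snd (h G g) g) := MorphismProperty.pullback_snd _ _ hP
  obtain ⟨σ, hσ, e⟩ := exists_invol G g
  exact ⟨h1, e ▸ (P.cancel_left_of_respectsIso σ _).2 h1⟩

omit hu in
/-- The Cohen–Macaulay property passes to both maps of the restriction. -/
theorem restr_cm [LocallyOfFiniteType G.s] [LocallyOfFiniteType g]
    (hP : ∀ x, MoreMor.IsCMAt (h G g) x) :
    (∀ q, MoreMor.IsCMAt (pullback.snd (h G g) g) q) ∧
      ∀ q, MoreMor.IsCMAt (pullback.fst (h G g) g ≫ pullback.fst g G.t) q := by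
  have hN : ∀ y, IsLocallyNoetherian ((h G g).fiber y) := fun y =>
    have : LocallyOfFiniteType ((h G g).fiberToSpecResidueField y) :=
      MorphismProperty.pullback_snd (P := @LocallyOfFiniteType) (h G g) _ inferInstance
    LocallyOfFiniteType.isLocallyNoetherian ((h G g).fiberToSpecResidueField y)
  have h1 : ∀ q, MoreMor.IsCMAt (pullback.snd (h G g) g) q := fun q =>
    Groth.Agent.S1345.result (h G g) hN _ _ g (IsPullback.of_hasPullback (h G g) g) q (hP _)
  obtain ⟨σ, hσ, e⟩ := exists_invol G g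
  exact ⟨h1, fun q => (cm_comp_open σ _ _ e q).2 (h1 _)⟩

end Restr

end Groth.Agent.Grpd80.Slice
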