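import Groth.Agent.Grpd80.OrbitCut
import Groth.Agent.Grpd80.SliceResult
import Groth.Agent.Grpd80.RSCoeq

/-!
The groupoid induced on a slice and the quotient it presents.
-/

set_option autoImplicit false
set_option backward.isDefEq.respectTransparency.types false
set_option linter.style.haveILetI false
universe u

open CategoryTheory CategoryTheory.Limits AlgebraicGeometry

namespace Groth.Agent.Grpd80.Slice

open Pinch2 (toRS)

variable {S : Scheme.{u}} (G : Grpd.GroupoidScheme S) {Z : Scheme.{u}} (ι : Z ⟶ G.U)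

/-- Pairs of points of the slice. -/
noncomputable abbrev pairMap : pullback (ι ≫ G.pU) (ι ≫ G.pU) ⟶ pullback G.pU G.pU :=
  pullback.map (ι ≫ G.pU) (ι ≫ G.pU) G.pU G.pU ι ι (𝟙 S) (Category.comp_id _) (Category.comp_id _)

/-- The arrows of the induced groupoid. -/
noncomputable abbrev RZ : Scheme.{u} := pullback (pairMap G ι) G.j

noncomputable def tZ : RZ G ι ⟶ Z :=
  pullback.fst (pairMap G ι) G.j ≫ pullback.fst (ι ≫ G.pU) (ι ≫ G.pU)

noncomputable def sZ : RZ G ι ⟶ Z :=
  pullback.fst (pairMap G ι) G.j ≫ pullback.snd (ι ≫ G.pU) (ι ≫ G.pU)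

noncomputable def arrZ : RZ G ι ⟶ G.R := pullback.snd (pairMap G ι) G.j

lemma arrZ_t : arrZ G ι ≫ G.t = tZ G ι ≫ ι := by
  have h := congrArg (· ≫ pullback.fst G.pU G.pU) (pullback.condition (f := pairMap G ι) (g := G.j))
  simp only [Category.assoc, j_fst, pullback.lift_fst] at h
  rw [arrZ, tZ, Category.assoc, ← h]

lemma arrZ_s : arrZ G ι ≫ G.s = sZ G ι ≫ ι := by
  have h := congrArg (· ≫ pullback.snd G.pU G.pU) (pullback.condition (f := pairMap G ι) (g := G.j))
  simp only [Category.assoc, j_snd, pullback.lift_snd] at h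
  rw [arrZ, sZ, Category.assoc, ← h]

/-- An arrow ending in the slice. -/
noncomputable def endZ : RZ G ι ⟶ pullback ι G.t :=
  pullback.lift (tZ G ι) (arrZ G ι) (arrZ_t G ι).symm

lemma endZ_fst : endZ G ι ≫ pullback.fst ι G.t = tZ G ι := pullback.lift_fst _ _ _

lemma endZ_snd : endZ G ι ≫ pullback.snd ι G.t = arrZ G ι := pullback.lift_snd _ _ _

theorem isPullback_RZ : IsPullback (endZ G ι) (sZ G ι) (h G ι) ι := by
  refine ⟨⟨by rw [reassoc_of% endZ_snd, arrZ_s]⟩,
    ⟨PullbackCone.IsLimit.mk _ (fun c => ?_) (fun c => ?_) (fun c => ?_) fun c m hm₁ hm₂ => ?_⟩⟩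
  · refine pullback.lift (pullback.lift (c.fst ≫ pullback.fst ι G.t) c.snd ?_) (c.fst ≫ pullback.snd ι G.t) ?_
    · rw [← reassoc_of% c.condition, Category.assoc, pullback.condition_assoc, G.t_over, G.s_over]
    · apply pullback.hom_ext
      · simp only [Category.assoc, pullback.lift_fst, pullback.lift_fst_assoc, j_fst, pullback.condition]
      · simp only [Category.assoc, pullback.lift_snd, pullback.lift_snd_assoc, j_snd]
        exact c.condition.symm
  · apply pullback.hom_ext
    · rw [Category.assoc, endZ_fst, tZ]; exact (pullback.lift_fst_assoc _ _ _ _).trans (pullback.lift_fst _ _ _)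
    · rw [Category.assoc, endZ_snd, arrZ]; exact pullback.lift_snd _ _ _
  · rw [sZ]; exact (pullback.lift_fst_assoc _ _ _ _).trans (pullback.lift_snd _ _ _)
  · apply pullback.hom_ext
    · apply pullback.hom_ext
      · rw [pullback.lift_fst, pullback.lift_fst, ← hm₁, Category.assoc, Category.assoc, endZ_fst]; rfl
      · rw [pullback.lift_fst, pullback.lift_snd, Category.assoc, ← hm₂]; rfl
    · rw [pullback.lift_snd, ← hm₁, Category.assoc, endZ_snd]; rfl

/-- Properties of the two projections of the induced groupoid correspond. -/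
theorem exists_invol_RZ : ∃ σ : RZ G ι ⟶ RZ G ι, IsIso σ ∧ σ ≫ sZ G ι = tZ G ι ∧ σ ≫ tZ G ι = sZ G ι := by
  obtain ⟨σ, hσ, h₁⟩ := exists_invol G ι
  let e := (isPullback_RZ G ι).isoPullback
  have et : e.inv ≫ tZ G ι = pullback.fst (h G ι) ι ≫ pullback.fst ι G.t := by
    rw [← endZ_fst, IsPullback.isoPullback_inv_fst_assoc]
  have es : e.inv ≫ sZ G ι = pullback.snd (h G ι) ι := IsPullback.isoPullback_inv_snd _
  let σ' : RZ G ι ⟶ RZ G ι := pullback.lift (pullback.lift (sZ G ι) (tZ G ι) (by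
      rw [← Category.assoc, ← arrZ_s, ← Category.assoc (tZ G ι), ← arrZ_t, Category.assoc, Category.assoc, G.t_over, G.s_over]))
    (arrZ G ι ≫ G.i) (by
      apply pullback.hom_ext
      · simp only [Category.assoc, pullback.lift_fst, pullback.lift_fst_assoc, j_fst, i_t']
        exact (arrZ_s G ι).symm
      · simp only [Category.assoc, pullback.lift_snd, pullback.lift_snd_assoc, j_snd, i_s']
        exact (arrZ_t G ι).symm)
  have hs : σ' ≫ sZ G ι = tZ G ι := by rw [sZ, pullback.lift_fst_assoc, pullback.lift_snd]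
  have ht : σ' ≫ tZ G ι = sZ G ι := by rw [tZ, pullback.lift_fst_assoc, pullback.lift_fst]
  have ha : σ' ≫ arrZ G ι = arrZ G ι ≫ G.i := pullback.lift_snd _ _ _
  have hσσ : σ' ≫ σ' = 𝟙 _ := by
    apply pullback.hom_ext
    · apply pullback.hom_ext
      · simp only [Category.assoc, Category.id_comp]
        rw [show σ' ≫ pullback.fst _ _ ≫ pullback.fst _ _ = sZ G ι from ht]
        exact hs
      · simp only [Category.assoc, Category.id_comp]
        rw [show σ' ≫ pullback.fst _ _ ≫ pullback.snd _ _ = tZ G ι from hs]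
        exact ht
    · rw [Category.assoc, Category.id_comp]
      show σ' ≫ σ' ≫ arrZ G ι = arrZ G ι
      rw [ha, reassoc_of% ha, i_i, Category.comp_id]
  exact ⟨σ', ⟨⟨σ', hσσ, hσσ⟩⟩, hs, ht⟩

/-- Flatness and finite presentation of the induced groupoid. -/
theorem props_RZ_of_h {P : MorphismProperty Scheme.{u}} [P.IsStableUnderBaseChange] [P.RespectsIso]
    (hP : P (h G ι)) : P (tZ G ι) ∧ P (sZ G ι) := by
  obtain ⟨σ, _, hs, -⟩ := exists_invol_RZ G ι
  have h1 : P (sZ G ι) := P.of_isPullback (isPullback_RZ G ι) hP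
  exact ⟨hs ▸ (P.cancel_left_of_respectsIso σ _).2 h1, h1⟩

/-- Quasi-compactness of the induced groupoid, for a slice inside an invariant open. -/
theorem props_RZ_of_l {P : MorphismProperty Scheme.{u}} [P.IsStableUnderBaseChange] [P.RespectsIso]
    [P.IsStableUnderComposition] (hPt : P G.t) {O : G.U.Opens} (hO : G.s ⁻¹ᵁ O = G.t ⁻¹ᵁ O)
    (l : Z ⟶ O.toScheme) (hl : l ≫ O.ι = ι) (hPl : P l) : P (tZ G ι) ∧ P (sZ G ι) := by
  have hr : Set.range (h G ι) ⊆ Set.range O.ι := by
    rintro _ ⟨p, rfl⟩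
    rw [Scheme.Opens.range_ι]
    have : G.t (pullback.snd ι G.t p) ∈ O := by
      rw [← Scheme.Hom.comp_apply, ← pullback.condition, Scheme.Hom.comp_apply]
      have e : ∀ z, ι z = O.ι (l z) := fun z => by rw [← Scheme.Hom.comp_apply, hl]
      rw [e]
      exact (l _).2
    exact (SetLike.ext_iff.1 hO _).2 this
  let h' := IsOpenImmersion.lift O.ι (h G ι) hr
  have sq : IsPullback (endZ G ι) (sZ G ι) h' l := by
    have e := isPullback_RZ G ι
    refine ⟨⟨by rw [← cancel_mono O.ι, Category.assoc, Category.assoc, IsOpenImmersion.lift_fac, hl, e.w]⟩,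
      ⟨PullbackCone.IsLimit.mk _ (fun c => e.lift c.fst c.snd (by
          have hc := congrArg (· ≫ O.ι) c.condition
          simp only [Category.assoc, h', IsOpenImmersion.lift_fac, hl] at hc
          exact hc))
        (fun c => e.lift_fst _ _ _) (fun c => e.lift_snd _ _ _)
        fun c m h₁ h₂ => e.hom_ext (by rw [h₁, e.lift_fst]) (by rw [h₂, e.lift_snd])⟩⟩
  have h1 : P (tZ G ι) := by
    rw [← endZ_fst]
    exact P.comp_mem _ _ (P.of_isPullback sq.flip hPl) (P.pullback_fst _ _ hPt)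
  obtain ⟨σ, _, -, ht⟩ := exists_invol_RZ G ι
  exact ⟨h1, ht ▸ (P.cancel_left_of_respectsIso σ _).2 h1⟩

section Colimit

variable (V : G.U.Opens) (hsat : G.s ⁻¹ᵁ V = G.t ⁻¹ᵁ V) (ιV : Z ⟶ V.toScheme) (hιV : ιV ≫ V.ι = ι)

/-- The target map of the groupoid over an invariant open. -/
noncomputable def tV : (G.s ⁻¹ᵁ V).toScheme ⟶ V.toScheme := (G.R.isoOfEq hsat).hom ≫ (G.t ∣_ V)

lemma tV_ι : tV G V hsat ≫ V.ι = (G.s ⁻¹ᵁ V).ι ≫ G.t := by
  rw [tV, Category.assoc, morphismRestrict_ι, ← Category.assoc, Scheme.isoOfEq_hom_ι]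

include hιV in
/-- The slice presents the quotient in ringed spaces. -/
theorem exists_isColimit [Flat (h G ι)] [LocallyOfFinitePresentation (h G ι)]
    (hV : Set.range (h G ι) = V) :
    ∃ (wR : toRS.map (tZ G ι) ≫ (toRS.map ιV ≫
        coequalizer.π (toRS.map (G.s ∣_ V)) (toRS.map (tV G V hsat))) =
      toRS.map (sZ G ι) ≫ (toRS.map ιV ≫
        coequalizer.π (toRS.map (G.s ∣_ V)) (toRS.map (tV G V hsat)))),
      Nonempty (IsColimit (Cofork.ofπ (toRS.map ιV ≫
        coequalizer.π (toRS.map (G.s ∣_ V)) (toRS.map (tV G V hsat))) wR)) := by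
  have hrange : Set.range (h G ι) ⊆ Set.range V.ι := by rw [Scheme.Opens.range_ι, hV]
  let hv := IsOpenImmersion.lift V.ι (h G ι) hrange
  have hhv : hv ≫ V.ι = h G ι := IsOpenImmersion.lift_fac _ _ _
  have sqv : IsPullback (𝟙 _) hv (h G ι) V.ι :=
    ⟨⟨by rw [Category.id_comp, hhv]⟩, ⟨PullbackCone.IsLimit.mk _ (fun c => c.fst) (fun c => Category.comp_id _)
      (fun c => by rw [← cancel_mono V.ι, Category.assoc, hhv, c.condition])
      (fun c m h1 _ => by simpa using h1)⟩⟩
  have : Flat hv := MorphismProperty.of_isPullback (P := @Flat) sqv inferInstance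
  have : LocallyOfFinitePresentation hv :=
    MorphismProperty.of_isPullback (P := @LocallyOfFinitePresentation) sqv inferInstance
  have : Surjective hv := ⟨fun v => by
    obtain ⟨p, hp⟩ := hV.ge v.2
    exact ⟨p, V.ι.isOpenEmbedding.injective (by rw [← Scheme.Hom.comp_apply, hhv]; exact hp)⟩⟩
  -- arrows inside the open
  have lift_to : ∀ {T : Scheme.{u}} (r : T ⟶ G.R) (b : T ⟶ V.toScheme), r ≫ G.s = b ≫ V.ι →
      ∃ r' : T ⟶ (G.s ⁻¹ᵁ V).toScheme, r' ≫ (G.s ⁻¹ᵁ V).ι = r ∧ r' ≫ (G.s ∣_ V) = b := by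
    intro T r b hb
    refine ⟨(isPullback_morphismRestrict G.s V).lift b r hb.symm, IsPullback.lift_snd _ _ _ _,
      IsPullback.lift_fst _ _ _ _⟩
  obtain ⟨arrV, harrV, harrs⟩ := lift_to (arrZ G ι) (sZ G ι ≫ ιV) ((arrZ_s G ι).trans (by rw [Category.assoc (sZ G ι), hιV]))
  have harrt : arrV ≫ tV G V hsat = tZ G ι ≫ ιV := by
    rw [← cancel_mono V.ι, Category.assoc, tV_ι, reassoc_of% harrV, arrZ_t, Category.assoc, hιV]
  let π := coequalizer.π (toRS.map (G.s ∣_ V)) (toRS.map (tV G V hsat))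
  have hπ : toRS.map (G.s ∣_ V) ≫ π = toRS.map (tV G V hsat) ≫ π := coequalizer.condition _ _
  have wR : toRS.map (tZ G ι) ≫ (toRS.map ιV ≫ π) = toRS.map (sZ G ι) ≫ (toRS.map ιV ≫ π) := by
    rw [← Functor.map_comp_assoc, ← Functor.map_comp_assoc, ← harrt, ← harrs, Functor.map_comp_assoc,
      Functor.map_comp_assoc, hπ]
  refine ⟨wR, ⟨?_⟩⟩
  have hdesc : ∀ c : Cofork (toRS.map (tZ G ι)) (toRS.map (sZ G ι)),
      ∃ d : coequalizer (toRS.map (G.s ∣_ V)) (toRS.map (tV G V hsat)) ⟶ c.pt,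
        (toRS.map ιV ≫ π) ≫ d = c.π := by
    intro c
    let pr := pullback.fst ι G.t
    let k := toRS.map pr ≫ c.π
    -- pairs of arrows with the same source
    let q₁ := pullback.fst hv hv
    let q₂ := pullback.snd hv hv
    have hq : q₁ ≫ h G ι = q₂ ≫ h G ι := by rw [← hhv, pullback.condition_assoc]
    let r := mul G (q₁ ≫ pullback.snd ι G.t) (q₂ ≫ pullback.snd ι G.t ≫ G.i)
      (by simp only [Category.assoc, i_t']; exact hq)
    have hrt : r ≫ G.t = q₁ ≫ pr ≫ ι := by rw [mul_t, Category.assoc, pullback.condition]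
    have hrs : r ≫ G.s = q₂ ≫ pr ≫ ι := by
      rw [mul_s, Category.assoc, Category.assoc, i_s', pullback.condition]
    let ρ := (isPullback_RZ G ι).lift (pullback.lift (q₁ ≫ pr) r (by rw [hrt, Category.assoc])) (q₂ ≫ pr)
      (by rw [pullback.lift_snd_assoc, hrs, Category.assoc])
    have hρt : ρ ≫ tZ G ι = q₁ ≫ pr := by
      rw [← endZ_fst, IsPullback.lift_fst_assoc, pullback.lift_fst]
    have hρs : ρ ≫ sZ G ι = q₂ ≫ pr := IsPullback.lift_snd _ _ _ _
    have hk : toRS.map q₁ ≫ k = toRS.map q₂ ≫ k := by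
      rw [← Functor.map_comp_assoc, ← Functor.map_comp_assoc, ← hρt, ← hρs, Functor.map_comp_assoc,
        Functor.map_comp_assoc, c.condition]
    obtain ⟨g, hg⟩ := RS.exists_desc hv k hk
    -- moving arrows
    let y₁ := pullback.fst (h G ι) G.t
    let y₂ := pullback.snd (h G ι) G.t
    obtain ⟨yV, hyV, hys⟩ := lift_to y₂ (φ G ι ≫ hv) (by rw [Category.assoc, hhv, φ_h])
    have hyt : yV ≫ tV G V hsat = y₁ ≫ hv := by
      rw [← cancel_mono V.ι, Category.assoc, tV_ι, reassoc_of% hyV, Category.assoc, hhv]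
      exact pullback.condition.symm
    have sqy : IsPullback (𝟙 _) yV y₂ (G.s ⁻¹ᵁ V).ι :=
      ⟨⟨by rw [Category.id_comp, hyV]⟩, ⟨PullbackCone.IsLimit.mk _ (fun c => c.fst) (fun c => Category.comp_id _)
        (fun c => by rw [← cancel_mono (G.s ⁻¹ᵁ V).ι, Category.assoc, hyV, c.condition])
        (fun c m h1 _ => by simpa using h1)⟩⟩
    have : Flat yV := MorphismProperty.of_isPullback (P := @Flat) sqy
      (MorphismProperty.pullback_snd (P := @Flat) _ _ inferInstance)
    have : LocallyOfFinitePresentation yV := MorphismProperty.of_isPullback (P := @LocallyOfFinitePresentation) sqy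
      (MorphismProperty.pullback_snd (P := @LocallyOfFinitePresentation) _ _ inferInstance)
    have : Surjective yV := ⟨fun r => by
      have hr : G.t r.1 ∈ V := (SetLike.ext_iff.1 hsat r.1).1 r.2
      obtain ⟨p, hp⟩ := hV.ge hr
      obtain ⟨z, -, hz⟩ := Scheme.Pullback.exists_preimage_pullback (f := h G ι) (g := G.t) p r.1 hp
      exact ⟨z, (G.s ⁻¹ᵁ V).ι.isOpenEmbedding.injective (by rw [← Scheme.Hom.comp_apply, hyV, hz]; rfl)⟩⟩
    have hinv : toRS.map (G.s ∣_ V) ≫ g = toRS.map (tV G V hsat) ≫ g := by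
      have := RS.epi_toRS yV
      rw [← cancel_epi (toRS.map yV), ← Functor.map_comp_assoc, ← Functor.map_comp_assoc, hys, hyt,
        Functor.map_comp_assoc, Functor.map_comp_assoc, hg, ← Functor.map_comp_assoc, ← Functor.map_comp_assoc,
        φ_fst]
    refine ⟨coequalizer.desc g hinv, ?_⟩
    let sec : Z ⟶ pullback ι G.t := pullback.lift (𝟙 Z) (ι ≫ G.e) (by
      rw [Category.id_comp, Category.assoc, e_t', Category.comp_id])
    have hsec : sec ≫ hv = ιV := by
      rw [← cancel_mono V.ι, Category.assoc, hhv, hιV, pullback.lift_snd_assoc, Category.assoc, e_s',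
        Category.comp_id]
    rw [Category.assoc, coequalizer.π_desc, ← hsec, Functor.map_comp, Category.assoc, hg,
      ← Functor.map_comp_assoc, pullback.lift_fst, CategoryTheory.Functor.map_id, Category.id_comp]
  have hepi : Epi (toRS.map ιV ≫ π) := by
    constructor
    intro X g₁ g₂ e
    obtain ⟨aP, haP, haPs⟩ := lift_to (pullback.snd ι G.t) hv hhv.symm
    have haPt : aP ≫ tV G V hsat = pullback.fst ι G.t ≫ ιV := by
      rw [← cancel_mono V.ι, Category.assoc, tV_ι, reassoc_of% haP, Category.assoc, hιV, pullback.condition]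
    have hh : toRS.map hv ≫ π = toRS.map (pullback.fst ι G.t) ≫ toRS.map ιV ≫ π := by
      rw [← Functor.map_comp_assoc, ← haPt, ← haPs, Functor.map_comp_assoc, Functor.map_comp_assoc, hπ]
    have := RS.epi_toRS hv
    refine coequalizer.hom_ext ?_
    rw [← cancel_epi (toRS.map hv)]
    simp only [← Category.assoc]
    rw [hh]
    simp only [Category.assoc] at e ⊢
    rw [e]
  choose d hd using hdesc
  exact Cofork.IsColimit.mk _ d hd fun c m hm => (cancel_epi (toRS.map ιV ≫ π)).1 (hm.trans (hd c).symm)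

end Colimit

end Groth.Agent.Grpd80.Slice
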