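import Groth.Agent.Grpd80.Subgrpd

set_option autoImplicit false
universe u
open CategoryTheory CategoryTheory.Limits AlgebraicGeometry

namespace Groth.Agent.Grpd80.Sub

variable {S : Scheme.{u}} {G : Grpd.GroupoidScheme S} (H : Sub G)

/-- Pairs `(a, r)` with `s a = t r`. -/
noncomputable abbrev pairL : Scheme.{u} := pullback (H.ι ≫ G.s) G.t

/-- Triples `(a, r, b)` with `s a = t r` and `s r = t b`. -/
noncomputable abbrev tri : Scheme.{u} :=
  pullback (pullback.snd (H.ι ≫ G.s) G.t ≫ G.s) (H.ι ≫ G.t)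

/-- Left entry of a triple. -/
noncomputable def xa : H.tri ⟶ G.R := pullback.fst _ _ ≫ pullback.fst _ _ ≫ H.ι

/-- Middle entry of a triple. -/
noncomputable def xr : H.tri ⟶ G.R := pullback.fst _ _ ≫ pullback.snd _ _

/-- Right entry of a triple. -/
noncomputable def xb : H.tri ⟶ G.R := pullback.snd _ _ ≫ H.ι

lemma tri_w₁ : H.xa ≫ G.s = H.xr ≫ G.t := by
  simp [xa, xr, pullback.condition]

lemma tri_w₂ : H.xr ≫ G.s = H.xb ≫ G.t := by
  simp only [xr, xb, Category.assoc]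
  exact pullback.condition

lemma tri_mem_a : H.Mem H.xa := ⟨pullback.fst _ _ ≫ pullback.fst _ _, by simp [xa]⟩

lemma tri_mem_b : H.Mem H.xb := ⟨pullback.snd _ _, rfl⟩

variable {H} {T : Scheme.{u}}

lemma tri_ext {f g : T ⟶ H.tri} (ha : f ≫ H.xa = g ≫ H.xa) (hr : f ≫ H.xr = g ≫ H.xr)
    (hb : f ≫ H.xb = g ≫ H.xb) : f = g := by
  apply pullback.hom_ext
  · apply pullback.hom_ext
    · rw [← cancel_mono H.ι]; simpa [xa] using ha
    · simpa [xr] using hr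
  · rw [← cancel_mono H.ι]; simpa [xb] using hb

/-- A triple from its entries. -/
noncomputable def mkTri {α ρ β : T ⟶ G.R} (hα : H.Mem α) (hβ : H.Mem β)
    (h₁ : α ≫ G.s = ρ ≫ G.t) (h₂ : ρ ≫ G.s = β ≫ G.t) : T ⟶ H.tri :=
  pullback.lift (pullback.lift (H.lift hα) ρ (by rw [lift_ι_assoc, h₁])) (H.lift hβ)
    (by rw [pullback.lift_snd_assoc, lift_ι_assoc, h₂])

@[reassoc (attr := simp)]
lemma mkTri_xa {α ρ β : T ⟶ G.R} (hα : H.Mem α) (hβ : H.Mem β) (h₁ : α ≫ G.s = ρ ≫ G.t)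
    (h₂ : ρ ≫ G.s = β ≫ G.t) : mkTri hα hβ h₁ h₂ ≫ H.xa = α := by
  simp [mkTri, xa, pullback.lift_fst_assoc]

@[reassoc (attr := simp)]
lemma mkTri_xr {α ρ β : T ⟶ G.R} (hα : H.Mem α) (hβ : H.Mem β) (h₁ : α ≫ G.s = ρ ≫ G.t)
    (h₂ : ρ ≫ G.s = β ≫ G.t) : mkTri hα hβ h₁ h₂ ≫ H.xr = ρ := by
  simp [mkTri, xr, pullback.lift_fst_assoc, pullback.lift_snd]

@[reassoc (attr := simp)]
lemma mkTri_xb {α ρ β : T ⟶ G.R} (hα : H.Mem α) (hβ : H.Mem β) (h₁ : α ≫ G.s = ρ ≫ G.t)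
    (h₂ : ρ ≫ G.s = β ≫ G.t) : mkTri hα hβ h₁ h₂ ≫ H.xb = β := by
  simp [mkTri, xb, pullback.lift_snd_assoc]

variable (H)

/-- The value `a r b` of a triple. -/
noncomputable def act : H.tri ⟶ G.R :=
  Grpd80.mul G (Grpd80.mul G H.xa H.xr H.tri_w₁) H.xb (by rw [mul_s, H.tri_w₂])

@[reassoc (attr := simp)] lemma act_s : H.act ≫ G.s = H.xb ≫ G.s := by simp [act]
@[reassoc (attr := simp)] lemma act_t : H.act ≫ G.t = H.xa ≫ G.t := by simp [act]

lemma comp_act (f : T ⟶ H.tri) :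
    f ≫ H.act = Grpd80.mul G (Grpd80.mul G (f ≫ H.xa) (f ≫ H.xr)
      (by rw [Category.assoc, Category.assoc, H.tri_w₁])) (f ≫ H.xb)
      (by rw [mul_s, Category.assoc, Category.assoc, H.tri_w₂]) := by
  rw [act, comp_mul]
  exact mul_congr _ _ (comp_mul _ _ _ _) rfl

lemma s_of_pair {α β : T ⟶ H.tri} (h : α ≫ H.xr = β ≫ H.act) :
    (α ≫ H.xa) ≫ G.s = (β ≫ H.xa) ≫ G.t ∧ (β ≫ H.xb) ≫ G.s = (α ≫ H.xb) ≫ G.t := by
  constructor
  · rw [Category.assoc, H.tri_w₁, ← Category.assoc, h, Category.assoc, H.act_t, Category.assoc]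
  · rw [Category.assoc, Category.assoc, ← H.act_s, ← Category.assoc, ← h, Category.assoc, H.tri_w₂]

/-- Composition of triples on points. -/
noncomputable def compPt {α β : T ⟶ H.tri} (h : α ≫ H.xr = β ≫ H.act) : T ⟶ H.tri :=
  mkTri (α := Grpd80.mul G (α ≫ H.xa) (β ≫ H.xa) (H.s_of_pair h).1) (ρ := β ≫ H.xr)
    (β := Grpd80.mul G (β ≫ H.xb) (α ≫ H.xb) (H.s_of_pair h).2)
    ((H.tri_mem_a.comp α).mul _ (H.tri_mem_a.comp β)) ((H.tri_mem_b.comp β).mul _ (H.tri_mem_b.comp α))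
    (by rw [mul_s, Category.assoc, H.tri_w₁, Category.assoc])
    (by rw [mul_t, Category.assoc, H.tri_w₂, Category.assoc])

/-- Composition of triples. -/
noncomputable def triC : pullback H.xr H.act ⟶ H.tri :=
  H.compPt (α := pullback.fst H.xr H.act) (β := pullback.snd H.xr H.act) pullback.condition

lemma lift_triC_entries (α β : T ⟶ H.tri) (h : α ≫ H.xr = β ≫ H.act) :
    pullback.lift α β h ≫ H.triC ≫ H.xa =
        Grpd80.mul G (α ≫ H.xa) (β ≫ H.xa) (H.s_of_pair h).1 ∧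
      pullback.lift α β h ≫ H.triC ≫ H.xr = β ≫ H.xr ∧
      pullback.lift α β h ≫ H.triC ≫ H.xb =
        Grpd80.mul G (β ≫ H.xb) (α ≫ H.xb) (H.s_of_pair h).2 := by
  refine ⟨?_, ?_, ?_⟩
  · rw [triC, compPt, mkTri_xa, comp_mul]
    exact mul_congr _ _ (pullback.lift_fst_assoc _ _ _ _) (pullback.lift_snd_assoc _ _ _ _)
  · rw [triC, compPt, mkTri_xr, pullback.lift_snd_assoc]
  · rw [triC, compPt, mkTri_xb, comp_mul]
    exact mul_congr _ _ (pullback.lift_snd_assoc _ _ _ _) (pullback.lift_fst_assoc _ _ _ _)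

lemma triC_act (α β : T ⟶ H.tri) (h : α ≫ H.xr = β ≫ H.act) :
    pullback.lift α β h ≫ H.triC ≫ H.act = α ≫ H.act := by
  obtain ⟨ea, er, eb⟩ := H.lift_triC_entries α β h
  refine (Category.assoc _ _ _).symm.trans ((H.comp_act _).trans (Eq.trans ?_ (H.comp_act α).symm))
  have w1 : (β ≫ H.xa) ≫ G.s = (β ≫ H.xr) ≫ G.t := by
    rw [Category.assoc, H.tri_w₁, Category.assoc]
  have w2 : Grpd80.mul G (β ≫ H.xa) (β ≫ H.xr) w1 ≫ G.s = (β ≫ H.xb) ≫ G.t := by
    rw [mul_s, Category.assoc, H.tri_w₂, Category.assoc]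
  have hα := (H.comp_act β).symm.trans h.symm
  obtain ⟨q1, q2⟩ := H.s_of_pair h
  rw [mul_congr (α' := Grpd80.mul G (Grpd80.mul G (α ≫ H.xa) (β ≫ H.xa) q1) (β ≫ H.xr)
      (by rw [mul_s, w1])) (β' := Grpd80.mul G (β ≫ H.xb) (α ≫ H.xb) q2) _
      (by rw [mul_s, mul_t]; simpa using congrArg (β ≫ ·) H.tri_w₂)
      (mul_congr _ _ (by rw [Category.assoc, ea]) (by rw [Category.assoc, er]))
      (by rw [Category.assoc, eb])]
  rw [← mul_assoc' _ _ _ (by rw [mul_s]; simpa using congrArg (β ≫ ·) H.tri_w₂) q2]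
  refine mul_congr _ _ ?_ rfl
  rw [mul_congr (α' := Grpd80.mul G (α ≫ H.xa) (Grpd80.mul G (β ≫ H.xa) (β ≫ H.xr) w1)
    (by rw [mul_t, q1])) (β' := β ≫ H.xb) _ (by rw [mul_s]; exact w2 ▸ (by rw [mul_s]))
    (mul_assoc' _ _ _ q1 w1) rfl]
  rw [mul_assoc' _ _ _ (by rw [mul_t, q1]) w2]
  exact mul_congr _ _ rfl hα

/-- Unit triple. -/
noncomputable def triE : G.R ⟶ H.tri :=
  mkTri (mem_unit G.t) (mem_unit G.s) (α := G.t ≫ G.e) (ρ := 𝟙 G.R) (β := G.s ≫ G.e)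
    (by simp) (by simp)

/-- Inverse triple. -/
noncomputable def triI : H.tri ⟶ H.tri :=
  mkTri (α := H.xa ≫ G.i) (ρ := H.act) (β := H.xb ≫ G.i) H.tri_mem_a.inv H.tri_mem_b.inv
    (by simp) (by simp)

@[reassoc (attr := simp)] lemma triE_xa : H.triE ≫ H.xa = G.t ≫ G.e := mkTri_xa ..
@[reassoc (attr := simp)] lemma triE_xr : H.triE ≫ H.xr = 𝟙 G.R := mkTri_xr ..
@[reassoc (attr := simp)] lemma triE_xb : H.triE ≫ H.xb = G.s ≫ G.e := mkTri_xb ..
@[reassoc (attr := simp)] lemma triI_xa : H.triI ≫ H.xa = H.xa ≫ G.i := mkTri_xa ..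
@[reassoc (attr := simp)] lemma triI_xr : H.triI ≫ H.xr = H.act := mkTri_xr ..
@[reassoc (attr := simp)] lemma triI_xb : H.triI ≫ H.xb = H.xb ≫ G.i := mkTri_xb ..

@[reassoc (attr := simp)] lemma triE_act : H.triE ≫ H.act = 𝟙 G.R := by
  rw [comp_act]
  refine (mul_congr _ (by simp) (α' := 𝟙 G.R) (β' := G.s ≫ G.e) ?_ H.triE_xb).trans
    (mul_unit_right _ (by simp))
  exact (mul_congr _ (by simp) H.triE_xa H.triE_xr).trans (mul_unit_left _ (by simp))

@[reassoc (attr := simp)] lemma triI_act : H.triI ≫ H.act = H.xr := by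
  rw [comp_act]
  have e1 : (H.xa ≫ G.i) ≫ G.s = H.act ≫ G.t := by simp
  have e2 : Grpd80.mul G (H.xa ≫ G.i) H.act e1 ≫ G.s = (H.xb ≫ G.i) ≫ G.t := by simp
  refine (mul_congr _ e2 (mul_congr _ e1 H.triI_xa H.triI_xr) H.triI_xb).trans ?_
  have q : H.xa ≫ G.s = Grpd80.mul G H.xr H.xb H.tri_w₂ ≫ G.t := by rw [mul_t, H.tri_w₁]
  have e3 : Grpd80.mul G (H.xa ≫ G.i) H.act e1 = Grpd80.mul G H.xr H.xb H.tri_w₂ := by
    have hact : H.act = Grpd80.mul G H.xa (Grpd80.mul G H.xr H.xb H.tri_w₂) q :=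
      mul_assoc' _ _ _ H.tri_w₁ H.tri_w₂
    rw [mul_congr (α' := H.xa ≫ G.i) (β' := Grpd80.mul G H.xa (Grpd80.mul G H.xr H.xb H.tri_w₂) q)
      e1 (by simp) rfl hact, ← mul_assoc' _ _ _ (by simp) q]
    refine mul_unit_left _ ?_
    rw [mul_inv_left _ rfl, ← reassoc_of% q]
  rw [mul_congr (α' := Grpd80.mul G H.xr H.xb H.tri_w₂) (β' := H.xb ≫ G.i) e2 (by simp) e3 rfl,
    mul_assoc' _ _ _ H.tri_w₂ (by simp)]
  refine mul_unit_right _ ?_
  rw [mul_inv_right _ rfl, ← reassoc_of% H.tri_w₂]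


/-- The groupoid of translations of arrows by the subgroupoid. -/
noncomputable def triGrpd : Grpd.GroupoidScheme S where
  U := G.R
  R := H.tri
  pU := G.pR
  pR := H.xr ≫ G.pR
  s := H.xr
  t := H.act
  e := H.triE
  i := H.triI
  c := H.triC
  s_over := rfl
  t_over := by rw [← G.s_over, act_s_assoc, ← reassoc_of% H.tri_w₂.symm, G.t_over, G.s_over]
  comp_s α β h := by
    rw [Category.assoc]; exact (H.lift_triC_entries α β h).2.1
  comp_t α β h := by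
    rw [Category.assoc]; exact H.triC_act α β h
  assoc α β γ h₁ h₂ := by
    obtain ⟨a1, r1, b1⟩ := H.lift_triC_entries α β h₁
    obtain ⟨a2, r2, b2⟩ := H.lift_triC_entries β γ h₂
    obtain ⟨q1, q2⟩ := H.s_of_pair h₁
    obtain ⟨q3, q4⟩ := H.s_of_pair h₂
    have h12 : (pullback.lift α β h₁ ≫ H.triC) ≫ H.xr = γ ≫ H.act := by
      rw [Category.assoc, r1, h₂]
    have h23 : α ≫ H.xr = (pullback.lift β γ h₂ ≫ H.triC) ≫ H.act := by
      rw [Category.assoc, H.triC_act, h₁]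
    obtain ⟨a3, r3, b3⟩ := H.lift_triC_entries _ γ h12
    obtain ⟨a4, r4, b4⟩ := H.lift_triC_entries α _ h23
    apply tri_ext <;> simp only [Category.assoc]
    · rw [a3, a4]
      exact (mul_congr _ (by rw [mul_s]; exact q3) ((Category.assoc _ _ _).trans a1) rfl).trans
        ((mul_assoc' _ _ _ q1 q3).trans (mul_congr _ _ rfl ((Category.assoc _ _ _).trans a2).symm))
    · rw [r3, r4, Category.assoc, r2]
    · rw [b3, b4]
      exact (mul_congr _ (by rw [mul_t]; exact q4) rfl ((Category.assoc _ _ _).trans b1)).trans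
        ((mul_assoc' _ _ _ q4 q2).symm.trans (mul_congr _ _ ((Category.assoc _ _ _).trans b2).symm rfl))
  e_s := by simp
  e_t := H.triE_act
  comp_e α := by
    obtain ⟨a1, r1, b1⟩ := H.lift_triC_entries α (α ≫ H.xr ≫ H.triE) (by simp)
    apply tri_ext <;> simp only [Category.assoc]
    · rw [a1]
      apply mul_unit_right
      simp [reassoc_of% H.tri_w₁]
    · rw [r1]; simp
    · rw [b1]
      apply mul_unit_left
      simp [reassoc_of% H.tri_w₂]
  e_comp α := by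
    obtain ⟨a1, r1, b1⟩ := H.lift_triC_entries (α ≫ H.act ≫ H.triE) α (by simp)
    apply tri_ext <;> simp only [Category.assoc]
    · rw [a1]
      apply mul_unit_left
      simp
    · rw [r1]
    · rw [b1]
      apply mul_unit_right
      simp
  i_s := by simp
  i_t := H.triI_act
  comp_i α := by
    obtain ⟨a1, r1, b1⟩ := H.lift_triC_entries α (α ≫ H.triI) (by simp)
    apply tri_ext <;> simp only [Category.assoc]
    · rw [a1, mul_inv_right _ (by simp)]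
      simp
    · rw [r1]; simp
    · rw [b1, mul_inv_left _ (by simp)]
      simp
  i_comp α := by
    obtain ⟨a1, r1, b1⟩ := H.lift_triC_entries (α ≫ H.triI) α (by simp)
    apply tri_ext <;> simp only [Category.assoc]
    · rw [a1, mul_inv_left _ (by simp)]
      simp [reassoc_of% H.tri_w₁]
    · rw [r1]; simp
    · rw [b1, mul_inv_right _ (by simp)]
      simp [reassoc_of% H.tri_w₂]

end Groth.Agent.Grpd80.Sub
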