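import Groth.Agent.Grpd80.ImageGrpd
import Mathlib.AlgebraicGeometry.Morphisms.Separated

/-!
The pair groupoid, and the image of `j` over a field.
-/

set_option autoImplicit false
universe u
open CategoryTheory CategoryTheory.Limits AlgebraicGeometry

namespace Groth.Agent.Grpd80

variable {S : Scheme.{u}}

/-- The pair groupoid `U ×_S U` over `U`, with `t` the first and `s` the second projection. -/
noncomputable def pairU (U : Scheme.{u}) (p : U ⟶ S) : Grpd.GroupoidScheme S where
  U := U
  R := pullback p p
  pU := p
  pR := pullback.fst p p ≫ p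
  s := pullback.snd p p
  t := pullback.fst p p
  e := pullback.lift (𝟙 U) (𝟙 U) rfl
  i := pullback.lift (pullback.snd p p) (pullback.fst p p) pullback.condition.symm
  c := pullback.lift (pullback.fst _ _ ≫ pullback.fst p p) (pullback.snd _ _ ≫ pullback.snd p p) (by
    rw [Category.assoc, Category.assoc, pullback.condition,
      pullback.condition_assoc (f := pullback.snd p p) (g := pullback.fst p p),
      pullback.condition (f := p) (g := p)])
  s_over := pullback.condition.symm
  t_over := rfl
  comp_s α β h := by simp [pullback.lift_snd, pullback.lift_snd_assoc]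
  comp_t α β h := by simp [pullback.lift_fst, pullback.lift_fst_assoc]
  assoc α β γ h₁ h₂ := by
    apply pullback.hom_ext <;>
      simp [pullback.lift_fst, pullback.lift_fst_assoc, pullback.lift_snd, pullback.lift_snd_assoc]
  e_s := pullback.lift_snd _ _ _
  e_t := pullback.lift_fst _ _ _
  comp_e α := by
    apply pullback.hom_ext <;>
      simp [pullback.lift_fst, pullback.lift_fst_assoc, pullback.lift_snd, pullback.lift_snd_assoc]
  e_comp α := by
    apply pullback.hom_ext <;>
      simp [pullback.lift_fst, pullback.lift_fst_assoc, pullback.lift_snd, pullback.lift_snd_assoc]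
  i_s := pullback.lift_snd _ _ _
  i_t := pullback.lift_fst _ _ _
  comp_i α := by
    apply pullback.hom_ext <;>
      simp [pullback.lift_fst, pullback.lift_fst_assoc, pullback.lift_snd, pullback.lift_snd_assoc]
  i_comp α := by
    apply pullback.hom_ext <;>
      simp [pullback.lift_fst, pullback.lift_fst_assoc, pullback.lift_snd, pullback.lift_snd_assoc]

/-- `j`, as a morphism of groupoid schemes to the pair groupoid. -/
noncomputable def jHom (G : Grpd.GroupoidScheme S) :
    Grpd.GroupoidScheme.Hom G (pairU G.U G.pU) where
  fU := 𝟙 G.U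
  fR := G.j
  fU_over := Category.id_comp _
  comm_s := (j_snd G).trans (Category.comp_id _).symm
  comm_t := (j_fst G).trans (Category.comp_id _).symm
  comm_c α β h := by
    apply pullback.hom_ext
    · simp [pairU, pullback.lift_fst, pullback.lift_fst_assoc]
      exact G.comp_t α β h
    · simp [pairU, pullback.lift_snd, pullback.lift_snd_assoc]
      exact G.comp_s α β h

instance (G : Grpd.GroupoidScheme S) : IsIso (jHom G).fU := inferInstanceAs (IsIso (𝟙 G.U))

lemma quasiCompact_j (G : Grpd.GroupoidScheme S) {k : Type u} [Field k]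
    (eU : G.U ≅ Spec (CommRingCat.of k)) [CompactSpace G.R] : QuasiCompact G.j := by
  have : IsAffine G.U := IsAffine.of_isIso eU.hom
  have : IsSeparated G.pU := inferInstance
  have : IsSeparated (terminal.from (pullback G.pU G.pU)) := by
    rw [Subsingleton.elim (terminal.from (pullback G.pU G.pU))
      (pullback.fst G.pU G.pU ≫ terminal.from G.U)]
    infer_instance
  have : QuasiCompact (G.j ≫ terminal.from (pullback G.pU G.pU)) := inferInstance
  exact QuasiCompact.of_comp G.j (terminal.from _)

theorem exists_image_j (G : Grpd.GroupoidScheme S) (k : Type u) [Field k]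
    (eU : G.U ≅ Spec (CommRingCat.of k)) [CompactSpace G.R] :
    ∃ (G' : Grpd.GroupoidScheme S) (φ : Grpd.GroupoidScheme.Hom G G'), IsIso φ.fU ∧
      IsClosedImmersion G'.j ∧ G'.j.ker = (G.j ≫ pullback.map G.pU G.pU G'.pU G'.pU φ.fU φ.fU (𝟙 S)
        ((Category.comp_id _).trans φ.fU_over.symm) ((Category.comp_id _).trans φ.fU_over.symm)).ker := by
  have := quasiCompact_j G eU
  have : QuasiCompact (jHom G).fR := this
  let H := imageSub (jHom G) (k := k) eU
  let φ : Grpd.GroupoidScheme.Hom G H.toGrpd :=
    { fU := 𝟙 G.U
      fR := (jHom G).fR.toImage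
      fU_over := Category.id_comp _
      comm_s := ((Scheme.Hom.toImage_imageι_assoc (jHom G).fR (pairU G.U G.pU).s).trans
        (jHom G).comm_s)
      comm_t := ((Scheme.Hom.toImage_imageι_assoc (jHom G).fR (pairU G.U G.pU).t).trans
        (jHom G).comm_t)
      comm_c := fun α β h => by
        apply (cancel_mono H.ι).mp
        refine Eq.trans ?_ ((Category.assoc _ _ _).trans (Sub.lift_comp_ι H _ _ _)).symm
        refine ((Category.assoc _ _ _).trans (congrArg (_ ≫ ·)
          (Scheme.Hom.toImage_imageι (jHom G).fR))).trans ?_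
        refine (mul_map (jHom G) α β h).trans (mul_congr _ _ ?_ ?_) <;>
          exact ((Category.assoc _ _ _).trans (congrArg (_ ≫ ·)
            (Scheme.Hom.toImage_imageι (jHom G).fR))).symm }
  have hj : H.toGrpd.j = (jHom G).fR.imageι := by
    apply pullback.hom_ext
    · exact j_fst H.toGrpd
    · exact j_snd H.toGrpd
  refine ⟨H.toGrpd, φ, inferInstanceAs (IsIso (𝟙 G.U)), ?_, ?_⟩
  · rw [hj]; exact inferInstanceAs (IsClosedImmersion (jHom G).fR.imageι)
  · have e : pullback.map G.pU G.pU H.toGrpd.pU H.toGrpd.pU φ.fU φ.fU (𝟙 S)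
        ((Category.comp_id _).trans φ.fU_over.symm) ((Category.comp_id _).trans φ.fU_over.symm) =
        𝟙 (pullback G.pU G.pU) := by
      apply pullback.hom_ext
      · exact (pullback.lift_fst _ _ _).trans ((Category.comp_id _).trans (Category.id_comp _).symm)
      · exact (pullback.lift_snd _ _ _).trans ((Category.comp_id _).trans (Category.id_comp _).symm)
    rw [hj, e]
    exact (jHom G).fR.ker.ker_subschemeι.trans (congrArg Scheme.Hom.ker (Category.comp_id G.j).symm)

end Groth.Agent.Grpd80
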