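import Groth.Agent.Grpd80.Basic
import Mathlib.AlgebraicGeometry.Morphisms.FlatRank

set_option autoImplicit false
universe u
open CategoryTheory CategoryTheory.Limits AlgebraicGeometry

namespace Groth.Agent.Grpd80

variable {S : Scheme.{u}} (G : Grpd.GroupoidScheme S)

/-- The iso `r ↦ r⁻¹` on arrows. -/
lemma isIso_i_mul : IsIso G.i := by
  refine ⟨G.i, ?_, ?_⟩ <;>
  · have h1 : (G.i ≫ G.i) ≫ G.s = G.i ≫ G.t := by simp
    have h2 : G.i ≫ G.s = (𝟙 G.R) ≫ G.t := by simp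
    have h3 : mul G (G.i ≫ G.i) G.i h1 ≫ G.s = (𝟙 G.R) ≫ G.t := by simp
    calc G.i ≫ G.i = mul G (G.i ≫ G.i) (mul G G.i (𝟙 _) h2) (by simp) :=
          (mul_unit_right _ (by rw [mul_inv_left _ (Category.id_comp _).symm]; simp)).symm
      _ = mul G (mul G (G.i ≫ G.i) G.i h1) (𝟙 _) h3 := (mul_assoc' _ _ _ h1 h2).symm
      _ = 𝟙 _ := mul_unit_left _ (by rw [mul_inv_left _ rfl]; simp)

variable [IsFinite G.s] [Flat G.s]

lemma finrank_t (u : G.U) : G.t.finrank u = G.s.finrank u := by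
  have := isIso_i_mul G
  conv_lhs => rw [← i_s' G, Scheme.Hom.finrank_comp_left_of_isIso]

lemma finrank_invariant (r : G.R) : G.s.finrank (G.t r) = G.s.finrank (G.s r) := by
  rw [← Scheme.Hom.finrank_pullback_snd G.s G.t r,
    Scheme.Hom.finrank_of_isPullback _ _ _ _ (isPullback_c_snd G) r]

end Groth.Agent.Grpd80
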