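import Groth.Agent.Grpd80.Basic
import Groth.Agent.Alg80.BigField

/-!
A point of a groupoid over a field becomes rational, for both projections, after a restriction.
-/

set_option autoImplicit false
universe u
open CategoryTheory CategoryTheory.Limits AlgebraicGeometry IsLocalRing

namespace Groth.Agent.Grpd80

/-- A point through which a field valued point passes with an isomorphism downstairs is rational. -/
theorem isIso_residueFieldMap_of_comp {K : Type u} [Field K] {X Y : Scheme.{u}}
    (x : Spec (CommRingCat.of K) ⟶ X) (q : X ⟶ Y) [IsIso (x ≫ q)] :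
    IsIso (q.residueFieldMap (x (closedPoint K))) := by
  have h : IsIso ((x ≫ q).residueFieldMap (closedPoint K)) := inferInstance
  rw [Scheme.residueFieldMap_comp] at h
  have hb := @ConcreteCategory.bijective_of_isIso _ _ _ _ _ _ _ _
    (q.residueFieldMap (x (closedPoint K)) ≫ x.residueFieldMap (closedPoint K)) h
  rw [ConcreteCategory.isIso_iff_bijective]
  refine ⟨RingHom.injective _, fun y => ?_⟩
  obtain ⟨c, hc⟩ := hb.2 ((x.residueFieldMap (closedPoint K)) y)
  exact ⟨c, (x.residueFieldMap (closedPoint K)).hom.injective hc⟩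

variable {S : Scheme.{u}} (G : Grpd.GroupoidScheme S) {k : Type u} [Field k]
  (eU : G.U ≅ Spec (CommRingCat.of k))

theorem exists_rational_restriction (r : G.R) :
    ∃ (k' : Type u) (_ : Field k') (_ : IsAlgClosed k') (_ : Algebra k k'),
      ∃ r' : ↑(pullback (pullback.snd (Spec.map (CommRingCat.ofHom (algebraMap k k')) ≫ eU.inv) G.t ≫ G.s)
          (Spec.map (CommRingCat.ofHom (algebraMap k k')) ≫ eU.inv)),
        (pullback.fst (pullback.snd (Spec.map (CommRingCat.ofHom (algebraMap k k')) ≫ eU.inv) G.t ≫ G.s)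
            (Spec.map (CommRingCat.ofHom (algebraMap k k')) ≫ eU.inv) ≫
          pullback.snd (Spec.map (CommRingCat.ofHom (algebraMap k k')) ≫ eU.inv) G.t) r' = r ∧
        IsIso ((pullback.snd (pullback.snd (Spec.map (CommRingCat.ofHom (algebraMap k k')) ≫ eU.inv) G.t ≫ G.s)
          (Spec.map (CommRingCat.ofHom (algebraMap k k')) ≫ eU.inv)).residueFieldMap r') ∧
        IsIso ((pullback.fst (pullback.snd (Spec.map (CommRingCat.ofHom (algebraMap k k')) ≫ eU.inv) G.t ≫ G.s)
          (Spec.map (CommRingCat.ofHom (algebraMap k k')) ≫ eU.inv) ≫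
            pullback.fst (Spec.map (CommRingCat.ofHom (algebraMap k k')) ≫ eU.inv) G.t).residueFieldMap r') := by
  obtain ⟨Ω, _, _, i, hcard⟩ := Alg80.exists_big_algClosed k (G.R.residueField r)
  let α : Spec (CommRingCat.of Ω) ⟶ G.R :=
    Spec.map (CommRingCat.ofHom i) ≫ G.R.fromSpecResidueField r
  have hα : ∀ w, α w = r := fun w => Scheme.fromSpecResidueField_apply r _
  let a := Spec.preimage (α ≫ G.s ≫ eU.hom)
  let b := Spec.preimage (α ≫ G.t ≫ eU.hom)
  obtain ⟨ψ, hψ⟩ := Alg80.exists_ringEquiv_comp hcard a.hom b.hom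
  let : Algebra k Ω := b.hom.toAlgebra
  refine ⟨Ω, inferInstance, inferInstance, inferInstance, ?_⟩
  let g : Spec (CommRingCat.of Ω) ⟶ G.U := Spec.map (CommRingCat.ofHom (algebraMap k Ω)) ≫ eU.inv
  have hg : g = α ≫ G.t := by
    have h : Spec.map (CommRingCat.ofHom (algebraMap k Ω)) = α ≫ G.t ≫ eU.hom := Spec.map_preimage _
    simp [g, h]
  let ψc := Spec.map (CommRingCat.ofHom (ψ : Ω →+* Ω))
  have : IsIso ψc := by
    have h : IsIso (CommRingCat.ofHom (ψ : Ω →+* Ω)) := ψ.toCommRingCatIso.isIso_hom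
    infer_instance
  have hgs : ψc ≫ g = α ≫ G.s := by
    have h : CommRingCat.ofHom (algebraMap k Ω) ≫ CommRingCat.ofHom (ψ : Ω →+* Ω) = a :=
      CommRingCat.hom_ext hψ
    show ψc ≫ Spec.map _ ≫ eU.inv = _
    rw [← Category.assoc, ← Spec.map_comp, h, Spec.map_preimage]
    simp
  let x : Spec (CommRingCat.of Ω) ⟶ pullback (pullback.snd g G.t ≫ G.s) g :=
    pullback.lift (pullback.lift (𝟙 _) α (by rw [Category.id_comp, hg])) ψc
      (by rw [pullback.lift_snd_assoc, hgs])
  refine ⟨x (closedPoint Ω), ?_, ?_, ?_⟩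
  · rw [← Scheme.Hom.comp_apply, pullback.lift_fst_assoc, pullback.lift_snd]
    exact hα _
  · have : IsIso (x ≫ pullback.snd (pullback.snd g G.t ≫ G.s) g) := by
      rw [pullback.lift_snd]; infer_instance
    exact isIso_residueFieldMap_of_comp x _
  · have : IsIso (x ≫ pullback.fst (pullback.snd g G.t ≫ G.s) g ≫ pullback.fst g G.t) := by
      rw [pullback.lift_fst_assoc, pullback.lift_fst]; infer_instance
    exact isIso_residueFieldMap_of_comp x _

end Groth.Agent.Grpd80
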