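import Groth.Agent.Grpd80.Basic
import Mathlib.AlgebraicGeometry.Morphisms.Etale

/-!
Restriction of a groupoid along a morphism to its objects.
-/

set_option autoImplicit false
universe u
open CategoryTheory CategoryTheory.Limits AlgebraicGeometry

namespace Groth.Agent.Grpd80.RestrAlong

variable {S : Scheme.{u}} (G : Grpd.GroupoidScheme S) {U' : Scheme.{u}} (g : U' ⟶ G.U)

/-- The induced map of pairs of objects. -/
noncomputable abbrev μ : pullback (g ≫ G.pU) (g ≫ G.pU) ⟶ pullback G.pU G.pU :=
  pullback.map (g ≫ G.pU) (g ≫ G.pU) G.pU G.pU g g (𝟙 S) (Category.comp_id _) (Category.comp_id _)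

/-- The arrows of the restriction. -/
noncomputable abbrev R' : Scheme.{u} := pullback G.j (μ G g)

/-- Source of the restriction. -/
noncomputable def src : R' G g ⟶ U' := pullback.snd _ _ ≫ pullback.snd _ _

/-- Target of the restriction. -/
noncomputable def tgt : R' G g ⟶ U' := pullback.snd _ _ ≫ pullback.fst _ _

/-- Underlying arrow. -/
noncomputable def arr : R' G g ⟶ G.R := pullback.fst _ _

@[reassoc]
lemma arr_s : arr G g ≫ G.s = src G g ≫ g := by
  rw [arr, ← j_snd, ← Category.assoc, pullback.condition, Category.assoc, pullback.lift_snd, src,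
    Category.assoc]

@[reassoc]
lemma arr_t : arr G g ≫ G.t = tgt G g ≫ g := by
  rw [arr, ← j_fst, ← Category.assoc, pullback.condition, Category.assoc, pullback.lift_fst, tgt,
    Category.assoc]

variable {T : Scheme.{u}}

/-- An arrow from its underlying arrow, target and source. -/
noncomputable def mk (r : T ⟶ G.R) (x y : T ⟶ U') (ht : r ≫ G.t = x ≫ g) (hs : r ≫ G.s = y ≫ g) :
    T ⟶ R' G g :=
  pullback.lift r (pullback.lift x y (by
    rw [← Category.assoc, ← Category.assoc, ← ht, ← hs, Category.assoc, Category.assoc, G.t_over,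
      G.s_over]))
    (by
      apply pullback.hom_ext
      · rw [Category.assoc, Category.assoc, j_fst, pullback.lift_fst, pullback.lift_fst_assoc, ht]
      · rw [Category.assoc, Category.assoc, j_snd, pullback.lift_snd, pullback.lift_snd_assoc, hs])

@[reassoc (attr := simp)]
lemma mk_arr (r : T ⟶ G.R) (x y : T ⟶ U') (ht hs) : mk G g r x y ht hs ≫ arr G g = r :=
  pullback.lift_fst _ _ _

@[reassoc (attr := simp)]
lemma mk_tgt (r : T ⟶ G.R) (x y : T ⟶ U') (ht hs) : mk G g r x y ht hs ≫ tgt G g = x := by
  rw [tgt, mk, pullback.lift_snd_assoc, pullback.lift_fst]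

@[reassoc (attr := simp)]
lemma mk_src (r : T ⟶ G.R) (x y : T ⟶ U') (ht hs) : mk G g r x y ht hs ≫ src G g = y := by
  rw [src, mk, pullback.lift_snd_assoc, pullback.lift_snd]

lemma ext {a b : T ⟶ R' G g} (h1 : a ≫ arr G g = b ≫ arr G g) (h2 : a ≫ tgt G g = b ≫ tgt G g)
    (h3 : a ≫ src G g = b ≫ src G g) : a = b := by
  apply pullback.hom_ext h1
  apply pullback.hom_ext
  · simpa [tgt] using h2
  · simpa [src] using h3

lemma pair_w {α β : T ⟶ R' G g} (h : α ≫ src G g = β ≫ tgt G g) :
    (α ≫ arr G g) ≫ G.s = (β ≫ arr G g) ≫ G.t := by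
  rw [Category.assoc, Category.assoc, arr_s, arr_t, reassoc_of% h]

/-- Composition. -/
noncomputable def comp' : pullback (src G g) (tgt G g) ⟶ R' G g :=
  mk G g
    (mul G (pullback.fst _ _ ≫ arr G g) (pullback.snd _ _ ≫ arr G g) (pair_w G g pullback.condition))
    (pullback.fst _ _ ≫ tgt G g) (pullback.snd _ _ ≫ src G g)
    (by simp [arr_t]) (by simp [arr_s])

lemma lift_comp'_arr (α β : T ⟶ R' G g) (h : α ≫ src G g = β ≫ tgt G g) :
    (pullback.lift α β h ≫ comp' G g) ≫ arr G g =
      mul G (α ≫ arr G g) (β ≫ arr G g) (pair_w G g h) := by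
  rw [Category.assoc, comp', mk_arr, comp_mul]
  exact mul_congr _ _ (pullback.lift_fst_assoc _ _ _ _) (pullback.lift_snd_assoc _ _ _ _)

lemma lift_comp'_tgt (α β : T ⟶ R' G g) (h : α ≫ src G g = β ≫ tgt G g) :
    (pullback.lift α β h ≫ comp' G g) ≫ tgt G g = α ≫ tgt G g := by
  rw [Category.assoc, comp', mk_tgt, pullback.lift_fst_assoc]

lemma lift_comp'_src (α β : T ⟶ R' G g) (h : α ≫ src G g = β ≫ tgt G g) :
    (pullback.lift α β h ≫ comp' G g) ≫ src G g = β ≫ src G g := by
  rw [Category.assoc, comp', mk_src, pullback.lift_snd_assoc]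

/-- The restriction of a groupoid along `g`. -/
noncomputable def restrict : Grpd.GroupoidScheme S where
  U := U'
  R := R' G g
  pU := g ≫ G.pU
  pR := arr G g ≫ G.pR
  s := src G g
  t := tgt G g
  e := mk G g (g ≫ G.e) (𝟙 U') (𝟙 U') (by simp) (by simp)
  i := mk G g (arr G g ≫ G.i) (src G g) (tgt G g) (by simp [arr_s]) (by simp [arr_t])
  c := comp' G g
  s_over := by rw [← arr_s_assoc, G.s_over]
  t_over := by rw [← arr_t_assoc, G.t_over]
  comp_s α β h := lift_comp'_src G g α β h
  comp_t α β h := lift_comp'_tgt G g α β h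
  assoc α β γ h₁ h₂ := by
    refine ext G g ?_ (by simp only [lift_comp'_tgt]) (by simp only [lift_comp'_src])
    simp only [lift_comp'_arr]
    exact mul_assoc' _ _ _ (pair_w G g h₁) (pair_w G g h₂)
  e_s := mk_src _ _ _ _ _ _ _
  e_t := mk_tgt _ _ _ _ _ _ _
  comp_e α := by
    refine ext G g ?_ (by simp only [lift_comp'_tgt]) (by simp [comp', pullback.lift_snd_assoc])
    rw [lift_comp'_arr]
    exact mul_unit_right _ (by simp [arr_s_assoc])
  e_comp α := by
    refine ext G g ?_ (by simp [comp', pullback.lift_fst_assoc]) (by simp only [lift_comp'_src])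
    rw [lift_comp'_arr]
    exact mul_unit_left _ (by simp [arr_t_assoc])
  i_s := mk_src _ _ _ _ _ _ _
  i_t := mk_tgt _ _ _ _ _ _ _
  comp_i α := by
    refine ext G g ?_ (by simp [comp', pullback.lift_fst_assoc]) (by simp [comp', pullback.lift_snd_assoc])
    rw [lift_comp'_arr, mul_inv_right _ (by simp)]
    simp [arr_t_assoc]
  i_comp α := by
    refine ext G g ?_ (by simp [comp', pullback.lift_fst_assoc]) (by simp [comp', pullback.lift_snd_assoc])
    rw [lift_comp'_arr, mul_inv_left _ (by simp)]
    simp [arr_s_assoc]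

/-- The morphism from the restriction. -/
noncomputable def hom : Grpd.GroupoidScheme.Hom (restrict G g) G where
  fU := g
  fR := arr G g
  fU_over := rfl
  comm_s := arr_s G g
  comm_t := arr_t G g
  comm_c α β h := by
    refine (lift_comp'_arr G g α β h).trans ?_
    rfl

lemma restrict_j : (restrict G g).j = pullback.snd G.j (μ G g) := by
  apply pullback.hom_ext
  · exact (j_fst (restrict G g)).trans rfl
  · exact (j_snd (restrict G g)).trans rfl

lemma isPullback_hom : IsPullback (hom G g).fR (restrict G g).j G.j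
    (pullback.map (restrict G g).pU (restrict G g).pU G.pU G.pU (hom G g).fU (hom G g).fU (𝟙 S)
      ((Category.comp_id _).trans (hom G g).fU_over.symm)
      ((Category.comp_id _).trans (hom G g).fU_over.symm)) := by
  have := IsPullback.of_hasPullback G.j (μ G g)
  rw [← restrict_j] at this
  exact this

end Groth.Agent.Grpd80.RestrAlong
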