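import Groth.Agent.Grpd80.GrpdPoints
import Mathlib.RingTheory.Flat.Basic
import Mathlib.Data.Nat.Factorial.Basic
import Mathlib.FieldTheory.IsAlgClosed.AlgebraicClosure
import Mathlib.RingTheory.Nilpotent.Lemmas

set_option autoImplicit false
universe u
open Matrix Polynomial
open scoped TensorProduct

namespace Groth.Agent.Grpd80.GrpdRing

variable {C A B P : Type u} [CommRing C] [CommRing A] [Algebra C A] [CommRing B] [Algebra C B]
  [CommRing P] [Algebra C P] (G : GrpdRing C A B P)

/-- The idempotent matrix `N 1`. -/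
lemma N_one_mul_self : G.N 1 * G.N 1 = G.N 1 := by rw [G.N_mul, one_mul]

/-- `det (T e + (1 - e))`, the polynomial recording the rank of `B` over `A`. -/
noncomputable def rankPoly : A[X] :=
  det (1 + ((Polynomial.X : A[X]) - 1) • (G.N 1).map Polynomial.C)

lemma rankPoly_eval₂ {R : Type*} [CommRing R] (φ : A →+* R) (T : R) :
    (G.rankPoly).eval₂ φ T = det (1 + (T - 1) • (G.N 1).map φ) := by
  rw [← coe_eval₂RingHom, rankPoly, RingHom.map_det]
  congr 1
  ext i j
  simp [Matrix.one_apply, apply_ite (eval₂ φ T)]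

lemma rankPoly_mul {R : Type*} [CommRing R] (φ : A →+* R) (T U : R) :
    (G.rankPoly).eval₂ φ T * (G.rankPoly).eval₂ φ U = (G.rankPoly).eval₂ φ (T * U) := by
  simp only [rankPoly_eval₂, ← det_mul]
  congr 1
  set e := (G.N 1).map φ
  have he : e * e = e := by rw [← Matrix.map_mul, G.N_one_mul_self]
  simp only [mul_add, add_mul, mul_one, one_mul, Matrix.smul_mul, Matrix.mul_smul, he, smul_smul,
    add_assoc, ← add_smul]
  congr 2
  ring

lemma rankPoly_orthogonal (r q : ℕ) :
    (G.rankPoly).coeff r * (G.rankPoly).coeff q = if r = q then (G.rankPoly).coeff q else 0 := by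
  have h := G.rankPoly_mul ((Polynomial.C : A[X] →+* A[X][X]).comp Polynomial.C)
    (Polynomial.C Polynomial.X) Polynomial.X
  have hT : (G.rankPoly).eval₂ ((Polynomial.C : A[X] →+* A[X][X]).comp Polynomial.C)
      (Polynomial.C Polynomial.X) = Polynomial.C G.rankPoly := by
    rw [← hom_eval₂, eval₂_C_X]
  have hU : (G.rankPoly).eval₂ ((Polynomial.C : A[X] →+* A[X][X]).comp Polynomial.C) Polynomial.X =
      (G.rankPoly).map Polynomial.C := by rw [Polynomial.map]
  rw [hT, hU, eval₂_eq_sum, Polynomial.sum] at h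
  have h2 := congr(Polynomial.coeff (Polynomial.coeff $h q) r)
  simp only [mul_pow, finsetSum_coeff, coeff_C_mul, coeff_map, coeff_mul_C, RingHom.comp_apply,
    coeff_X_pow, ← Polynomial.C_pow] at h2
  rw [h2]
  simp only [mul_ite, mul_one, mul_zero, apply_ite (Polynomial.coeff · r), coeff_zero,
    Finset.sum_ite_eq, Polynomial.mem_support_iff, coeff_X_pow]
  split_ifs with h1 h3 h3 <;> simp_all

lemma rankPoly_sum : ∑ r ∈ Finset.range (G.rankPoly.natDegree + 1), (G.rankPoly).coeff r = 1 := by
  have h : (G.rankPoly).eval₂ (RingHom.id A) 1 = 1 := by rw [rankPoly_eval₂]; simp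
  simpa [eval₂_eq_sum_range] using h

lemma rankPoly_coeff_zero : (G.rankPoly).coeff 0 = 0 := by
  have h := G.rankPoly_eval₂ (RingHom.id A) 0
  rw [eval₂_at_zero, RingHom.id_apply, zero_sub, RingHom.coe_id, Matrix.map_id] at h
  rw [h]
  set e := G.N 1
  set r := fun k => G.ε (G.x k)
  have hv := G.point_vecMul (G.ε : B →+* A) 1
  have hmap : e.map ((G.ε : B →+* A).comp (G.s : A →+* B)) = e := by
    ext i j; simp [G.ε_s]
  rw [hmap] at hv
  simp only [RingHom.coe_coe, map_one, one_smul] at hv
  have h0 : r ᵥ* (1 + (-1 : A) • e) = 0 := by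
    rw [vecMul_add, vecMul_one, vecMul_smul, hv, neg_one_smul, add_neg_cancel]
  have h1 := congr($h0 ᵥ* adjugate (1 + (-1 : A) • e))
  rw [vecMul_vecMul, mul_adjugate, zero_vecMul, vecMul_smul, vecMul_one] at h1
  have h4 : (fun k => G.l k 1) ⬝ᵥ r = 1 := by
    simpa [dotProduct, r, map_sum, G.ε_s] using congr(G.ε $(G.frame 1))
  have := congr((fun k => G.l k 1) ⬝ᵥ $h1)
  rwa [dotProduct_smul, h4, dotProduct_zero, smul_eq_mul, mul_one] at this

lemma rankPoly_invariant (r : ℕ) :
    G.s ((G.rankPoly).coeff r) = G.t ((G.rankPoly).coeff r) := by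
  have key : (G.rankPoly).eval₂ ((Polynomial.C : B →+* B[X]).comp (G.s : A →+* B)) Polynomial.X =
      (G.rankPoly).eval₂ ((Polynomial.C : B →+* B[X]).comp (G.t : A →+* B)) Polynomial.X := by
    have hc : ∀ φ : A →ₐ[C] B, (G.N 1).map ((Polynomial.C : B →+* B[X]).comp (φ : A →+* B)) =
        ((G.N 1).map φ).map (Polynomial.C : B →+* B[X]) := fun φ => (Matrix.map_map ..).symm
    rw [rankPoly_eval₂, rankPoly_eval₂, hc, hc, G.map_s_N, G.map_t_N (by simp), Matrix.map_mul,
      Matrix.map_mul, ← Matrix.smul_mul, ← Matrix.mul_smul, det_one_add_mul_comm]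
  have key' : (G.rankPoly).map (G.s : A →+* B) = (G.rankPoly).map (G.t : A →+* B) := key
  exact (coeff_map (G.s : A →+* B) r).symm.trans
    ((congr(Polynomial.coeff $key' r)).trans (coeff_map (G.t : A →+* B) r))

lemma polyC_lincomb {R : Type*} [CommRing R] {m : Type*} [Fintype m] (x y : m → R) (f F : R)
    (h : ∑ i, x i * y i = f * F) :
    ∑ i, -Polynomial.C (x i) * Polynomial.C (y i) = -Polynomial.C f * Polynomial.C F := by
  simp only [neg_mul, ← Polynomial.C_mul, Finset.sum_neg_distrib, ← map_sum, h]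

section BaseChange

variable {C' : Type u} [CommRing C'] [Algebra C C']

/-- Base change of `b ↦ N b` on matrix entries. -/
noncomputable def entryMap (j k : Fin G.n) : B ⊗[C] C' →ₗ[C] A ⊗[C] C' :=
  ((G.l j).comp (LinearMap.mulRight C (G.x k))).rTensor C'

lemma entryMap_map_s (j k : Fin G.n) (f : A ⊗[C] C') :
    G.entryMap j k (Algebra.TensorProduct.map G.s (AlgHom.id C C') f) =
      f * (G.N 1 j k ⊗ₜ 1) := by
  induction f with
  | zero => simp
  | add f f' hf hf' => rw [map_add, map_add, hf, hf', add_mul]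
  | tmul a c => simp [entryMap, G.l_smul, N_apply]

/-- Over a base change the minimal equation of an invariant function is a power of a linear one. -/
theorem exists_poly (hC : G.IsInvariants) (f : A ⊗[C] C')
    (hf : Algebra.TensorProduct.map G.s (AlgHom.id C C') f =
      Algebra.TensorProduct.map G.t (AlgHom.id C C') f) :
    ∃ (N : ℕ) (Q : C'[X]), 0 < N ∧
      Q.map (Algebra.TensorProduct.includeRight : C' →ₐ[C] A ⊗[C] C').toRingHom =
        (Polynomial.X - Polynomial.C f) ^ N := by
  classical
  obtain ⟨m, hm⟩ := TensorProduct.exists_finset (R := C) f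
  let a : m → A := fun i => i.1.1
  let c : m → C' := fun i => i.1.2
  have hsum : f = ∑ i, a i ⊗ₜ[C] c i := by rw [hm]; exact (Finset.sum_coe_sort m _).symm
  let b : Option m → B := fun o => o.elim 1 fun i => G.t (a i)
  have hb : ∀ i, G.μ (b i) = G.p₁ (b i) := by
    rintro (_ | i)
    · simp [b]
    · exact G.μ_t _
  obtain ⟨g, hg⟩ : G.gdet b ∈ (MvPolynomial.map (algebraMap C A)).range := by
    refine RingHom.mem_range.mpr (Set.mem_range.mp (MvPolynomial.mem_range_map_iff_coeffs_subset.mpr ?_))
    intro z hz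
    obtain ⟨d, -, rfl⟩ := MvPolynomial.mem_coeffs_iff.mp hz
    have := congr(MvPolynomial.coeff d $(G.gdet_invariant b hb))
    rw [MvPolynomial.coeff_map, MvPolynomial.coeff_map] at this
    exact hC _ this
  set ι : C' →+* A ⊗[C] C' :=
    (Algebra.TensorProduct.includeRight : C' →ₐ[C] A ⊗[C] C').toRingHom
  set ψ : A →+* (A ⊗[C] C')[X] :=
    Polynomial.C.comp (Algebra.TensorProduct.includeLeftRingHom : A →+* A ⊗[C] C')
  let val : Option m → C'[X] := fun o => o.elim (Polynomial.X - 1) fun i => -Polynomial.C (c i)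
  let P₀ : C'[X] := MvPolynomial.eval₂ ((Polynomial.C : C' →+* C'[X]).comp (algebraMap C C')) val g
  have hι : (Polynomial.mapRingHom ι).comp ((Polynomial.C : C' →+* C'[X]).comp (algebraMap C C')) =
      ψ.comp (algebraMap C A) := by
    ext z
    simp [ψ, ι, Algebra.algebraMap_eq_smul_one, TensorProduct.smul_tmul]
  have hP₀ : P₀.map ι = (G.rankPoly).eval₂ ψ (Polynomial.X - Polynomial.C f) := by
    simp only [P₀]
    rw [rankPoly_eval₂, ← coe_mapRingHom, MvPolynomial.hom_eval₂, hι,
      ← MvPolynomial.eval₂_map, hg, ← MvPolynomial.coe_eval₂Hom, gdet, RingHom.map_det, map_add,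
      map_one, map_sum]
    congr 2
    rw [Fintype.sum_option]
    have hlin : ∀ (E : m → A) (F : A),
        ∑ i, (1 ⊗ₜ[C] c i) * (E i ⊗ₜ[C] (1 : C')) = f * (F ⊗ₜ[C] (1 : C')) →
        ∑ i, -Polynomial.C (ι (c i)) * Polynomial.C (E i ⊗ₜ[C] (1 : C') : A ⊗[C] C') =
          -Polynomial.C f * Polynomial.C (F ⊗ₜ[C] (1 : C') : A ⊗[C] C') := by
      intro E F h
      exact polyC_lincomb (fun i => ι (c i)) (fun i => E i ⊗ₜ[C] (1 : C')) f (F ⊗ₜ[C] (1 : C')) h
    have hmat : ∑ i, (-Polynomial.C (ι (c i))) • (G.N (G.t (a i))).map ψ =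
        (-Polynomial.C f) • (G.N 1).map ψ := by
      ext j k : 1
      rw [Matrix.sum_apply]
      refine hlin (fun i => G.N (G.t (a i)) j k) (G.N 1 j k) ?_
      rw [← G.entryMap_map_s, hf, hsum, map_sum, map_sum]
      refine Finset.sum_congr rfl fun i _ => ?_
      simp [entryMap, N_apply]
    rw [sub_sub, show Polynomial.C f + 1 = 1 + Polynomial.C f from add_comm _ _, ← sub_sub,
      sub_eq_add_neg ((Polynomial.X : (A ⊗[C] C')[X]) - 1), add_smul, ← hmat]
    congr 1
    · ext p q; simp [b, val, ψ, ι]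
    · refine Finset.sum_congr rfl fun i _ => ?_
      ext p q; simp [b, val, ψ, ι]
  set D := G.rankPoly.natDegree
  choose e he using fun r => hC _ (G.rankPoly_invariant r)
  refine ⟨D.factorial, ∑ r ∈ Finset.range (D + 1),
    Polynomial.C (algebraMap C C' (e r)) * P₀ ^ (D.factorial / r), D.factorial_pos, ?_⟩
  set v : (A ⊗[C] C')[X] := Polynomial.X - Polynomial.C f
  set π : ℕ → (A ⊗[C] C')[X] := fun r => ψ ((G.rankPoly).coeff r)
  have horth : ∀ r q, π r * π q = if r = q then π q else 0 := fun r q => by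
    simp only [π, ← map_mul, G.rankPoly_orthogonal, apply_ite ψ, map_zero]
  have hπ : ∀ r, π r * P₀.map ι = π r * v ^ r := by
    intro r
    rw [hP₀, eval₂_eq_sum_range, Finset.mul_sum]
    rcases lt_or_ge r (D + 1) with hr | hr
    · rw [Finset.sum_eq_single r]
      · rw [← mul_assoc, horth, if_pos rfl]
      · intro q _ hq
        rw [← mul_assoc, horth, if_neg (Ne.symm hq), zero_mul]
      · exact fun h => absurd (Finset.mem_range.mpr hr) h
    · have : π r = 0 := by simp [π, coeff_eq_zero_of_natDegree_lt (show D < r by omega)]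
      simp [this]
  rw [Polynomial.map_sum]
  calc ∑ r ∈ Finset.range (D + 1),
        (Polynomial.C (algebraMap C C' (e r)) * P₀ ^ (D.factorial / r)).map ι
      = ∑ r ∈ Finset.range (D + 1), π r * v ^ D.factorial := by
        refine Finset.sum_congr rfl fun r hr => ?_
        have hCe : (Polynomial.C (algebraMap C C' (e r))).map ι = π r := by
          simp only [π, ψ, ← he]
          exact RingHom.congr_fun hι (e r)
        rw [Polynomial.map_mul, Polynomial.map_pow, hCe]
        rcases Nat.eq_zero_or_pos r with rfl | hr0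
        · simp [π, G.rankPoly_coeff_zero]
        obtain ⟨d, hd⟩ := Nat.dvd_factorial hr0 (by simpa [Nat.lt_succ_iff] using hr : r ≤ D)
        rw [hd, Nat.mul_div_cancel_left _ hr0, pow_mul]
        clear hd
        induction d with
        | zero => simp
        | succ d ih => rw [pow_succ, ← mul_assoc, ih, mul_right_comm, hπ, mul_right_comm, mul_assoc, ← pow_succ]
    _ = v ^ D.factorial := by
        simp only [π, ← Finset.sum_mul, ← map_sum]
        rw [G.rankPoly_sum, map_one, one_mul]

include G in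
/-- The kernel of a base change of `C → A` consists of nilpotents. -/
theorem isNilpotent_of_one_tmul (hC : G.IsInvariants) (hinj : Function.Injective (algebraMap C A))
    (c : C') (hc : (1 : A) ⊗ₜ[C] c = 0) : IsNilpotent c := by
  refine nilpotent_iff_mem_prime.mpr fun q hq => ?_
  let K := AlgebraicClosure q.ResidueField
  let ξ : C' →+* K := (algebraMap q.ResidueField K).comp (algebraMap C' q.ResidueField)
  letI : Algebra C K := (ξ.comp (algebraMap C C')).toAlgebra
  obtain ⟨χ, hχ⟩ := G.exists_point_lift hC hinj (ξ.comp (algebraMap C C'))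
  let χ' : A →ₐ[C] K := { χ with commutes' := fun z => RingHom.congr_fun hχ z }
  let ξ' : C' →ₐ[C] K := { ξ with commutes' := fun z => rfl }
  have := congr(Algebra.TensorProduct.lift χ' ξ' (fun _ _ => Commute.all _ _) $hc)
  rw [map_zero, Algebra.TensorProduct.lift_tmul, map_one, one_mul] at this
  exact Ideal.algebraMap_residueField_eq_zero.mp
    ((map_eq_zero (algebraMap q.ResidueField K)).mp this)

/-- Invariants commute with flat base change. -/
theorem flat_invariants [Module.Flat C C'] (hC : G.IsInvariants)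
    (hinj : Function.Injective (algebraMap C A)) :
    Function.Injective (Algebra.TensorProduct.includeRight : C' →ₐ[C] A ⊗[C] C') ∧
      ∀ f : A ⊗[C] C', Algebra.TensorProduct.map G.s (AlgHom.id C C') f =
          Algebra.TensorProduct.map G.t (AlgHom.id C C') f →
        f ∈ Set.range (Algebra.TensorProduct.includeRight : C' →ₐ[C] A ⊗[C] C') := by
  have key : ∀ y : C ⊗[C] C', (Algebra.linearMap C A).rTensor C' y =
      (Algebra.TensorProduct.includeRight : C' →ₐ[C] A ⊗[C] C') (TensorProduct.lid C C' y) := by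
    intro y
    induction y with
    | zero => simp
    | add y y' h h' => rw [map_add, map_add, map_add, h, h']
    | tmul z w => simp [Algebra.algebraMap_eq_smul_one, TensorProduct.smul_tmul]
  refine ⟨fun w w' h => ?_, fun f hf => ?_⟩
  · obtain ⟨y, rfl⟩ := (TensorProduct.lid C C').surjective w
    obtain ⟨y', rfl⟩ := (TensorProduct.lid C C').surjective w'
    rw [← key, ← key] at h
    rw [Module.Flat.rTensor_preserves_injective_linearMap _ hinj h]
  · have hex : Function.Exact (Algebra.linearMap C A) (G.s.toLinearMap - G.t.toLinearMap) := by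
      intro a
      rw [LinearMap.sub_apply, sub_eq_zero]
      refine ⟨fun h => hC a h, ?_⟩
      rintro ⟨z, rfl⟩
      simp
    have h0 : (G.s.toLinearMap - G.t.toLinearMap).rTensor C' f = 0 := by
      rw [LinearMap.rTensor_sub, LinearMap.sub_apply, sub_eq_zero]
      exact hf
    obtain ⟨y, hy⟩ := (Module.Flat.rTensor_exact C' hex f).mp h0
    exact ⟨TensorProduct.lid C C' y, (key y).symm.trans hy⟩

end BaseChange

end Groth.Agent.Grpd80.GrpdRing
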