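import Groth.Agent.Grpd80.QuotApi
import Groth.Agent.Grpd80.QuotSheaf

set_option autoImplicit false
universe u
open CategoryTheory CategoryTheory.Limits AlgebraicGeometry TopologicalSpace

namespace Groth.Agent.Grpd80

variable {S : Scheme.{u}} {G : Grpd.GroupoidScheme S}

/-- Classes lie in affine opens when this holds at some point of each closed subset. -/
lemma classes_of_closed [IsFinite G.s] [Flat G.s] [LocallyOfFinitePresentation G.s]
    (h3 : ∀ Z : Set G.U, IsClosed Z → Z.Nonempty →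
      ∃ u ∈ Z, ∃ W : G.U.Opens, IsAffineOpen W ∧ ∀ r : G.R, G.s r = u → G.t r ∈ W) :
    ∀ x : G.U, ∃ V : G.U.Opens, IsAffineOpen V ∧ ∀ r : G.R, G.s r = x → G.t r ∈ V := by
  intro x
  obtain ⟨v, hv, W₀, hW₀, hvW⟩ := h3 (closure {x}) isClosed_closure ⟨x, subset_closure rfl⟩
  obtain ⟨W, hW, hvmem, -, hinv⟩ := exists_inv_affine hW₀ hvW (O := ⊤) rfl trivial
  obtain ⟨y, hy, rfl⟩ := mem_closure_iff.mp hv W.1 W.isOpen hvmem
  exact ⟨W, hW, fun r hr => (hinv.mem_iff r).mp (hr ▸ hy)⟩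

/-- The quotient as a scheme over the base, representing the quotient sheaf. -/
theorem exists_sheafQuot [IsFinite G.s] [Flat G.s] [LocallyOfFinitePresentation G.s] [Mono G.j]
    (hb : ∀ x : G.U, ∃ V : G.U.Opens, IsAffineOpen V ∧ ∀ r : G.R, G.s r = x → G.t r ∈ V) :
    ∃ (M : Over S) (m : Over.mk G.pU ⟶ M),
      (IsFinite m.left ∧ Flat m.left ∧ LocallyOfFinitePresentation m.left ∧ Surjective m.left) ∧
      IsPullback G.t G.s m.left m.left ∧
      QuotSh.IsQuotient Scheme.fppfPrecoverage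
        (Over.homMk G.s G.s_over : Over.mk G.pR ⟶ Over.mk G.pU)
        (Over.homMk G.t G.t_over : Over.mk G.pR ⟶ Over.mk G.pU) m ∧
      (IsAffine G.U → IsAffine M.left) ∧ IsNiceQuot G m.left := by
  obtain ⟨Y, p, hp⟩ := exists_niceQuot G hb
  obtain ⟨sq, i1, i2, i3⟩ := hp.mono ‹_›
  obtain ⟨g, hg, -⟩ := hp.desc G.pU (by rw [G.t_over, G.s_over])
  refine ⟨Over.mk g, Over.homMk p hg, ⟨i1, i2, i3, hp.surj⟩, sq, ?_, hp.affine, hp⟩
  refine isQuotient_fppf _ _ _ ?_ ((SpFP87.fppfSurj_iff _).mpr ⟨hp.surj, i2, i3⟩)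
  refine IsPullback.of_map (Over.forget S) ?_ sq
  ext
  exact sq.w

end Groth.Agent.Grpd80
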