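import Groth.Agent.Grpd80.SliceRing
import Groth.Agent.FlatMor66.SliceScheme
import Groth.Agent.FlatMor66.SliceCM
import Groth.Agent.FlatMor68.CMComp
import Groth.Agent.Grpd80.LocDim
import Groth.Prelude.Def_Grpd

/-!
Cutting the source of a flat morphism by functions pulled back along a second morphism.
-/

set_option autoImplicit false
set_option backward.isDefEq.respectTransparency.types false
set_option linter.style.haveILetI false
universe u

open CategoryTheory CategoryTheory.Limits AlgebraicGeometry IsLocalRing RingTheory.Sequence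

namespace Groth.Agent.Grpd80

/-- The ideal of the fibre through `x` in the local ring at `x`. -/
noncomputable abbrev fibIdeal {X Y : Scheme.{u}} (f : X ⟶ Y) (x : X) : Ideal (X.presheaf.stalk x) :=
  (maximalIdeal (Y.presheaf.stalk (f x))).map (f.stalkMap x).hom

/-- The local ring of the fibre through `x`. -/
abbrev FibQuot {X Y : Scheme.{u}} (f : X ⟶ Y) (x : X) : Type u := X.presheaf.stalk x ⧸ fibIdeal f x

lemma cm_iff_fibQuot {X Y : Scheme.{u}} (f : X ⟶ Y) (x : X) :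
    MoreMor.IsCMAt f x ↔ (f.stalkMap x).hom.Flat ∧ LocCoh.IsCohenMacaulayLocalRing (FibQuot f x) :=
  and_congr Iff.rfl (FlatMor68.CMComp.cm_fibre_iff f x)

/-- The local dimension of the fibre at a point closed in its fibre. -/
lemma fibreDimAt_eq_fibQuot {X Y : Scheme.{u}} (f : X ⟶ Y) [LocallyOfFiniteType f] (x : X)
    (hcl : IsClosed ({f.asFiber x} : Set ↥(f.fiber (f x)))) :
    FlatMor.fibreDimAt f x = ringKrullDim (FibQuot f x) := by
  let q := f.fiberToSpecResidueField (f x)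
  have : LocallyOfFiniteType q :=
    MorphismProperty.pullback_snd (P := @LocallyOfFiniteType) f _ inferInstance
  rw [ringKrullDim_eq_of_ringEquiv (FlatMor68.FibreStalk.fibreStalkEquivAt f x)]
  show FlatMor.localDim _ _ = _
  rw [LocDim.localDim_eq_tdegN_add (k := Y.residueField (f x)) q,
    LocDim.tdegN_eq_zero_of_isClosed (k := Y.residueField (f x)) q hcl]
  exact zero_add _

/-- A point closed in its fibre, on the underlying space. -/
lemma isClosed_asFiber_iff {X Y : Scheme.{u}} (f : X ⟶ Y) (x : X) :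
    IsClosed ({f.asFiber x} : Set ↥(f.fiber (f x))) ↔ closure {x} ∩ f ⁻¹' {f x} = {x} := by
  rw [closure_eq_iff_isClosed.symm, ← (f.fiberι (f x)).isEmbedding.injective.image_injective.eq_iff,
    (f.fiberι (f x)).isEmbedding.closure_eq_preimage_closure_image, Set.image_preimage_eq_inter_range,
    Scheme.Hom.range_fiberι, Set.image_singleton, Scheme.Hom.fiberι_asFiber]

lemma ofList_map_map {A B : Type u} [CommRing A] [CommRing B] (f : A →+* B) (l : List A) :
    (Ideal.ofList l).map f = Ideal.ofList (l.map f) := Ideal.map_ofList f l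

lemma fibIdeal_comp {X' X Y : Scheme.{u}} (q : X' ⟶ X) (f : X ⟶ Y) (z : X') :
    fibIdeal (q ≫ f) z = (fibIdeal f (q z)).map (q.stalkMap z).hom := by
  rw [fibIdeal, fibIdeal, Ideal.map_map]
  congr 1
  rw [Scheme.Hom.stalkMap_comp]
  rfl

/-- Quotients along a surjection with a given kernel. -/
lemma quotEquiv_of_surjective {L C : Type u} [CommRing L] [CommRing C] (ψ : L →+* C)
    (hψ : Function.Surjective ψ) (I : Ideal L) (l : List L) (hk : RingHom.ker ψ = Ideal.ofList l)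
    (I' : Ideal C) (hI : I' = I.map ψ) :
    Nonempty ((C ⧸ I') ≃+* (L ⧸ I) ⧸ Ideal.ofList (l.map (Ideal.Quotient.mk I))) := by
  let α : L →+* C ⧸ I' := (Ideal.Quotient.mk _).comp ψ
  have hα : Function.Surjective α := Ideal.Quotient.mk_surjective.comp hψ
  let β : L →+* (L ⧸ I) ⧸ Ideal.ofList (l.map (Ideal.Quotient.mk I)) :=
    (Ideal.Quotient.mk _).comp (Ideal.Quotient.mk _)
  have hβ : Function.Surjective β := Ideal.Quotient.mk_surjective.comp Ideal.Quotient.mk_surjective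
  have hab : RingHom.ker α = RingHom.ker β := by
    rw [← RingHom.comap_ker, ← RingHom.comap_ker, Ideal.mk_ker, Ideal.mk_ker, hI,
      Ideal.comap_map_of_surjective _ hψ, ← RingHom.ker_eq_comap_bot, hk, ← Ideal.map_ofList,
      Ideal.comap_map_of_surjective _ Ideal.Quotient.mk_surjective,
      ← RingHom.ker_eq_comap_bot, Ideal.mk_ker, sup_comm]
  exact ⟨((RingHom.quotientKerEquivOfSurjective hα).symm.trans (Ideal.quotEquivOfEq hab)).trans
    (RingHom.quotientKerEquivOfSurjective hβ)⟩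

/-- The local ring of the fibre does not change along an open immersion. -/
lemma fibQuot_of_openImmersion {X' X Y : Scheme.{u}} (k : X' ⟶ X) [IsOpenImmersion k] (f : X ⟶ Y)
    (g : X' ⟶ Y) (hg : k ≫ f = g) (z : X') :
    Nonempty (FibQuot f (k z) ≃+* FibQuot g z) := by
  subst hg
  exact ⟨Ideal.quotientEquiv _ _ (asIso (k.stalkMap z)).commRingCatIsoToRingEquiv (fibIdeal_comp k f z)⟩

variable {R U S' : Scheme.{u}} (s : R ⟶ S') (t : R ⟶ U) (r : R)

/-- Functions near `t r`, restricted to the fibre of `s` at `r`. -/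
noncomputable def fibMap {W : U.Opens} (hr : t r ∈ W) : Γ(U, W) →+* FibQuot s r :=
  (Ideal.Quotient.mk _).comp ((t.stalkMap r).hom.comp (U.presheaf.germ W (t r) hr).hom)

lemma fibMap_mem {W : U.Opens} (hW : IsAffineOpen W) (hr : t r ∈ W) (o : Γ(U, W))
    (ho : o ∈ (hW.primeIdealOf ⟨t r, hr⟩).asIdeal) :
    (t.stalkMap r).hom ((U.presheaf.germ W (t r) hr).hom o) ∈ maximalIdeal (R.presheaf.stalk r) := by
  letI := TopCat.Presheaf.algebra_section_stalk U.presheaf ⟨t r, hr⟩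
  haveI : IsLocalization.AtPrime (U.presheaf.stalk (t r)) (hW.primeIdealOf ⟨t r, hr⟩).asIdeal :=
    hW.isLocalization_stalk ⟨t r, hr⟩
  exact map_nonunit (t.stalkMap r).hom _
    ((IsLocalization.AtPrime.to_map_mem_maximal_iff (U.presheaf.stalk (t r)) _ o).2 ho)

/-- An affine neighbourhood on which the slice is flat. -/
theorem slice_chart [LocallyOfFinitePresentation s] (hflat : (s.stalkMap r).hom.Flat)
    {W : U.Opens} (hW : IsAffineOpen W) (hr : t r ∈ W) (os : List Γ(U, W))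
    (hm : ∀ o ∈ os, o ∈ (hW.primeIdealOf ⟨t r, hr⟩).asIdeal)
    (hreg : IsWeaklyRegular (FibQuot s r) (os.map (fibMap s t r hr))) :
    ∃ (B₁ : R.Opens) (hB₁ : IsAffineOpen B₁) (_ : r ∈ B₁) (eW₁ : B₁ ≤ t ⁻¹ᵁ W),
      Flat (Spec.map (CommRingCat.ofHom (Ideal.Quotient.mk (Ideal.ofList (os.map (t.appLE W B₁ eW₁).hom)))) ≫
        hB₁.fromSpec ≫ s) := by
  obtain ⟨V, hV, hfV, -⟩ := exists_isAffineOpen_mem_and_subset (U := (⊤ : S'.Opens)) (x := s r) trivial
  obtain ⟨B₀, hB, hxB, hBle⟩ := exists_isAffineOpen_mem_and_subset (U := t ⁻¹ᵁ W ⊓ s ⁻¹ᵁ V) (x := r) ⟨hr, hfV⟩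
  have eV : B₀ ≤ s ⁻¹ᵁ V := fun z hz => (hBle hz).2
  have eW : B₀ ≤ t ⁻¹ᵁ W := fun z hz => (hBle hz).1
  let hs₁ := os.map (t.appLE W B₀ eW).hom
  letI : Algebra Γ(S', V) Γ(R, B₀) := (s.appLE V B₀ eV).hom.toAlgebra
  haveI : Algebra.FinitePresentation Γ(S', V) Γ(R, B₀) := s.finitePresentation_appLE hV hB eV
  letI := TopCat.Presheaf.algebra_section_stalk S'.presheaf ⟨s r, hfV⟩
  letI := TopCat.Presheaf.algebra_section_stalk R.presheaf ⟨r, hxB⟩
  letI : Algebra Γ(S', V) (R.presheaf.stalk r) :=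
    ((algebraMap Γ(R, B₀) (R.presheaf.stalk r)).comp (algebraMap Γ(S', V) Γ(R, B₀))).toAlgebra
  haveI : IsScalarTower Γ(S', V) Γ(R, B₀) (R.presheaf.stalk r) := .of_algebraMap_eq' rfl
  let Q := (hB.primeIdealOf ⟨r, hxB⟩).asIdeal
  let p₀ := (hV.primeIdealOf ⟨s r, hfV⟩).asIdeal
  haveI : IsLocalization.AtPrime (R.presheaf.stalk r) Q := hB.isLocalization_stalk ⟨r, hxB⟩
  haveI : IsLocalization.AtPrime (S'.presheaf.stalk (s r)) p₀ := hV.isLocalization_stalk ⟨s r, hfV⟩
  have hp : p₀ = Q.under Γ(S', V) := FlatMor66.primeIdealOf_image s hV hB eV hxB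
  have hC : Module.Flat Γ(S', V) (R.presheaf.stalk r) := by
    have h := (FlatMor66.flat_stalkMap_iff_localization s hV hB eV hxB).mp hflat
    exact Module.Flat.of_linearEquiv
      ((IsLocalization.algEquiv Q.primeCompl (R.presheaf.stalk r) (Localization.AtPrime Q)).toLinearEquiv.restrictScalars Γ(S', V))
  have hJ : (Q.under Γ(S', V)).map (algebraMap Γ(S', V) (R.presheaf.stalk r)) = fibIdeal s r := by
    rw [← hp, fibIdeal, ← IsLocalization.AtPrime.map_eq_maximalIdeal p₀ (S'.presheaf.stalk (s r)), Ideal.map_map]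
    congr 1
    exact RingHom.ext fun a => (FlatMor66.stalkMap_germ_appLE s eV hxB a).symm
  have hgerm : ∀ o, algebraMap Γ(R, B₀) (R.presheaf.stalk r) ((t.appLE W B₀ eW).hom o) =
      (t.stalkMap r).hom ((U.presheaf.germ W (t r) hr).hom o) :=
    fun o => (FlatMor66.stalkMap_germ_appLE t eW hxB o).symm
  have hmem : ∀ i, hs₁.get i ∈ Q := fun i => by
    refine (IsLocalization.AtPrime.to_map_mem_maximal_iff (R.presheaf.stalk r) Q (hs₁.get i)).mp ?_
    obtain ⟨o, ho, e⟩ := List.mem_map.1 (List.get_mem hs₁ i)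
    rw [← e, hgerm]
    exact fibMap_mem t r hW hr o (hm o ho)
  have hreg₁ : IsWeaklyRegular (R.presheaf.stalk r ⧸ (Q.under Γ(S', V)).map (algebraMap Γ(S', V) (R.presheaf.stalk r)))
      (List.ofFn fun i => Ideal.Quotient.mk ((Q.under Γ(S', V)).map (algebraMap Γ(S', V) (R.presheaf.stalk r)))
        (algebraMap Γ(R, B₀) (R.presheaf.stalk r) (hs₁.get i))) := by
    have hl : ∀ (J : Ideal (R.presheaf.stalk r)),
        (List.ofFn fun i => Ideal.Quotient.mk J (algebraMap Γ(R, B₀) (R.presheaf.stalk r) (hs₁.get i))) =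
          os.map (fun o => Ideal.Quotient.mk J ((t.stalkMap r).hom ((U.presheaf.germ W (t r) hr).hom o))) :=
      fun J => by
        rw [show (List.ofFn fun i => Ideal.Quotient.mk J (algebraMap Γ(R, B₀) (R.presheaf.stalk r) (hs₁.get i))) =
          hs₁.map (fun b => Ideal.Quotient.mk J (algebraMap Γ(R, B₀) (R.presheaf.stalk r) b)) from by
            conv_rhs => rw [← List.ofFn_get hs₁, List.map_ofFn]
            rfl, List.map_map]
        exact List.map_congr_left fun o _ => congrArg (Ideal.Quotient.mk J) (hgerm o)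
    rw [hl, hJ]
    exact hreg
  obtain ⟨g, hg, hflat'⟩ :=
    FlatMor66.exists_flat_over_polynomial (R := Γ(S', V)) (C := Γ(R, B₀)) Q hC hs₁.get hmem hreg₁
  let B₁ := R.basicOpen g
  have hxU : r ∈ B₁ := by
    rw [R.mem_basicOpen g r hxB]
    exact IsLocalization.map_units (R.presheaf.stalk r) (⟨g, hg⟩ : Q.primeCompl)
  have hB₁ : IsAffineOpen B₁ := hB.basicOpen g
  have eV₁ : B₁ ≤ s ⁻¹ᵁ V := fun z hz => eV (R.basicOpen_le g hz)
  have eW₁ : B₁ ≤ t ⁻¹ᵁ W := fun z hz => eW (R.basicOpen_le g hz)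
  let hs' : List Γ(R, B₁) := os.map (t.appLE W B₁ eW₁).hom
  have hflat₁ : letI := (s.appLE V B₁ eV₁).hom.toAlgebra
      ((MvPolynomial.aeval hs'.get : MvPolynomial (Fin hs'.length) Γ(S', V) →ₐ[Γ(S', V)] Γ(R, B₁)).toRingHom).Flat := by
    letI : Algebra Γ(S', V) Γ(R, B₁) := (s.appLE V B₁ eV₁).hom.toAlgebra
    letI : Algebra Γ(R, B₀) Γ(R, B₁) := (R.presheaf.map (homOfLE (R.basicOpen_le g)).op).hom.toAlgebra
    haveI : IsScalarTower Γ(S', V) Γ(R, B₀) Γ(R, B₁) := .of_algebraMap_eq fun a => by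
      show (s.appLE V B₁ eV₁).hom a = (R.presheaf.map _).hom ((s.appLE V B₀ eV).hom a)
      rw [← ConcreteCategory.comp_apply, Scheme.Hom.appLE_map]
    haveI : IsLocalization.Away g Γ(R, B₁) := hB.isLocalization_basicOpen g
    have h := hflat' Γ(R, B₁)
    have hlen : hs'.length = hs₁.length := by simp [hs', hs₁]
    let σ := (MvPolynomial.renameEquiv Γ(S', V) (finCongr hlen))
    have key : (MvPolynomial.aeval hs'.get : MvPolynomial _ Γ(S', V) →ₐ[Γ(S', V)] Γ(R, B₁)) =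
          (MvPolynomial.aeval fun i => algebraMap Γ(R, B₀) Γ(R, B₁) (hs₁.get i)).comp σ.toAlgHom :=
      MvPolynomial.algHom_ext fun i => by
        simp [σ, hs', hs₁, RingHom.algebraMap_toAlgebra]
        rw [← ConcreteCategory.comp_apply, Scheme.Hom.appLE_map]
    rw [key]
    exact RingHom.Flat.comp (RingHom.Flat.of_bijective (f := σ.toRingEquiv.toRingHom) σ.bijective) h
  obtain ⟨-, hfl, -⟩ := FlatMor66.slice_props s hV hB₁ eV₁ hs' hflat₁
  exact ⟨B₁, hB₁, hxU, eW₁, hfl⟩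

/-- The local ring of the fibre of a slice. -/
theorem slice_fib {W : U.Opens} (os : List Γ(U, W)) {B₁ : R.Opens} (hB₁ : IsAffineOpen B₁)
    (eW₁ : B₁ ≤ t ⁻¹ᵁ W)
    (z : Spec (CommRingCat.of (Γ(R, B₁) ⧸ Ideal.ofList (os.map (t.appLE W B₁ eW₁).hom)))) :
    let q := Spec.map (CommRingCat.ofHom (Ideal.Quotient.mk (Ideal.ofList (os.map (t.appLE W B₁ eW₁).hom)))) ≫
        hB₁.fromSpec
    ∀ (_ : q z ∈ B₁) (hr : t (q z) ∈ W), Nonempty (FibQuot (q ≫ s) z ≃+*
      FibQuot s (q z) ⧸ Ideal.ofList (os.map (fibMap s t (q z) hr))) := by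
  intro q hxU hr
  let J : Ideal Γ(R, B₁) := Ideal.ofList (os.map (t.appLE W B₁ eW₁).hom)
  let mk₁ : Γ(R, B₁) ⟶ CommRingCat.of (Γ(R, B₁) ⧸ J) := CommRingCat.ofHom (Ideal.Quotient.mk J)
  haveI : IsClosedImmersion (Spec.map mk₁) :=
    IsClosedImmersion.spec_of_surjective _ Ideal.Quotient.mk_surjective
  haveI : IsPreimmersion q := inferInstanceAs (IsPreimmersion (Spec.map mk₁ ≫ hB₁.fromSpec))
  let L := R.presheaf.stalk (q z)
  let C := (Spec (CommRingCat.of (Γ(R, B₁) ⧸ J))).presheaf.stalk z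
  let ψ : L ⟶ C := q.stalkMap z
  letI : Algebra Γ(R, B₁) L := (R.presheaf.germ B₁ (q z) hxU).hom.toAlgebra
  haveI : IsLocalization.AtPrime L (hB₁.primeIdealOf ⟨q z, hxU⟩).asIdeal :=
    hB₁.isLocalization_stalk ⟨q z, hxU⟩
  letI : Algebra (Γ(R, B₁) ⧸ J) C := (StructureSheaf.toStalk (R := Γ(R, B₁) ⧸ J) z).hom.toAlgebra
  haveI : IsLocalization z.asIdeal.primeCompl C := StructureSheaf.IsLocalization.to_stalk (Γ(R, B₁) ⧸ J) z
  have hsq : R.presheaf.germ B₁ (q z) hxU ≫ ψ = mk₁ ≫ StructureSheaf.toStalk (R := Γ(R, B₁) ⧸ J) z := by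
    apply Spec.map_injective
    rw [← cancel_mono hB₁.fromSpec]
    refine ((congrArg (· ≫ hB₁.fromSpec) (Spec.map_comp _ _)).trans (Category.assoc _ _ _)).trans ?_
    refine ((congrArg (Spec.map ψ ≫ ·) (hB₁.fromSpecStalk_eq_fromSpecStalk hxU)).trans
      (Scheme.SpecMap_stalkMap_fromSpecStalk q)).trans ?_
    rw [Spec.fromSpecStalk_eq' _ z]
    exact ((congrArg (· ≫ hB₁.fromSpec) (Spec.map_comp mk₁ _)).trans (Category.assoc _ _ _)).symm
  have hker : RingHom.ker ψ.hom = J.map (algebraMap Γ(R, B₁) L) :=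
    ker_of_isLocalization_quotient J (hB₁.primeIdealOf ⟨q z, hxU⟩).asIdeal z.asIdeal.primeCompl ψ.hom
      fun a => congr(($hsq).hom a)
  have hψ : Function.Surjective ψ.hom := q.stalkMap_surjective z
  have hI : fibIdeal (q ≫ s) z = (fibIdeal s (q z)).map ψ.hom := fibIdeal_comp q s z
  have hlist : J.map (algebraMap Γ(R, B₁) L) =
      Ideal.ofList (os.map fun o => (t.stalkMap (q z)).hom ((U.presheaf.germ W (t (q z)) hr).hom o)) := by
    rw [Ideal.map_ofList, List.map_map]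
    exact congrArg Ideal.ofList (List.map_congr_left fun o _ => (FlatMor66.stalkMap_germ_appLE t eW₁ hxU o).symm)
  obtain ⟨e⟩ := quotEquiv_of_surjective ψ.hom hψ (fibIdeal s (q z)) _ (hker.trans hlist) _ hI
  refine ⟨e.trans (Ideal.quotEquivOfEq ?_)⟩
  rw [List.map_map]; rfl

/-- Slicing near `r` by functions pulled back along `t`. -/
theorem slice_at [LocallyOfFinitePresentation s] (hflat : (s.stalkMap r).hom.Flat)
    {W : U.Opens} (hW : IsAffineOpen W) (hr : t r ∈ W) (os : List Γ(U, W))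
    (hm : ∀ o ∈ os, o ∈ (hW.primeIdealOf ⟨t r, hr⟩).asIdeal)
    (hreg : IsWeaklyRegular (FibQuot s r) (os.map (fibMap s t r hr))) :
    ∃ p : ↥(pullback (Spec.map (CommRingCat.ofHom (Ideal.Quotient.mk (Ideal.ofList os))) ≫ hW.fromSpec) t),
      pullback.snd (Spec.map (CommRingCat.ofHom (Ideal.Quotient.mk (Ideal.ofList os))) ≫ hW.fromSpec) t p = r ∧
      ((pullback.snd (Spec.map (CommRingCat.ofHom (Ideal.Quotient.mk (Ideal.ofList os))) ≫ hW.fromSpec) t ≫ s).stalkMap p).hom.Flat ∧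
      Nonempty (FibQuot (pullback.snd (Spec.map (CommRingCat.ofHom (Ideal.Quotient.mk (Ideal.ofList os))) ≫ hW.fromSpec) t ≫ s) p ≃+*
        FibQuot s r ⧸ Ideal.ofList (os.map (fibMap s t r hr))) := by
  obtain ⟨B₁, hB₁, hxU, eW₁, hfl⟩ := slice_chart s t r hflat hW hr os hm hreg
  let hs' : List Γ(R, B₁) := os.map (t.appLE W B₁ eW₁).hom
  let b := t.appLE W B₁ eW₁
  let J : Ideal Γ(R, B₁) := Ideal.ofList hs'
  have hJb : (Ideal.ofList os).map b.hom = J := Ideal.map_ofList b.hom os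
  let mk₁ : Γ(R, B₁) ⟶ CommRingCat.of (Γ(R, B₁) ⧸ J) := CommRingCat.ofHom (Ideal.Quotient.mk J)
  let bq : CommRingCat.of (Γ(U, W) ⧸ Ideal.ofList os) ⟶ CommRingCat.of (Γ(R, B₁) ⧸ J) :=
    CommRingCat.ofHom (Ideal.quotientMap J b.hom (Ideal.map_le_iff_le_comap.mp hJb.le))
  let i := Spec.map (CommRingCat.ofHom (Ideal.Quotient.mk (Ideal.ofList os))) ≫ hW.fromSpec
  have hb : Spec.map b ≫ hW.fromSpec = hB₁.fromSpec ≫ t := hW.SpecMap_appLE_fromSpec t hB₁ eW₁
  have sqq : IsPullback (Spec.map bq) (Spec.map mk₁) i (hB₁.fromSpec ≫ t) := by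
    have := SpPts86.isPullback_comp_mono (isPullback_SpecMap_of_isPushout _ _ _ _
      (FlatMor66.isPushout_quotient_eq b (Ideal.ofList os) J hJb)) hW.fromSpec
    rwa [hb] at this
  let k : Spec (CommRingCat.of (Γ(R, B₁) ⧸ J)) ⟶ pullback i t :=
    pullback.lift (Spec.map bq) (Spec.map mk₁ ≫ hB₁.fromSpec) (by rw [Category.assoc]; exact sqq.w)
  have hksnd : k ≫ pullback.snd i t = Spec.map mk₁ ≫ hB₁.fromSpec := pullback.lift_snd _ _ _
  have sqk : IsPullback (Spec.map mk₁) k hB₁.fromSpec (pullback.snd i t) :=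
    IsPullback.of_bot (by rw [show k ≫ pullback.fst i t = Spec.map bq from pullback.lift_fst _ _ _]
                          exact sqq.flip) hksnd.symm (IsPullback.of_hasPullback i t).flip
  haveI : IsOpenImmersion k := MorphismProperty.of_isPullback (P := @IsOpenImmersion) sqk inferInstance
  haveI : IsClosedImmersion (Spec.map mk₁) :=
    IsClosedImmersion.spec_of_surjective _ Ideal.Quotient.mk_surjective
  let q := Spec.map mk₁ ≫ hB₁.fromSpec
  obtain ⟨z, hz⟩ : r ∈ Set.range q := by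
    have hle : J ≤ (hB₁.primeIdealOf ⟨r, hxU⟩).asIdeal := Ideal.span_le.mpr fun a ha => by
      letI := TopCat.Presheaf.algebra_section_stalk R.presheaf ⟨r, hxU⟩
      haveI : IsLocalization.AtPrime (R.presheaf.stalk r) (hB₁.primeIdealOf ⟨r, hxU⟩).asIdeal :=
        hB₁.isLocalization_stalk ⟨r, hxU⟩
      refine (IsLocalization.AtPrime.to_map_mem_maximal_iff (R.presheaf.stalk r) _ a).mp ?_
      obtain ⟨o, ho, rfl⟩ := List.mem_map.1 ha
      change (R.presheaf.germ B₁ r hxU).hom ((t.appLE W B₁ eW₁).hom o) ∈ _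
      rw [← FlatMor66.stalkMap_germ_appLE t eW₁ hxU o]
      exact fibMap_mem t r hW hr o (hm o ho)
    obtain ⟨w, hw⟩ : hB₁.primeIdealOf ⟨r, hxU⟩ ∈
        Set.range (PrimeSpectrum.comap (Ideal.Quotient.mk J)) := by
      rw [range_comap_of_surjective _ _ Ideal.Quotient.mk_surjective, PrimeSpectrum.mem_zeroLocus,
        Ideal.mk_ker]
      exact hle
    exact ⟨w, (congrArg hB₁.fromSpec hw).trans (hB₁.fromSpec_primeIdealOf ⟨r, hxU⟩)⟩
  subst hz
  refine ⟨k z, by rw [← Scheme.Hom.comp_apply, hksnd], ?_, ?_⟩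
  · have h1 : ((q ≫ s).stalkMap z).hom.Flat := by
      have : Flat (q ≫ s) := by rw [Category.assoc]; exact hfl
      exact Flat.stalkMap (q ≫ s) z
    exact (Unr55.stalkMap_iff_of_square RingHom.Flat.respectsIso (pullback.snd i t ≫ s) (q ≫ s) k (𝟙 S')
      (by rw [Category.comp_id, ← Category.assoc, hksnd]) z).2 h1
  obtain ⟨e⟩ := slice_fib s t os hB₁ eW₁ z hxU hr
  have hh : k ≫ pullback.snd i t ≫ s = q ≫ s :=
    (Category.assoc _ _ _).symm.trans (congrArg (· ≫ s) hksnd)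
  obtain ⟨e'⟩ := fibQuot_of_openImmersion k (pullback.snd i t ≫ s) (q ≫ s) hh z
  exact ⟨e'.trans e⟩

end Groth.Agent.Grpd80
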