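import Groth.Agent.EGA4Alg4.CMMod
import Mathlib.RingTheory.KrullDimension.Module
import Mathlib.RingTheory.Localization.AtPrime.Basic

/-!
Regular sequences from an ideal, and kernels of localised quotient maps.
-/

set_option autoImplicit false
universe u

open IsLocalRing RingTheory.Sequence Module
open scoped Pointwise

namespace Groth.Agent.Grpd80

/-- A regular sequence of length `k` may be chosen inside an ideal whose quotient has dimension at
most `d`, as long as the module has dimension `d + k`. -/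
theorem exists_regularSeq_le {O A : Type u} [CommRing O] [CommRing A] [IsLocalRing A]
    [IsNoetherianRing A] (φ : O →+* A) (I : Ideal O) (hI' : ∀ o ∈ I, φ o ∈ maximalIdeal A) (d : ℕ)
    (hI : ringKrullDim (A ⧸ I.map φ) ≤ d) :
    ∀ (k : ℕ) {M : Type u} [AddCommGroup M] [Module A M] [Module.Finite A M],
      LocCoh.IsCohenMacaulayModule A M → supportDim A M = (d + k : ℕ) →
      ∃ os : List O, os.length = k ∧ (∀ o ∈ os, o ∈ I) ∧ IsWeaklyRegular M (os.map φ) ∧
        supportDim A (M ⧸ (Ideal.ofList (os.map φ) • (⊤ : Submodule A M))) = d := by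
  intro k
  induction k with
  | zero =>
    intro M _ _ _ _ hn
    refine ⟨[], rfl, by simp, IsWeaklyRegular.nil A _, ?_⟩
    rw [List.map_nil, supportDim_eq_of_equiv (Submodule.quotEquivOfEqBot
      (Ideal.ofList ([] : List A) • (⊤ : Submodule A M)) (by simp)), hn]
    simp
  | succ k ih =>
    intro M _ _ _ hM hn
    have := EGA4Alg4.isCohenMacaulayModule_nontrivial hM
    obtain ⟨o, ho, hreg⟩ : ∃ o ∈ I, IsSMulRegular M (φ o) := by
      by_contra! hc
      have hsub : (I : Set O) ⊆ ⋃ q ∈ ((associatedPrimes.finite A M).toFinset : Set (Ideal A)),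
          ((q.comap φ : Ideal O) : Set O) := by
        intro o ho
        have : φ o ∈ ⋃ q ∈ associatedPrimes A M, (q : Set A) := by
          rw [biUnion_associatedPrimes_eq_compl_regular A]
          exact hc o ho
        obtain ⟨q, hq, hoq⟩ := Set.mem_iUnion₂.1 this
        exact Set.mem_iUnion₂.2 ⟨q, by simpa using hq, hoq⟩
      obtain ⟨q, hq, hle⟩ := (Ideal.subset_union_prime (R := O) ⊥ ⊥ fun q hq _ _ => by
        have := ((associatedPrimes.finite A M).mem_toFinset.1 hq).isPrime
        exact Ideal.IsPrime.comap φ).1 hsub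
      have hq' := (associatedPrimes.finite A M).mem_toFinset.1 hq
      have hIq : I.map φ ≤ q := Ideal.map_le_iff_le_comap.2 hle
      have h0 := EGA4Alg4.ringKrullDim_quotient_assoc hM hq'
      have h1 : ringKrullDim (A ⧸ q) ≤ ringKrullDim (A ⧸ I.map φ) :=
        ringKrullDim_le_of_surjective (Ideal.Quotient.factor hIq) (Ideal.Quotient.factor_surjective hIq)
      rw [h0, hn] at h1
      have : d + (k + 1) ≤ d := by exact_mod_cast h1.trans hI
      omega
    have hm : φ o ∈ maximalIdeal A := hI' o ho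
    have := nontrivial_quotSMulTop_of_mem_maximalIdeal M hm
    obtain ⟨d', hd⟩ := EGA4Alg4.exists_supportDim_eq (A := A) (M := QuotSMulTop (φ o) M)
    obtain ⟨b, hb⟩ := EGA4Alg4.exists_depth_eq (A := A) (M := QuotSMulTop (φ o) M)
    have h4 := supportDim_quotSMulTop_succ_eq_supportDim hreg hm
    rw [hd, hn] at h4
    have hdn : d' = d + k := by
      have : d' + 1 = d + (k + 1) := by exact_mod_cast h4
      omega
    have hCM : LocCoh.IsCohenMacaulayModule A (QuotSMulTop (φ o) M) := by
      rw [LocCoh.IsCohenMacaulayModule] at hM ⊢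
      rw [hn, ← EGA4Alg4.depth_quotSMulTop_add_one hm hreg, hb] at hM
      have : d + (k + 1) = b + 1 := by exact_mod_cast hM
      rw [hd, hb, show d' = b by omega]; rfl
    subst hdn
    obtain ⟨os, hlen, hos, hosreg, hos0⟩ := ih hCM hd
    refine ⟨o :: os, by simp [hlen], List.forall_mem_cons.2 ⟨ho, hos⟩, ?_, ?_⟩
    · rw [List.map_cons]
      exact IsWeaklyRegular.cons hreg hosreg
    · rw [List.map_cons, EGA4Alg4.supportDim_cons, hos0]

/-- The kernel of a local homomorphism lifting a quotient map to localisations. -/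
theorem ker_of_isLocalization_quotient {B L C : Type u} [CommRing B] [CommRing L] [CommRing C]
    (J : Ideal B) (Q : Ideal B) [Q.IsPrime] [Algebra B L] [IsLocalization.AtPrime L Q]
    [Algebra (B ⧸ J) C] (M : Submonoid (B ⧸ J)) [IsLocalization M C]
    (ψ : L →+* C) [IsLocalHom ψ]
    (hψ : ∀ b, ψ (algebraMap B L b) = algebraMap (B ⧸ J) C (Ideal.Quotient.mk J b)) :
    RingHom.ker ψ = J.map (algebraMap B L) := by
  refine le_antisymm (fun x hx => ?_) (Ideal.map_le_iff_le_comap.2 fun b hb => ?_)
  · obtain ⟨⟨b, σ⟩, rfl⟩ := IsLocalization.mk'_surjective Q.primeCompl x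
    have h0 : algebraMap (B ⧸ J) C (Ideal.Quotient.mk J b) = 0 := by
      rw [← hψ, ← IsLocalization.mk'_spec L b σ, map_mul, RingHom.mem_ker.1 hx, zero_mul]
    obtain ⟨⟨c, hc⟩, hcb⟩ := (IsLocalization.map_eq_zero_iff M C _).1 h0
    obtain ⟨c', rfl⟩ := Ideal.Quotient.mk_surjective c
    have hu : IsUnit (algebraMap B L c') := by
      refine IsUnit.of_map ψ _ ?_
      rw [hψ]
      exact IsLocalization.map_units C (⟨_, hc⟩ : M)
    have hJ : c' * b ∈ J := Ideal.Quotient.eq_zero_iff_mem.1 (by rw [map_mul]; exact hcb)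
    have hbJ : algebraMap B L b ∈ J.map (algebraMap B L) :=
      (Ideal.unit_mul_mem_iff_mem _ hu).1 (by rw [← map_mul]; exact Ideal.mem_map_of_mem _ hJ)
    rw [← IsLocalization.mk'_spec L b σ] at hbJ
    exact (Ideal.mul_unit_mem_iff_mem _ (IsLocalization.map_units L σ)).1 hbJ
  · rw [Ideal.mem_comap, RingHom.mem_ker, hψ, Ideal.Quotient.eq_zero_iff_mem.2 hb, map_zero]

end Groth.Agent.Grpd80
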