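import Groth.Agent.Grpd80.SliceAt
import Groth.Agent.Grpd80.RestrAlong
import Groth.Agent.Grpd80.Stabilizer
import Groth.Agent.Grpd80.DimStab
import Groth.Agent.Grpd80.OverFieldPoints

/-!
The dimension of the stabilizer read off the local ring of a fibre of the source map at an identity arrow.
-/

set_option autoImplicit false
set_option backward.isDefEq.respectTransparency.types false
universe u

open CategoryTheory CategoryTheory.Limits AlgebraicGeometry IsLocalRing

namespace Groth.Agent.Grpd80

/-- A rational point of a scheme locally of finite type over a field is closed. -/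
lemma isClosed_section {K : Type u} [Field K] {X : Scheme.{u}} (f : X ⟶ Spec (CommRingCat.of K))
    [LocallyOfFiniteType f] (σ : Spec (CommRingCat.of K) ⟶ X) (h : σ ≫ f = 𝟙 _) :
    IsClosed ({σ (closedPoint K)} : Set X) := by
  have : JacobsonSpace X := LocallyOfFiniteType.jacobsonSpace f
  have : LocallyOfFiniteType (σ ≫ f) := by rw [h]; infer_instance
  have : LocallyOfFiniteType σ := locallyOfFiniteType_of_comp σ f
  let x := σ (closedPoint K)
  let φ : X.residueField x ⟶ CommRingCat.of K := Scheme.descResidueField (Scheme.stalkClosedPointTo σ)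
  have hφ : Spec.map φ ≫ X.fromSpecResidueField x = σ :=
    Scheme.descResidueField_stalkClosedPointTo_fromSpecResidueField K X σ
  have hψ : Spec.preimage (X.fromSpecResidueField x ≫ f) ≫ φ = 𝟙 _ := by
    apply Spec.map_injective
    rw [Spec.map_comp, Spec.map_preimage, Spec.map_id, ← h, reassoc_of% hφ]
  have : IsIso φ := by
    rw [ConcreteCategory.isIso_iff_bijective]
    exact ⟨RingHom.injective _, fun y => ⟨_, congr(($hψ).hom y)⟩⟩
  have : LocallyOfFiniteType (X.fromSpecResidueField x) := by
    rw [show X.fromSpecResidueField x = inv (Spec.map φ) ≫ σ by rw [← hφ, IsIso.inv_hom_id_assoc]]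
    infer_instance
  exact isClosed_singleton_iff_locallyOfFiniteType.2 this

/-- Generisations of `x` in its fibre are the primes containing the fibre ideal. -/
lemma apply_fromSpecStalk_eq_iff {X Y : Scheme.{u}} (f : X ⟶ Y) (x : X)
    (P : Spec (X.presheaf.stalk x)) :
    f (X.fromSpecStalk x P) = f x ↔ fibIdeal f x ≤ P.asIdeal := by
  have h : f (X.fromSpecStalk x P) = Y.fromSpecStalk (f x) (Spec.map (f.stalkMap x) P) := by
    rw [← Scheme.Hom.comp_apply, ← Scheme.Hom.comp_apply, Scheme.SpecMap_stalkMap_fromSpecStalk]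
  rw [h, fibIdeal, Ideal.map_le_iff_le_comap]
  constructor
  · intro e
    have : Spec.map (f.stalkMap x) P = closedPoint (Y.presheaf.stalk (f x)) :=
      (Y.fromSpecStalk (f x)).isEmbedding.injective (e.trans Scheme.fromSpecStalk_closedPoint.symm)
    exact (congrArg PrimeSpectrum.asIdeal this).ge
  · intro e
    have : Spec.map (f.stalkMap x) P = closedPoint (Y.presheaf.stalk (f x)) := by
      refine PrimeSpectrum.ext ?_
      exact ((maximalIdeal.isMaximal _).eq_of_le (Spec.map (f.stalkMap x) P).isPrime.ne_top e).symm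
    rw [this, Scheme.fromSpecStalk_closedPoint]

variable {S : Scheme.{u}} (G : Grpd.GroupoidScheme S) (u : G.U)

/-- The arrows from `u` to itself, as a groupoid over the residue field. -/
noncomputable abbrev stabGrpd : Grpd.GroupoidScheme S :=
  RestrAlong.restrict G (G.U.fromSpecResidueField u)

/-- Its inclusion into the arrows. -/
noncomputable abbrev stabArr : (stabGrpd G u).R ⟶ G.R :=
  RestrAlong.arr G (G.U.fromSpecResidueField u)

instance isPreimmersion_stabArr : IsPreimmersion (stabArr G u) := by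
  have : IsPreimmersion (RestrAlong.μ G (G.U.fromSpecResidueField u)) :=
    MorphismProperty.pullbackMap (P := @IsPreimmersion) (f := _ ≫ G.pU) (g := _ ≫ G.pU) inferInstance inferInstance
      rfl rfl
  exact MorphismProperty.pullback_fst (P := @IsPreimmersion) _ _ this

variable [hu : Fact (LocallyOfFiniteType (G.U.fromSpecResidueField u))]

instance lft_stabArr : LocallyOfFiniteType (stabArr G u) := by
  have := hu.out
  have : LocallyOfFiniteType (RestrAlong.μ G (G.U.fromSpecResidueField u)) :=
    MorphismProperty.pullbackMap (P := @LocallyOfFiniteType) this this rfl rfl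
  exact MorphismProperty.pullback_fst (P := @LocallyOfFiniteType) _ _ this

instance lft_stab_s [LocallyOfFiniteType G.s] : LocallyOfFiniteType (stabGrpd G u).s := by
  have : LocallyOfFiniteType ((stabGrpd G u).s ≫ G.U.fromSpecResidueField u) := by
    have h : (stabGrpd G u).s ≫ G.U.fromSpecResidueField u = stabArr G u ≫ G.s :=
      (RestrAlong.arr_s G (G.U.fromSpecResidueField u)).symm
    rw [h]; infer_instance
  exact locallyOfFiniteType_of_comp _ (G.U.fromSpecResidueField u)

instance lft_stab_t [LocallyOfFiniteType G.s] : LocallyOfFiniteType (stabGrpd G u).t := by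
  rw [← (stabGrpd G u).i_s]; infer_instance

omit hu in
lemma range_stabArr : Set.range (stabArr G u) = {y | G.s y = u ∧ G.t y = u} := by
  ext y
  constructor
  · rintro ⟨z, rfl⟩
    refine ⟨?_, ?_⟩
    · exact ((congrArg (fun f : (stabGrpd G u).R ⟶ G.U => f z)
        (RestrAlong.arr_s G (G.U.fromSpecResidueField u)))).trans
          (Scheme.fromSpecResidueField_apply u _)
    · exact ((congrArg (fun f : (stabGrpd G u).R ⟶ G.U => f z)
        (RestrAlong.arr_t G (G.U.fromSpecResidueField u)))).trans
          (Scheme.fromSpecResidueField_apply u _)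
  · rintro ⟨hs, ht⟩
    let a := G.R.fromSpecResidueField y
    have key : ∀ (f : G.R ⟶ G.U), f y = u →
        ∃ l : Spec (G.R.residueField y) ⟶ Spec (G.U.residueField u),
          a ≫ f = l ≫ G.U.fromSpecResidueField u := by
      rintro f rfl
      exact ⟨Spec.map (f.residueFieldMap y),
        (Scheme.Hom.SpecMap_residueFieldMap_fromSpecResidueField f y).symm⟩
    obtain ⟨ls, hls⟩ := key G.s hs
    obtain ⟨lt, hlt⟩ := key G.t ht
    refine ⟨RestrAlong.mk G _ a lt ls hlt hls (closedPoint _), ?_⟩
    exact (congrArg (fun f : Spec (G.R.residueField y) ⟶ G.R => f (closedPoint _))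
      (RestrAlong.mk_arr G _ a lt ls hlt hls)).trans (Scheme.fromSpecResidueField_apply y _)

omit hu in
/-- The stabilizer of the groupoid at `u` is the fibre of the stabilizer. -/
lemma dim_stabilizer_stabGrpd : topologicalKrullDim ↥(stabGrpd G u).stabilizer =
    topologicalKrullDim ↥(G.stabilizerToU.fiber u) := by
  let x₀ := G.U.fromSpecResidueField u
  let Gu := stabGrpd G u
  let ι' : Gu.stabilizer ⟶ RestrAlong.R' G x₀ := stIncl Gu
  let π' : Gu.stabilizer ⟶ Spec (G.U.residueField u) := Gu.stabilizerToU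
  have hs : ι' ≫ RestrAlong.src G x₀ = π' := stIncl_s Gu
  have ht : ι' ≫ RestrAlong.tgt G x₀ = π' := stIncl_t Gu
  have has : (ι' ≫ RestrAlong.arr G x₀) ≫ G.s = π' ≫ x₀ := by
    rw [Category.assoc, RestrAlong.arr_s, reassoc_of% hs]
  have hat : (ι' ≫ RestrAlong.arr G x₀) ≫ G.t = π' ≫ x₀ := by
    rw [Category.assoc, RestrAlong.arr_t, reassoc_of% ht]
  let f : Gu.stabilizer ⟶ pullback G.stabilizerToU x₀ :=
    pullback.lift (stabLift G (ι' ≫ RestrAlong.arr G x₀) (has.trans hat.symm)) π'
      ((stabLift_toU _ _ _).trans hat)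
  have hg : pullback.fst G.stabilizerToU x₀ ≫ stIncl G ≫ G.t = pullback.snd G.stabilizerToU x₀ ≫ x₀ := by
    rw [stIncl_t, pullback.condition]
  have hg' : pullback.fst G.stabilizerToU x₀ ≫ stIncl G ≫ G.s = pullback.snd G.stabilizerToU x₀ ≫ x₀ := by
    rw [stIncl_s, pullback.condition]
  let g₀ : pullback G.stabilizerToU x₀ ⟶ RestrAlong.R' G x₀ :=
    RestrAlong.mk G x₀ (pullback.fst _ _ ≫ stIncl G) (pullback.snd _ _) (pullback.snd _ _)
      (by rw [Category.assoc]; exact hg) (by rw [Category.assoc]; exact hg')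
  have hg₀ : g₀ ≫ RestrAlong.src G x₀ = g₀ ≫ RestrAlong.tgt G x₀ := by
    rw [RestrAlong.mk_src, RestrAlong.mk_tgt]
  let g : pullback G.stabilizerToU x₀ ⟶ Gu.stabilizer := stabLift Gu g₀ hg₀
  have hgι : g ≫ ι' = g₀ := stabLift_incl Gu g₀ hg₀
  have hgπ : g ≫ π' = g₀ ≫ RestrAlong.tgt G x₀ := stabLift_toU Gu g₀ hg₀
  have hf₁ : f ≫ pullback.fst G.stabilizerToU x₀ =
      stabLift G (ι' ≫ RestrAlong.arr G x₀) (has.trans hat.symm) := pullback.lift_fst _ _ _
  have hf₂ : f ≫ pullback.snd G.stabilizerToU x₀ = π' := pullback.lift_snd _ _ _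
  have hfg : f ≫ g = 𝟙 _ := by
    apply stab_hom_ext
    show (f ≫ g) ≫ ι' = 𝟙 _ ≫ ι'
    rw [Category.assoc, hgι, Category.id_comp]
    refine RestrAlong.ext G x₀ ?_ ?_ ?_
    · rw [Category.assoc, RestrAlong.mk_arr, reassoc_of% hf₁, stabLift_incl]
    · rw [Category.assoc, RestrAlong.mk_tgt, hf₂, ht]
    · rw [Category.assoc, RestrAlong.mk_src, hf₂, hs]
  have hgf : g ≫ f = 𝟙 _ := by
    apply pullback.hom_ext
    · apply stab_hom_ext
      rw [Category.assoc g f, hf₁, Category.id_comp, Category.assoc, stabLift_incl, reassoc_of% hgι,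
        RestrAlong.mk_arr]
    · rw [Category.assoc, hf₂, Category.id_comp, hgπ, RestrAlong.mk_tgt]
  exact IsHomeomorph.topologicalKrullDim_eq _
    (Scheme.homeoOfIso ⟨f, g, hfg, hgf⟩).isHomeomorph

/-- The arrows from `u` to `u` near `e u` have the dimension of the stabilizer at `u`. -/
theorem ringKrullDim_stab [LocallyOfFiniteType G.s] :
    ringKrullDim (G.R.presheaf.stalk (G.e u) ⧸ (fibIdeal G.s (G.e u) ⊔ fibIdeal G.t (G.e u))) =
      topologicalKrullDim ↥(G.stabilizerToU.fiber u) := by
  let Gu := stabGrpd G u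
  let r := G.e u
  let I := fibIdeal G.s r ⊔ fibIdeal G.t r
  have hsr : G.s r = u := by rw [← Scheme.Hom.comp_apply, G.e_s]; rfl
  have htr : G.t r = u := by rw [← Scheme.Hom.comp_apply, G.e_t]; rfl
  let eU : Gu.U ≅ Spec (G.U.residueField u) := Iso.refl _
  let e' : Gu.R := Gu.e (closedPoint (G.U.residueField u))
  have : LocallyOfFiniteType Gu.s := lft_stab_s G u
  have : LocallyOfFiniteType Gu.t := lft_stab_t G u
  have hae : stabArr G u e' = r := by
    have he : Gu.e ≫ stabArr G u = G.U.fromSpecResidueField u ≫ G.e := RestrAlong.mk_arr _ _ _ _ _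
      ((Category.assoc _ _ _).trans
        ((congrArg (_ ≫ ·) G.e_t).trans ((Category.comp_id _).trans (Category.id_comp _).symm)))
      ((Category.assoc _ _ _).trans
        ((congrArg (_ ≫ ·) G.e_s).trans ((Category.comp_id _).trans (Category.id_comp _).symm)))
    exact (congrArg (fun f : Spec (G.U.residueField u) ⟶ G.R => f (closedPoint _)) he).trans
      (congrArg G.e (Scheme.fromSpecResidueField_apply u _))
  let q : Gu.R ⟶ Spec (CommRingCat.of (G.U.residueField u)) := Gu.s
  have : LocallyOfFiniteType q := lft_stab_s G u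
  have hcl : IsClosed ({e'} : Set Gu.R) :=
    isClosed_section (K := G.U.residueField u) q Gu.e Gu.e_s
  rw [← dim_stabilizer_stabGrpd, ← dim_eq_stabilizer Gu eU, ← localDim_eq_dim Gu eU e',
    LocDim.localDim_eq_tdegN_add (k := G.U.residueField u) q e',
    LocDim.tdegN_eq_zero_of_isClosed (k := G.U.residueField u) q hcl]
  refine Eq.trans ?_ (zero_add _).symm
  rw [← PrimeSpectrum.topologicalKrullDim_eq_ringKrullDim, ← PrimeSpectrum.topologicalKrullDim_eq_ringKrullDim]
  let mk' : G.R.presheaf.stalk r →+* G.R.presheaf.stalk r ⧸ I := Ideal.Quotient.mk I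
  let ψ₁ : PrimeSpectrum (G.R.presheaf.stalk r ⧸ I) → G.R :=
    fun P => G.R.fromSpecStalk r (PrimeSpectrum.comap mk' P)
  let ψ₂ : PrimeSpectrum (Gu.R.presheaf.stalk e') → G.R :=
    fun P => stabArr G u (Gu.R.fromSpecStalk e' P)
  have h₁ : Topology.IsEmbedding ψ₁ := (G.R.fromSpecStalk r).isEmbedding.comp
    (PrimeSpectrum.isClosedEmbedding_comap_of_surjective _ mk' Ideal.Quotient.mk_surjective).isEmbedding
  have h₂ : Topology.IsEmbedding ψ₂ := (stabArr G u).isEmbedding.comp (Gu.R.fromSpecStalk e').isEmbedding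
  have hrange : Set.range ψ₁ = Set.range ψ₂ := by
    have r₁ : Set.range ψ₁ = {y | y ⤳ r ∧ G.s y = u ∧ G.t y = u} := by
      ext y
      constructor
      · rintro ⟨P, rfl⟩
        have hP : I ≤ (PrimeSpectrum.comap mk' P).asIdeal := by
          intro a ha
          show mk' a ∈ P.asIdeal
          rw [show mk' a = 0 from Ideal.Quotient.eq_zero_iff_mem.2 ha]
          exact Ideal.zero_mem _
        refine ⟨?_, ?_, ?_⟩
        · exact (G.R.range_fromSpecStalk (x := r)).le ⟨_, rfl⟩
        · rw [← hsr]; exact (apply_fromSpecStalk_eq_iff G.s r _).2 (le_sup_left.trans hP)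
        · rw [← htr]; exact (apply_fromSpecStalk_eq_iff G.t r _).2 (le_sup_right.trans hP)
      · rintro ⟨hy, hs, ht⟩
        obtain ⟨P, rfl⟩ := (G.R.range_fromSpecStalk (x := r)).ge hy
        have hP : I ≤ P.asIdeal := sup_le ((apply_fromSpecStalk_eq_iff G.s r P).1 (hs.trans hsr.symm))
          ((apply_fromSpecStalk_eq_iff G.t r P).1 (ht.trans htr.symm))
        obtain ⟨P', hP'⟩ : P ∈ Set.range (PrimeSpectrum.comap mk') := by
          rw [range_comap_of_surjective _ mk' Ideal.Quotient.mk_surjective]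
          refine (PrimeSpectrum.mem_zeroLocus P _).2 ?_
          rw [Ideal.mk_ker]
          exact hP
        exact ⟨P', congrArg (G.R.fromSpecStalk r) hP'⟩
    rw [r₁]
    ext y
    constructor
    · rintro ⟨hy, hst⟩
      obtain ⟨z, rfl⟩ := (range_stabArr G u).ge hst
      have hz : z ⤳ e' := (stabArr G u).isEmbedding.isInducing.specializes_iff.1 (hae ▸ hy)
      obtain ⟨P, hP⟩ := (Gu.R.range_fromSpecStalk (x := e')).ge hz
      exact ⟨P, congrArg (stabArr G u) hP⟩
    · rintro ⟨P, rfl⟩
      refine ⟨?_, (range_stabArr G u).le ⟨_, rfl⟩⟩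
      have : Gu.R.fromSpecStalk e' P ⤳ e' := (Gu.R.range_fromSpecStalk (x := e')).le ⟨_, rfl⟩
      exact hae ▸ this.map (stabArr G u).continuous
  exact IsHomeomorph.topologicalKrullDim_eq _
    (h₁.toHomeomorph.trans ((Homeomorph.setCongr hrange).trans h₂.toHomeomorph.symm)).isHomeomorph

end Groth.Agent.Grpd80
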