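import Groth.Agent.Grpd80.EtaleFinitePart
import Groth.Agent.Grpd80.EtaleWeilScheme
import Groth.Agent.Grpd80.EtalePoints

/-!
Etale localisation of a groupoid: the scheme of lifts of the finite part of a chart, and the
translation of the finite part along its arrows.
-/

set_option autoImplicit false
universe u
open CategoryTheory CategoryTheory.Limits AlgebraicGeometry

namespace Groth.Agent.Grpd80

variable {S : Scheme.{u}} (G : Grpd.GroupoidScheme S)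

/-- An etale chart with a clopen finite part of the arrows leaving it, and its scheme of lifts. -/
structure Chart where
  U₁ : Scheme.{u}
  g : U₁ ⟶ G.U
  [affU₁ : IsAffine U₁]
  [etg : Etale g]
  P₁ : Scheme.{u}
  a₁ : P₁ ⟶ G.R
  π₁ : P₁ ⟶ U₁
  hw : a₁ ≫ G.s = π₁ ≫ g
  [openImm : IsOpenImmersion (pullback.lift a₁ π₁ hw)]
  closedRange : IsClosed (Set.range ⇑(pullback.lift a₁ π₁ hw))
  [finπ₁ : IsFinite π₁]
  e₁ : U₁ ⟶ P₁
  e₁_a₁ : e₁ ≫ a₁ = g ≫ G.e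
  e₁_π₁ : e₁ ≫ π₁ = 𝟙 U₁
  W : Scheme.{u}
  [affW : IsAffine W]
  π : W ⟶ U₁
  [etπ : Etale π]
  σ : pullback π₁ π ⟶ U₁
  hσ : σ ≫ g = pullback.fst π₁ π ≫ a₁ ≫ G.t
  univ : ∀ (T : Scheme.{u}) [IsAffine T] (h : T ⟶ U₁) (e : pullback π₁ h ⟶ U₁),
    e ≫ g = pullback.fst _ h ≫ a₁ ≫ G.t →
    ∃! k : T ⟶ W, ∃ hk : k ≫ π = h,
      pullback.lift (pullback.fst _ h) (pullback.snd _ h ≫ k)
        (by rw [Category.assoc (pullback.snd _ h) k π, hk, pullback.condition]) ≫ σ = e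

variable {G}

namespace Chart

variable (C : Chart G)

attribute [instance] affU₁ etg openImm finπ₁ affW etπ

/-- The finite part inside the arrows leaving the chart. -/
noncomputable abbrev j₁ : C.P₁ ⟶ pullback G.s C.g := pullback.lift C.a₁ C.π₁ C.hw

/-- The finite part as an open. -/
noncomputable abbrev V : (pullback G.s C.g).Opens := C.j₁.opensRange

lemma closedV : IsClosed (C.V : Set ↥(pullback G.s C.g)) := C.closedRange

instance : IsFinite (C.V.ι ≫ pullback.snd G.s C.g) := by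
  have : C.V.ι ≫ pullback.snd G.s C.g = C.j₁.isoOpensRange.inv ≫ C.π₁ := by
    rw [Iso.eq_inv_comp, ← Category.assoc]
    exact (congrArg (· ≫ _) C.j₁.isoOpensRange_hom_ι).trans (pullback.lift_snd _ _ _)
  rw [this]
  infer_instance

lemma ext₁ {T : Scheme.{u}} {a b : T ⟶ C.P₁} (h₁ : a ≫ C.a₁ = b ≫ C.a₁)
    (h₂ : a ≫ C.π₁ = b ≫ C.π₁) : a = b := by
  rw [← cancel_mono C.j₁]
  apply pullback.hom_ext
  · rwa [Category.assoc, Category.assoc, pullback.lift_fst]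
  · rwa [Category.assoc, Category.assoc, pullback.lift_snd]

/-- The finite part over the scheme of lifts. -/
noncomputable abbrev PW : Scheme.{u} := pullback C.π₁ C.π

/-- Arrow of a point of the finite part over the scheme of lifts. -/
noncomputable def aW : C.PW ⟶ G.R := pullback.fst C.π₁ C.π ≫ C.a₁

/-- Base of the finite part over the scheme of lifts. -/
noncomputable abbrev pW : C.PW ⟶ C.W := pullback.snd C.π₁ C.π

lemma aW_t : C.aW ≫ G.t = C.σ ≫ C.g := by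
  rw [C.hσ, aW, Category.assoc]

lemma aW_s : C.aW ≫ G.s = (C.pW ≫ C.π) ≫ C.g := by
  rw [aW, Category.assoc, C.hw, ← Category.assoc, pullback.condition]

variable {T : Scheme.{u}}

lemma extP {a b : T ⟶ C.PW} (h₁ : a ≫ C.aW = b ≫ C.aW) (h₂ : a ≫ C.pW = b ≫ C.pW) : a = b := by
  refine pullback.hom_ext (C.ext₁ ?_ ?_) h₂
  · rw [Category.assoc, Category.assoc]; exact h₁
  · rw [Category.assoc, Category.assoc, pullback.condition, ← Category.assoc, ← Category.assoc, h₂]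

lemma lift_aW (a : T ⟶ C.P₁) (b : T ⟶ C.W) (w : a ≫ C.π₁ = b ≫ C.π) :
    pullback.lift a b w ≫ C.aW = a ≫ C.a₁ := by
  rw [aW, pullback.lift_fst_assoc]

lemma comp_fst_a₁ (a : T ⟶ C.PW) : (a ≫ pullback.fst C.π₁ C.π) ≫ C.a₁ = a ≫ C.aW := by
  rw [aW, Category.assoc]

/-- Pairs of an arrow of the finite part and an arrow ending at its source. -/
noncomputable abbrev Y : Scheme.{u} := pullback G.s (C.aW ≫ G.t)

/-- A pair is seen as a candidate element of the finite part at the lifted target. -/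
noncomputable def fA : C.Y ⟶ pullback G.s C.g :=
  pullback.lift (pullback.fst _ _) (pullback.snd _ _ ≫ C.σ) (by
    rw [Category.assoc (pullback.snd _ _), ← C.aW_t]; exact pullback.condition)

/-- The composite of a pair is seen as a candidate element of the finite part at the base. -/
noncomputable def fB : C.Y ⟶ pullback G.s C.g :=
  pullback.lift
    (mul G (pullback.fst _ _) (pullback.snd _ _ ≫ C.aW)
      (by rw [Category.assoc (pullback.snd _ _)]; exact pullback.condition))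
    (pullback.snd _ _ ≫ C.pW ≫ C.π) (by
      simp only [mul_s, Category.assoc]
      rw [C.aW_s, Category.assoc])

lemma isPullback_fA : IsPullback C.fA (pullback.snd _ _) (pullback.snd G.s C.g) C.σ := by
  refine IsPullback.of_right ?_ (pullback.lift_snd _ _ _) (IsPullback.of_hasPullback G.s C.g)
  convert IsPullback.of_hasPullback G.s (C.aW ≫ G.t) using 1
  · exact pullback.lift_fst _ _ _
  · exact C.aW_t.symm

lemma isPullback_fB : IsPullback C.fB (pullback.snd _ _) (pullback.snd G.s C.g) (C.pW ≫ C.π) := by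
  refine IsPullback.of_right ?_ (pullback.lift_snd _ _ _) (IsPullback.of_hasPullback G.s C.g)
  rw [← C.aW_s]
  refine IsPullback.of_iso (IsPullback.of_hasPullback G.s (C.aW ≫ G.s)) (shearR G C.aW).symm
    (Iso.refl _) (Iso.refl _) (Iso.refl _) ?_ ?_ (by simp) (by simp)
  · rw [Iso.refl_hom, Category.comp_id, Iso.symm_hom, Iso.eq_inv_comp, fB, pullback.lift_fst]
    simp [shearR, pullback.lift_fst]
  · rw [Iso.refl_hom, Category.comp_id, Iso.symm_hom, Iso.eq_inv_comp]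
    simp [shearR, pullback.lift_snd]

/-- The locus where the two candidates differ. -/
def diff : Set ↥C.Y :=
  (⇑C.fA ⁻¹' (C.V : Set ↥(pullback G.s C.g)) \ ⇑C.fB ⁻¹' (C.V : Set ↥(pullback G.s C.g))) ∪
  (⇑C.fB ⁻¹' (C.V : Set ↥(pullback G.s C.g)) \ ⇑C.fA ⁻¹' (C.V : Set ↥(pullback G.s C.g)))

lemma isClosed_snd_image {f : C.Y ⟶ pullback G.s C.g} {m : C.PW ⟶ C.U₁}
    (sq : IsPullback f (pullback.snd G.s (C.aW ≫ G.t)) (pullback.snd G.s C.g) m)
    {K : Set ↥C.Y} (hK : IsClosed K) (hKf : K ⊆ ⇑f ⁻¹' (C.V : Set ↥(pullback G.s C.g))) :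
    IsClosed (⇑(pullback.snd G.s (C.aW ≫ G.t)) '' K) := by
  have : IsFinite ((f ⁻¹ᵁ C.V).ι ≫ pullback.snd G.s (C.aW ≫ G.t)) :=
    MorphismProperty.of_isPullback ((isPullback_morphismRestrict f C.V).paste_vert sq) inferInstance
  have h := ((f ⁻¹ᵁ C.V).ι ≫ pullback.snd G.s (C.aW ≫ G.t)).isClosedMap _
    (hK.preimage (f ⁻¹ᵁ C.V).ι.continuous)
  convert h using 1
  ext w
  constructor
  · rintro ⟨z, hz, rfl⟩; exact ⟨⟨z, hKf hz⟩, hz, rfl⟩
  · rintro ⟨z, hz, rfl⟩; exact ⟨z.1, hz, rfl⟩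

/-- Points of the scheme of lifts where translation is not defined. -/
def bad : Set ↥C.W := ⇑C.pW '' (⇑(pullback.snd G.s (C.aW ≫ G.t)) '' C.diff)

lemma isClosed_bad : IsClosed C.bad := by
  have : IsFinite C.pW := MorphismProperty.of_isPullback (IsPullback.of_hasPullback C.π₁ C.π) C.finπ₁
  refine C.pW.isClosedMap _ ?_
  rw [diff, Set.image_union]
  refine IsClosed.union ?_ ?_
  · exact C.isClosed_snd_image C.isPullback_fA
      ((C.closedV.preimage C.fA.continuous).inter (C.V.isOpen.preimage C.fB.continuous).isClosed_compl)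
      fun _ h => h.1
  · exact C.isClosed_snd_image C.isPullback_fB
      ((C.closedV.preimage C.fB.continuous).inter (C.V.isOpen.preimage C.fA.continuous).isClosed_compl)
      fun _ h => h.1

lemma mem_iff_of_not_bad (y : ↥C.Y) (hy : C.pW (pullback.snd G.s (C.aW ≫ G.t) y) ∉ C.bad) :
    C.fA y ∈ C.V ↔ C.fB y ∈ C.V := by
  by_contra h
  refine hy ⟨_, ⟨y, ?_, rfl⟩, rfl⟩
  by_cases hA : C.fA y ∈ C.V
  · exact Or.inl ⟨hA, fun hB => h ⟨fun _ => hB, fun _ => hA⟩⟩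
  · refine Or.inr ⟨?_, hA⟩
    by_contra hB
    exact h ⟨fun a => absurd a hA, fun b => absurd b hB⟩

/-- The unit of the finite part over the scheme of lifts. -/
noncomputable def eW : C.W ⟶ C.PW :=
  pullback.lift (C.π ≫ C.e₁) (𝟙 _) (by rw [Category.assoc, C.e₁_π₁, Category.comp_id, Category.id_comp])

lemma eW_aW : C.eW ≫ C.aW = (C.π ≫ C.g) ≫ G.e := by
  rw [eW, aW, pullback.lift_fst_assoc, Category.assoc, C.e₁_a₁, ← Category.assoc]

lemma eW_pW : C.eW ≫ C.pW = 𝟙 _ := pullback.lift_snd _ _ _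

lemma eW_σ_g : (C.eW ≫ C.σ) ≫ C.g = C.π ≫ C.g := by
  rw [Category.assoc, ← C.aW_t, ← Category.assoc, eW_aW, Category.assoc, G.e_t, Category.comp_id]

lemma hom_ext_W [IsAffine T] (k₁ k₂ : T ⟶ C.W) (hπ : k₁ ≫ C.π = k₂ ≫ C.π)
    (hσ : ∀ (Z : Scheme.{u}) (δ : Z ⟶ C.P₁) (q : Z ⟶ T)
      (w₁ : δ ≫ C.π₁ = (q ≫ k₁) ≫ C.π) (w₂ : δ ≫ C.π₁ = (q ≫ k₂) ≫ C.π),
      pullback.lift δ (q ≫ k₁) w₁ ≫ C.σ = pullback.lift δ (q ≫ k₂) w₂ ≫ C.σ) : k₁ = k₂ := by
  let h := k₂ ≫ C.π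
  let e : pullback C.π₁ h ⟶ C.U₁ := pullback.lift (pullback.fst C.π₁ h) (pullback.snd C.π₁ h ≫ k₂)
    (by rw [Category.assoc, pullback.condition]) ≫ C.σ
  have he : e ≫ C.g = pullback.fst C.π₁ h ≫ C.a₁ ≫ G.t := by
    rw [Category.assoc, C.hσ, pullback.lift_fst_assoc]
  obtain ⟨k, -, huniq⟩ := C.univ T h e he
  exact (huniq k₁ ⟨hπ, hσ _ _ _ _ _⟩).trans (huniq k₂ ⟨rfl, rfl⟩).symm

/-- An affine open of the scheme of lifts over which translation is defined. -/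
structure GoodOpen where
  D : C.W.Opens
  affine : IsAffineOpen D
  notBad : ∀ w ∈ D, w ∉ C.bad
  unit : D.ι ≫ C.eW ≫ C.σ = D.ι ≫ C.π

namespace GoodOpen

variable {C} (Δ : GoodOpen C)

/-- The points of `α` lie over the good open. -/
def InD (α : T ⟶ C.PW) : Prop := ∀ x : T, C.pW (α x) ∈ Δ.D

/-- The finite part over the good open. -/
noncomputable abbrev PD : C.PW.Opens := C.pW ⁻¹ᵁ Δ.D

instance : IsAffine Δ.D.toScheme := Δ.affine

instance : IsFinite C.pW :=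
  MorphismProperty.of_isPullback (IsPullback.of_hasPullback C.π₁ C.π) C.finπ₁

instance : IsAffine Δ.PD.toScheme := Δ.affine.preimage C.pW

lemma inD_ι : Δ.InD Δ.PD.ι := fun x => x.2

lemma inD_comp {T' : Scheme.{u}} (q : T' ⟶ T) {α : T ⟶ C.PW} (h : Δ.InD α) : Δ.InD (q ≫ α) :=
  fun x => h (q x)

lemma exists_mem_V {α : T ⟶ C.PW} (hα : Δ.InD α) {f f' : C.Y ⟶ pullback G.s C.g}
    (hff' : ∀ y, C.pW (pullback.snd G.s (C.aW ≫ G.t) y) ∉ C.bad → f y ∈ C.V → f' y ∈ C.V)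
    (y : T ⟶ C.Y) (hy : y ≫ pullback.snd G.s (C.aW ≫ G.t) = α) {v : T ⟶ C.P₁}
    (hv : v ≫ C.j₁ = y ≫ f) : ∃ v' : T ⟶ C.P₁, v' ≫ C.j₁ = y ≫ f' := by
  refine ⟨IsOpenImmersion.lift C.j₁ (y ≫ f') ?_, IsOpenImmersion.lift_fac _ _ _⟩
  rintro _ ⟨x, rfl⟩
  refine hff' (y x) ?_ ?_
  · rw [← Scheme.Hom.comp_apply y, hy]; exact Δ.notBad _ (hα x)
  · rw [← Scheme.Hom.comp_apply, ← hv]; exact ⟨v x, rfl⟩

lemma act_exists (α : T ⟶ C.PW) (hα : Δ.InD α) (δ : T ⟶ C.P₁) (hδ : δ ≫ C.π₁ = α ≫ C.σ) :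
    ∃ γ : T ⟶ C.PW, γ ≫ C.aW = mul G (δ ≫ C.a₁) (α ≫ C.aW) (by
        rw [Category.assoc δ, C.hw, ← Category.assoc, hδ, Category.assoc, ← C.aW_t, ← Category.assoc]) ∧
      γ ≫ C.pW = α ≫ C.pW := by
  let y : T ⟶ C.Y := pullback.lift (δ ≫ C.a₁) α (by
    rw [Category.assoc δ, C.hw, ← Category.assoc, hδ, Category.assoc, ← C.aW_t])
  have hA : δ ≫ C.j₁ = y ≫ C.fA := by
    apply pullback.hom_ext
    · simp [y, fA, pullback.lift_fst]
    · simp only [y, fA, Category.assoc, pullback.lift_snd, pullback.lift_snd_assoc]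
      exact hδ
  obtain ⟨v, hv⟩ := Δ.exists_mem_V hα (fun z hz => (C.mem_iff_of_not_bad z hz).mp) y
    (pullback.lift_snd _ _ _) hA
  have hv1 : v ≫ C.π₁ = (y ≫ C.fB) ≫ pullback.snd G.s C.g := by
    rw [← hv, Category.assoc, pullback.lift_snd]
  have hv2 : v ≫ C.a₁ = (y ≫ C.fB) ≫ pullback.fst G.s C.g := by
    rw [← hv, Category.assoc, pullback.lift_fst]
  refine ⟨pullback.lift v (α ≫ C.pW) ?_, ?_, pullback.lift_snd _ _ _⟩
  · rw [hv1, Category.assoc, fB, pullback.lift_snd, pullback.lift_snd_assoc, Category.assoc]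
  · rw [lift_aW, hv2, Category.assoc, fB, pullback.lift_fst,
      comp_mul]
    exact mul_congr _ _ (pullback.lift_fst _ _ _) (pullback.lift_snd_assoc _ _ _ _)

/-- Translation of the finite part along an arrow `α` of the finite part. -/
noncomputable def act (α : T ⟶ C.PW) (hα : Δ.InD α) (δ : T ⟶ C.P₁)
    (hδ : δ ≫ C.π₁ = α ≫ C.σ) : T ⟶ C.PW :=
  (Δ.act_exists α hα δ hδ).choose

lemma act_aW (α : T ⟶ C.PW) (hα : Δ.InD α) (δ : T ⟶ C.P₁) (hδ : δ ≫ C.π₁ = α ≫ C.σ) :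
    Δ.act α hα δ hδ ≫ C.aW = mul G (δ ≫ C.a₁) (α ≫ C.aW) (by
        rw [Category.assoc δ, C.hw, ← Category.assoc, hδ, Category.assoc, ← C.aW_t, ← Category.assoc]) :=
  (Δ.act_exists α hα δ hδ).choose_spec.1

lemma act_pW (α : T ⟶ C.PW) (hα : Δ.InD α) (δ : T ⟶ C.P₁) (hδ : δ ≫ C.π₁ = α ≫ C.σ) :
    Δ.act α hα δ hδ ≫ C.pW = α ≫ C.pW :=
  (Δ.act_exists α hα δ hδ).choose_spec.2

lemma comp_act {T' : Scheme.{u}} (q : T' ⟶ T) (α : T ⟶ C.PW) (hα : Δ.InD α) (δ : T ⟶ C.P₁)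
    (hδ : δ ≫ C.π₁ = α ≫ C.σ) :
    q ≫ Δ.act α hα δ hδ = Δ.act (q ≫ α) (Δ.inD_comp q hα) (q ≫ δ)
      (by rw [Category.assoc q, hδ, Category.assoc]) := by
  apply C.extP
  · rw [Category.assoc q, act_aW, act_aW, comp_mul]
    exact mul_congr _ _ (Category.assoc _ _ _).symm (Category.assoc _ _ _).symm
  · rw [Category.assoc q, act_pW, act_pW, Category.assoc]

lemma k_exists : ∃! k : Δ.PD.toScheme ⟶ C.W, ∃ hk : k ≫ C.π = Δ.PD.ι ≫ C.σ,
    pullback.lift (pullback.fst C.π₁ (Δ.PD.ι ≫ C.σ)) (pullback.snd C.π₁ (Δ.PD.ι ≫ C.σ) ≫ k)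
      (by rw [Category.assoc, hk, pullback.condition]) ≫ C.σ =
    Δ.act (pullback.snd C.π₁ (Δ.PD.ι ≫ C.σ) ≫ Δ.PD.ι) (Δ.inD_comp _ Δ.inD_ι)
      (pullback.fst C.π₁ (Δ.PD.ι ≫ C.σ)) (by rw [Category.assoc, pullback.condition]) ≫ C.σ := by
  refine C.univ _ _ _ ?_
  rw [Category.assoc, ← C.aW_t, ← Category.assoc, act_aW, mul_t]
  simp only [Category.assoc]

/-- The lifted target. -/
noncomputable def k : Δ.PD.toScheme ⟶ C.W := Δ.k_exists.exists.choose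

lemma k_π : Δ.k ≫ C.π = Δ.PD.ι ≫ C.σ := Δ.k_exists.exists.choose_spec.1

lemma k_spec (α : T ⟶ Δ.PD.toScheme) (δ : T ⟶ C.P₁)
    (hδ : δ ≫ C.π₁ = (α ≫ Δ.PD.ι) ≫ C.σ) :
    pullback.lift δ (α ≫ Δ.k) (by rw [hδ, Category.assoc α Δ.k, k_π, Category.assoc]) ≫ C.σ =
      Δ.act (α ≫ Δ.PD.ι) (Δ.inD_comp _ Δ.inD_ι) δ hδ ≫ C.σ := by
  let q : T ⟶ pullback C.π₁ (Δ.PD.ι ≫ C.σ) := pullback.lift δ α (hδ.trans (Category.assoc _ _ _))
  have h := Δ.k_exists.exists.choose_spec.2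
  have h' := congrArg (q ≫ ·) h
  simp only [← Category.assoc q] at h'
  refine Eq.trans ?_ (h'.trans ?_)
  · congr 1
    apply pullback.hom_ext
    · rw [pullback.lift_fst, Category.assoc, pullback.lift_fst, pullback.lift_fst]
    · rw [pullback.lift_snd, Category.assoc, pullback.lift_snd, ← Category.assoc, pullback.lift_snd]
      rfl
  · congr 1
    rw [comp_act]
    apply C.extP
    · rw [act_aW, act_aW]
      exact mul_congr _ _ (by rw [pullback.lift_fst]) (by rw [← Category.assoc q, pullback.lift_snd])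
    · rw [act_pW, act_pW, ← Category.assoc q, pullback.lift_snd]

/-- The unit over the good open. -/
noncomputable def eD : Δ.D.toScheme ⟶ Δ.PD.toScheme :=
  IsOpenImmersion.lift Δ.PD.ι (Δ.D.ι ≫ C.eW) (by
    rintro _ ⟨x, rfl⟩
    rw [Scheme.Opens.range_ι]
    show C.pW ((Δ.D.ι ≫ C.eW) x) ∈ Δ.D
    rw [← Scheme.Hom.comp_apply, Category.assoc, eW_pW, Category.comp_id]
    exact x.2)

lemma eD_ι : Δ.eD ≫ Δ.PD.ι = Δ.D.ι ≫ C.eW := IsOpenImmersion.lift_fac _ _ _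

/-- Translation by a unit is trivial. -/
lemma eD_k : Δ.eD ≫ Δ.k = Δ.D.ι := by
  have hπ : (Δ.eD ≫ Δ.k) ≫ C.π = Δ.D.ι ≫ C.π := by
    rw [Category.assoc, k_π, ← Category.assoc, eD_ι, Category.assoc, Δ.unit]
  refine C.hom_ext_W _ _ hπ fun Z δ q w₁ w₂ => ?_
  have hδ : δ ≫ C.π₁ = ((q ≫ Δ.eD) ≫ Δ.PD.ι) ≫ C.σ := by
    simp only [Category.assoc] at w₁ ⊢
    rw [k_π] at w₁
    exact w₁
  have h := Δ.k_spec (q ≫ Δ.eD) δ hδ
  refine Eq.trans (congrArg (· ≫ C.σ) ?_) (h.trans (congrArg (· ≫ C.σ) ?_))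
  · apply pullback.hom_ext
    · rw [pullback.lift_fst, pullback.lift_fst]
    · rw [pullback.lift_snd, pullback.lift_snd, Category.assoc]
  · apply C.extP
    · rw [act_aW, lift_aW]
      refine mul_unit_right _ ?_
      rw [Category.assoc q, Category.assoc q, Δ.eD_ι, Category.assoc Δ.D.ι, eW_aW]
      rw [← Category.assoc (δ ≫ C.a₁), Category.assoc δ C.a₁, C.hw, ← Category.assoc δ, w₂]
      simp only [Category.assoc]
    · rw [act_pW, pullback.lift_snd]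
      simp only [Category.assoc]
      rw [reassoc_of% Δ.eD_ι, eW_pW, Category.comp_id]

/-- Translations compose. -/
lemma act_k [IsAffine T] (α β : T ⟶ Δ.PD.toScheme)
    (h : β ≫ Δ.PD.ι ≫ C.pW = α ≫ Δ.k) (γ : T ⟶ Δ.PD.toScheme)
    (hδ : (β ≫ Δ.PD.ι ≫ pullback.fst C.π₁ C.π) ≫ C.π₁ = (α ≫ Δ.PD.ι) ≫ C.σ)
    (hγ : γ ≫ Δ.PD.ι = Δ.act (α ≫ Δ.PD.ι) (Δ.inD_comp _ Δ.inD_ι)
      (β ≫ Δ.PD.ι ≫ pullback.fst C.π₁ C.π) hδ) :
    γ ≫ Δ.k = β ≫ Δ.k := by
  have hσ : (γ ≫ Δ.PD.ι) ≫ C.σ = (β ≫ Δ.PD.ι) ≫ C.σ := by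
    rw [hγ, ← Δ.k_spec α _ hδ]
    congr 1
    apply pullback.hom_ext
    · rw [pullback.lift_fst]; simp only [Category.assoc]
    · rw [pullback.lift_snd, ← h]; simp only [Category.assoc]
  refine C.hom_ext_W _ _ (by simp only [Category.assoc, k_π] at hσ ⊢; exact hσ) fun Z δ q w₁ w₂ => ?_
  have hδγ : δ ≫ C.π₁ = ((q ≫ γ) ≫ Δ.PD.ι) ≫ C.σ := by
    simp only [Category.assoc, k_π] at w₁ ⊢; exact w₁
  have hδβ : δ ≫ C.π₁ = ((q ≫ β) ≫ Δ.PD.ι) ≫ C.σ := by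
    simp only [Category.assoc, k_π] at w₂ ⊢; exact w₂
  let η := Δ.act ((q ≫ β) ≫ Δ.PD.ι) (Δ.inD_comp _ Δ.inD_ι) δ hδβ
  have hη1 : η ≫ C.pW = (q ≫ β) ≫ Δ.PD.ι ≫ C.pW := by rw [act_pW, Category.assoc]
  have hη : (η ≫ pullback.fst C.π₁ C.π) ≫ C.π₁ = ((q ≫ α) ≫ Δ.PD.ι) ≫ C.σ := by
    rw [Category.assoc, pullback.condition, ← Category.assoc, hη1, Category.assoc q β, h]
    simp only [Category.assoc, k_π]
  have hc1 : Δ.act ((q ≫ γ) ≫ Δ.PD.ι) (Δ.inD_comp _ Δ.inD_ι) δ hδγ =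
      Δ.act ((q ≫ α) ≫ Δ.PD.ι) (Δ.inD_comp _ Δ.inD_ι) (η ≫ pullback.fst C.π₁ C.π) hη := by
    apply C.extP
    · rw [act_aW, act_aW]
      have hg : ((q ≫ γ) ≫ Δ.PD.ι) ≫ C.aW = mul G ((q ≫ β ≫ Δ.PD.ι) ≫ C.aW)
          (((q ≫ α) ≫ Δ.PD.ι) ≫ C.aW) (by
            simp only [Category.assoc, aW_s, aW_t]
            rw [reassoc_of% h, reassoc_of% Δ.k_π]) := by
        rw [Category.assoc q γ, hγ, comp_act, act_aW]
        exact mul_congr _ _ (by simp only [aW, Category.assoc]) (by simp only [Category.assoc])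
      have hη2 : (η ≫ pullback.fst C.π₁ C.π) ≫ C.a₁ = η ≫ C.aW := C.comp_fst_a₁ η
      rw [mul_congr _ _ rfl hg, ← mul_assoc']
      · refine mul_congr _ _ ?_ rfl
        rw [hη2, act_aW]
        exact mul_congr _ _ rfl (by simp only [Category.assoc])
      · rw [Category.assoc δ, C.hw, ← Category.assoc δ, hδβ]
        simp only [Category.assoc, aW_t]
      · rw [mul_t, Category.assoc δ, C.hw, ← Category.assoc δ, hδβ]
        simp only [Category.assoc, aW_t]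
    · rw [act_pW, act_pW, Category.assoc q γ, hγ, comp_act, act_pW]
      simp only [Category.assoc]
  have h1 := Δ.k_spec (q ≫ γ) δ hδγ
  have h2 := Δ.k_spec (q ≫ α) (η ≫ pullback.fst C.π₁ C.π) hη
  refine Eq.trans (congrArg (· ≫ C.σ) ?_) ((h1.trans ((congrArg (· ≫ C.σ) hc1).trans h2.symm)).trans ?_)
  · apply pullback.hom_ext
    · rw [pullback.lift_fst, pullback.lift_fst]
    · rw [pullback.lift_snd, pullback.lift_snd, Category.assoc]
  · refine Eq.trans (congrArg (· ≫ C.σ) ?_) ((Δ.k_spec (q ≫ β) δ hδβ).symm.trans (congrArg (· ≫ C.σ) ?_))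
    · apply pullback.hom_ext
      · rw [pullback.lift_fst]
      · rw [pullback.lift_snd, Category.assoc q α, ← h, hη1]
        simp only [Category.assoc]
    · apply pullback.hom_ext
      · rw [pullback.lift_fst, pullback.lift_fst]
      · rw [pullback.lift_snd, pullback.lift_snd, Category.assoc]

end GoodOpen

end Chart

end Groth.Agent.Grpd80
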