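import Groth.Agent.Grpd80.SplitChart

/-!
The finite flat groupoid of translations of the finite part of a chart.
-/

set_option autoImplicit false
universe u
open CategoryTheory CategoryTheory.Limits AlgebraicGeometry

namespace Groth.Agent.Grpd80.Chart.GoodOpen

variable {S : Scheme.{u}} {G : Grpd.GroupoidScheme S} {C : Chart G} (Δ : GoodOpen C) {T : Scheme.{u}}

lemma hom_ext_affine {X : Scheme.{u}} (a b : T ⟶ X)
    (h : ∀ (Z : Scheme.{u}) [IsAffine Z] (q : Z ⟶ T), q ≫ a = q ≫ b) : a = b :=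
  Scheme.Cover.hom_ext T.affineCover _ _ fun i => h _ (T.affineCover.f i)

/-- The locus of the good open all whose arrows end in the good open. -/
noncomputable def U3 : C.W.Opens :=
  ⟨(Δ.D : Set ↥C.W) \ (⇑C.pW '' {z | ∃ hz : C.pW z ∈ Δ.D, Δ.k ⟨z, hz⟩ ∉ Δ.D}), by
    let K : Set ↥Δ.PD.toScheme := ⇑Δ.k ⁻¹' (Δ.D : Set ↥C.W)ᶜ
    have hK : IsClosed K := Δ.D.isOpen.isClosed_compl.preimage Δ.k.continuous
    have h := Δ.D.ι.isOpenEmbedding.isOpenMap _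
      ((C.pW ∣_ Δ.D).isClosedMap K hK).isOpen_compl
    convert h using 1
    ext w
    constructor
    · rintro ⟨hw, hn⟩
      refine ⟨⟨w, hw⟩, ?_, rfl⟩
      rintro ⟨z, hz, hzw⟩
      refine hn ⟨z.1, ⟨z.2, hz⟩, ?_⟩
      have := congrArg Subtype.val hzw
      simpa [morphismRestrict_base] using this
    · rintro ⟨w', hw', rfl⟩
      refine ⟨w'.2, ?_⟩
      rintro ⟨z, ⟨hz, hk⟩, hzw⟩
      refine hw' ⟨⟨z, hz⟩, hk, ?_⟩
      apply Subtype.ext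
      simpa [morphismRestrict_base] using hzw⟩

lemma U3_le : Δ.U3 ≤ Δ.D := fun _ h => h.1

lemma k_mem_D (z : ↥Δ.PD.toScheme) (h : C.pW z.1 ∈ Δ.U3) : Δ.k z ∈ Δ.D := by
  by_contra hk
  exact h.2 ⟨z.1, ⟨z.2, hk⟩, rfl⟩

/-- The arrows over the invariant locus. -/
noncomputable abbrev P3 : C.PW.Opens := C.pW ⁻¹ᵁ Δ.U3

/-- Inclusion into the arrows over the good open. -/
noncomputable abbrev P3toPD : Δ.P3.toScheme ⟶ Δ.PD.toScheme :=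
  C.PW.homOfLE (show Δ.P3 ≤ Δ.PD from fun _ h => Δ.U3_le h)

lemma exists_lift_PD (γ : T ⟶ C.PW) (h : Δ.InD γ) : ∃ γ' : T ⟶ Δ.PD.toScheme, γ' ≫ Δ.PD.ι = γ :=
  ⟨IsOpenImmersion.lift Δ.PD.ι γ (by rintro _ ⟨x, rfl⟩; rw [Scheme.Opens.range_ι]; exact h x),
    IsOpenImmersion.lift_fac _ _ _⟩

/-- Composition of two composable arrows of the finite part. -/
lemma exists_comp' (α β : T ⟶ Δ.PD.toScheme) (h : β ≫ Δ.PD.ι ≫ C.pW = α ≫ Δ.k) :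
    ∃ γ : T ⟶ Δ.PD.toScheme,
      γ ≫ Δ.PD.ι ≫ C.pW = α ≫ Δ.PD.ι ≫ C.pW ∧ γ ≫ Δ.k = β ≫ Δ.k ∧
      γ ≫ Δ.PD.ι ≫ C.aW = mul G (β ≫ Δ.PD.ι ≫ C.aW) (α ≫ Δ.PD.ι ≫ C.aW) (by
        simp only [Category.assoc, C.aW_s, C.aW_t]
        rw [reassoc_of% h, reassoc_of% Δ.k_π]) := by
  have hδ : (β ≫ Δ.PD.ι ≫ pullback.fst C.π₁ C.π) ≫ C.π₁ = (α ≫ Δ.PD.ι) ≫ C.σ := by
    simp only [Category.assoc, pullback.condition]
    rw [reassoc_of% h, Δ.k_π]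
  obtain ⟨γ, hγ⟩ := Δ.exists_lift_PD
    (Δ.act (α ≫ Δ.PD.ι) (Δ.inD_comp _ Δ.inD_ι) (β ≫ Δ.PD.ι ≫ pullback.fst C.π₁ C.π) hδ) (fun x => by
      rw [← Scheme.Hom.comp_apply, act_pW, Scheme.Hom.comp_apply, Scheme.Hom.comp_apply]
      exact (α x).2)
  refine ⟨γ, ?_, ?_, ?_⟩
  · rw [← Category.assoc, hγ, act_pW, Category.assoc]
  · apply hom_ext_affine
    intro Z _ q
    have hδ' : ((q ≫ β) ≫ Δ.PD.ι ≫ pullback.fst C.π₁ C.π) ≫ C.π₁ = ((q ≫ α) ≫ Δ.PD.ι) ≫ C.σ := by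
      simp only [Category.assoc] at hδ ⊢; rw [hδ]
    have := Δ.act_k (q ≫ α) (q ≫ β) (by simp only [Category.assoc, h]) (q ≫ γ) hδ' (by
      rw [Category.assoc, hγ, comp_act]
      apply C.extP
      · rw [act_aW, act_aW]; exact mul_congr _ _ (by simp only [Category.assoc]) (by simp only [Category.assoc])
      · rw [act_pW, act_pW]; simp only [Category.assoc])
    simpa only [Category.assoc] using this
  · rw [← Category.assoc, hγ, act_aW]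
    exact mul_congr _ _ (by simp only [aW, Category.assoc]) (Category.assoc _ _ _)

/-- The inverse of an arrow of the finite part. -/
lemma exists_inv' (α : T ⟶ Δ.PD.toScheme) (hα : ∀ x : T, Δ.k (α x) ∈ Δ.D) :
    ∃ β : T ⟶ Δ.PD.toScheme, β ≫ Δ.PD.ι ≫ C.pW = α ≫ Δ.k ∧
      β ≫ Δ.k = α ≫ Δ.PD.ι ≫ C.pW ∧ β ≫ Δ.PD.ι ≫ C.aW = (α ≫ Δ.PD.ι ≫ C.aW) ≫ G.i := by
  let a := α ≫ Δ.PD.ι
  let y : T ⟶ C.Y := pullback.lift ((a ≫ C.aW) ≫ G.i) a (by simp [G.i_s])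
  let v : T ⟶ C.P₁ := (a ≫ C.pW ≫ C.π) ≫ C.e₁
  have hv : v ≫ C.j₁ = y ≫ C.fB := by
    apply pullback.hom_ext
    · simp only [Category.assoc, pullback.lift_fst, fB, comp_mul, v]
      rw [C.e₁_a₁, mul_inv_left _ (by rw [pullback.lift_fst, pullback.lift_snd_assoc, Category.assoc]),
        pullback.lift_snd_assoc]
      simp only [Category.assoc]
      rw [reassoc_of% C.aW_s]
    · simp only [Category.assoc, pullback.lift_snd, fB, v, y, C.e₁_π₁, Category.comp_id,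
        pullback.lift_snd_assoc]
  have haD : Δ.InD a := Δ.inD_comp α Δ.inD_ι
  obtain ⟨η, hη⟩ := Δ.exists_mem_V haD (fun z hz => (C.mem_iff_of_not_bad z hz).mpr) y
    (pullback.lift_snd _ _ _) hv
  have hη1 : η ≫ C.a₁ = (a ≫ C.aW) ≫ G.i := by
    have := congrArg (· ≫ pullback.fst G.s C.g) hη
    simpa [fA, y, pullback.lift_fst] using this
  have hη2 : η ≫ C.π₁ = (α ≫ Δ.k) ≫ C.π := by
    have := congrArg (· ≫ pullback.snd G.s C.g) hη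
    simp [fA, y, pullback.lift_snd, pullback.lift_snd_assoc] at this
    rw [this, Category.assoc α Δ.k, Δ.k_π]
    simp [a]
  obtain ⟨β, hβ⟩ := Δ.exists_lift_PD (pullback.lift η (α ≫ Δ.k) hη2) (fun x => by
    rw [← Scheme.Hom.comp_apply, pullback.lift_snd, Scheme.Hom.comp_apply]; exact hα x)
  have hβp : β ≫ Δ.PD.ι ≫ C.pW = α ≫ Δ.k := by rw [← Category.assoc, hβ, pullback.lift_snd]
  have hβa : β ≫ Δ.PD.ι ≫ C.aW = (α ≫ Δ.PD.ι ≫ C.aW) ≫ G.i := by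
    rw [← Category.assoc, hβ, lift_aW, hη1]; simp only [a, Category.assoc]
  refine ⟨β, hβp, ?_, hβa⟩
  obtain ⟨γ, hγ1, hγ2, hγ3⟩ := Δ.exists_comp' α β hβp
  rw [← hγ2]
  let w : T ⟶ Δ.D.toScheme := α ≫ (C.pW ∣_ Δ.D)
  have hw : w ≫ Δ.D.ι = α ≫ Δ.PD.ι ≫ C.pW := by
    rw [Category.assoc, morphismRestrict_ι]
  have : γ = w ≫ Δ.eD := by
    rw [← cancel_mono Δ.PD.ι]
    apply C.extP
    · rw [Category.assoc γ, hγ3, mul_inv_left _ hβa]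
      simp only [Category.assoc, reassoc_of% Δ.eD_ι, C.eW_aW, reassoc_of% hw, reassoc_of% C.aW_s]
    · rw [Category.assoc γ, hγ1]
      simp only [Category.assoc, reassoc_of% Δ.eD_ι, C.eW_pW, Category.comp_id, hw]
  rw [this, Category.assoc, Δ.eD_k, hw]

lemma k_mem_U3 (z : ↥Δ.P3.toScheme) : (Δ.P3toPD ≫ Δ.k) z ∈ Δ.U3 := by
  have hz : C.pW (Δ.P3toPD z).1 ∈ Δ.U3 := by
    have e : (Δ.P3toPD z).1 = z.1 := by
      have := congrArg (fun f => f z) (Scheme.homOfLE_ι C.PW (show Δ.P3 ≤ Δ.PD from fun _ h => Δ.U3_le h))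
      simpa using this
    rw [e]; exact z.2
  refine ⟨Δ.k_mem_D _ hz, ?_⟩
  rintro ⟨y, ⟨hy, hky⟩, hyz⟩
  obtain ⟨q, hq1, hq2⟩ := Scheme.Pullback.exists_preimage_pullback (f := Δ.k)
    (g := Δ.PD.ι ≫ C.pW) (Δ.P3toPD z) (⟨y, hy⟩ : Δ.PD.toScheme) (by
      rw [Scheme.Hom.comp_apply]; exact hyz.symm)
  obtain ⟨γ, hγ1, hγ2, -⟩ := Δ.exists_comp' (pullback.fst Δ.k (Δ.PD.ι ≫ C.pW))
    (pullback.snd Δ.k (Δ.PD.ι ≫ C.pW)) pullback.condition.symm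
  refine hky ?_
  have h1 : C.pW (γ q).1 = C.pW (Δ.P3toPD z).1 := by
    have := congrArg (fun f => f q) hγ1
    simp only [Scheme.Hom.comp_apply, hq1] at this
    exact this
  have h2 : Δ.k (γ q) = Δ.k ⟨y, hy⟩ := by
    rw [← Scheme.Hom.comp_apply, hγ2, Scheme.Hom.comp_apply, hq2]
  rw [← h2]
  exact Δ.k_mem_D _ (by rw [h1]; exact hz)

/-- The lifted target on the invariant locus. -/
noncomputable def t3 : Δ.P3.toScheme ⟶ Δ.U3.toScheme :=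
  IsOpenImmersion.lift Δ.U3.ι (Δ.P3toPD ≫ Δ.k) (by
    rintro _ ⟨x, rfl⟩; rw [Scheme.Opens.range_ι]; exact Δ.k_mem_U3 x)

lemma t3_ι : Δ.t3 ≫ Δ.U3.ι = Δ.P3toPD ≫ Δ.k := IsOpenImmersion.lift_fac _ _ _

/-- The arrow of the invariant locus. -/
noncomputable def a3 : Δ.P3.toScheme ⟶ G.R := Δ.P3.ι ≫ C.aW

lemma a3_eq : Δ.a3 = Δ.P3toPD ≫ Δ.PD.ι ≫ C.aW := by rw [a3, Scheme.homOfLE_ι_assoc]

/-- The source on the invariant locus. -/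
noncomputable abbrev s3 : Δ.P3.toScheme ⟶ Δ.U3.toScheme := C.pW ∣_ Δ.U3

lemma s3_ι : Δ.s3 ≫ Δ.U3.ι = Δ.P3toPD ≫ Δ.PD.ι ≫ C.pW := by
  rw [morphismRestrict_ι, Scheme.homOfLE_ι_assoc]

/-- The structure map of the objects of the split groupoid. -/
noncomputable def g3 : Δ.U3.toScheme ⟶ G.U := Δ.U3.ι ≫ C.π ≫ C.g

lemma a3_s : Δ.a3 ≫ G.s = Δ.s3 ≫ Δ.g3 := by
  rw [g3, ← Category.assoc Δ.s3, s3_ι, a3_eq]
  simp only [Category.assoc, C.aW_s]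

lemma a3_t : Δ.a3 ≫ G.t = Δ.t3 ≫ Δ.g3 := by
  rw [g3, ← Category.assoc Δ.t3, t3_ι, a3_eq]
  simp only [Category.assoc, C.aW_t]
  rw [reassoc_of% Δ.k_π]

lemma ext3 {a b : T ⟶ Δ.P3.toScheme} (h₁ : a ≫ Δ.a3 = b ≫ Δ.a3) (h₂ : a ≫ Δ.s3 = b ≫ Δ.s3) :
    a = b := by
  rw [← cancel_mono Δ.P3.ι]
  refine C.extP ?_ ?_
  · rw [Category.assoc, Category.assoc]; exact h₁
  · have := congrArg (· ≫ Δ.U3.ι) h₂
    simpa [morphismRestrict_ι] using this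

lemma exists_lift_P3 (γ : T ⟶ Δ.PD.toScheme) (s' : T ⟶ Δ.U3.toScheme)
    (h : γ ≫ Δ.PD.ι ≫ C.pW = s' ≫ Δ.U3.ι) : ∃ γ' : T ⟶ Δ.P3.toScheme,
      γ' ≫ Δ.P3toPD = γ ∧ γ' ≫ Δ.s3 = s' := by
  let γ' : T ⟶ Δ.P3.toScheme := IsOpenImmersion.lift Δ.P3.ι (γ ≫ Δ.PD.ι) (by
    rintro _ ⟨x, rfl⟩; rw [Scheme.Opens.range_ι]
    show C.pW ((γ ≫ Δ.PD.ι) x) ∈ Δ.U3
    rw [← Scheme.Hom.comp_apply, Category.assoc, h]
    exact (s' x).2)
  have hγ' : γ' ≫ Δ.P3.ι = γ ≫ Δ.PD.ι := IsOpenImmersion.lift_fac _ _ _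
  refine ⟨γ', ?_, ?_⟩
  · rw [← cancel_mono Δ.PD.ι, Category.assoc, Scheme.homOfLE_ι, hγ']
  · rw [← cancel_mono Δ.U3.ι, Category.assoc, morphismRestrict_ι, reassoc_of% hγ', h]

lemma exists_comp3 (α β : T ⟶ Δ.P3.toScheme) (h : α ≫ Δ.s3 = β ≫ Δ.t3) :
    ∃ γ : T ⟶ Δ.P3.toScheme, γ ≫ Δ.s3 = β ≫ Δ.s3 ∧ γ ≫ Δ.t3 = α ≫ Δ.t3 ∧
      γ ≫ Δ.a3 = mul G (α ≫ Δ.a3) (β ≫ Δ.a3) (by
        rw [Category.assoc, Category.assoc, a3_s, a3_t, reassoc_of% h]) := by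
  obtain ⟨γ, h1, h2, h3⟩ := Δ.exists_comp' (β ≫ Δ.P3toPD) (α ≫ Δ.P3toPD) (by
    rw [Category.assoc, Category.assoc, ← s3_ι, ← t3_ι, reassoc_of% h])
  obtain ⟨γ', hγ1, hγ2⟩ := Δ.exists_lift_P3 γ (β ≫ Δ.s3) (by
    rw [h1, Category.assoc, Category.assoc, ← s3_ι])
  refine ⟨γ', hγ2, ?_, ?_⟩
  · rw [← cancel_mono Δ.U3.ι, Category.assoc, Category.assoc, t3_ι, reassoc_of% hγ1, h2,
      Category.assoc]
  · have e : γ' ≫ Δ.a3 = γ ≫ Δ.PD.ι ≫ C.aW := by rw [a3_eq, reassoc_of% hγ1]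
    rw [e, h3]
    exact mul_congr _ _ (by rw [a3_eq, Category.assoc]) (by rw [a3_eq, Category.assoc])

lemma exists_inv3 : ∃ β : Δ.P3.toScheme ⟶ Δ.P3.toScheme,
    β ≫ Δ.s3 = Δ.t3 ∧ β ≫ Δ.t3 = Δ.s3 ∧ β ≫ Δ.a3 = Δ.a3 ≫ G.i := by
  obtain ⟨β, h1, h2, h3⟩ := Δ.exists_inv' Δ.P3toPD (fun x => Δ.U3_le (Δ.k_mem_U3 x))
  obtain ⟨β', hβ1, hβ2⟩ := Δ.exists_lift_P3 β Δ.t3 (by rw [h1, t3_ι])
  refine ⟨β', hβ2, ?_, ?_⟩
  · rw [← cancel_mono Δ.U3.ι, Category.assoc, t3_ι, reassoc_of% hβ1, h2, s3_ι]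
  · rw [a3_eq, reassoc_of% hβ1, h3]

lemma exists_unit3 : ∃ e : Δ.U3.toScheme ⟶ Δ.P3.toScheme,
    e ≫ Δ.s3 = 𝟙 _ ∧ e ≫ Δ.t3 = 𝟙 _ ∧ e ≫ Δ.a3 = Δ.g3 ≫ G.e := by
  let i := C.W.homOfLE Δ.U3_le
  have hi : i ≫ Δ.D.ι = Δ.U3.ι := C.W.homOfLE_ι _
  obtain ⟨e, he1, he2⟩ := Δ.exists_lift_P3 (i ≫ Δ.eD) (𝟙 _) (by
    rw [Category.assoc, reassoc_of% Δ.eD_ι, C.eW_pW, Category.comp_id, hi, Category.id_comp])
  refine ⟨e, he2, ?_, ?_⟩
  · rw [← cancel_mono Δ.U3.ι, Category.assoc, t3_ι, reassoc_of% he1, Δ.eD_k, hi, Category.id_comp]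
  · rw [a3_eq, reassoc_of% he1, reassoc_of% Δ.eD_ι, C.eW_aW, g3, reassoc_of% hi]
    simp only [Category.assoc]

/-- Composition on the invariant locus. -/
noncomputable def c3 : pullback Δ.s3 Δ.t3 ⟶ Δ.P3.toScheme :=
  (Δ.exists_comp3 (pullback.fst _ _) (pullback.snd _ _) pullback.condition).choose

lemma lift_c3 (α β : T ⟶ Δ.P3.toScheme) (h : α ≫ Δ.s3 = β ≫ Δ.t3) :
    (pullback.lift α β h ≫ Δ.c3) ≫ Δ.s3 = β ≫ Δ.s3 ∧
    (pullback.lift α β h ≫ Δ.c3) ≫ Δ.t3 = α ≫ Δ.t3 ∧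
    (pullback.lift α β h ≫ Δ.c3) ≫ Δ.a3 = mul G (α ≫ Δ.a3) (β ≫ Δ.a3) (by
        rw [Category.assoc, Category.assoc, a3_s, a3_t, reassoc_of% h]) := by
  obtain ⟨h1, h2, h3⟩ :=
    (Δ.exists_comp3 (pullback.fst _ _) (pullback.snd _ _) pullback.condition).choose_spec
  refine ⟨?_, ?_, ?_⟩
  · rw [Category.assoc, show Δ.c3 ≫ Δ.s3 = _ from h1, pullback.lift_snd_assoc]
  · rw [Category.assoc, show Δ.c3 ≫ Δ.t3 = _ from h2, pullback.lift_fst_assoc]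
  · rw [Category.assoc, show Δ.c3 ≫ Δ.a3 = _ from h3, comp_mul]
    exact mul_congr _ _ (pullback.lift_fst_assoc _ _ _ _) (pullback.lift_snd_assoc _ _ _ _)

/-- The split groupoid. -/
noncomputable def grpd : Grpd.GroupoidScheme S where
  U := Δ.U3.toScheme
  R := Δ.P3.toScheme
  pU := Δ.g3 ≫ G.pU
  pR := Δ.a3 ≫ G.pR
  s := Δ.s3
  t := Δ.t3
  e := Δ.exists_unit3.choose
  i := Δ.exists_inv3.choose
  c := Δ.c3
  s_over := by rw [← Category.assoc, ← a3_s, Category.assoc, G.s_over]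
  t_over := by rw [← Category.assoc, ← a3_t, Category.assoc, G.t_over]
  comp_s α β h := (Δ.lift_c3 α β h).1
  comp_t α β h := (Δ.lift_c3 α β h).2.1
  assoc α β γ h₁ h₂ := by
    refine Δ.ext3 ?_ (by simp only [(Δ.lift_c3 _ _ _).1])
    simp only [(Δ.lift_c3 _ _ _).2.2]
    exact mul_assoc' _ _ _ _ _
  e_s := Δ.exists_unit3.choose_spec.1
  e_t := Δ.exists_unit3.choose_spec.2.1
  comp_e α := by
    refine Δ.ext3 ?_ ?_
    · rw [(Δ.lift_c3 _ _ _).2.2]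
      refine mul_unit_right _ ?_
      rw [Category.assoc, Category.assoc, Δ.exists_unit3.choose_spec.2.2]
      simp only [Category.assoc, reassoc_of% Δ.a3_s]
    · rw [(Δ.lift_c3 _ _ _).1, Category.assoc, Category.assoc, Δ.exists_unit3.choose_spec.1,
        Category.comp_id]
  e_comp α := by
    refine Δ.ext3 ?_ (Δ.lift_c3 _ _ _).1
    rw [(Δ.lift_c3 _ _ _).2.2]
    refine mul_unit_left _ ?_
    rw [Category.assoc, Category.assoc, Δ.exists_unit3.choose_spec.2.2]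
    simp only [Category.assoc, reassoc_of% Δ.a3_t]
  i_s := Δ.exists_inv3.choose_spec.1
  i_t := Δ.exists_inv3.choose_spec.2.1
  comp_i α := by
    refine Δ.ext3 ?_ ?_
    · rw [(Δ.lift_c3 _ _ _).2.2, mul_inv_right _ (by
        rw [Category.assoc, Δ.exists_inv3.choose_spec.2.2, Category.assoc])]
      rw [Category.assoc, Category.assoc, Category.assoc, Δ.exists_unit3.choose_spec.2.2]
      simp only [reassoc_of% Δ.a3_t]
    · rw [(Δ.lift_c3 _ _ _).1, Category.assoc, Δ.exists_inv3.choose_spec.1, Category.assoc,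
        Category.assoc, Δ.exists_unit3.choose_spec.1, Category.comp_id]
  i_comp α := by
    refine Δ.ext3 ?_ ?_
    · rw [(Δ.lift_c3 _ _ _).2.2, mul_inv_left _ (by
        rw [Category.assoc, Δ.exists_inv3.choose_spec.2.2, Category.assoc])]
      rw [Category.assoc, Category.assoc, Category.assoc, Δ.exists_unit3.choose_spec.2.2]
      simp only [reassoc_of% Δ.a3_s]
    · rw [(Δ.lift_c3 _ _ _).1, Category.assoc, Category.assoc, Δ.exists_unit3.choose_spec.1,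
        Category.comp_id]

instance : IsFinite Δ.grpd.s := inferInstanceAs (IsFinite (C.pW ∣_ Δ.U3))

instance [Flat G.s] : Flat Δ.grpd.s := by
  have : Flat C.π₁ := by
    rw [show C.π₁ = C.j₁ ≫ pullback.snd G.s C.g from (pullback.lift_snd _ _ _).symm]; infer_instance
  exact inferInstanceAs (Flat (C.pW ∣_ Δ.U3))

instance [LocallyOfFinitePresentation G.s] : LocallyOfFinitePresentation Δ.grpd.s := by
  have : LocallyOfFinitePresentation C.π₁ := by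
    rw [show C.π₁ = C.j₁ ≫ pullback.snd G.s C.g from (pullback.lift_snd _ _ _).symm]; infer_instance
  exact inferInstanceAs (LocallyOfFinitePresentation (C.pW ∣_ Δ.U3))

end Groth.Agent.Grpd80.Chart.GoodOpen
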