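import Groth.Agent.Grpd80.SplitGrpd
import Groth.Agent.Grpd80.InvAffine
import Groth.Agent.Grpd80.RestrAlong
import Groth.Prelude.Def_Dual3

/-!
Etale localisation of a groupoid making the finite part above a point split off.
-/

set_option autoImplicit false
universe u
open CategoryTheory CategoryTheory.Limits AlgebraicGeometry

namespace Groth.Agent.Grpd80

variable {S : Scheme.{u}} {G : Grpd.GroupoidScheme S}

lemma isIso_residueFieldMap_open {X Y : Scheme.{u}} (f : X ⟶ Y) (g : Y ⟶ S) [IsOpenImmersion f] (x : X)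
    (h : IsIso (g.residueFieldMap (f x))) : IsIso ((f ≫ g).residueFieldMap x) := by
  rw [Scheme.residueFieldMap_comp]
  exact IsIso.comp_isIso' h inferInstance

/-- A chart around `u` whose finite part is `F`. -/
theorem exists_split_chart [IsAffine G.U] [IsSeparated G.s] [Flat G.s] [LocallyOfFinitePresentation G.s]
    (u : G.U) (F : Set G.R) (hF : F.Finite) (hFs : ∀ r ∈ F, G.s r = u) (hFe : G.e u ∈ F)
    (hqf : ∀ r ∈ F, Dual3.QuasiFiniteAt G.s r) :
    ∃ (C : Chart G) (u' : C.U₁), C.g u' = u ∧ IsIso (C.g.residueFieldMap u') ∧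
      ∀ q : ↥(pullback G.s C.g), pullback.snd G.s C.g q = u' →
        (q ∈ C.V ↔ pullback.fst G.s C.g q ∈ F) := by
  classical
  have hiso : ∀ r ∈ F, ∃ W : G.R.Opens, r ∈ W ∧ ∀ z ∈ W, G.s z = u → z = r := by
    intro r hr
    have h : IsOpen ({G.s.asFiber r} : Set ↥(G.s.fiber (G.s r))) := hqf r hr
    rw [← (G.s.fiberHomeo (G.s r)).isOpen_image, Set.image_singleton] at h
    obtain ⟨O, hO, hOeq⟩ := isOpen_induced_iff.mp h
    have hmem : ∀ z : ↥(⇑G.s ⁻¹' {G.s r}), z.1 ∈ O ↔ z.1 = r := by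
      intro z
      have := Set.ext_iff.mp hOeq z
      rw [Set.mem_preimage, Set.mem_singleton_iff, Scheme.Hom.asFiber, Homeomorph.apply_symm_apply] at this
      rw [this, Subtype.ext_iff]
    exact ⟨⟨O, hO⟩, (hmem ⟨r, rfl⟩).mpr rfl,
      fun z hz hzu => (hmem ⟨z, hzu.trans (hFs r hr).symm⟩).mp hz⟩
  obtain ⟨S₀, g₀, p₀, V₀, hg₀, hp₀, hi₀, hV₀⟩ := exists_finitePart G.s u F hF hFs hiso
  let ε₀ : S₀ ⟶ pullback G.s g₀ := pullback.lift (g₀ ≫ G.e) (𝟙 S₀) (by simp)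
  have hε₀ : ε₀ p₀ ∈ V₀ := by
    refine (hV₀.fibre _ (by rw [← Scheme.Hom.comp_apply, pullback.lift_snd]; rfl)).mpr ?_
    rw [← Scheme.Hom.comp_apply, pullback.lift_fst, Scheme.Hom.comp_apply, hp₀]
    exact hFe
  obtain ⟨_, ⟨(O : S₀.Opens), hO, rfl⟩, hpO, hOV⟩ := S₀.isBasis_affineOpens.exists_subset_of_mem_open
    (show p₀ ∈ ε₀ ⁻¹ᵁ V₀ from hε₀) (ε₀ ⁻¹ᵁ V₀).isOpen
  let U₁ := O.toScheme
  let g : U₁ ⟶ G.U := O.ι ≫ g₀
  have : IsAffine U₁ := hO
  let u' : U₁ := ⟨p₀, hpO⟩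
  have hgu : g u' = u := hp₀
  have hiu : IsIso (g.residueFieldMap u') := isIso_residueFieldMap_open O.ι g₀ u' hi₀
  let m := pullback.map G.s g G.s g₀ (𝟙 _) O.ι (𝟙 G.U) (by simp) (by simp [g])
  let V : (pullback G.s g).Opens := m ⁻¹ᵁ V₀
  have hV : IsFinitePart G.s g F u' V := hV₀.transfer O.ι rfl u' rfl
  let P₁ := V.toScheme
  let a₁ : P₁ ⟶ G.R := V.ι ≫ pullback.fst G.s g
  let π₁ : P₁ ⟶ U₁ := V.ι ≫ pullback.snd G.s g
  have hw : a₁ ≫ G.s = π₁ ≫ g := by simp [a₁, π₁, pullback.condition]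
  have hj : pullback.lift a₁ π₁ hw = V.ι := by
    apply pullback.hom_ext
    · rw [pullback.lift_fst]
    · rw [pullback.lift_snd]
  have : IsFinite π₁ := hV.finite
  have : IsAffine P₁ := isAffine_of_isAffineHom π₁
  have : Flat π₁ := inferInstance
  have : LocallyOfFinitePresentation π₁ := inferInstance
  let τ := a₁ ≫ G.t
  let E := pullback g τ
  obtain ⟨W, _, π, _, σE, hσE, hWuniv⟩ := exists_weil_scheme π₁ (pullback.snd g τ)
  let σ := σE ≫ pullback.fst g τ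
  have hσ : σ ≫ g = pullback.fst π₁ π ≫ a₁ ≫ G.t := by
    rw [Category.assoc, pullback.condition, reassoc_of% hσE]
  let ε : U₁ ⟶ pullback G.s g := pullback.lift (g ≫ G.e) (𝟙 U₁) (by simp)
  have hεm : ε ≫ m = O.ι ≫ ε₀ := by
    apply pullback.hom_ext <;> simp [ε, m, ε₀, g, pullback.lift_fst, pullback.lift_snd,
      pullback.lift_fst_assoc, pullback.lift_snd_assoc]
  have hεV : Set.range ⇑ε ⊆ Set.range ⇑V.ι := by
    rintro _ ⟨x, rfl⟩
    rw [Scheme.Opens.range_ι]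
    show m (ε x) ∈ V₀
    rw [← Scheme.Hom.comp_apply, hεm]
    exact hOV x.2
  let e₁ : U₁ ⟶ P₁ := IsOpenImmersion.lift V.ι ε hεV
  have he₁ : e₁ ≫ V.ι = ε := IsOpenImmersion.lift_fac _ _ _
  let C : Chart G :=
    { U₁ := U₁, g := g, P₁ := P₁, a₁ := a₁, π₁ := π₁, hw := hw
      openImm := by rw [hj]; infer_instance
      closedRange := by rw [hj, Scheme.Opens.range_ι]; exact hV.closed
      e₁ := e₁
      e₁_a₁ := by rw [← Category.assoc, he₁, pullback.lift_fst]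
      e₁_π₁ := by rw [← Category.assoc, he₁, pullback.lift_snd]
      W := W, π := π, σ := σ, hσ := hσ
      univ := by
        intro T _ h e he
        obtain ⟨k, ⟨hk, hke⟩, huniq⟩ := hWuniv T h (pullback.lift e (pullback.fst π₁ h) he)
          (pullback.lift_snd _ _ _)
        refine ⟨k, ⟨hk, ?_⟩, ?_⟩
        · rw [← Category.assoc, hke, pullback.lift_fst]
        · rintro k' ⟨hk', hke'⟩
          refine huniq k' ⟨hk', ?_⟩
          apply pullback.hom_ext
          · rw [pullback.lift_fst, Category.assoc]; exact hke'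
          · rw [pullback.lift_snd, Category.assoc, hσE, pullback.lift_fst] }
  refine ⟨C, u', hgu, hiu, fun q hq => ?_⟩
  refine Iff.trans ?_ (hV.fibre q hq)
  show q ∈ Set.range ⇑(pullback.lift a₁ π₁ hw) ↔ q ∈ V
  rw [hj, Scheme.Opens.range_ι]; rfl

/-- The point of trivial lifts. -/
theorem Chart.exists_trivialLift (C : Chart G) (u' : C.U₁) (hiu : IsIso (C.g.residueFieldMap u'))
    (hfib : ∀ x : C.P₁, C.π₁ x = u' → G.t (C.a₁ x) = C.g u') :
    ∃ w₀ : C.W, C.π w₀ = u' ∧ IsIso ((C.π ≫ C.g).residueFieldMap w₀) ∧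
      (∀ z : ↥C.PW, C.pW z = w₀ → C.σ z = u') ∧
      ∀ v : C.W, C.π v = u' → (∀ z : ↥C.PW, C.pW z = v → C.σ z = u') → v = w₀ := by
  let T₀ := Spec (C.U₁.residueField u')
  let h₀ : T₀ ⟶ C.U₁ := C.U₁.fromSpecResidueField u'
  have : Finite ↥(pullback C.π₁ h₀) :=
    Set.finite_univ_iff.mp (((pullback.snd C.π₁ h₀).finite_preimage Set.finite_univ).subset
      fun z _ => Set.mem_univ _)
  have : DiscreteTopology ↥(pullback C.π₁ h₀) := by
    have : JacobsonSpace ↥(pullback C.π₁ h₀) :=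
      LocallyOfFiniteType.jacobsonSpace (pullback.snd C.π₁ h₀)
    infer_instance
  obtain ⟨e₀, he₀, he₀'⟩ := exists_lift_of_discrete C.g (pullback.fst C.π₁ h₀ ≫ C.a₁ ≫ G.t) u'
    (fun z => by
      rw [Scheme.Hom.comp_apply, Scheme.Hom.comp_apply]
      refine hfib _ ?_
      rw [← Scheme.Hom.comp_apply, pullback.condition, Scheme.Hom.comp_apply]
      exact Scheme.fromSpecResidueField_apply _ _)
  obtain ⟨k₀, ⟨hk₀, hk₀e⟩, hk₀u⟩ := C.univ T₀ h₀ e₀ he₀
  have hπw₀ : C.π (k₀ (IsLocalRing.closedPoint _)) = u' := by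
    rw [← Scheme.Hom.comp_apply, hk₀]; exact Scheme.fromSpecResidueField_apply _ _
  have hσw₀ : ∀ z : ↥C.PW, C.pW z = k₀ (IsLocalRing.closedPoint _) → C.σ z = u' := by
    intro z hz
    let l : pullback C.π₁ h₀ ⟶ C.PW :=
      pullback.lift (pullback.fst _ _) (pullback.snd _ _ ≫ k₀)
        (by rw [Category.assoc, hk₀, pullback.condition])
    have sq : IsPullback l (pullback.snd C.π₁ h₀) C.pW k₀ := by
      refine IsPullback.of_right ?_ (pullback.lift_snd _ _ _) (IsPullback.of_hasPullback C.π₁ C.π)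
      rw [pullback.lift_fst, hk₀]
      exact IsPullback.of_hasPullback _ _
    obtain ⟨z', hz'1, -⟩ := Scheme.Pullback.exists_preimage_pullback (f := C.pW) (g := k₀)
      z (IsLocalRing.closedPoint _) hz
    have hzl : l (sq.isoPullback.inv z') = z := by
      rw [← Scheme.Hom.comp_apply, IsPullback.isoPullback_inv_fst, hz'1]
    rw [← hzl, ← Scheme.Hom.comp_apply]
    exact (congrArg (fun f : pullback C.π₁ h₀ ⟶ C.U₁ => f (sq.isoPullback.inv z')) hk₀e).trans (he₀' _)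
  refine ⟨k₀ (IsLocalRing.closedPoint _), hπw₀, ?_, hσw₀, ?_⟩
  · have hi : IsIso ((k₀ ≫ C.π ≫ C.g).residueFieldMap (IsLocalRing.closedPoint _)) := by
      rw [reassoc_of% hk₀, Scheme.residueFieldMap_comp]
      have h1 : IsIso (h₀.residueFieldMap (IsLocalRing.closedPoint (C.U₁.residueField u'))) := by
        rw [ConcreteCategory.isIso_iff_bijective]
        exact ⟨RingHom.injective _, Ideal.Quotient.lift_surjective_of_surjective _ _
          (Ideal.Quotient.mk_surjective.comp (h₀.stalkMap_surjective _))⟩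
      have hc : h₀ (IsLocalRing.closedPoint (C.U₁.residueField u')) = u' :=
        Scheme.fromSpecResidueField_apply _ _
      have h2 : ∀ x : C.U₁, x = u' → IsIso (C.g.residueFieldMap x) := by rintro x rfl; exact hiu
      exact IsIso.comp_isIso' (h2 _ hc) h1
    rw [Scheme.residueFieldMap_comp] at hi
    have hb := @ConcreteCategory.bijective_of_isIso _ _ _ _ _ _ _ _
      ((C.π ≫ C.g).residueFieldMap (k₀ (IsLocalRing.closedPoint _)) ≫ k₀.residueFieldMap _) hi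
    rw [ConcreteCategory.isIso_iff_bijective]
    refine ⟨RingHom.injective _, fun y => ?_⟩
    obtain ⟨c, hc⟩ := hb.2 ((k₀.residueFieldMap (IsLocalRing.closedPoint _)) y)
    exact ⟨c, (k₀.residueFieldMap (IsLocalRing.closedPoint _)).hom.injective hc⟩
  · intro v hv hσv
    let kv : Spec (C.W.residueField v) ⟶ C.W := C.W.fromSpecResidueField v
    let c : Spec (C.W.residueField v) ⟶ T₀ :=
      Spec.map ((C.U₁.residueFieldCongr hv).inv ≫ C.π.residueFieldMap v)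
    have hc : c ≫ h₀ = kv ≫ C.π := by
      show Spec.map _ ≫ C.U₁.fromSpecResidueField u' = C.W.fromSpecResidueField v ≫ C.π
      rw [Spec.map_comp, Category.assoc, Scheme.residueFieldCongr_inv,
        Scheme.residueFieldCongr_fromSpecResidueField, Scheme.Hom.SpecMap_residueFieldMap_fromSpecResidueField]
    have key : c ≫ k₀ = kv := by
      refine C.hom_ext_W _ _ (by rw [Category.assoc]; exact (congrArg (c ≫ ·) hk₀).trans hc) ?_
      intro Z δ q w₁ w₂
      refine eq_of_forall_point C.g _ _ ?_ (fun z => ?_) (fun z => ?_)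
      · simp only [Category.assoc, C.hσ, pullback.lift_fst_assoc]
      all_goals
        have e1 : (pullback.lift δ (q ≫ c ≫ k₀) w₁ ≫ C.σ) z = u' := by
          rw [Scheme.Hom.comp_apply]
          refine hσw₀ _ ?_
          rw [← Scheme.Hom.comp_apply, pullback.lift_snd, Scheme.Hom.comp_apply, Scheme.Hom.comp_apply]
          exact congrArg k₀ (Subsingleton.elim _ _)
      · refine e1.trans (Eq.symm ?_)
        rw [Scheme.Hom.comp_apply]
        refine hσv _ ?_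
        rw [← Scheme.Hom.comp_apply, pullback.lift_snd, Scheme.Hom.comp_apply]
        exact Scheme.fromSpecResidueField_apply _ _
      · rw [e1]; exact hiu
    rw [← Scheme.fromSpecResidueField_apply v (IsLocalRing.closedPoint _)]
    show kv _ = _
    rw [← key, Scheme.Hom.comp_apply]
    exact congrArg k₀ (Subsingleton.elim _ _)

/-- Translation is defined at the point of trivial lifts. -/
theorem Chart.not_mem_bad (C : Chart G) (u' : C.U₁) (F : Set G.R)
    (hmem : ∀ q : ↥(pullback G.s C.g), pullback.snd G.s C.g q = u' →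
      (q ∈ C.V ↔ pullback.fst G.s C.g q ∈ F))
    (hFc : ∀ z : ↥(pullback G.s G.t), pullback.snd G.s G.t z ∈ F →
      (pullback.fst G.s G.t z ∈ F ↔ G.c z ∈ F))
    (w₀ : C.W) (hπw₀ : C.π w₀ = u') (hσw₀ : ∀ z : ↥C.PW, C.pW z = w₀ → C.σ z = u') :
    w₀ ∉ C.bad := by
  rintro ⟨x, ⟨y, hy, rfl⟩, hx⟩
  have hσz : C.σ (pullback.snd G.s (C.aW ≫ G.t) y) = u' := hσw₀ _ hx
  have hA : C.fA y ∈ C.V ↔ pullback.fst G.s (C.aW ≫ G.t) y ∈ F := by
    rw [hmem (C.fA y) (by
      rw [← Scheme.Hom.comp_apply, Chart.fA, pullback.lift_snd, Scheme.Hom.comp_apply]; exact hσz),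
      ← Scheme.Hom.comp_apply, Chart.fA, pullback.lift_fst]
  let l : C.Y ⟶ pullback G.s G.t :=
    pullback.lift (pullback.fst _ _) (pullback.snd _ _ ≫ C.aW)
      (by rw [Category.assoc]; exact pullback.condition)
  have hl : pullback.snd G.s G.t (l y) ∈ F := by
    rw [← Scheme.Hom.comp_apply, pullback.lift_snd, Scheme.Hom.comp_apply]
    have hp : C.π₁ (pullback.fst C.π₁ C.π (pullback.snd G.s (C.aW ≫ G.t) y)) = u' := by
      rw [← Scheme.Hom.comp_apply (pullback.fst C.π₁ C.π), pullback.condition, Scheme.Hom.comp_apply]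
      exact (congrArg C.π hx).trans hπw₀
    have h1 := (hmem (C.j₁ (pullback.fst C.π₁ C.π (pullback.snd G.s (C.aW ≫ G.t) y)))
      (by rw [← Scheme.Hom.comp_apply C.j₁, pullback.lift_snd]; exact hp)).mp ⟨_, rfl⟩
    rwa [← Scheme.Hom.comp_apply C.j₁, pullback.lift_fst, ← Scheme.Hom.comp_apply] at h1
  have hB : C.fB y ∈ C.V ↔ G.c (l y) ∈ F := by
    rw [hmem (C.fB y) (by
      rw [← Scheme.Hom.comp_apply, Chart.fB, pullback.lift_snd, Scheme.Hom.comp_apply,
        Scheme.Hom.comp_apply]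
      exact (congrArg C.π hx).trans hπw₀), ← Scheme.Hom.comp_apply, ← Scheme.Hom.comp_apply]
    rw [show C.fB ≫ pullback.fst G.s C.g = l ≫ G.c from pullback.lift_fst _ _ _]
  have hiff : C.fA y ∈ C.V ↔ C.fB y ∈ C.V := by
    rw [hA, hB, ← hFc _ hl, ← Scheme.Hom.comp_apply l, pullback.lift_fst]
  rcases hy with ⟨h1, h2⟩ | ⟨h1, h2⟩
  · exact h2 (hiff.mp h1)
  · exact h2 (hiff.mpr h1)

/-- A good open around the point of trivial lifts. -/
theorem Chart.exists_goodOpen_nhd (C : Chart G) (u' : C.U₁) (hiu : IsIso (C.g.residueFieldMap u'))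
    (w₀ : C.W) (hπw₀ : C.π w₀ = u') (hσw₀ : ∀ z : ↥C.PW, C.pW z = w₀ → C.σ z = u')
    (hbad : w₀ ∉ C.bad) : ∃ Δ : C.GoodOpen, w₀ ∈ Δ.D := by
  let L := pullback.lift (C.eW ≫ C.σ) C.π C.eW_σ_g
  let O₂ : C.W.Opens := (pullback.fst L (pullback.diagonal C.g)).opensRange
  have hwO₂ : w₀ ∈ O₂ := by
    let a := C.W.fromSpecResidueField w₀
    have ha : ∀ z, a z = w₀ := fun z => Scheme.fromSpecResidueField_apply _ _
    have heq : a ≫ C.eW ≫ C.σ = a ≫ C.π := by
      refine eq_of_forall_point C.g _ _ ?_ (fun z => ?_) (fun z => ?_)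
      · simp only [Category.assoc]
        exact congrArg (a ≫ ·) ((Category.assoc _ _ _).symm.trans C.eW_σ_g)
      all_goals
        have e1 : (a ≫ C.eW ≫ C.σ) z = u' := by
          rw [Scheme.Hom.comp_apply, Scheme.Hom.comp_apply]
          refine hσw₀ _ ?_
          rw [← Scheme.Hom.comp_apply]
          exact (congrArg (fun f : C.W ⟶ C.W => f (a z)) C.eW_pW).trans (ha z)
      · rw [e1, Scheme.Hom.comp_apply, ha z, hπw₀]
      · rw [e1]; exact hiu
    refine ⟨pullback.lift a (a ≫ C.π) ?_ (IsLocalRing.closedPoint _), ?_⟩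
    · apply pullback.hom_ext
      · rw [Category.assoc, Category.assoc, pullback.lift_fst, pullback.diagonal_fst, Category.comp_id, heq]
      · rw [Category.assoc, Category.assoc, pullback.lift_snd, pullback.diagonal_snd, Category.comp_id]
    · rw [← Scheme.Hom.comp_apply, pullback.lift_fst]
      exact ha _
  obtain ⟨_, ⟨(D : C.W.Opens), hD, rfl⟩, hwD, hDsub⟩ := C.W.isBasis_affineOpens.exists_subset_of_mem_open
    (show w₀ ∈ (O₂ : Set C.W) \ C.bad from ⟨hwO₂, hbad⟩) (O₂.isOpen.sdiff C.isClosed_bad)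
  refine ⟨⟨D, hD, fun w hw => (hDsub hw).2, ?_⟩, hwD⟩
  have hr : Set.range ⇑D.ι ⊆ Set.range ⇑(pullback.fst L (pullback.diagonal C.g)) := by
    rw [Scheme.Opens.range_ι]; exact fun x hx => (hDsub hx).1
  rw [← IsOpenImmersion.lift_fac _ _ hr, Category.assoc, Category.assoc]
  congr 1
  have hc := pullback.condition (f := L) (g := pullback.diagonal C.g)
  have c1 := congrArg (· ≫ pullback.fst C.g C.g) hc
  have c2 := congrArg (· ≫ pullback.snd C.g C.g) hc
  simp only [Category.assoc, L, pullback.lift_fst, pullback.lift_snd, pullback.diagonal_fst,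
    pullback.diagonal_snd, Category.comp_id] at c1 c2
  exact c1.trans c2.symm

/-- A chart around `u` with finite part `F`, and a good open around the point of trivial lifts. -/
theorem exists_goodOpen [IsAffine G.U] [IsSeparated G.s] [Flat G.s] [LocallyOfFinitePresentation G.s]
    (u : G.U) (F : Set G.R) (hF : F.Finite) (hFs : ∀ r ∈ F, G.s r = u) (hFt : ∀ r ∈ F, G.t r = u)
    (hFe : G.e u ∈ F)
    (hFc : ∀ z : ↥(pullback G.s G.t), pullback.snd G.s G.t z ∈ F →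
      (pullback.fst G.s G.t z ∈ F ↔ G.c z ∈ F))
    (hqf : ∀ r ∈ F, Dual3.QuasiFiniteAt G.s r) :
    ∃ (C : Chart G) (Δ : C.GoodOpen) (w₀ : C.W), w₀ ∈ Δ.U3 ∧ C.g (C.π w₀) = u ∧
      IsIso ((C.π ≫ C.g).residueFieldMap w₀) ∧
      (∀ z : ↥Δ.P3.toScheme, (Δ.s3 z).1 = w₀ → (Δ.t3 z).1 = w₀) ∧
      ∀ r ∈ F, ∃ z : ↥Δ.P3.toScheme, (Δ.s3 z).1 = w₀ ∧ Δ.a3 z = r := by
  obtain ⟨C, u', hgu, hiu, hmem⟩ := exists_split_chart u F hF hFs hFe hqf
  have hfib : ∀ x : C.P₁, C.π₁ x = u' → C.a₁ x ∈ F := fun x hx => by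
    have h1 := (hmem (C.j₁ x) (by rw [← Scheme.Hom.comp_apply, pullback.lift_snd]; exact hx)).mp ⟨_, rfl⟩
    rwa [← Scheme.Hom.comp_apply, pullback.lift_fst] at h1
  obtain ⟨w₀, hπw₀, hisoW, hσw₀, hunique⟩ :=
    C.exists_trivialLift u' hiu (fun x hx => (hFt _ (hfib x hx)).trans hgu.symm)
  obtain ⟨Δ, hwD⟩ := C.exists_goodOpen_nhd u' hiu w₀ hπw₀ hσw₀
    (C.not_mem_bad u' F hmem hFc w₀ hπw₀ hσw₀)
  have horb : ∀ z : ↥Δ.PD.toScheme, C.pW z.1 = w₀ → Δ.k z = w₀ := by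
    intro z hz
    have hkπ : C.π (Δ.k z) = u' := by
      rw [← Scheme.Hom.comp_apply]
      exact (congrArg (fun f : Δ.PD.toScheme ⟶ C.U₁ => f z) Δ.k_π).trans (hσw₀ _ hz)
    refine hunique _ hkπ fun y hy => ?_
    obtain ⟨q, hq1, hq2⟩ := Scheme.Pullback.exists_preimage_pullback (f := Δ.k) (g := C.pW) z y hy.symm
    let α := pullback.fst Δ.k C.pW
    let δ := pullback.snd Δ.k C.pW ≫ pullback.fst C.π₁ C.π
    have hδ : δ ≫ C.π₁ = (α ≫ Δ.PD.ι) ≫ C.σ := by
      simp only [δ, α, Category.assoc, ← Δ.k_π, pullback.condition_assoc]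
      rw [pullback.condition]
    have hl : pullback.snd Δ.k C.pW = pullback.lift δ (α ≫ Δ.k)
        (by rw [hδ, Category.assoc α Δ.k, Δ.k_π, Category.assoc]) := by
      apply pullback.hom_ext
      · rw [pullback.lift_fst]
      · rw [pullback.lift_snd]; exact pullback.condition.symm
    rw [← hq2, ← Scheme.Hom.comp_apply, hl]
    refine (congrArg (fun f : pullback Δ.k C.pW ⟶ C.U₁ => f q) (Δ.k_spec α δ hδ)).trans (hσw₀ _ ?_)
    show C.pW (Δ.act (α ≫ Δ.PD.ι) (Δ.inD_comp _ Δ.inD_ι) δ hδ q) = w₀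
    rw [← Scheme.Hom.comp_apply, Chart.GoodOpen.act_pW, Scheme.Hom.comp_apply, Scheme.Hom.comp_apply,
      hq1]
    exact hz
  have hwU3 : w₀ ∈ Δ.U3 := by
    refine ⟨hwD, ?_⟩
    rintro ⟨z, ⟨hz, hkz⟩, hzw⟩
    exact hkz (by rw [horb ⟨z, hz⟩ hzw]; exact hwD)
  refine ⟨C, Δ, w₀, hwU3, by rw [hπw₀, hgu], hisoW, ?_, ?_⟩
  · intro z hz
    have h1 : C.pW z.1 = w₀ := by
      rw [← hz, morphismRestrict_base]; rfl
    have e : (Δ.P3toPD z).1 = z.1 := by
      have := congrArg (fun f => f z) (Scheme.homOfLE_ι C.PW (show Δ.P3 ≤ Δ.PD from fun _ h => Δ.U3_le h))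
      simpa using this
    rw [← horb (Δ.P3toPD z) (by rw [e]; exact h1)]
    exact congrArg (fun f : Δ.P3.toScheme ⟶ C.W => f z) Δ.t3_ι
  · intro r hr
    obtain ⟨q, hq1, hq2⟩ := Scheme.Pullback.exists_preimage_pullback (f := G.s) (g := C.g) r u'
      ((hFs r hr).trans hgu.symm)
    obtain ⟨v, hv⟩ := (hmem q hq2).mpr (hq1 ▸ hr)
    have hv1 : C.a₁ v = r := by rw [← hq1, ← hv, ← Scheme.Hom.comp_apply, pullback.lift_fst]
    have hv2 : C.π₁ v = u' := by rw [← hq2, ← hv, ← Scheme.Hom.comp_apply, pullback.lift_snd]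
    obtain ⟨z, hz1, hz2⟩ := Scheme.Pullback.exists_preimage_pullback (f := C.π₁) (g := C.π)
      v w₀ (hv2.trans hπw₀.symm)
    have hzU : C.pW z ∈ Δ.U3 := by
      show pullback.snd C.π₁ C.π z ∈ Δ.U3
      rw [hz2]; exact hwU3
    refine ⟨⟨z, hzU⟩, ?_, ?_⟩
    · rw [morphismRestrict_base]; exact hz2
    · show C.aW z = r
      rw [Chart.aW, Scheme.Hom.comp_apply, hz1, hv1]

/-- Maps on objects and arrows commuting with the whole structure. -/
structure CompatMap (H G : Grpd.GroupoidScheme S) (g : H.U ⟶ G.U) (a : H.R ⟶ G.R) : Prop where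
  hs : a ≫ G.s = H.s ≫ g
  ht : a ≫ G.t = H.t ≫ g
  he : H.e ≫ a = g ≫ G.e
  hi : H.i ≫ a = a ≫ G.i
  hc : ∀ {T : Scheme.{u}} (α β : T ⟶ H.R) (h : α ≫ H.s = β ≫ H.t),
    (pullback.lift α β h ≫ H.c) ≫ a = mul G (α ≫ a) (β ≫ a)
      (by rw [Category.assoc, Category.assoc, hs, ht, reassoc_of% h])

lemma CompatMap.restr {H : Grpd.GroupoidScheme S} {g : H.U ⟶ G.U} {a : H.R ⟶ G.R}
    (hm : CompatMap H G g a) {W : H.U.Opens} (hW : IsInv H W) :
    CompatMap (Grpd80.restr hW) G (W.ι ≫ g) ((H.s ⁻¹ᵁ W).ι ≫ a) where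
  hs := by
    show ((H.s ⁻¹ᵁ W).ι ≫ a) ≫ G.s = (H.s ∣_ W) ≫ W.ι ≫ g
    rw [Category.assoc, hm.hs, morphismRestrict_ι_assoc]
  ht := by
    show ((H.s ⁻¹ᵁ W).ι ≫ a) ≫ G.t = restrT hW ≫ W.ι ≫ g
    rw [Category.assoc, hm.ht, restrT_ι_assoc]
  he := by
    show restrE W ≫ (H.s ⁻¹ᵁ W).ι ≫ a = (W.ι ≫ g) ≫ G.e
    rw [restrE_ι_assoc, hm.he, Category.assoc]
  hi := by
    show restrI hW ≫ (H.s ⁻¹ᵁ W).ι ≫ a = ((H.s ⁻¹ᵁ W).ι ≫ a) ≫ G.i
    rw [restrI_ι_assoc, hm.hi, Category.assoc]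
  hc {T} α β h := by
    have h1 : (pullback.lift α β h ≫ restrC hW) ≫ (H.s ⁻¹ᵁ W).ι =
        mul H (α ≫ (H.s ⁻¹ᵁ W).ι) (β ≫ (H.s ⁻¹ᵁ W).ι) (restr_w hW h) :=
      (Category.assoc _ _ _).trans (lift_restrC_ι hW α β h)
    show (pullback.lift α β h ≫ restrC hW) ≫ (H.s ⁻¹ᵁ W).ι ≫ a = _
    rw [← Category.assoc, h1]
    refine (hm.hc _ _ _).trans (mul_congr _ _ ?_ ?_) <;> exact Category.assoc _ _ _

/-- A compatible map factors through the restriction compatibly with unit, inverse and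
composition. -/
lemma CompatMap.toRestrict {H : Grpd.GroupoidScheme S} {g : H.U ⟶ G.U} {a : H.R ⟶ G.R}
    (hm : CompatMap H G g a) :
    let ιP := RestrAlong.mk G g a H.t H.s hm.ht hm.hs
    H.e ≫ ιP = (RestrAlong.restrict G g).e ∧
    H.i ≫ ιP = ιP ≫ (RestrAlong.restrict G g).i ∧
    (∃ cP : pullback (ιP ≫ (RestrAlong.restrict G g).s) (ιP ≫ (RestrAlong.restrict G g).t) ⟶ H.R,
      cP ≫ ιP = pullback.map (ιP ≫ (RestrAlong.restrict G g).s) (ιP ≫ (RestrAlong.restrict G g).t)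
        (RestrAlong.restrict G g).s (RestrAlong.restrict G g).t ιP ιP
        (𝟙 (RestrAlong.restrict G g).U) (Category.comp_id _) (Category.comp_id _) ≫
        (RestrAlong.restrict G g).c) := by
  intro ιP
  refine ⟨?_, ?_, ?_⟩
  · refine RestrAlong.ext G g ?_ ?_ ?_
    · dsimp only [RestrAlong.restrict]
      rw [Category.assoc, RestrAlong.mk_arr, RestrAlong.mk_arr, hm.he]
    · dsimp only [RestrAlong.restrict]
      rw [Category.assoc, RestrAlong.mk_tgt, RestrAlong.mk_tgt, H.e_t]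
    · dsimp only [RestrAlong.restrict]
      rw [Category.assoc, RestrAlong.mk_src, RestrAlong.mk_src, H.e_s]
  · refine RestrAlong.ext G g ?_ ?_ ?_
    · dsimp only [RestrAlong.restrict]
      rw [Category.assoc, Category.assoc, RestrAlong.mk_arr, RestrAlong.mk_arr,
        RestrAlong.mk_arr_assoc, hm.hi]
    · dsimp only [RestrAlong.restrict]
      rw [Category.assoc, Category.assoc, RestrAlong.mk_tgt, RestrAlong.mk_tgt, RestrAlong.mk_src,
        H.i_t]
    · dsimp only [RestrAlong.restrict]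
      rw [Category.assoc, Category.assoc, RestrAlong.mk_src, RestrAlong.mk_src, RestrAlong.mk_tgt,
        H.i_s]
  · change ∃ cP : pullback (ιP ≫ RestrAlong.src G g) (ιP ≫ RestrAlong.tgt G g) ⟶ H.R,
      cP ≫ ιP = pullback.lift (pullback.fst _ _ ≫ ιP) (pullback.snd _ _ ≫ ιP) _ ≫
        RestrAlong.comp' G g
    have hw : pullback.fst (ιP ≫ RestrAlong.src G g) (ιP ≫ RestrAlong.tgt G g) ≫ H.s =
        pullback.snd (ιP ≫ RestrAlong.src G g) (ιP ≫ RestrAlong.tgt G g) ≫ H.t := by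
      have h := pullback.condition (f := ιP ≫ RestrAlong.src G g) (g := ιP ≫ RestrAlong.tgt G g)
      simpa only [ιP, RestrAlong.mk_src, RestrAlong.mk_tgt] using h
    refine ⟨pullback.lift (pullback.fst _ _) (pullback.snd _ _) hw ≫ H.c, ?_⟩
    refine RestrAlong.ext G g ?_ ?_ ?_
    · rw [RestrAlong.lift_comp'_arr, Category.assoc _ ιP, RestrAlong.mk_arr, hm.hc]
      exact mul_congr _ _ (by rw [Category.assoc, RestrAlong.mk_arr])
        (by rw [Category.assoc, RestrAlong.mk_arr])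
    · rw [RestrAlong.lift_comp'_tgt]
      refine ((Category.assoc _ _ _).trans (congrArg (_ ≫ ·) (RestrAlong.mk_tgt _ _ _ _ _ _ _))).trans
        ((H.comp_t _ _ _).trans ?_)
      exact ((Category.assoc _ _ _).trans (congrArg (_ ≫ ·) (RestrAlong.mk_tgt _ _ _ _ _ _ _))).symm
    · rw [RestrAlong.lift_comp'_src]
      refine ((Category.assoc _ _ _).trans (congrArg (_ ≫ ·) (RestrAlong.mk_src _ _ _ _ _ _ _))).trans
        ((H.comp_s _ _ _).trans ?_)
      exact ((Category.assoc _ _ _).trans (congrArg (_ ≫ ·) (RestrAlong.mk_src _ _ _ _ _ _ _))).symm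

lemma Chart.GoodOpen.compatMap {C : Chart G} (Δ : C.GoodOpen) :
    CompatMap Δ.grpd G Δ.g3 Δ.a3 where
  hs := Δ.a3_s
  ht := Δ.a3_t
  he := Δ.exists_unit3.choose_spec.2.2
  hi := Δ.exists_inv3.choose_spec.2.2
  hc α β h := (Δ.lift_c3 α β h).2.2

/-- Etale localisation of a groupoid: splitting off a finite set of isotropic arrows at which the
source is quasi-finite. -/
theorem exists_split_nbhd [IsAffine G.U] [IsSeparated G.s] [Flat G.s] [LocallyOfFinitePresentation G.s]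
    (u : G.U) (F : Set G.R) (hF : F.Finite) (hFs : ∀ r ∈ F, G.s r = u) (hFt : ∀ r ∈ F, G.t r = u)
    (hFe : G.e u ∈ F)
    (hFc : ∀ z : ↥(pullback G.s G.t), pullback.snd G.s G.t z ∈ F →
      (pullback.fst G.s G.t z ∈ F ↔ G.c z ∈ F))
    (hqf : ∀ r ∈ F, Dual3.QuasiFiniteAt G.s r) :
    ∃ (G' : Grpd.GroupoidScheme S) (φ : Grpd.GroupoidScheme.Hom G' G) (u' : ↥G'.U),
      IsAffine G'.U ∧ Etale φ.fU ∧ φ.fU u' = u ∧ IsIso (φ.fU.residueFieldMap u') ∧
      IsPullback φ.fR G'.j G.j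
        (pullback.map G'.pU G'.pU G.pU G.pU φ.fU φ.fU (𝟙 S)
          ((Category.comp_id _).trans φ.fU_over.symm) ((Category.comp_id _).trans φ.fU_over.symm)) ∧
      ∃ (P : Scheme.{u}) (ιP : P ⟶ G'.R), IsOpenImmersion ιP ∧
        (∃ eP : G'.U ⟶ P, eP ≫ ιP = G'.e) ∧ (∃ iP : P ⟶ P, iP ≫ ιP = ιP ≫ G'.i) ∧
        (∃ cP : pullback (ιP ≫ G'.s) (ιP ≫ G'.t) ⟶ P,
          cP ≫ ιP = pullback.map (ιP ≫ G'.s) (ιP ≫ G'.t) G'.s G'.t ιP ιP (𝟙 G'.U)
            (Category.comp_id _) (Category.comp_id _) ≫ G'.c) ∧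
        IsFinite (ιP ≫ G'.s) ∧ IsFinite (ιP ≫ G'.t) ∧
        ∀ r' : ↥G'.R, G'.s r' = u' → G'.t r' = u' → φ.fR r' ∈ F → ∃ p : ↥P, ιP p = r' := by
  obtain ⟨C, Δ, w₀, hw₀, hgw, hiso, horb, hfill⟩ := exists_goodOpen u F hF hFs hFt hFe hFc hqf
  let G3 := Δ.grpd
  let w3 : Δ.U3.toScheme := ⟨w₀, hw₀⟩
  obtain ⟨_, ⟨V, hV, rfl⟩, hwV, -⟩ := Δ.U3.toScheme.isBasis_affineOpens.exists_subset_of_mem_open
    (Set.mem_univ w3) isOpen_univ
  obtain ⟨D4, hD4, hwD4, -, hinv⟩ := exists_inv_affine (G := G3) (u := w3) (V := V) hV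
    (fun z hz => by
      have : Δ.t3 z = w3 := Subtype.ext (horb z (congrArg Subtype.val hz))
      show Δ.t3 z ∈ V
      rw [this]; exact hwV)
    (O := ⊤) (by simp [IsInv]) trivial
  let G4 := restr hinv
  let g4 : D4.toScheme ⟶ G.U := D4.ι ≫ Δ.g3
  let a4 : (G3.s ⁻¹ᵁ D4).toScheme ⟶ G.R := (G3.s ⁻¹ᵁ D4).ι ≫ Δ.a3
  let s4 : (G3.s ⁻¹ᵁ D4).toScheme ⟶ D4.toScheme := G3.s ∣_ D4
  let t4 : (G3.s ⁻¹ᵁ D4).toScheme ⟶ D4.toScheme := restrT hinv
  have ha4s : a4 ≫ G.s = s4 ≫ g4 := by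
    show ((G3.s ⁻¹ᵁ D4).ι ≫ Δ.a3) ≫ G.s = s4 ≫ D4.ι ≫ Δ.g3
    refine (Category.assoc _ _ _).trans ((congrArg ((G3.s ⁻¹ᵁ D4).ι ≫ ·) Δ.a3_s).trans ?_)
    exact ((Category.assoc _ _ _).symm.trans
      (congrArg (· ≫ Δ.g3) (morphismRestrict_ι G3.s D4).symm)).trans (Category.assoc _ _ _)
  have ha4t : a4 ≫ G.t = t4 ≫ g4 := by
    show ((G3.s ⁻¹ᵁ D4).ι ≫ Δ.a3) ≫ G.t = t4 ≫ D4.ι ≫ Δ.g3
    refine (Category.assoc _ _ _).trans ((congrArg ((G3.s ⁻¹ᵁ D4).ι ≫ ·) Δ.a3_t).trans ?_)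
    exact ((Category.assoc _ _ _).symm.trans
      (congrArg (· ≫ Δ.g3) (restrT_ι hinv).symm)).trans (Category.assoc _ _ _)
  let G' := RestrAlong.restrict G g4
  let φ := RestrAlong.hom G g4
  let ιP : (G3.s ⁻¹ᵁ D4).toScheme ⟶ RestrAlong.R' G g4 := RestrAlong.mk G g4 a4 t4 s4 ha4t ha4s
  have : Etale Δ.g3 := by rw [Chart.GoodOpen.g3]; infer_instance
  have : Etale g4 := MorphismProperty.comp_mem @Etale _ _ inferInstance this
  let q : RestrAlong.R' G g4 ⟶ pullback G.s g4 :=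
    pullback.lift (RestrAlong.arr G g4) (RestrAlong.src G g4) (RestrAlong.arr_s G g4)
  have sqq : IsPullback q (RestrAlong.tgt G g4) (pullback.fst G.s g4 ≫ G.t) g4 := by
    refine ⟨⟨by rw [pullback.lift_fst_assoc, RestrAlong.arr_t]⟩, ⟨PullbackCone.IsLimit.mk _
      (fun c => RestrAlong.mk G g4 (c.fst ≫ pullback.fst G.s g4) c.snd (c.fst ≫ pullback.snd G.s g4)
        (by rw [Category.assoc]; exact c.condition)
        (by rw [Category.assoc, pullback.condition, Category.assoc]))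
      (fun c => ?_) (fun c => RestrAlong.mk_tgt _ _ _ _ _ _ _) fun c m hm1 hm2 => ?_⟩⟩
    · apply pullback.hom_ext
      · rw [Category.assoc, pullback.lift_fst, RestrAlong.mk_arr]
      · rw [Category.assoc, pullback.lift_snd, RestrAlong.mk_src]
    · refine RestrAlong.ext G g4 ?_ (by rw [RestrAlong.mk_tgt, hm2]) ?_
      · rw [RestrAlong.mk_arr, ← hm1, Category.assoc, pullback.lift_fst]
      · rw [RestrAlong.mk_src, ← hm1, Category.assoc, pullback.lift_snd]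
  have : Etale q := MorphismProperty.of_isPullback sqq.flip ‹Etale g4›
  have hqeq : ιP ≫ q = pullback.lift a4 s4 ha4s := by
    apply pullback.hom_ext
    · rw [Category.assoc, pullback.lift_fst, RestrAlong.mk_arr, pullback.lift_fst]
    · rw [Category.assoc, pullback.lift_snd, RestrAlong.mk_src, pullback.lift_snd]
  have hP4 : IsOpenImmersion (ιP ≫ q) := by
    let g₄' : D4.toScheme ⟶ C.U₁ := D4.ι ≫ Δ.U3.ι ≫ C.π
    have hg4 : g₄' ≫ C.g = g4 :=
      (Category.assoc _ _ _).trans (congrArg (D4.ι ≫ ·) (Category.assoc _ _ _))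
    have sqP : IsPullback (pullback.map G.s g4 G.s C.g (𝟙 _) g₄' (𝟙 _) (by simp)
        ((Category.comp_id _).trans hg4.symm)) (pullback.snd G.s g4) (pullback.snd G.s C.g) g₄' := by
      refine IsPullback.of_right ?_ (pullback.lift_snd _ _ _) (IsPullback.of_hasPullback G.s C.g)
      rw [pullback.lift_fst, Category.comp_id, hg4]
      exact IsPullback.of_hasPullback _ _
    let n : (G3.s ⁻¹ᵁ D4).toScheme ⟶ C.P₁ :=
      (G3.s ⁻¹ᵁ D4).ι ≫ Δ.P3.ι ≫ pullback.fst C.π₁ C.π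
    have sq4 : IsPullback n s4 C.π₁ g₄' :=
      (isPullback_morphismRestrict G3.s D4).flip.paste_horiz
        ((isPullback_morphismRestrict C.pW Δ.U3).flip.paste_horiz
          (IsPullback.of_hasPullback C.π₁ C.π))
    have sqA : IsPullback n (pullback.lift a4 s4 ha4s) C.j₁ (pullback.map G.s g4 G.s C.g (𝟙 _) g₄' (𝟙 _)
        (by simp) ((Category.comp_id _).trans hg4.symm)) := by
      refine IsPullback.of_bot ?_ ?_ sqP
      · rw [pullback.lift_snd, pullback.lift_snd]; exact sq4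
      · apply pullback.hom_ext
        · simp [n, a4, Chart.GoodOpen.a3, Chart.aW, pullback.lift_fst]
          rfl
        · simp only [Category.assoc, pullback.lift_snd, pullback.lift_snd_assoc]
          exact sq4.w
    rw [hqeq]
    exact MorphismProperty.of_isPullback sqA C.openImm
  have : Etale (ιP ≫ q) := inferInstance
  have : Etale ιP := Etale.of_comp ιP q
  have : Mono ιP := mono_of_mono ιP q
  have hoi : IsOpenImmersion ιP := IsOpenImmersion.of_flat_of_mono ιP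
  have hfins : IsFinite s4 := inferInstanceAs (IsFinite (restr hinv).s)
  have hfint : IsFinite t4 := inferInstanceAs (IsFinite (restr hinv).t)
  obtain ⟨he', hi', cP, hcP⟩ := (Δ.compatMap.restr hinv).toRestrict
  refine ⟨G', φ, ⟨w3, hwD4⟩, hD4, inferInstanceAs (Etale g4), ?_, ?_, RestrAlong.isPullback_hom G g4,
    (G3.s ⁻¹ᵁ D4).toScheme, ιP, hoi, ⟨G4.e, he'⟩, ⟨G4.i, hi'⟩, ⟨cP, hcP⟩, ?_, ?_, ?_⟩
  · exact hgw
  · have h1 := isIso_residueFieldMap_open Δ.U3.ι (C.π ≫ C.g) w3 hiso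
    exact isIso_residueFieldMap_open D4.ι Δ.g3 ⟨w3, hwD4⟩ h1
  · show IsFinite (ιP ≫ RestrAlong.src G g4)
    rw [RestrAlong.mk_src]; exact hfins
  · show IsFinite (ιP ≫ RestrAlong.tgt G g4)
    rw [RestrAlong.mk_tgt]; exact hfint
  intro r' hs ht hr
  obtain ⟨z, hz1, hz2⟩ := hfill _ hr
  have hzs : Δ.s3 z = w3 := Subtype.ext hz1
  have hz4 : z ∈ G3.s ⁻¹ᵁ D4 := by show Δ.s3 z ∈ D4; rw [hzs]; exact hwD4
  let p : (G3.s ⁻¹ᵁ D4).toScheme := ⟨z, hz4⟩
  have hs4 : s4 p = ⟨w3, hwD4⟩ := Subtype.ext (by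
    simp only [s4, morphismRestrict_base]; exact hzs)
  have ht4 : t4 p = ⟨w3, hwD4⟩ := D4.ι.injective (by
    rw [← Scheme.Hom.comp_apply, restrT_ι]
    exact Subtype.ext (horb z hz1))
  have hiso4 : IsIso (g4.residueFieldMap ⟨w3, hwD4⟩) :=
    isIso_residueFieldMap_open D4.ι Δ.g3 ⟨w3, hwD4⟩ (isIso_residueFieldMap_open Δ.U3.ι (C.π ≫ C.g) w3 hiso)
  refine ⟨p, ?_⟩
  have hq : q (ιP p) = q r' := by
    have h1 : pullback.snd G.s g4 (q (ιP p)) = ⟨w3, hwD4⟩ := by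
      rw [← Scheme.Hom.comp_apply, pullback.lift_snd, ← Scheme.Hom.comp_apply, RestrAlong.mk_src, hs4]
    have h2 : pullback.snd G.s g4 (q r') = ⟨w3, hwD4⟩ := by
      rw [← Scheme.Hom.comp_apply, pullback.lift_snd]; exact hs
    have : IsIso (g4.residueFieldMap (pullback.snd G.s g4 (q (ιP p)))) := by rw [h1]; exact hiso4
    refine Unr55.pullback_eq_of_fst_eq_of_snd_eq (IsPullback.of_hasPullback G.s g4) _ _ ?_ (h1.trans h2.symm)
    rw [← Scheme.Hom.comp_apply q, ← Scheme.Hom.comp_apply q, pullback.lift_fst,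
      ← Scheme.Hom.comp_apply ιP, RestrAlong.mk_arr]
    exact hz2
  have h3 : RestrAlong.tgt G g4 (ιP p) = ⟨w3, hwD4⟩ := by
    rw [← Scheme.Hom.comp_apply, RestrAlong.mk_tgt, ht4]
  have : IsIso (g4.residueFieldMap (RestrAlong.tgt G g4 (ιP p))) := by rw [h3]; exact hiso4
  exact Unr55.pullback_eq_of_fst_eq_of_snd_eq sqq _ _ hq (h3.trans ht.symm)

end Groth.Agent.Grpd80
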