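import Groth.Agent.Grpd80.Basic
import Mathlib.AlgebraicGeometry.Morphisms.Flat
import Mathlib.AlgebraicGeometry.ResidueField

/-!
Points of the stabilizer, seen as arrows.
-/

set_option autoImplicit false
universe u
open CategoryTheory CategoryTheory.Limits AlgebraicGeometry

namespace Groth.Agent.Grpd80

/-- Morphisms out of a residue field agree iff they agree on one field valued point over it. -/
lemma comp_eq_iff_fromSpecResidueField {X Y : Scheme.{u}} (f g : X ⟶ Y) {K : Type u} [Field K]
    (a : Spec (.of K) ⟶ X) :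
    a ≫ f = a ≫ g ↔ X.fromSpecResidueField (a (IsLocalRing.closedPoint K)) ≫ f =
      X.fromSpecResidueField (a (IsLocalRing.closedPoint K)) ≫ g := by
  let φ := Scheme.descResidueField (Scheme.stalkClosedPointTo a)
  have h : Spec.map φ ≫ X.fromSpecResidueField (a (IsLocalRing.closedPoint K)) = a :=
    Scheme.descResidueField_stalkClosedPointTo_fromSpecResidueField K X a
  have : Flat (Spec.map φ) := by
    rw [Flat.SpecMap_iff]
    algebraize [φ.hom]
    exact RingHom.flat_algebraMap_iff.mpr inferInstance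
  have : Surjective (Spec.map φ) := ⟨fun x => ⟨IsLocalRing.closedPoint K, Subsingleton.elim _ _⟩⟩
  have : Epi (Spec.map φ) := Flat.epi_of_flat_of_surjective _
  have e : ∀ k : X ⟶ Y, Spec.map φ ≫ X.fromSpecResidueField (a (IsLocalRing.closedPoint K)) ≫ k =
      a ≫ k := fun k => ((Category.assoc _ _ _).symm.trans (congrArg (· ≫ k) h) :)
  constructor
  · intro hfg
    exact (cancel_epi (Spec.map φ)).mp (((e f).trans hfg).trans (e g).symm)
  · intro hfg
    exact ((e f).symm.trans (congrArg (Spec.map φ ≫ ·) hfg)).trans (e g)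

variable {S : Scheme.{u}} {G : Grpd.GroupoidScheme S}

/-- The arrows coming from the stabilizer. -/
def InStab (G : Grpd.GroupoidScheme S) (r : G.R) : Prop :=
  G.R.fromSpecResidueField r ≫ G.s = G.R.fromSpecResidueField r ≫ G.t

lemma inStab_iff {K : Type u} [Field K] (a : Spec (.of K) ⟶ G.R) {r : G.R}
    (h : a (IsLocalRing.closedPoint K) = r) : InStab G r ↔ a ≫ G.s = a ≫ G.t := by
  subst h; exact (comp_eq_iff_fromSpecResidueField G.s G.t a).symm

lemma diag_fst' : G.diag ≫ pullback.fst G.pU G.pU = 𝟙 G.U := pullback.lift_fst _ _ _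

lemma diag_snd' : G.diag ≫ pullback.snd G.pU G.pU = 𝟙 G.U := pullback.lift_snd _ _ _

lemma stab_fst_s : pullback.fst G.j G.diag ≫ G.s = G.stabilizerToU := by
  rw [← j_snd, ← Category.assoc, pullback.condition, Category.assoc, diag_snd']
  exact Category.comp_id _

lemma stab_fst_t : pullback.fst G.j G.diag ≫ G.t = G.stabilizerToU := by
  rw [← j_fst, ← Category.assoc, pullback.condition, Category.assoc, diag_fst']
  exact Category.comp_id _

/-- The arrows of the stabilizer over `u`. -/
def stabArrows (G : Grpd.GroupoidScheme S) (u : G.U) : Set G.R :=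
  {r | G.s r = u ∧ InStab G r}

lemma mem_stabArrows_of_stabilizer (g : G.stabilizer) (u : G.U) (hg : G.stabilizerToU g = u) :
    pullback.fst G.j G.diag g ∈ stabArrows G u := by
  refine ⟨(Scheme.Hom.comp_apply (pullback.fst G.j G.diag) G.s g).symm.trans
    ((congrArg (fun f : G.stabilizer ⟶ G.U => f g) stab_fst_s).trans hg), ?_⟩
  refine (inStab_iff ((pullback G.j G.diag).fromSpecResidueField g ≫ pullback.fst G.j G.diag)
    ((Scheme.Hom.comp_apply _ _ _).trans
      (congrArg (pullback.fst G.j G.diag) (Scheme.fromSpecResidueField_apply g _)))).mpr ?_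
  exact ((Category.assoc _ _ _).trans (congrArg (_ ≫ ·) stab_fst_s)).trans
    ((Category.assoc _ _ _).trans (congrArg (_ ≫ ·) stab_fst_t)).symm

lemma exists_stabilizer_of_mem {u : G.U} {r : G.R} (h : r ∈ stabArrows G u) :
    ∃ g : G.stabilizer, G.stabilizerToU g = u ∧ pullback.fst G.j G.diag g = r := by
  let a := G.R.fromSpecResidueField r
  have hw : a ≫ G.j = (a ≫ G.s) ≫ G.diag := by
    apply pullback.hom_ext
    · rw [Category.assoc, j_fst, Category.assoc, Grpd.GroupoidScheme.diag, pullback.lift_fst,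
        Category.comp_id]
      exact h.2.symm
    · rw [Category.assoc, j_snd, Category.assoc, Grpd.GroupoidScheme.diag, pullback.lift_snd,
        Category.comp_id]
  have hf : pullback.fst G.j G.diag (pullback.lift a (a ≫ G.s) hw (IsLocalRing.closedPoint _)) = r := by
    rw [← Scheme.Hom.comp_apply, pullback.lift_fst]
    exact Scheme.fromSpecResidueField_apply _ _
  refine ⟨_, ?_, hf⟩
  exact ((congrArg (fun f : G.stabilizer ⟶ G.U => f _) stab_fst_s).symm.trans
    (Scheme.Hom.comp_apply (pullback.fst G.j G.diag) G.s _)).trans ((congrArg G.s hf).trans h.1)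

lemma stabArrows_finite {u : G.U} (h : Set.Finite {g : G.stabilizer | G.stabilizerToU g = u}) :
    (stabArrows G u).Finite :=
  (h.image (pullback.fst G.j G.diag)).subset fun _ hr =>
    let ⟨g, hg, hgr⟩ := exists_stabilizer_of_mem hr
    ⟨g, hg, hgr⟩

lemma t_eq_of_mem_stabArrows {u : G.U} {r : G.R} (h : r ∈ stabArrows G u) : G.t r = u := by
  have := congrArg (fun f : Spec (G.R.residueField r) ⟶ G.U => f (IsLocalRing.closedPoint _)) h.2
  simp only [Scheme.Hom.comp_apply, Scheme.fromSpecResidueField_apply] at this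
  exact this.symm.trans h.1

lemma e_mem_stabArrows (u : G.U) : G.e u ∈ stabArrows G u := by
  refine ⟨by rw [← Scheme.Hom.comp_apply, G.e_s]; rfl, ?_⟩
  refine (inStab_iff (G.U.fromSpecResidueField u ≫ G.e) ((Scheme.Hom.comp_apply _ _ _).trans
      (congrArg G.e (Scheme.fromSpecResidueField_apply u _)))).mpr ?_
  exact ((Category.assoc _ _ _).trans (congrArg (_ ≫ ·) G.e_s)).trans
    ((Category.assoc _ _ _).trans (congrArg (_ ≫ ·) G.e_t)).symm

lemma fst_mem_stabArrows_iff {u : G.U} (z : ↥(pullback G.s G.t))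
    (hz : pullback.snd G.s G.t z ∈ stabArrows G u) :
    pullback.fst G.s G.t z ∈ stabArrows G u ↔ G.c z ∈ stabArrows G u := by
  let a := (pullback G.s G.t).fromSpecResidueField z
  have hp : ∀ {Y : Scheme.{u}} (f : pullback G.s G.t ⟶ Y),
      (a ≫ f) (IsLocalRing.closedPoint _) = f z := fun f => by
    rw [Scheme.Hom.comp_apply]; exact congrArg f (Scheme.fromSpecResidueField_apply _ _)
  have hb : (a ≫ pullback.snd _ _) ≫ G.s = (a ≫ pullback.snd _ _) ≫ G.t :=
    (inStab_iff _ (hp _)).mp hz.2
  have cs : G.c ≫ G.s = pullback.snd _ _ ≫ G.s := by rw [c_eq_mul G, mul_s]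
  have ct : G.c ≫ G.t = pullback.fst _ _ ≫ G.t := by rw [c_eq_mul G, mul_t]
  have h1 : G.s (pullback.fst G.s G.t z) = u := by
    rw [← Scheme.Hom.comp_apply, pullback.condition, Scheme.Hom.comp_apply,
      t_eq_of_mem_stabArrows hz]
  have h2 : G.s (G.c z) = u := by
    rw [← Scheme.Hom.comp_apply, cs, Scheme.Hom.comp_apply]; exact hz.1
  simp only [stabArrows, Set.mem_setOf_eq, h1, h2, true_and]
  refine (inStab_iff _ (hp _)).trans (Iff.trans ?_ (inStab_iff _ (hp G.c)).symm)
  have e1 : (a ≫ pullback.fst G.s G.t) ≫ G.s = (a ≫ pullback.snd G.s G.t) ≫ G.s :=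
    ((Category.assoc _ _ _).trans ((congrArg (a ≫ ·) pullback.condition).trans
      (Category.assoc _ _ _).symm)).trans hb.symm
  have e2 : (a ≫ G.c) ≫ G.s = (a ≫ pullback.snd G.s G.t) ≫ G.s :=
    (Category.assoc _ _ _).trans ((congrArg (a ≫ ·) cs).trans (Category.assoc _ _ _).symm)
  have e3 : (a ≫ G.c) ≫ G.t = (a ≫ pullback.fst G.s G.t) ≫ G.t :=
    (Category.assoc _ _ _).trans ((congrArg (a ≫ ·) ct).trans (Category.assoc _ _ _).symm)
  exact ⟨fun h => e2.trans (e1.symm.trans (h.trans e3.symm)),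
    fun h => e1.trans (e2.symm.trans (h.trans e3))⟩

end Groth.Agent.Grpd80
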