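import Groth.Agent.Grpd80.PairGrpd
import Groth.Agent.Grpd80.SheafQuot
import Groth.Agent.Grpd80.FiniteInAffine
import Mathlib.AlgebraicGeometry.Sites.Fpqc

set_option autoImplicit false
universe u
open CategoryTheory CategoryTheory.Limits AlgebraicGeometry TopologicalSpace

namespace Groth.Agent.Grpd80

variable {S : Scheme.{u}} {G : Grpd.GroupoidScheme S}

lemma point_ext [Mono G.j] {T : Scheme.{u}} {a b : T ⟶ G.R} (ht : a ≫ G.t = b ≫ G.t)
    (hs : a ≫ G.s = b ≫ G.s) : a = b :=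
  (cancel_mono G.j).mp (pullback.hom_ext (by simpa using ht) (by simpa using hs))

/-- The inverse of a composite. -/
lemma mul_i {T : Scheme.{u}} (α β : T ⟶ G.R) (h : α ≫ G.s = β ≫ G.t) :
    mul G α β h ≫ G.i = mul G (β ≫ G.i) (α ≫ G.i) (by simp [h]) := by
  set m := mul G α β h
  set n := mul G (β ≫ G.i) (α ≫ G.i) (by simp [h]) with hn
  have w1 : m ≫ G.s = n ≫ G.t := by simp [m, n]
  have w2 : (m ≫ G.i) ≫ G.s = m ≫ G.t := by simp
  have key : mul G m n w1 = α ≫ G.t ≫ G.e := by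
    have q : β ≫ G.s = (β ≫ G.i) ≫ G.t := by simp
    have q' : (β ≫ G.i) ≫ G.s = (α ≫ G.i) ≫ G.t := by simp [h]
    rw [mul_congr (α' := mul G α β h) (β' := n) w1 (by rw [mul_s]; simp [n]) rfl rfl,
      mul_assoc' α β n h (by simp [n]),
      mul_congr (α' := α) (β' := α ≫ G.i) _ (by simp) rfl ?_, mul_inv_right _ rfl]
    have e1 : mul G β (β ≫ G.i) q = β ≫ G.t ≫ G.e := mul_inv_right _ rfl
    rw [mul_congr (α' := β) (β' := n) _ (by simp [n]) rfl rfl, ← mul_assoc' β _ _ q q']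
    exact mul_unit_left _ (by rw [e1]; simp [reassoc_of% h])
  have w3 : (m ≫ G.i) ≫ G.s = m ≫ G.t := w2
  calc m ≫ G.i = mul G (m ≫ G.i) (α ≫ G.t ≫ G.e) (by simp [m]) :=
        (mul_unit_right _ (by simp [m])).symm
    _ = mul G (m ≫ G.i) (mul G m n w1) (by rw [mul_t]; exact w2) := mul_congr _ _ rfl key.symm
    _ = mul G (mul G (m ≫ G.i) m w2) n (by rw [mul_s]; exact w1) := (mul_assoc' _ _ _ w2 w1).symm
    _ = n := mul_unit_left _ (by rw [mul_inv_left _ rfl]; simp [m, n])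

lemma mul_assoc_simp {T : Scheme.{u}} (α β γ : T ⟶ G.R) (h₁ : α ≫ G.s = β ≫ G.t)
    (h₂ : mul G α β h₁ ≫ G.s = γ ≫ G.t) :
    mul G (mul G α β h₁) γ h₂ = mul G α (mul G β γ ((mul_s _ _ _).symm.trans h₂))
      (h₁.trans (mul_t _ _ _).symm) :=
  mul_assoc' α β γ h₁ _

/-- Morphisms along which we descend. -/
structure IsCover {T' T : Scheme.{u}} (c : T' ⟶ T) : Prop where
  fin : IsFinite c
  flat : Flat c
  surj : Surjective c

lemma IsCover.effectiveEpi {T' T : Scheme.{u}} {c : T' ⟶ T} (h : IsCover c) : EffectiveEpi c := by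
  have := h.fin; have := h.flat; have := h.surj
  infer_instance

lemma IsCover.comp {A B C : Scheme.{u}} {f : A ⟶ B} {g : B ⟶ C} (hf : IsCover f) (hg : IsCover g) :
    IsCover (f ≫ g) := by
  have := hf.fin; have := hf.flat; have := hf.surj
  have := hg.fin; have := hg.flat; have := hg.surj
  exact ⟨inferInstance, inferInstance, inferInstance⟩

lemma IsCover.exists_lift {A B T : Scheme.{u}} {f : A ⟶ B} (hf : IsCover f) (g : T ⟶ B) :
    ∃ (T' : Scheme.{u}) (c : T' ⟶ T) (r : T' ⟶ A), IsCover c ∧ r ≫ f = c ≫ g := by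
  have := hf.fin; have := hf.flat; have := hf.surj
  exact ⟨pullback g f, pullback.fst g f, pullback.snd g f,
    ⟨inferInstance, inferInstance, inferInstance⟩, pullback.condition.symm⟩

lemma IsCover.cancel {A B C : Scheme.{u}} {f : A ⟶ B} (hf : IsCover f) {a b : B ⟶ C}
    (h : f ≫ a = f ≫ b) : a = b := by
  have := hf.effectiveEpi
  exact (cancel_epi f).mp h

namespace Sub

variable (H : Sub G)

instance [IsFinite (H.ι ≫ G.s)] : IsFinite H.toGrpd.s := inferInstanceAs (IsFinite (H.ι ≫ G.s))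
instance [Flat (H.ι ≫ G.s)] : Flat H.toGrpd.s := inferInstanceAs (Flat (H.ι ≫ G.s))
instance [LocallyOfFinitePresentation (H.ι ≫ G.s)] : LocallyOfFinitePresentation H.toGrpd.s :=
  inferInstanceAs (LocallyOfFinitePresentation (H.ι ≫ G.s))

lemma toGrpd_j : H.toGrpd.j = H.ι ≫ G.j := by
  refine pullback.hom_ext (C := Scheme.{u}) (f := G.pU) (g := G.pU) (W := H.P) ?_ ?_
  · exact (j_fst H.toGrpd).trans ((Category.assoc _ _ _).trans (congrArg (H.ι ≫ ·) (j_fst G))).symm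
  · exact (j_snd H.toGrpd).trans ((Category.assoc _ _ _).trans (congrArg (H.ι ≫ ·) (j_snd G))).symm

lemma toGrpd_mono_j [Mono (H.ι ≫ G.j)] : Mono H.toGrpd.j := by
  rw [toGrpd_j]; exact ‹Mono (H.ι ≫ G.j)›

lemma mem_ext [Mono (H.ι ≫ G.j)] {T : Scheme.{u}} {α β : T ⟶ G.R} (hα : H.Mem α) (hβ : H.Mem β)
    (ht : α ≫ G.t = β ≫ G.t) (hs : α ≫ G.s = β ≫ G.s) : α = β := by
  obtain ⟨a, rfl⟩ := hα
  obtain ⟨b, rfl⟩ := hβ
  congr 1
  refine (cancel_mono (H.ι ≫ G.j)).mp (pullback.hom_ext ?_ ?_)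
  · simpa [Category.assoc] using ht
  · simpa [Category.assoc] using hs

instance [IsFinite (H.ι ≫ G.s)] [IsFinite (H.ι ≫ G.t)] : IsFinite H.triGrpd.s :=
  inferInstanceAs (IsFinite (pullback.fst _ _ ≫ pullback.snd (H.ι ≫ G.s) G.t))
instance [Flat (H.ι ≫ G.s)] [Flat (H.ι ≫ G.t)] : Flat H.triGrpd.s :=
  inferInstanceAs (Flat (pullback.fst _ _ ≫ pullback.snd (H.ι ≫ G.s) G.t))
instance [LocallyOfFinitePresentation (H.ι ≫ G.s)] [LocallyOfFinitePresentation (H.ι ≫ G.t)] :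
    LocallyOfFinitePresentation H.triGrpd.s :=
  inferInstanceAs (LocallyOfFinitePresentation (pullback.fst _ _ ≫ pullback.snd (H.ι ≫ G.s) G.t))

lemma triGrpd_mono_j [Mono (H.ι ≫ G.j)] : Mono H.triGrpd.j := by
  suffices H' : ∀ {T : Scheme.{u}} (f g : T ⟶ H.tri), f ≫ H.xr = g ≫ H.xr → f ≫ H.act = g ≫ H.act → f = g by
    refine ⟨fun f g h => H' f g ?_ ?_⟩
    · have := congrArg (· ≫ pullback.snd _ _) h
      exact show f ≫ H.triGrpd.s = g ≫ H.triGrpd.s by simpa using this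
    · have := congrArg (· ≫ pullback.fst _ _) h
      exact show f ≫ H.triGrpd.t = g ≫ H.triGrpd.t by simpa using this
  intro T f g hx ha
  refine tri_ext (H.mem_ext (H.tri_mem_a.comp f) (H.tri_mem_a.comp g) ?_ ?_) hx
    (H.mem_ext (H.tri_mem_b.comp f) (H.tri_mem_b.comp g) ?_ ?_)
  · rw [Category.assoc, Category.assoc, ← H.act_t, reassoc_of% ha]
  · rw [Category.assoc, Category.assoc, H.tri_w₁, reassoc_of% hx]
  · rw [Category.assoc, Category.assoc, ← H.tri_w₂, reassoc_of% hx]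
  · rw [Category.assoc, Category.assoc, ← H.act_s, reassoc_of% ha]

end Sub

/-- The restriction of a groupoid scheme to the quotient by a finite locally free subgroupoid. -/
theorem exists_restriction (H : Sub G) [IsAffine G.U] [IsSeparated G.j] [LocallyQuasiFinite G.j]
    [LocallyOfFiniteType G.j] [IsFinite (H.ι ≫ G.s)] [Flat (H.ι ≫ G.s)]
    [LocallyOfFinitePresentation (H.ι ≫ G.s)] [IsFinite (H.ι ≫ G.t)] [Flat (H.ι ≫ G.t)]
    [LocallyOfFinitePresentation (H.ι ≫ G.t)] [Mono (H.ι ≫ G.j)] :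
    ∃ (K : Grpd.GroupoidScheme S) (φ : Grpd.GroupoidScheme.Hom G K),
      IsAffine K.U ∧
      QuotSh.IsQuotient Scheme.fppfPrecoverage
        (Over.homMk (H.ι ≫ G.s) ((Category.assoc _ _ _).trans (congrArg (H.ι ≫ ·) G.s_over)) :
          (Over.mk (H.ι ≫ G.pR) : Over S) ⟶ Over.mk G.pU)
        (Over.homMk (H.ι ≫ G.t) ((Category.assoc _ _ _).trans (congrArg (H.ι ≫ ·) G.t_over)) :
          (Over.mk (H.ι ≫ G.pR) : Over S) ⟶ Over.mk G.pU)
        (Over.homMk φ.fU φ.fU_over : Over.mk G.pU ⟶ Over.mk K.pU) ∧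
      IsFinite φ.fU ∧ Flat φ.fU ∧ LocallyOfFinitePresentation φ.fU ∧
      IsPullback (H.ι ≫ G.t) (H.ι ≫ G.s) φ.fU φ.fU ∧
      IsPullback φ.fR G.j K.j
        (pullback.map G.pU G.pU K.pU K.pU φ.fU φ.fU (𝟙 S)
          ((Category.comp_id _).trans φ.fU_over.symm) ((Category.comp_id _).trans φ.fU_over.symm)) := by
  classical
  have := H.toGrpd_mono_j
  have := H.triGrpd_mono_j
  have : IsAffine H.toGrpd.U := ‹IsAffine G.U›
  obtain ⟨M, m, ⟨iq1, iq2, iq3, iq4⟩, sq, hquot, haff, hq⟩ :=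
    exists_sheafQuot (G := H.toGrpd) fun x => ⟨⊤, isAffineOpen_top _, fun _ _ => trivial⟩
  let q : G.U ⟶ M.left := m.left
  have sq : IsPullback (H.ι ≫ G.t) (H.ι ≫ G.s) q q := sq
  have hqS : q ≫ M.hom = G.pU := Over.w m
  -- finite sets of arrows lie in affine opens
  let g : G.R ⟶ pullback (terminal.from G.U) (terminal.from G.U) :=
    G.j ≫ pullback.lift (pullback.fst G.pU G.pU) (pullback.snd G.pU G.pU) (terminal.hom_ext _ _)
  have : IsImmersion (pullback.lift (pullback.fst G.pU G.pU) (pullback.snd G.pU G.pU)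
      (terminal.hom_ext _ _) : pullback G.pU G.pU ⟶ pullback (terminal.from G.U) (terminal.from G.U)) := by
    have e : (pullback.lift (pullback.fst G.pU G.pU) (pullback.snd G.pU G.pU)
        (terminal.hom_ext _ _) : pullback G.pU G.pU ⟶ pullback (terminal.from G.U) (terminal.from G.U)) =
        pullback.mapDesc G.pU G.pU (terminal.from S) ≫
          (pullback.congrHom (terminal.hom_ext _ _) (terminal.hom_ext _ _)).hom := by
      apply pullback.hom_ext <;> simp [pullback.congrHom, pullback.lift_fst, pullback.lift_snd, pullback.mapDesc]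
    rw [e]; infer_instance
  obtain ⟨Rb, π₀, hπ⟩ := exists_niceQuot H.triGrpd fun r => by
    obtain ⟨V, hV, hTV⟩ := exists_affine_of_lqf g (finite_orbit (G := H.triGrpd) r)
    exact ⟨V, hV, fun x hx => hTV ⟨x, hx, rfl⟩⟩
  obtain ⟨sqX, ip1, ip2, ip3⟩ := hπ.mono inferInstance
  let π : G.R ⟶ Rb := π₀
  have sqX : IsPullback H.act H.xr π π := sqX
  have cπ : IsCover π := ⟨ip1, ip2, hπ.surj⟩
  have hdesc : ∀ {Z : Scheme.{u}} (f : G.R ⟶ Z), H.act ≫ f = H.xr ≫ f → ∃ g : Rb ⟶ Z, π ≫ g = f :=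
    fun f hf => (hπ.desc f hf).exists
  have hPq : ∀ {T : Scheme.{u}} {α : T ⟶ G.R}, H.Mem α → α ≫ G.t ≫ q = α ≫ G.s ≫ q := by
    rintro T _ ⟨a, rfl⟩
    simpa [Category.assoc] using congrArg (a ≫ ·) sq.w
  have hactπ : ∀ {T : Scheme.{u}} (z : T ⟶ H.tri), z ≫ H.act ≫ π = z ≫ H.xr ≫ π :=
    fun z => congrArg (z ≫ ·) sqX.w
  -- source, target, structure map
  obtain ⟨sb, hsb⟩ := hdesc (G.s ≫ q) (by
    rw [H.act_s_assoc, ← hPq H.tri_mem_b, ← reassoc_of% H.tri_w₂])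
  obtain ⟨tb, htb⟩ := hdesc (G.t ≫ q) (by
    rw [H.act_t_assoc, hPq H.tri_mem_a, reassoc_of% H.tri_w₁])
  obtain ⟨eb, heb, -⟩ := hq.desc (G.e ≫ π) (by
    change (H.ι ≫ G.t) ≫ G.e ≫ π = (H.ι ≫ G.s) ≫ G.e ≫ π
    have h1 : H.ι ≫ G.s = ((H.ι ≫ G.s) ≫ G.e) ≫ G.t := by simp
    have hι : H.Mem H.ι := ⟨𝟙 _, Category.id_comp _⟩
    let z := Sub.mkTri (H := H) (α := H.ι) (ρ := (H.ι ≫ G.s) ≫ G.e) (β := H.ι ≫ G.i) hι hι.inv
      h1 (by simp)
    have e : z ≫ H.act = (H.ι ≫ G.t) ≫ G.e := by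
      rw [Sub.comp_act]
      rw [mul_congr (α' := H.ι) (β' := H.ι ≫ G.i) _ (by simp) ((mul_congr _ h1 (Sub.mkTri_xa ..)
        (Sub.mkTri_xr ..)).trans (mul_unit_right _ (by simp))) (Sub.mkTri_xb ..), mul_inv_right _ rfl]
      simp
    have := hactπ z
    rw [← Category.assoc, e, Sub.mkTri_xr_assoc] at this
    simpa using this)
  have heb : q ≫ eb = G.e ≫ π := heb
  obtain ⟨ib, hib⟩ := hdesc (G.i ≫ π) (by
    let z := Sub.mkTri (H := H) (α := H.xb ≫ G.i) (ρ := H.xr ≫ G.i) (β := H.xa ≫ G.i)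
      H.tri_mem_b.inv H.tri_mem_a.inv (by simp [H.tri_w₂]) (by simp [H.tri_w₁])
    have e : z ≫ H.act = H.act ≫ G.i := by
      rw [Sub.comp_act]
      conv_rhs => rw [Sub.act, mul_i]
      have w1 : (H.xb ≫ G.i) ≫ G.s = (H.xr ≫ G.i) ≫ G.t := by simp [H.tri_w₂]
      have w2 : (H.xr ≫ G.i) ≫ G.s = (H.xa ≫ G.i) ≫ G.t := by simp [H.tri_w₁]
      exact (mul_congr _ (by rw [mul_s]; exact w2) (mul_congr _ w1 (Sub.mkTri_xa ..) (Sub.mkTri_xr ..))
        (Sub.mkTri_xb ..)).trans ((mul_assoc' _ _ _ w1 w2).trans (mul_congr _ _ rfl (mul_i _ _ _).symm))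
    have := hactπ z
    rw [← Category.assoc, e, Sub.mkTri_xr_assoc] at this
    simpa using this)
  -- composites of classes
  have hsp : ∀ {T : Scheme.{u}} {r₁ r₂ : T ⟶ G.R}, r₁ ≫ π ≫ sb = r₂ ≫ π ≫ tb →
      ∃ p : T ⟶ G.R, H.Mem p ∧ p ≫ G.t = r₁ ≫ G.s ∧ p ≫ G.s = r₂ ≫ G.t := by
    intro T r₁ r₂ h
    rw [hsb, htb] at h
    have h' : (r₁ ≫ G.s) ≫ q = (r₂ ≫ G.t) ≫ q := by simpa using h
    exact ⟨sq.lift _ _ h' ≫ H.ι, Sub.mem_ι _, by rw [Category.assoc, sq.lift_fst],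
      by rw [Category.assoc, sq.lift_snd]⟩
  have htri : ∀ {T : Scheme.{u}} {r r' : T ⟶ G.R}, r ≫ π = r' ≫ π →
      ∃ z : T ⟶ H.tri, z ≫ H.xr = r ∧ z ≫ H.act = r' := fun h =>
    ⟨sqX.lift _ _ h.symm, sqX.lift_snd _ _ _, sqX.lift_fst _ _ _⟩
  have hwd : ∀ {T : Scheme.{u}} {r₁ r₂ r₁' r₂' p p' : T ⟶ G.R} (_ : H.Mem p) (_ : H.Mem p')
      (h₁ : r₁ ≫ G.s = p ≫ G.t) (h₂ : p ≫ G.s = r₂ ≫ G.t)
      (h₁' : r₁' ≫ G.s = p' ≫ G.t) (h₂' : p' ≫ G.s = r₂' ≫ G.t),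
      r₁ ≫ π = r₁' ≫ π → r₂ ≫ π = r₂' ≫ π →
      mul G (mul G r₁ p h₁) r₂ (by rw [mul_s, h₂]) ≫ π =
        mul G (mul G r₁' p' h₁') r₂' (by rw [mul_s, h₂']) ≫ π := by
    intro T r₁ r₂ r₁' r₂' p p' hp hp' h₁ h₂ h₁' h₂' e₁ e₂
    obtain ⟨z₁, z₁r, z₁a⟩ := htri e₁
    obtain ⟨z₂, z₂r, z₂a⟩ := htri e₂
    set a₁ := z₁ ≫ H.xa
    set b₁ := z₁ ≫ H.xb
    set a₂ := z₂ ≫ H.xa
    set b₂ := z₂ ≫ H.xb
    have u₁ : a₁ ≫ G.s = r₁ ≫ G.t := by simp only [a₁, ← z₁r, Category.assoc, H.tri_w₁]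
    have v₁ : r₁ ≫ G.s = b₁ ≫ G.t := by simp only [b₁, ← z₁r, Category.assoc, H.tri_w₂]
    have u₂ : a₂ ≫ G.s = r₂ ≫ G.t := by simp only [a₂, ← z₂r, Category.assoc, H.tri_w₁]
    have v₂ : r₂ ≫ G.s = b₂ ≫ G.t := by simp only [b₂, ← z₂r, Category.assoc, H.tri_w₂]
    have hr₁' : r₁' = mul G (mul G a₁ r₁ u₁) b₁ (by rw [mul_s, v₁]) := by
      rw [← z₁a, Sub.comp_act]; exact mul_congr _ _ (mul_congr _ _ rfl z₁r) rfl
    have hr₂' : r₂' = mul G (mul G a₂ r₂ u₂) b₂ (by rw [mul_s, v₂]) := by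
      rw [← z₂a, Sub.comp_act]; exact mul_congr _ _ (mul_congr _ _ rfl z₂r) rfl
    have w₁ : b₁ ≫ G.s = p' ≫ G.t := by rw [← h₁', hr₁', mul_s]
    have w₂ : p' ≫ G.s = a₂ ≫ G.t := by rw [h₂', hr₂', mul_t, mul_t]
    have hmid : p = mul G (mul G b₁ p' w₁) a₂ (by rw [mul_s, w₂]) :=
      H.mem_ext hp (((H.tri_mem_b.comp z₁).mul _ hp').mul _ (H.tri_mem_a.comp z₂))
        (by rw [mul_t, mul_t, ← h₁, v₁]) (by rw [mul_s, u₂, h₂])
    have wA : a₁ ≫ G.s = mul G (mul G r₁ p h₁) r₂ (by rw [mul_s, h₂]) ≫ G.t := by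
      rw [mul_t, mul_t, u₁]
    have wB : mul G (mul G r₁ p h₁) r₂ (by rw [mul_s, h₂]) ≫ G.s = b₂ ≫ G.t := by
      rw [mul_s, v₂]
    let z := Sub.mkTri (H := H) (H.tri_mem_a.comp z₁) (H.tri_mem_b.comp z₂) wA wB
    have hz : z ≫ H.act = mul G (mul G r₁' p' h₁') r₂' (by rw [mul_s, h₂']) := by
      rw [Sub.comp_act]
      refine (mul_congr _ (by rw [mul_s, wB]) (mul_congr _ wA (Sub.mkTri_xa ..) (Sub.mkTri_xr ..))
        (Sub.mkTri_xb ..)).trans ?_
      subst hr₁' hr₂' hmid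
      simp only [mul_assoc_simp]
      rfl
    have := hactπ z
    rw [← Category.assoc, hz, Sub.mkTri_xr_assoc] at this
    exact this.symm
  -- composition downstairs
  obtain ⟨cb, hcb⟩ : ∃ cb : pullback sb tb ⟶ Rb, ∀ {T : Scheme.{u}} (α β : T ⟶ Rb)
      (h : α ≫ sb = β ≫ tb) (r₁ r₂ p : T ⟶ G.R), H.Mem p → ∀ (h₁ : r₁ ≫ G.s = p ≫ G.t)
      (h₂ : p ≫ G.s = r₂ ≫ G.t), r₁ ≫ π = α → r₂ ≫ π = β →
      pullback.lift α β h ≫ cb = mul G (mul G r₁ p h₁) r₂ (by rw [mul_s, h₂]) ≫ π := by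
    obtain ⟨T₁, c₁, ρ₁, hc₁, e₁⟩ := cπ.exists_lift (pullback.fst sb tb)
    obtain ⟨T₂, c₂, ρ₂, hc₂, e₂⟩ := cπ.exists_lift (c₁ ≫ pullback.snd sb tb)
    have hcov := hc₂.comp hc₁
    obtain ⟨p₀, hp₀, hp₀t, hp₀s⟩ := hsp (r₁ := c₂ ≫ ρ₁) (r₂ := ρ₂) (by
      rw [Category.assoc, reassoc_of% e₁, reassoc_of% e₂, pullback.condition])
    have := hcov.effectiveEpi
    let κ := mul G (mul G (c₂ ≫ ρ₁) p₀ hp₀t.symm) ρ₂ (by rw [mul_s, hp₀s]) ≫ π
    have hκ : ∀ {Z : Scheme.{u}} (g₁ g₂ : Z ⟶ T₂), g₁ ≫ c₂ ≫ c₁ = g₂ ≫ c₂ ≫ c₁ →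
        g₁ ≫ κ = g₂ ≫ κ := by
      intro Z g₁ g₂ hg
      have expand : ∀ g : Z ⟶ T₂, g ≫ κ = mul G (mul G (g ≫ c₂ ≫ ρ₁) (g ≫ p₀)
          (by simp [hp₀t])) (g ≫ ρ₂) (by simp [hp₀s]) ≫ π := fun g => by
        simp only [κ, ← Category.assoc, comp_mul]
      rw [expand, expand]
      refine hwd (hp₀.comp g₁) (hp₀.comp g₂) _ (by simp [hp₀s]) _ (by simp [hp₀s]) ?_ ?_
      · simp only [Category.assoc, e₁, reassoc_of% hg]
      · simp only [Category.assoc, e₂, reassoc_of% hg]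
    refine ⟨EffectiveEpi.desc (c₂ ≫ c₁) κ hκ, ?_⟩
    intro T α β h r₁ r₂ p hp h₁ h₂ hr₁ hr₂
    obtain ⟨T', c, g, hc, hg⟩ := hcov.exists_lift (pullback.lift α β h)
    refine hc.cancel ?_
    rw [← reassoc_of% hg, ← Category.assoc c₂ c₁, EffectiveEpi.fac]
    simp only [κ, ← Category.assoc, comp_mul]
    refine hwd (hp₀.comp g) (hp.comp c) _ (by simp [hp₀s]) _ (by simp [h₂]) ?_ ?_
    · simp only [Category.assoc, e₁, reassoc_of% hg, pullback.lift_fst, hr₁]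
    · simp only [Category.assoc, e₂, reassoc_of% hg, pullback.lift_snd, hr₂]
  have hlift : ∀ {T : Scheme.{u}} (α : T ⟶ Rb), ∃ (T' : Scheme.{u}) (c : T' ⟶ T) (r : T' ⟶ G.R),
      IsCover c ∧ r ≫ π = c ≫ α := fun α => cπ.exists_lift α
  have compose : ∀ {T' T : Scheme.{u}} (c : T' ⟶ T) (α β : T ⟶ Rb) (h : α ≫ sb = β ≫ tb),
      c ≫ pullback.lift α β h = pullback.lift (c ≫ α) (c ≫ β) (by simp [h]) := fun c α β h => by
    apply pullback.hom_ext <;> simp [pullback.lift_fst, pullback.lift_snd]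
  -- evaluate on any pair of lifts
  have ev : ∀ {T' T : Scheme.{u}} (c : T' ⟶ T) (α β : T ⟶ Rb) (h : α ≫ sb = β ≫ tb)
      (r₁ r₂ : T' ⟶ G.R), r₁ ≫ π = c ≫ α → r₂ ≫ π = c ≫ β →
      ∃ (p : T' ⟶ G.R) (h₁ : r₁ ≫ G.s = p ≫ G.t) (h₂ : p ≫ G.s = r₂ ≫ G.t), H.Mem p ∧
        c ≫ pullback.lift α β h ≫ cb = mul G (mul G r₁ p h₁) r₂ (by rw [mul_s, h₂]) ≫ π := by
    intro T' T c α β h r₁ r₂ e₁ e₂
    obtain ⟨p, hp, hpt, hps⟩ := hsp (r₁ := r₁) (r₂ := r₂) (by
      rw [reassoc_of% e₁, reassoc_of% e₂, h])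
    refine ⟨p, hpt.symm, hps, hp, ?_⟩
    rw [← Category.assoc, compose]
    exact hcb _ _ _ r₁ r₂ p hp hpt.symm hps e₁ e₂
  let K : Grpd.GroupoidScheme S :=
    { U := M.left
      R := Rb
      pU := M.hom
      pR := sb ≫ M.hom
      s := sb
      t := tb
      e := eb
      i := ib
      c := cb
      s_over := rfl
      t_over := cπ.cancel (by
        rw [reassoc_of% htb, reassoc_of% hsb, hqS, G.t_over, G.s_over])
      comp_s := fun α β h => by
        obtain ⟨T', c, r₁, hc, e₁⟩ := hlift α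
        obtain ⟨T'', c', r₂, hc', e₂⟩ := hlift (c ≫ β)
        refine (hc'.comp hc).cancel ?_
        obtain ⟨p, h₁, h₂, -, e⟩ := ev (c' ≫ c) α β h (c' ≫ r₁) r₂
          (by simp [e₁]) (by simp [e₂])
        rw [← Category.assoc, e, Category.assoc, hsb, ← Category.assoc, mul_s, Category.assoc, ← hsb,
          reassoc_of% e₂, Category.assoc]
      comp_t := fun α β h => by
        obtain ⟨T', c, r₁, hc, e₁⟩ := hlift α
        obtain ⟨T'', c', r₂, hc', e₂⟩ := hlift (c ≫ β)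
        refine (hc'.comp hc).cancel ?_
        obtain ⟨p, h₁, h₂, -, e⟩ := ev (c' ≫ c) α β h (c' ≫ r₁) r₂
          (by simp [e₁]) (by simp [e₂])
        rw [← Category.assoc, e, Category.assoc, htb, ← Category.assoc, mul_t, mul_t,
          Category.assoc, Category.assoc, ← htb, reassoc_of% e₁, Category.assoc]
      assoc := fun α β γ h₁ h₂ => by
        obtain ⟨T₁, c₁, ρ₁, hc₁, e₁⟩ := hlift α
        obtain ⟨T₂, c₂, ρ₂, hc₂, e₂⟩ := hlift (c₁ ≫ β)
        obtain ⟨T₃, c₃, r₃, hc₃, e₃⟩ := hlift (c₂ ≫ c₁ ≫ γ)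
        refine (hc₃.comp (hc₂.comp hc₁)).cancel ?_
        set c := c₃ ≫ c₂ ≫ c₁
        have e₁' : (c₃ ≫ c₂ ≫ ρ₁) ≫ π = c ≫ α := by simp [c, e₁]
        have e₂' : (c₃ ≫ ρ₂) ≫ π = c ≫ β := by simp [c, e₂]
        have e₃' : r₃ ≫ π = c ≫ γ := by simp [c, e₃]
        obtain ⟨p, a1, a2, hp, ep⟩ := ev c α β h₁ _ _ e₁' e₂'
        obtain ⟨p', b1, b2, hp', ep'⟩ := ev c β γ h₂ _ _ e₂' e₃'
        rw [← Category.assoc c, ← Category.assoc c, compose, compose]
        rw [hcb _ _ _ _ r₃ p' hp' (by rw [mul_s]; exact b1) b2 ep.symm e₃',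
          hcb _ _ _ _ _ p hp a1 (by rw [mul_t, mul_t]; exact a2) e₁' ep'.symm]
        simp only [mul_assoc_simp]
      e_s := hq.desc q sq.w |>.unique (y₁ := eb ≫ sb) (y₂ := 𝟙 _)
        (show q ≫ eb ≫ sb = q by rw [reassoc_of% heb, hsb, e_s'_assoc]) (Category.comp_id _)
      e_t := hq.desc q sq.w |>.unique (y₁ := eb ≫ tb) (y₂ := 𝟙 _)
        (show q ≫ eb ≫ tb = q by rw [reassoc_of% heb, htb, e_t'_assoc]) (Category.comp_id _)
      comp_e := fun α => by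
        obtain ⟨T', c, r, hc, e⟩ := hlift α
        refine hc.cancel ?_
        rw [← Category.assoc, compose, hcb _ _ _ r (r ≫ G.s ≫ G.e) (r ≫ G.s ≫ G.e)
          (by rw [← Category.assoc]; exact Sub.mem_unit _) (by simp) (by simp) e (by
            rw [Category.assoc, Category.assoc, ← heb, ← reassoc_of% hsb, reassoc_of% e])]
        rw [mul_unit_right _ (by rw [mul_unit_right _ rfl]), mul_unit_right _ rfl, e]
      e_comp := fun α => by
        obtain ⟨T', c, r, hc, e⟩ := hlift α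
        refine hc.cancel ?_
        rw [← Category.assoc, compose, hcb _ _ _ (r ≫ G.t ≫ G.e) r (r ≫ G.t ≫ G.e)
          (by rw [← Category.assoc]; exact Sub.mem_unit _) (by simp) (by simp) (by
            rw [Category.assoc, Category.assoc, ← heb, ← reassoc_of% htb, reassoc_of% e]) e]
        rw [mul_unit_left _ (mul_unit_right _ (by simp)), e]
      i_s := cπ.cancel (by rw [reassoc_of% hib, hsb, i_s'_assoc, htb])
      i_t := cπ.cancel (by rw [reassoc_of% hib, htb, i_t'_assoc, hsb])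
      comp_i := fun α => by
        obtain ⟨T', c, r, hc, e⟩ := hlift α
        refine hc.cancel ?_
        rw [← Category.assoc, compose, hcb _ _ _ r (r ≫ G.i) (r ≫ G.s ≫ G.e)
          (by rw [← Category.assoc]; exact Sub.mem_unit _) (by simp) (by simp) e (by
            rw [Category.assoc, ← hib, reassoc_of% e])]
        rw [mul_congr (α' := r) (β' := r ≫ G.i) _ (by simp) (mul_unit_right _ rfl) rfl,
          mul_inv_right _ rfl, ← reassoc_of% e, reassoc_of% htb, heb, Category.assoc, Category.assoc]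
      i_comp := fun α => by
        obtain ⟨T', c, r, hc, e⟩ := hlift α
        refine hc.cancel ?_
        rw [← Category.assoc, compose, hcb _ _ _ (r ≫ G.i) r (r ≫ G.t ≫ G.e)
          (by rw [← Category.assoc]; exact Sub.mem_unit _) (by simp) (by simp) (by
            rw [Category.assoc, ← hib, reassoc_of% e]) e]
        rw [mul_congr (α' := r ≫ G.i) (β' := r) _ (by simp) (mul_unit_right _ (by simp)) rfl,
          mul_inv_left _ rfl, ← reassoc_of% e, reassoc_of% hsb, heb, Category.assoc, Category.assoc] }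
  let φ : Grpd.GroupoidScheme.Hom G K :=
    { fU := q
      fR := π
      fU_over := hqS
      comm_s := hsb
      comm_t := htb
      comm_c := fun α β h => by
        rw [hcb _ _ _ α β (α ≫ G.s ≫ G.e) (by rw [← Category.assoc]; exact Sub.mem_unit _)
          (by simp) (by simp [h]) rfl rfl]
        congr 1
        rw [c_eq_mul G, comp_mul]
        · exact (mul_congr _ h (pullback.lift_fst _ _ _) (pullback.lift_snd _ _ _)).trans
            (mul_congr h _ (mul_unit_right (β := α ≫ G.s ≫ G.e) (by simp) (by simp)).symm rfl) }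
  refine ⟨K, φ, haff inferInstance, hquot, iq1, iq2, iq3, sq, ?_⟩
  let mp := pullback.map G.pU G.pU K.pU K.pU φ.fU φ.fU (𝟙 S)
    ((Category.comp_id _).trans φ.fU_over.symm) ((Category.comp_id _).trans φ.fU_over.symm)
  have hj1 : ∀ {T : Scheme.{u}} (r : T ⟶ G.R), r ≫ G.j ≫ pullback.fst _ _ = r ≫ G.t := fun r => by simp
  have hw : π ≫ K.j = G.j ≫ mp := by
    apply pullback.hom_ext
    · rw [Category.assoc, Category.assoc, j_fst, show mp ≫ pullback.fst _ _ = pullback.fst _ _ ≫ q from pullback.lift_fst _ _ _, j_fst_assoc]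
      exact htb
    · rw [Category.assoc, Category.assoc, j_snd, show mp ≫ pullback.snd _ _ = pullback.snd _ _ ≫ q from pullback.lift_snd _ _ _, j_snd_assoc]
      exact hsb
  have huniq : ∀ {T : Scheme.{u}} (r r' : T ⟶ G.R), r ≫ π = r' ≫ π → r ≫ G.j = r' ≫ G.j → r = r' := by
    intro T r r' h1 h2
    have ht : r ≫ G.t = r' ≫ G.t := by simpa using congrArg (· ≫ pullback.fst _ _) h2
    have hs : r ≫ G.s = r' ≫ G.s := by simpa using congrArg (· ≫ pullback.snd _ _) h2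
    obtain ⟨z, zr, za⟩ := htri h1
    have hva : z ≫ H.xa = (r ≫ G.t) ≫ G.e := H.mem_ext (H.tri_mem_a.comp z) (Sub.mem_unit _)
      (by rw [Category.assoc, ← H.act_t, reassoc_of% za, ← ht]; simp)
      (by rw [Category.assoc, H.tri_w₁, reassoc_of% zr]; simp)
    have hvb : z ≫ H.xb = (r ≫ G.s) ≫ G.e := H.mem_ext (H.tri_mem_b.comp z) (Sub.mem_unit _)
      (by rw [Category.assoc, ← H.tri_w₂, reassoc_of% zr]; simp)
      (by rw [Category.assoc, ← H.act_s, reassoc_of% za, ← hs]; simp)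
    rw [← za, Sub.comp_act]
    exact ((mul_congr _ (by simp) ((mul_congr _ (by simp) hva zr).trans (mul_unit_left _ (by simp)))
      hvb).trans (mul_unit_right _ (by simp))).symm
  have hex : ∀ {T : Scheme.{u}} (f : T ⟶ Rb) (g : T ⟶ pullback G.pU G.pU), f ≫ K.j = g ≫ mp →
      ∃ r : T ⟶ G.R, r ≫ π = f ∧ r ≫ G.j = g := by
    intro T f g hfg
    have hx : (g ≫ pullback.fst _ _) ≫ q = f ≫ tb := by
      have := congrArg (· ≫ pullback.fst _ _) hfg
      simpa [mp, pullback.map, pullback.lift_fst, Grpd.GroupoidScheme.j, K, φ] using this.symm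
    have hy : (g ≫ pullback.snd _ _) ≫ q = f ≫ sb := by
      have := congrArg (· ≫ pullback.snd _ _) hfg
      simpa [mp, pullback.map, pullback.lift_snd, Grpd.GroupoidScheme.j, K, φ] using this.symm
    obtain ⟨T', c, r₀, hc, e⟩ := hlift f
    have h1 : (c ≫ g ≫ pullback.fst _ _) ≫ q = (r₀ ≫ G.t) ≫ q := by
      rw [Category.assoc, hx, Category.assoc, ← htb, reassoc_of% e]
    have h2 : (r₀ ≫ G.s) ≫ q = (c ≫ g ≫ pullback.snd _ _) ≫ q := by
      rw [Category.assoc, Category.assoc, hy, ← hsb, reassoc_of% e]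
    let z := Sub.mkTri (H := H) (α := sq.lift _ _ h1 ≫ H.ι) (ρ := r₀) (β := sq.lift _ _ h2 ≫ H.ι)
      (Sub.mem_ι _) (Sub.mem_ι _) (by rw [Category.assoc, sq.lift_snd])
      (by rw [Category.assoc, sq.lift_fst])
    have hzπ : (z ≫ H.act) ≫ π = c ≫ f := by
      rw [Category.assoc, hactπ, Sub.mkTri_xr_assoc, e]
    have hzj : (z ≫ H.act) ≫ G.j = c ≫ g := by
      apply pullback.hom_ext
      · simp only [Category.assoc, j_fst, H.act_t, z, Sub.mkTri_xa_assoc, sq.lift_fst]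
      · simp only [Category.assoc, j_snd, H.act_s, z, Sub.mkTri_xb_assoc, sq.lift_snd]
    have := hc.effectiveEpi
    let r := EffectiveEpi.desc c (z ≫ H.act) fun g₁ g₂ hg => huniq _ _
      (by rw [Category.assoc, hzπ, Category.assoc, hzπ, reassoc_of% hg])
      (by rw [Category.assoc, hzj, Category.assoc, hzj, reassoc_of% hg])
    refine ⟨r, hc.cancel ?_, hc.cancel ?_⟩
    · rw [EffectiveEpi.fac_assoc]; simpa using hzπ
    · rw [EffectiveEpi.fac_assoc]; simpa using hzj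
  choose lf hlf1 hlf2 using @hex
  exact IsPullback.of_isLimit' ⟨hw⟩ (PullbackCone.IsLimit.mk _
    (fun c => lf c.fst c.snd c.condition) (fun c => hlf1 _ _ _) (fun c => hlf2 _ _ _)
    fun c m h1 h2 => huniq _ _ (h1.trans (hlf1 _ _ _).symm) (h2.trans (hlf2 _ _ _).symm))

end Groth.Agent.Grpd80
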