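import Groth.Agent.Grpd80.Restr
import Groth.Agent.Grpd80.QuotApi

set_option autoImplicit false
universe u
open CategoryTheory CategoryTheory.Limits AlgebraicGeometry

namespace Groth.Agent.Grpd80

variable {S : Scheme.{u}} (G : Grpd.GroupoidScheme S)

/-- A subgroupoid with the same objects, through its points. -/
structure Sub where
  P : Scheme.{u}
  ι : P ⟶ G.R
  hι : Mono ι
  unit : ∃ eP : G.U ⟶ P, eP ≫ ι = G.e
  inv : ∃ iP : P ⟶ P, iP ≫ ι = ι ≫ G.i
  mul : ∀ {T : Scheme.{u}} (a b : T ⟶ P) (h : (a ≫ ι) ≫ G.s = (b ≫ ι) ≫ G.t),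
    ∃ c : T ⟶ P, c ≫ ι = Grpd80.mul G (a ≫ ι) (b ≫ ι) h

variable {G} (H : Sub G)

namespace Sub

attribute [instance] Sub.hι

/-- Membership of a point in the subgroupoid. -/
def Mem {T : Scheme.{u}} (α : T ⟶ G.R) : Prop := ∃ a : T ⟶ H.P, a ≫ H.ι = α

variable {H}
variable {T T' : Scheme.{u}}

lemma mem_ι (a : T ⟶ H.P) : H.Mem (a ≫ H.ι) := ⟨a, rfl⟩

lemma Mem.comp {α : T ⟶ G.R} (h : H.Mem α) (f : T' ⟶ T) : H.Mem (f ≫ α) := by
  obtain ⟨a, rfl⟩ := h
  exact ⟨f ≫ a, Category.assoc _ _ _⟩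

lemma mem_unit (x : T ⟶ G.U) : H.Mem (x ≫ G.e) := by
  obtain ⟨e, he⟩ := H.unit
  exact ⟨x ≫ e, by rw [Category.assoc, he]⟩

lemma Mem.inv {α : T ⟶ G.R} (h : H.Mem α) : H.Mem (α ≫ G.i) := by
  obtain ⟨a, rfl⟩ := h
  obtain ⟨i, hi⟩ := H.inv
  exact ⟨a ≫ i, by rw [Category.assoc, hi, Category.assoc]⟩

lemma Mem.mul {α β : T ⟶ G.R} (h : α ≫ G.s = β ≫ G.t) (hα : H.Mem α) (hβ : H.Mem β) :
    H.Mem (Grpd80.mul G α β h) := by
  obtain ⟨a, rfl⟩ := hα
  obtain ⟨b, rfl⟩ := hβ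
  exact H.mul a b h

variable (H)

/-- The inclusion point of a member. -/
noncomputable def lift {α : T ⟶ G.R} (h : H.Mem α) : T ⟶ H.P := h.choose

variable {H}

@[reassoc (attr := simp)]
lemma lift_ι {α : T ⟶ G.R} (h : H.Mem α) : H.lift h ≫ H.ι = α := h.choose_spec

lemma mul_lift_ι (H : Sub G) {T : Scheme.{u}} {a b : T ⟶ H.P}
    (h : a ≫ H.ι ≫ G.s = b ≫ H.ι ≫ G.t) :
    H.Mem (Grpd80.mul G (a ≫ H.ι) (b ≫ H.ι) (by rw [Category.assoc, h, Category.assoc])) :=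
  (mem_ι a).mul _ (mem_ι b)

/-- Composition in the subgroupoid. -/
noncomputable def comp (H : Sub G) : pullback (H.ι ≫ G.s) (H.ι ≫ G.t) ⟶ H.P :=
  H.lift (mul_lift_ι H (a := pullback.fst (H.ι ≫ G.s) (H.ι ≫ G.t))
    (b := pullback.snd _ _) pullback.condition)

lemma lift_comp_ι (H : Sub G) {T : Scheme.{u}} (α β : T ⟶ H.P)
    (h : α ≫ H.ι ≫ G.s = β ≫ H.ι ≫ G.t) :
    pullback.lift α β h ≫ H.comp ≫ H.ι =
      Grpd80.mul G (α ≫ H.ι) (β ≫ H.ι) (by rw [Category.assoc, h, Category.assoc]) := by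
  rw [comp, lift_ι, comp_mul]
  exact mul_congr _ _ (pullback.lift_fst_assoc _ _ _ _) (pullback.lift_snd_assoc _ _ _ _)

/-- The subgroupoid as a groupoid scheme. -/
noncomputable def toGrpd (H : Sub G) : Grpd.GroupoidScheme S where
  U := G.U
  R := H.P
  pU := G.pU
  pR := H.ι ≫ G.pR
  s := H.ι ≫ G.s
  t := H.ι ≫ G.t
  e := H.lift (mem_unit (𝟙 G.U))
  i := H.lift (mem_ι (H := H) (𝟙 H.P)).inv
  c := H.comp
  s_over := by rw [Category.assoc, G.s_over]
  t_over := by rw [Category.assoc, G.t_over]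
  comp_s α β h := by
    rw [← Category.assoc, Category.assoc (pullback.lift α β h), lift_comp_ι, mul_s, Category.assoc]
  comp_t α β h := by
    rw [← Category.assoc, Category.assoc (pullback.lift α β h), lift_comp_ι, mul_t, Category.assoc]
  assoc α β γ h₁ h₂ := by
    simp only [← cancel_mono H.ι, Category.assoc, lift_comp_ι]
    exact mul_assoc' (α ≫ H.ι) (β ≫ H.ι) (γ ≫ H.ι) (by simpa using h₁) (by simpa using h₂)
  e_s := by simp
  e_t := by simp
  comp_e α := by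
    simp only [← cancel_mono H.ι, Category.assoc, lift_comp_ι]
    apply mul_unit_right
    simp
  e_comp α := by
    simp only [← cancel_mono H.ι, Category.assoc, lift_comp_ι]
    apply mul_unit_left
    simp
  i_s := by simp
  i_t := by simp
  comp_i α := by
    simp only [← cancel_mono H.ι, Category.assoc, lift_comp_ι]
    rw [mul_inv_right _ (by simp)]
    simp
  i_comp α := by
    simp only [← cancel_mono H.ι, Category.assoc, lift_comp_ι]
    rw [mul_inv_left _ (by simp)]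
    simp

end Sub

end Groth.Agent.Grpd80
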