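import Groth.Agent.Grpd80.FittingStrata
import Groth.Agent.Grpd80.HomInv
import Groth.Agent.Grpd80.InvOpen

/-!
The invariant open on which a finite groupoid becomes finite locally free after thinning the
structure sheaf.
-/

set_option autoImplicit false
set_option linter.style.haveILetI false
set_option linter.unusedSectionVars false
set_option backward.isDefEq.respectTransparency.types false

noncomputable section

universe u

open CategoryTheory CategoryTheory.Limits AlgebraicGeometry TopologicalSpace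

namespace Groth.Agent.Grpd80.Thick

/-- Ideal sheaves agreeing near every point are equal. -/
theorem ext_of_local {X : Scheme.{u}} {I J : X.IdealSheafData}
    (h : ∀ x : X, ∃ V : X.Opens, x ∈ V ∧ I.comap V.ι = J.comap V.ι) : I = J := by
  refine Div89.ext_stalkIdeal fun x => ?_
  obtain ⟨V, hx, e⟩ := h x
  have h1 := Div89.stalkIdeal_comap V.ι I ⟨x, hx⟩
  rw [e, Div89.stalkIdeal_comap] at h1
  have hb : Function.Bijective (V.ι.stalkMap ⟨x, hx⟩).hom :=
    ConcreteCategory.bijective_of_isIso (V.ι.stalkMap _)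
  have h2 := congrArg (Ideal.comap (V.ι.stalkMap ⟨x, hx⟩).hom) h1
  rw [Ideal.comap_map_of_bijective _ hb, Ideal.comap_map_of_bijective _ hb] at h2
  exact h2.symm

/-- Restriction to an open subscheme commutes with intersections of two ideal sheaves. -/
theorem comap_inf {X Y : Scheme.{u}} (I J : Y.IdealSheafData) (g : X ⟶ Y) [IsOpenImmersion g] :
    (I ⊓ J).comap g = I.comap g ⊓ J.comap g := by
  ext1
  funext W
  simp [Scheme.IdealSheafData.ideal_comap_of_isOpenImmersion, Ideal.comap_inf]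

theorem comap_iSup {X Y : Scheme.{u}} {ι : Sort*} (I : ι → Y.IdealSheafData) (g : X ⟶ Y) :
    (⨆ a, I a).comap g = ⨆ a, (I a).comap g :=
  (Scheme.IdealSheafData.map_gc g).l_iSup

variable {X : Scheme.{u}} {ι : Type*} (V : ι → X.Opens) (K : ι → X.IdealSheafData)

/-- The open union of the members other than the `r`-th. -/
def others (r : ι) : (⨆ b, V b : X.Opens).toScheme.Opens :=
  ⨆ b ∈ {b | b ≠ r}, (⨆ b, V b : X.Opens).ι ⁻¹ᵁ V b

/-- On a disjoint union of opens, the ideal sheaf equal to `K r` on `V r`. -/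
def glueDisj : (⨆ b, V b : X.Opens).toScheme.IdealSheafData :=
  ⨆ r, ((K r).comap (⨆ b, V b : X.Opens).ι ⊓ (others V r).ι.ker)

variable {V}

theorem isClosed_others (hV : Pairwise fun a b => Disjoint (V a : Set X) (V b)) (r : ι) :
    IsClosed (others V r : Set (⨆ b, V b : X.Opens).toScheme) := by
  have : (others V r : Set (⨆ b, V b : X.Opens).toScheme) =
      ((((⨆ b, V b : X.Opens).ι ⁻¹ᵁ V r : (⨆ b, V b : X.Opens).toScheme.Opens) :
        Set (⨆ b, V b : X.Opens).toScheme))ᶜ := by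
    ext x
    constructor
    · intro hx hxr
      simp only [others, SetLike.mem_coe, Opens.mem_iSup] at hx
      obtain ⟨b, hb, hxb⟩ := hx
      exact Set.disjoint_left.1 (hV hb) hxb hxr
    · intro hx
      obtain ⟨b, hb⟩ := Opens.mem_iSup.1 x.2
      simp only [others, SetLike.mem_coe, Opens.mem_iSup]
      exact ⟨b, fun h => hx (h ▸ hb), hb⟩
  rw [this]
  exact ((⨆ b, V b : X.Opens).ι ⁻¹ᵁ V r).2.isClosed_compl

theorem glueDisj_restrict (hV : Pairwise fun a b => Disjoint (V a : Set X) (V b)) (b : ι) :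
    (glueDisj V K).comap (X.homOfLE (le_iSup V b)) = (K b).comap (V b).ι := by
  classical
  let j := X.homOfLE (le_iSup V b)
  have hj : j ≫ (⨆ b, V b : X.Opens).ι = (V b).ι := X.homOfLE_ι _
  have hqc : ∀ r, IsClosedImmersion (others V r).ι := fun r =>
    IsClosedImmersion.of_isPreimmersion _ (by
      rw [Scheme.Opens.range_ι]; exact isClosed_others hV r)
  have hP : ∀ r, ((others V r).ι.ker).comap j = if r = b then ⊤ else ⊥ := by
    intro r
    haveI := hqc r
    split_ifs with h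
    · subst h
      rw [← Scheme.IdealSheafData.support_eq_bot_iff]
      refine eq_bot_iff.2 fun x hx => ?_
      rw [Scheme.IdealSheafData.support_comap] at hx
      have hx' : j x ∈ closure (Set.range (others V r).ι) := by
        rw [← Scheme.Hom.support_ker]; exact hx
      rw [Scheme.Opens.range_ι, (isClosed_others hV r).closure_eq] at hx'
      simp only [others, SetLike.mem_coe, Opens.mem_iSup] at hx'
      obtain ⟨c, hc, hxc⟩ := hx'
      have hxr : ((⨆ b, V b : X.Opens).ι (j x)) ∈ V r := by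
        rw [← Scheme.Hom.comp_apply, hj]; exact x.2
      exact (Set.disjoint_left.1 (hV hc) hxc hxr).elim
    · have hle : ∀ x, j x ∈ others V r := fun x => by
        simp only [others, Opens.mem_iSup]
        exact ⟨b, Ne.symm h, by
          show (⨆ b, V b : X.Opens).ι (j x) ∈ V b
          rw [← Scheme.Hom.comp_apply, hj]; exact x.2⟩
      have hr : Set.range j ⊆ Set.range (others V r).ι := by
        rintro _ ⟨x, rfl⟩
        rw [Scheme.Opens.range_ι]
        exact hle x
      rw [← IsOpenImmersion.lift_fac (others V r).ι j hr, Scheme.IdealSheafData.comap_comp]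
      have h0 : ((others V r).ι.ker).comap (others V r).ι = ⊥ := by
        rw [eq_bot_iff, ← Scheme.IdealSheafData.le_map_iff_comap_le, Scheme.IdealSheafData.map_bot]
      rw [h0, Scheme.IdealSheafData.comap_bot]
  rw [glueDisj, comap_iSup]
  change ⨆ r, Scheme.IdealSheafData.comap _ j = _
  simp only [comap_inf, hP, ← Scheme.IdealSheafData.comap_comp, hj]
  refine le_antisymm (iSup_le fun r => ?_) (le_iSup_of_le b ?_)
  · split_ifs with h
    · subst h; exact inf_le_left
    · exact inf_le_right.trans bot_le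
  · rw [if_pos rfl]; exact le_inf le_rfl le_top

section Groupoid

variable {S : Scheme.{u}} (G : Grpd.GroupoidScheme S) [IsFinite G.s] [IsFinite G.t]

/-- The closed sets of the stratification. -/
def Zs (r : ℕ) : Set G.U := (FitStrat.fitI G.s r).support

theorem isClosed_Zs (r : ℕ) : IsClosed (Zs G r) := (FitStrat.fitI G.s r).support.isClosed

theorem Zs_zero : Zs G 0 = Set.univ := by
  simp [Zs, FitStrat.fitI_zero_of_section G.s G.e G.e_s]

theorem Zs_anti {k l : ℕ} (h : k ≤ l) : Zs G l ⊆ Zs G k :=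
  Scheme.IdealSheafData.support_antitone (FitStrat.fitI_mono G.s h)

theorem Zs_invariant (r : ℕ) : ⇑G.s ⁻¹' Zs G r = ⇑G.t ⁻¹' Zs G r := by
  have h := congrArg (fun I : G.R.IdealSheafData => (I.support : Set G.R))
    (FitStrat.fitI_invariant G r)
  simpa [Zs] using h

/-- The saturation of the closure of a set. -/
def satCl (A : Set G.U) : Set G.U := ⇑G.t '' (⇑G.s ⁻¹' closure A)

theorem isClosed_satCl (A : Set G.U) : IsClosed (satCl G A) :=
  G.t.isClosedMap _ (isClosed_closure.preimage G.s.continuous)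

theorem subset_satCl (A : Set G.U) : A ⊆ satCl G A := by
  intro x hx
  obtain ⟨c, hc1, hc2⟩ := exists_unit G x
  exact ⟨c, show G.s c ∈ closure A by rw [hc1]; exact subset_closure hx, hc2⟩

/-- The largest invariant open contained in the `r`-th stratum. -/
def stratOpen (r : ℕ) : G.U.Opens :=
  ⟨(Zs G (r + 1) ∪ satCl G (Zs G r)ᶜ)ᶜ,
    ((isClosed_Zs G _).union (isClosed_satCl G _)).isOpen_compl⟩

theorem stratOpen_invariant (r : ℕ) : G.s ⁻¹ᵁ stratOpen G r = G.t ⁻¹ᵁ stratOpen G r := by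
  refine Opens.ext ?_
  change ⇑G.s ⁻¹' (Zs G (r + 1) ∪ satCl G (Zs G r)ᶜ)ᶜ =
    ⇑G.t ⁻¹' (Zs G (r + 1) ∪ satCl G (Zs G r)ᶜ)ᶜ
  simp only [Set.preimage_compl, Set.preimage_union, Zs_invariant]
  rw [show ⇑G.s ⁻¹' satCl G (Zs G r)ᶜ = ⇑G.t ⁻¹' satCl G (Zs G r)ᶜ from saturation_invariant G _]

theorem stratOpen_subset (r : ℕ) : (stratOpen G r : Set G.U) ⊆ Zs G r := by
  intro x hx
  by_contra h
  exact hx (Or.inr (subset_satCl G _ h))

theorem stratOpen_disjoint :
    Pairwise fun a b => Disjoint (stratOpen G a : Set G.U) (stratOpen G b) := by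
  intro a b hab
  have key : ∀ {a b : ℕ}, a < b → Disjoint (stratOpen G a : Set G.U) (stratOpen G b) := by
    intro a b h
    refine Set.disjoint_left.2 fun x hxa hxb => hxa (Or.inl ?_)
    exact Zs_anti G h (stratOpen_subset G b hxb)
  rcases lt_or_gt_of_ne hab with h | h
  · exact key h
  · exact (key h).symm

/-- The union of the invariant opens of the strata. -/
abbrev bigOpen : G.U.Opens := ⨆ r, stratOpen G r

theorem bigOpen_invariant : G.s ⁻¹ᵁ bigOpen G = G.t ⁻¹ᵁ bigOpen G := by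
  simp only [bigOpen, Scheme.Hom.preimage_iSup, stratOpen_invariant]

theorem exists_mem_closure (u : G.U) :
    ∃ r : G.R, G.t r = u ∧ G.s r ∈ closure (bigOpen G : Set G.U) := by
  classical
  by_contra hne
  let O : Set G.U := (satCl G (bigOpen G : Set G.U))ᶜ
  have hO : IsOpen O := (isClosed_satCl G _).isOpen_compl
  have hu : u ∈ O := fun ⟨a, ha, hau⟩ => hne ⟨a, hau, ha⟩
  have hex : ∃ r, ¬ O ⊆ Zs G r := by
    obtain ⟨r, hr⟩ := FitStrat.fitI_exists_notMem G.s u
    exact ⟨r, fun h => hr (h hu)⟩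
  have hspec := Nat.find_spec hex
  have hmin := fun m => Nat.find_min hex (m := m)
  cases hr : Nat.find hex with
  | zero =>
    rw [hr, Zs_zero] at hspec
    exact hspec (Set.subset_univ _)
  | succ r =>
    rw [hr] at hspec
    have hOr : O ⊆ Zs G r := not_not.1 (hmin r (by omega))
    obtain ⟨x, hxO, hx⟩ := Set.not_subset.1 hspec
    have hxW : x ∈ stratOpen G r := by
      rintro (h | ⟨a, ha, hax⟩)
      · exact hx h
      · have hsa : G.s a ∈ O := by
          have hax' : a ∈ ⇑G.t ⁻¹' O := by rw [Set.mem_preimage, hax]; exact hxO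
          rw [Set.preimage_compl, ← show ⇑G.s ⁻¹' satCl G (bigOpen G : Set G.U) =
            ⇑G.t ⁻¹' satCl G (bigOpen G : Set G.U) from saturation_invariant G _,
            ← Set.preimage_compl] at hax'
          exact hax'
        obtain ⟨z, hzO, hz⟩ := mem_closure_iff.1 ha O hO hsa
        exact hz (hOr hzO)
    exact hxO (subset_satCl G _ (Opens.mem_iSup.2 ⟨r, hxW⟩))

/-- The ideal of the thickened subscheme. -/
def thin : (bigOpen G).toScheme.IdealSheafData := glueDisj (stratOpen G) (FitStrat.fitI G.s)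

theorem thin_restrict (r : ℕ) :
    (thin G).comap (G.U.homOfLE (le_iSup (stratOpen G) r)) =
      (FitStrat.fitI G.s r).comap (stratOpen G r).ι :=
  glueDisj_restrict _ (stratOpen_disjoint G) r

theorem thin_support : (thin G).support = ⊤ := by
  refine eq_top_iff.2 fun x _ => ?_
  obtain ⟨r, hr⟩ := Opens.mem_iSup.1 x.2
  let y : (stratOpen G r).toScheme := ⟨x.1, hr⟩
  have hy : G.U.homOfLE (le_iSup (stratOpen G) r) y = x := by
    apply (bigOpen G).ι.isOpenEmbedding.injective
    rw [← Scheme.Hom.comp_apply, Scheme.homOfLE_ι]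
    rfl
  have h : y ∈ ((thin G).comap (G.U.homOfLE (le_iSup (stratOpen G) r))).support := by
    rw [thin_restrict, Scheme.IdealSheafData.support_comap]
    exact stratOpen_subset G r hr
  rw [Scheme.IdealSheafData.support_comap] at h
  rw [← hy]; exact h

/-- Two maps to the big open which land in the same stratum pull the thinned ideal back equally. -/
theorem thin_invariant (a b : (G.s ⁻¹ᵁ bigOpen G).toScheme ⟶ (bigOpen G).toScheme)
    (ha : a ≫ (bigOpen G).ι = (G.s ⁻¹ᵁ bigOpen G).ι ≫ G.s)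
    (hb : b ≫ (bigOpen G).ι = (G.s ⁻¹ᵁ bigOpen G).ι ≫ G.t) :
    (thin G).comap a = (thin G).comap b := by
  refine ext_of_local fun x => ?_
  obtain ⟨r, hr⟩ := Opens.mem_iSup.1 (show G.s x.1 ∈ bigOpen G from x.2)
  refine ⟨(G.s ⁻¹ᵁ bigOpen G).ι ⁻¹ᵁ (G.s ⁻¹ᵁ stratOpen G r), hr, ?_⟩
  let q := ((G.s ⁻¹ᵁ bigOpen G).ι ⁻¹ᵁ (G.s ⁻¹ᵁ stratOpen G r)).ι
  let m := q ≫ (G.s ⁻¹ᵁ bigOpen G).ι
  have hs : Set.range (m ≫ G.s) ⊆ Set.range (stratOpen G r).ι := by
    rintro _ ⟨y, rfl⟩
    rw [Scheme.Opens.range_ι]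
    exact y.2
  have ht : Set.range (m ≫ G.t) ⊆ Set.range (stratOpen G r).ι := by
    rintro _ ⟨y, rfl⟩
    rw [Scheme.Opens.range_ι]
    exact (stratOpen_invariant G r).le (show m y ∈ G.s ⁻¹ᵁ stratOpen G r from y.2)
  have key : ∀ (c : (G.s ⁻¹ᵁ bigOpen G).toScheme ⟶ (bigOpen G).toScheme) (f : G.R ⟶ G.U),
      c ≫ (bigOpen G).ι = (G.s ⁻¹ᵁ bigOpen G).ι ≫ f →
      Set.range (m ≫ f) ⊆ Set.range (stratOpen G r).ι →
      ((thin G).comap c).comap q = ((FitStrat.fitI G.s r).comap f).comap m := by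
    intro c f hc hf
    have e : q ≫ c = IsOpenImmersion.lift (stratOpen G r).ι (m ≫ f) hf ≫
        G.U.homOfLE (le_iSup (stratOpen G) r) := by
      rw [← cancel_mono (bigOpen G).ι, Category.assoc, Category.assoc, hc, Scheme.homOfLE_ι,
        IsOpenImmersion.lift_fac, Category.assoc]
    rw [← Scheme.IdealSheafData.comap_comp, e, Scheme.IdealSheafData.comap_comp, thin_restrict,
      ← Scheme.IdealSheafData.comap_comp, IsOpenImmersion.lift_fac, Scheme.IdealSheafData.comap_comp]
  rw [key a G.s ha hs, key b G.t hb ht, FitStrat.fitI_invariant]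

/-- The inclusion of the thinned subscheme in `U`. -/
def thinι : (thin G).subscheme ⟶ G.U := (thin G).subschemeι ≫ (bigOpen G).ι

theorem thin_iso : ∃ φ : pullback G.s (thinι G) ≅ pullback G.t (thinι G),
    φ.hom ≫ pullback.fst G.t (thinι G) = pullback.fst G.s (thinι G) := by
  let B := bigOpen G
  have hsq : ∀ f : G.R ⟶ G.U, G.s ⁻¹ᵁ B = f ⁻¹ᵁ B →
      ∃ a : (G.s ⁻¹ᵁ B).toScheme ⟶ B.toScheme, a ≫ B.ι = (G.s ⁻¹ᵁ B).ι ≫ f ∧
      ∃ e : pullback a (thin G).subschemeι ≅ pullback f (thinι G),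
        e.hom ≫ pullback.fst f (thinι G) = pullback.fst a _ ≫ (G.s ⁻¹ᵁ B).ι := by
    intro f hf
    refine ⟨(G.R.isoOfEq hf).hom ≫ f ∣_ B, by simp [morphismRestrict_ι], ?_⟩
    have h0 : IsPullback (G.s ⁻¹ᵁ B).ι ((G.R.isoOfEq hf).hom ≫ f ∣_ B) f B.ι :=
      (isPullback_morphismRestrict f B).flip.of_iso (G.R.isoOfEq hf).symm (Iso.refl _) (Iso.refl _)
        (Iso.refl _) (by simp) (by simp) (by simp) (by simp)
    have h1 := ((IsPullback.of_hasPullback ((G.R.isoOfEq hf).hom ≫ f ∣_ B)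
      (thin G).subschemeι).flip.paste_vert h0.flip).flip
    exact ⟨h1.isoPullback, h1.isoPullback_hom_fst⟩
  obtain ⟨a, ha, ea, hea⟩ := hsq G.s rfl
  obtain ⟨b, hb, eb, heb⟩ := hsq G.t (bigOpen_invariant G)
  refine ⟨ea.symm ≪≫ FitStrat.isoOfComapEq a b _ (thin_invariant G a b ha hb) ≪≫ eb, ?_⟩
  simp only [Iso.trans_hom, Iso.symm_hom, Category.assoc, heb,
    FitStrat.isoOfComapEq_fst_assoc]
  rw [← hea, Iso.inv_hom_id_assoc]

theorem fitI_t (r : ℕ) : FitStrat.fitI G.t r = FitStrat.fitI G.s r := by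
  have := isIso_inv_hom G
  have h : IsPullback G.i G.t G.s (𝟙 G.U) := IsPullback.of_horiz_isIso ⟨by simp⟩
  rw [← FitStrat.fitI_comap h, Scheme.IdealSheafData.comap_id]

theorem finLocFree_of_fitI {f : G.R ⟶ G.U} [IsFinite f]
    (hf : ∀ r, FitStrat.fitI f r = FitStrat.fitI G.s r) :
    Mor2.IsFinLocFree (pullback.snd f (thinι G)) := by
  let j : (thin G).subscheme ⟶ G.U := thinι G
  have hcov : (⨆ r, j ⁻¹ᵁ stratOpen G r) = ⊤ := by
    rw [← Scheme.Hom.preimage_iSup, eq_top_iff]
    exact fun x _ => ((thin G).subschemeι x).2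
  have hloc : ∀ r, Mor2.IsFinLocFreeOfDeg (r + 1)
      (pullback.snd f j ∣_ (j ⁻¹ᵁ stratOpen G r)) := by
    intro r
    let T := j ⁻¹ᵁ stratOpen G r
    have hsq := (isPullback_morphismRestrict (pullback.snd f j) T).flip.paste_horiz
      (IsPullback.of_hasPullback f j)
    haveI : IsFinite (pullback.snd f j ∣_ T) :=
      MorphismProperty.of_isPullback hsq inferInstance
    have hrange : Set.range (T.ι ≫ j) ⊆ Set.range (stratOpen G r).ι := by
      rintro _ ⟨y, rfl⟩
      rw [Scheme.Opens.range_ι]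
      exact y.2
    let l := IsOpenImmersion.lift (stratOpen G r).ι (T.ι ≫ j) hrange
    have hl : l ≫ G.U.homOfLE (le_iSup (stratOpen G) r) = T.ι ≫ (thin G).subschemeι := by
      rw [← cancel_mono (bigOpen G).ι, Category.assoc, Category.assoc]
      exact (congrArg (l ≫ ·) (Scheme.homOfLE_ι ..)).trans (IsOpenImmersion.lift_fac _ _ _)
    have h0 : (thin G).comap (T.ι ≫ (thin G).subschemeι) = ⊥ := by
      rw [eq_bot_iff, Scheme.IdealSheafData.comap_comp]
      refine le_trans (Scheme.IdealSheafData.comap_mono _ (?_ : _ ≤ ⊥))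
        (le_of_eq (Scheme.IdealSheafData.comap_bot _))
      rw [← Scheme.IdealSheafData.le_map_iff_comap_le, Scheme.IdealSheafData.map_bot,
        Scheme.IdealSheafData.ker_subschemeι]
    refine FitStrat.isFinLocFreeOfDeg _ (fun k hk => ?_) (fun k hk => ?_)
    · rw [← FitStrat.fitI_comap hsq, hf, eq_bot_iff]
      refine le_trans (Scheme.IdealSheafData.comap_mono _
        (FitStrat.fitI_mono G.s (Nat.lt_succ_iff.1 hk))) (le_of_eq ?_)
      beta_reduce
      rw [← IsOpenImmersion.lift_fac (stratOpen G r).ι (T.ι ≫ j) hrange,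
        Scheme.IdealSheafData.comap_comp, ← thin_restrict, ← Scheme.IdealSheafData.comap_comp]
      exact hl ▸ h0
    · rw [← FitStrat.fitI_comap hsq, hf, ← Scheme.IdealSheafData.support_eq_bot_iff]
      refine eq_bot_iff.2 fun y hy => ?_
      rw [Scheme.IdealSheafData.support_comap] at hy
      exact absurd (Zs_anti G hk hy) fun h => y.2 (Or.inl h)
  refine ⟨inferInstance, ?_, ?_⟩
  · rw [IsZariskiLocalAtTarget.iff_of_iSup_eq_top (P := @Flat) _ hcov]
    exact fun r => (hloc r).1.2.1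
  · rw [IsZariskiLocalAtTarget.iff_of_iSup_eq_top (P := @LocallyOfFinitePresentation) _ hcov]
    exact fun r => (hloc r).1.2.2

theorem thickening : ∃ (W : G.U.Opens) (W' : (↑W : Scheme.{u}).IdealSheafData),
    G.s ⁻¹ᵁ W = G.t ⁻¹ᵁ W ∧ W'.support = ⊤ ∧
    (∃ φ : pullback G.s (W'.subschemeι ≫ W.ι) ≅ pullback G.t (W'.subschemeι ≫ W.ι),
      φ.hom ≫ pullback.fst G.t (W'.subschemeι ≫ W.ι) = pullback.fst G.s (W'.subschemeι ≫ W.ι)) ∧
    (∀ u : G.U, ∃ r : G.R, G.t r = u ∧ G.s r ∈ closure (W : Set G.U)) ∧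
    Mor2.IsFinLocFree (pullback.snd G.s (W'.subschemeι ≫ W.ι)) ∧
    Mor2.IsFinLocFree (pullback.snd G.t (W'.subschemeι ≫ W.ι)) :=
  ⟨bigOpen G, thin G, bigOpen_invariant G, thin_support G, thin_iso G, exists_mem_closure G,
    finLocFree_of_fitI G fun _ => rfl, finLocFree_of_fitI G (fitI_t G)⟩

end Groupoid

end Groth.Agent.Grpd80.Thick
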